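import Groth.Agent.H51.SpDim
import Mathlib.Topology.KrullDimension
import Mathlib.Topology.Sober
import Groth.Prelude.Def_Flat

set_option autoImplicit false
universe u
open CategoryTheory CategoryTheory.Limits AlgebraicGeometry Opposite MorphismProperty

namespace Groth.Agent.H51

open AlgSp Groth.Agent.H50

variable {S : Scheme.{u}}

/-- The Krull dimension of a scheme is the supremum of the coheights of its points. -/
theorem topologicalKrullDim_eq_iSup_coheight (X : Scheme.{u}) :
    topologicalKrullDim ↥X = ⨆ x : X, (Order.coheight x : WithBot ℕ∞) := by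
  rw [← Order.krullDim_eq_iSup_coheight]
  exact Order.krullDim_eq_of_orderIso (irreducibleSetEquivPoints (α := ↥X))

/-- Coheight of points is preserved by etale morphisms. -/
theorem coheight_eq_of_etale {X Y : Scheme.{u}} (g : X ⟶ Y) [Etale g] (x : X) :
    Order.coheight x = Order.coheight (g x) := by
  have := ringKrullDim_stalk_eq_of_etale g x
  rw [ringKrullDim_stalk_eq_coheight, ringKrullDim_stalk_eq_coheight] at this
  exact_mod_cast this

theorem topologicalKrullDim_le_of_etale {X Y : Scheme.{u}} (g : X ⟶ Y) [Etale g] :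
    topologicalKrullDim ↥X ≤ topologicalKrullDim ↥Y := by
  rw [topologicalKrullDim_eq_iSup_coheight, topologicalKrullDim_eq_iSup_coheight]
  refine iSup_le fun x => ?_
  rw [coheight_eq_of_etale g x]
  exact le_iSup (fun y : Y => (Order.coheight y : WithBot ℕ∞)) (g x)

theorem topologicalKrullDim_eq_of_etale_surjective {X Y : Scheme.{u}} (g : X ⟶ Y) [Etale g]
    (hg : Function.Surjective g) : topologicalKrullDim ↥X = topologicalKrullDim ↥Y := by
  refine le_antisymm (topologicalKrullDim_le_of_etale g) ?_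
  rw [topologicalKrullDim_eq_iSup_coheight, topologicalKrullDim_eq_iSup_coheight]
  refine iSup_le fun y => ?_
  obtain ⟨x, rfl⟩ := hg y
  rw [← coheight_eq_of_etale g x]
  exact le_iSup (fun x : X => (Order.coheight x : WithBot ℕ∞)) x

end Groth.Agent.H51

namespace Groth.Agent.H51
open AlgSp Groth.Agent.H50
variable {S : Scheme.{u}}

/-- **S10250**. -/
theorem s10250 {X Y : AlgSp.Space S} (f : X ⟶ Y)
    (hf : AlgSp.IsEtaleMor f.hom) (hs : AlgSp.IsSurjectiveMor f.hom) :
    AlgSp.dim X.obj = AlgSp.dim Y.obj := by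
  apply le_antisymm
  · refine iSup_le fun U => iSup_le fun a => iSup_le fun ha => ?_
    exact le_iSup_of_le U (le_iSup_of_le (a ≫ f.hom) (le_iSup_of_le (hf a ha) le_rfl))
  · refine iSup_le fun V => iSup_le fun b => iSup_le fun hb => ?_
    obtain ⟨U, a, ha, has⟩ := X.property.atlas
    have haf : RepWith @Etale (a ≫ f.hom) := hf a ha
    let W := haf.rep.pullback b
    let p₁ : W ⟶ U := haf.rep.fst' b
    let p₂ : W ⟶ V := haf.rep.snd b
    have sq : IsPullback ((yon S).map p₁) ((yon S).map p₂) (a ≫ f.hom) b := haf.rep.isPullback' b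
    have hp₁ : Etale p₁.left := hb.property _ _ _ sq.flip
    have hp₂ : Etale p₂.left := haf.property _ _ _ sq
    have hsurj : Function.Surjective p₂.left := by
      intro v
      obtain ⟨x, hx⟩ := hs (Points.ofPt b v)
      obtain ⟨u, rfl⟩ := surjective_ofPt_of_surjective a has x
      rw [Points.map_ofPt] at hx
      obtain ⟨w, -, hw⟩ := exists_of_ofPt_eq sq u v hx
      exact ⟨w, hw⟩
    rw [← topologicalKrullDim_eq_of_etale_surjective p₂.left hsurj]
    exact le_iSup_of_le W (le_iSup_of_le ((yon S).map p₁ ≫ a) (le_iSup_of_le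
      ((RepWith @Etale).comp_mem _ _ ((repWith_yon_map_iff _ _).2 hp₁) ha) le_rfl))

end Groth.Agent.H51

namespace Groth.Agent.H51
open AlgSp Groth.Agent.H50
variable {S : Scheme.{u}}

/-- The Krull dimension of an open subset of a scheme via coheights. -/
theorem topologicalKrullDim_opens (X : Scheme.{u}) (O : X.Opens) :
    topologicalKrullDim ↥(O : Set X) = ⨆ y : X, ⨆ _ : y ∈ O, (Order.coheight y : WithBot ℕ∞) := by
  change topologicalKrullDim ↥O.toScheme = _
  rw [topologicalKrullDim_eq_iSup_coheight]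
  apply le_antisymm
  · refine iSup_le fun y => ?_
    rw [← coheight_eq_of_isOpenImmersion O.ι]
    exact le_iSup_of_le (O.ι y) (le_iSup_of_le y.2 le_rfl)
  · refine iSup_le fun y => iSup_le fun hy => ?_
    let y' : O.toScheme := (⟨y, hy⟩ : ↥O)
    have : Order.coheight y = Order.coheight y' :=
      coheight_eq_of_isOpenImmersion O.ι (x := y')
    rw [this]
    exact le_iSup (fun z : O.toScheme => (Order.coheight z : WithBot ℕ∞)) y'

/-- The local dimension of a scheme at a point is preserved by etale morphisms. -/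
theorem localDim_eq_of_etale {W U : Scheme.{u}} (g : W ⟶ U) [Etale g] (w : W) :
    FlatMor.localDim ↥W w = FlatMor.localDim ↥U (g w) := by
  unfold FlatMor.localDim
  apply le_antisymm
  · refine le_iInf fun O => ?_
    let O' : W.Opens := g ⁻¹ᵁ O.1
    have hw : w ∈ O' := O.2
    refine (iInf_le _ (⟨O', hw⟩ : {O : TopologicalSpace.Opens W // w ∈ O})).trans ?_
    change topologicalKrullDim ↥(O' : Set W) ≤ topologicalKrullDim ↥(O.1 : Set U)
    rw [topologicalKrullDim_opens W O', topologicalKrullDim_opens U O.1]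
    refine iSup_le fun y => iSup_le fun hy => ?_
    rw [coheight_eq_of_etale g y]
    exact le_iSup_of_le (g y) (le_iSup_of_le hy le_rfl)
  · refine le_iInf fun O' => ?_
    let O : U.Opens := ⟨g '' (O'.1 : Set W), g.isOpenMap _ O'.1.isOpen⟩
    have hw : g w ∈ O := ⟨w, O'.2, rfl⟩
    refine (iInf_le _ (⟨O, hw⟩ : {O : TopologicalSpace.Opens U // g w ∈ O})).trans ?_
    change topologicalKrullDim ↥(O : Set U) ≤ topologicalKrullDim ↥(O'.1 : Set W)
    rw [topologicalKrullDim_opens U O, topologicalKrullDim_opens W O'.1]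
    refine iSup_le fun y => iSup_le fun hy => ?_
    obtain ⟨y', hy', rfl⟩ := hy
    rw [← coheight_eq_of_etale g y']
    exact le_iSup_of_le y' (le_iSup_of_le hy' le_rfl)

/-- Chart independence of the local dimension. -/
theorem localDim_chart_indep {X : Sp S} {U₀ U : Over S}
    (a₀ : (yon S).obj U₀ ⟶ X) (ha₀ : RepWith @Etale a₀) (a : (yon S).obj U ⟶ X)
    (ha : RepWith @Etale a) (u₀ : ↥U₀.left) (u : ↥U.left)
    (h : Points.ofPt a₀ u₀ = Points.ofPt a u) :
    FlatMor.localDim ↥U₀.left u₀ = FlatMor.localDim ↥U.left u := by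
  obtain ⟨W, p₁, p₂, w, hp₁, hp₂, hw1, hw2, -⟩ :=
    exists_common_etale_refinement a₀ ha₀ a ha u₀ u h
  rw [← hw1, ← hw2, ← localDim_eq_of_etale p₁.left w, ← localDim_eq_of_etale p₂.left w]

/-- **S10249**. -/
theorem s10249 {X Y : AlgSp.Space S} (f : X ⟶ Y)
    (hf : AlgSp.IsEtaleMor f.hom) (x : AlgSp.Points X.obj) :
    (∀ d : WithBot ℕ∞,
        AlgSp.HasAt (fun U u => FlatMor.localDim ↥U u = d) X.obj x ↔
          AlgSp.HasAt (fun U u => FlatMor.localDim ↥U u = d) Y.obj (AlgSp.Points.map f.hom x)) ∧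
    (∀ d : WithBot ℕ∞,
        AlgSp.HasAt (fun U u => ringKrullDim ↥(U.presheaf.stalk u) = d) X.obj x ↔
          AlgSp.HasAt (fun U u => ringKrullDim ↥(U.presheaf.stalk u) = d) Y.obj
            (AlgSp.Points.map f.hom x)) := by
  obtain ⟨U, a, ha, has⟩ := X.property.atlas
  obtain ⟨u, hu⟩ := surjective_ofPt_of_surjective a has x
  have haf : RepWith @Etale (a ≫ f.hom) := hf a ha
  have huf : Points.ofPt (a ≫ f.hom) u = Points.map f.hom x := by
    rw [← Points.map_ofPt, hu]
  refine ⟨fun d => ⟨?_, ?_⟩, fun d => ⟨?_, ?_⟩⟩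
  · rintro ⟨U₀, a₀, u₀, ha₀, hu₀, hd⟩
    refine ⟨U₀, a₀ ≫ f.hom, u₀, hf a₀ ha₀, ?_, hd⟩
    rw [← Points.map_ofPt, hu₀]
  · rintro ⟨V, b, v, hb, hv, hd⟩
    refine ⟨U, a, u, ha, hu, ?_⟩
    have := localDim_chart_indep b hb (a ≫ f.hom) haf v u (hv.trans huf.symm)
    change FlatMor.localDim ↥U.left u = d
    rw [← this]
    exact hd
  · rintro ⟨U₀, a₀, u₀, ha₀, hu₀, hd⟩
    refine ⟨U₀, a₀ ≫ f.hom, u₀, hf a₀ ha₀, ?_, hd⟩
    rw [← Points.map_ofPt, hu₀]
  · intro h
    exact ⟨U, a, u, ha, hu, (s10248 Y _ d).1 h U (a ≫ f.hom) u haf huf⟩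

end Groth.Agent.H51
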