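import Groth.Agent.H51.SpRep
import Mathlib.AlgebraicGeometry.Morphisms.FormallyUnramified
import Mathlib.AlgebraicGeometry.Morphisms.LocalFlatDescent
import Mathlib.AlgebraicGeometry.Morphisms.QuasiFinite
import Mathlib.RingTheory.Unramified.LocalStructure
import Mathlib.AlgebraicGeometry.Morphisms.Immersion

set_option autoImplicit false
universe u
open CategoryTheory CategoryTheory.Limits AlgebraicGeometry Opposite MorphismProperty

namespace Groth.Agent.H51

open AlgSp Groth.Agent.H50

variable {S : Scheme.{u}}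

/-- An etale morphism has every property implied by etale, etale locally on source and target. -/
theorem locP_of_isEtaleMor {F G : Sp S} {f : F ⟶ G} (hf : IsEtaleMor f)
    (P : MorphismProperty Scheme.{u}) (hP : @Etale ≤ P) : LocP P f := by
  intro U V a b h ha hb w
  refine hP _ _ h.left ?_
  exact etale_of_chart_hom ((yon S).map h ≫ b) b (w ▸ hf a ha) hb h rfl

/-- Unramified morphisms of schemes are locally quasi-finite. -/
theorem locallyQuasiFinite_of_formallyUnramified {X Y : Scheme.{u}} (f : X ⟶ Y)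
    [LocallyOfFiniteType f] [FormallyUnramified f] : LocallyQuasiFinite f := by
  rw [HasRingHomProperty.iff_appLE (P := @LocallyQuasiFinite)]
  intro U V e
  have h1 : (f.appLE U V e).hom.FiniteType := f.finiteType_appLE U.2 V.2 e
  have h2 : (f.appLE U V e).hom.FormallyUnramified :=
    HasRingHomProperty.appLE (P := @FormallyUnramified) f inferInstance U V e
  algebraize [(f.appLE U V e).hom]
  change Algebra.QuasiFinite _ _
  infer_instance

/-- The projection from the chosen pullback of a representable `c` along a `RepWith P` chart `b`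
to the source is `RepWith P`. -/
theorem repWith_fst {P : MorphismProperty Scheme.{u}} {F Y : Sp S} {c : F ⟶ Y}
    (hc : Representable c) {V : Over S} (b : (yon S).obj V ⟶ Y) (hb : RepWith P b) :
    RepWith P (hc.fst b) :=
  (RepWith P).of_isPullback (hc.isPullback b).flip hb

/-- Criterion for `RepWith Etale` of a map from a scheme to an algebraic space: for one atlas `b` of
the target, the chosen pullback is etale over the atlas. -/
theorem isEtaleMor_of_comp {X Y Z : Sp S} (hY : IsAlgSpace Y) {f : X ⟶ Y} {h : Y ⟶ Z}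
    (hg : IsEtaleMor (f ≫ h)) (hh : IsEtaleMor h) : IsEtaleMor f := by
  intro U φ hφ
  have hc : Representable (φ ≫ f) := hY.representable_from_yon _
  obtain ⟨V, b, hb, hbs⟩ := hY.atlas
  refine repWith_of_atlas @Etale hc b hb hbs ?_
  have h1 : RepWith @Etale (hc.fst b) := repWith_fst hc b hb
  have h2 : RepWith @Etale (hc.fst b ≫ φ) := (RepWith @Etale).comp_mem _ _ h1 hφ
  have h3 : RepWith @Etale ((hc.fst b ≫ φ) ≫ f ≫ h) := hg _ h2
  have h4 : (hc.fst b ≫ φ) ≫ f ≫ h = (yon S).map (hc.snd b) ≫ b ≫ h := by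
    rw [Category.assoc, ← Category.assoc φ, ← Category.assoc (hc.fst b), hc.w, Category.assoc]
  rw [h4] at h3
  exact etale_of_chart_hom _ (b ≫ h) h3 (hh b hb) (hc.snd b) rfl

theorem isEtaleMor_of_locP {X Y : Sp S} (hY : IsAlgSpace Y) {f : X ⟶ Y}
    (h1 : LocP @LocallyOfFinitePresentation f) (h2 : LocP @Flat f)
    (h3 : LocP (@LocallyOfFiniteType ⊓ @FormallyUnramified) f) : IsEtaleMor f := by
  intro U φ hφ
  have hc : Representable (φ ≫ f) := hY.representable_from_yon _
  obtain ⟨V, b, hb, hbs⟩ := hY.atlas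
  refine repWith_of_atlas @Etale hc b hb hbs ?_
  have e1 : RepWith @Etale (hc.fst b) := repWith_fst hc b hb
  have e2 : RepWith @Etale (hc.fst b ≫ φ) := (RepWith @Etale).comp_mem _ _ e1 hφ
  have w : (hc.fst b ≫ φ) ≫ f = (yon S).map (hc.snd b) ≫ b := by
    rw [Category.assoc, hc.w]
  have p1 : LocallyOfFinitePresentation (hc.snd b).left := h1 _ b _ e2 hb w
  have p2 : Flat (hc.snd b).left := h2 _ b _ e2 hb w
  have p3 : FormallyUnramified (hc.snd b).left := (h3 _ b _ e2 hb w).2
  exact Etale.of_formallyUnramified_of_flat _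

theorem formallyUnramified_of_mono {X Y : Scheme.{u}} (f : X ⟶ Y) [Mono f] : FormallyUnramified f := by
  have : IsIso (pullback.diagonal f) := inferInstance
  infer_instance

example {X Y : Scheme.{u}} (f : X ⟶ Y) [IsImmersion f] : LocallyOfFiniteType f := inferInstance

theorem locP_unramified_of_immersion {X Y : Sp S} {i : X ⟶ Y} (hi : RepWith @IsImmersion i) :
    LocP (@LocallyOfFiniteType ⊓ @FormallyUnramified) i := by
  intro U V a b h ha hb w
  have he : RepWith @Etale (hi.rep.fst b) := repWith_fst hi.rep b hb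
  have hj : IsImmersion (hi.rep.snd b).left := hi.property_snd b
  let k : U ⟶ hi.rep.pullback b := hi.rep.lift a h w
  have hk1 : (yon S).map k ≫ hi.rep.fst b = a := hi.rep.lift_fst a h w
  have hk2 : k ≫ hi.rep.snd b = h := hi.rep.lift_snd a h w
  have hk : Etale k.left := etale_of_chart_hom a _ ha he k hk1
  have : FormallyUnramified (hi.rep.snd b).left := formallyUnramified_of_mono _
  rw [← hk2, Over.comp_left]
  exact ⟨inferInstance, MorphismProperty.comp_mem _ _ _ (inferInstance : FormallyUnramified k.left) this⟩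

/-- Cancellation for `LocP P`: if `P` cancels on the right for schemes and descends along fppf
covers, then `LocP P (f ≫ g)` implies `LocP P f`. -/
theorem locP_of_comp (P : MorphismProperty Scheme.{u})
    [P.DescendsAlong (@Surjective ⊓ @Flat ⊓ @LocallyOfFinitePresentation)]
    (hcancel : ∀ {A B C : Scheme.{u}} (k : A ⟶ B) (l : B ⟶ C), P (k ≫ l) → P k)
    {X Y Z : Sp S} (hZ : IsAlgSpace Z) (f : X ⟶ Y) (g : Y ⟶ Z) (h : LocP P (f ≫ g)) :
    LocP P f := by
  intro U V a b k ha hb hcomm
  obtain ⟨W, c, hc, hcs⟩ := hZ.atlas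
  have sq := hc.rep.isPullback' (b ≫ g)
  have hs1 : Etale (hc.rep.snd (b ≫ g)).left := hc.property_snd (b ≫ g)
  have hs2 : Surjective (hc.rep.snd (b ≫ g)).left := hcs.property_snd (b ≫ g)
  -- the scheme `U' = U ×_V V'`
  have pb : IsPullback (pullback.fst k (hc.rep.snd (b ≫ g))) (pullback.snd k (hc.rep.snd (b ≫ g)))
      k (hc.rep.snd (b ≫ g)) := IsPullback.of_hasPullback _ _
  have pb' := pb.map (Over.forget S)
  have he : Etale (pullback.fst k (hc.rep.snd (b ≫ g))).left :=
    MorphismProperty.of_isPullback (P := @Etale) pb'.flip hs1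
  have ha' : RepWith @Etale ((yon S).map (pullback.fst k (hc.rep.snd (b ≫ g))) ≫ a) :=
    (RepWith @Etale).comp_mem _ _ ((repWith_yon_map_iff _ _).2 he) ha
  have hw : ((yon S).map (pullback.fst k (hc.rep.snd (b ≫ g))) ≫ a) ≫ f ≫ g =
      (yon S).map (pullback.snd k (hc.rep.snd (b ≫ g)) ≫ hc.rep.fst' (b ≫ g)) ≫ c := by
    rw [Category.assoc, ← Category.assoc a, hcomm, Category.assoc, ← Category.assoc,
      ← Functor.map_comp, pb.w, Functor.map_comp, Category.assoc, Functor.map_comp,
      Category.assoc, sq.w]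
  have h1 : P (pullback.snd k (hc.rep.snd (b ≫ g)) ≫ hc.rep.fst' (b ≫ g)).left :=
    h _ c _ ha' hc hw
  have h2 : P (pullback.snd k (hc.rep.snd (b ≫ g))).left := by
    rw [Over.comp_left] at h1
    exact hcancel _ _ h1
  exact DescendsAlong.of_isPullback (Q := @Surjective ⊓ @Flat ⊓ @LocallyOfFinitePresentation)
    pb'.flip ⟨⟨hs2, (inferInstance : Flat (hc.rep.snd (b ≫ g)).left)⟩,
      (inferInstance : LocallyOfFinitePresentation (hc.rep.snd (b ≫ g)).left)⟩ h2

theorem s10263 {X Y Z : AlgSp.Space S} (f : X ⟶ Y) (g : Y ⟶ Z)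
    (h : AlgSp.LocP (@LocallyOfFiniteType ⊓ @FormallyUnramified) (f ≫ g).hom) :
    AlgSp.LocP (@LocallyOfFiniteType ⊓ @FormallyUnramified) f.hom := by
  refine locP_of_comp _ ?_ Z.property f.hom g.hom h
  intro A B C k l hkl
  have : LocallyOfFiniteType (k ≫ l) := hkl.1
  have : FormallyUnramified (k ≫ l) := hkl.2
  exact ⟨locallyOfFiniteType_of_comp k l, FormallyUnramified.of_comp k l⟩

end Groth.Agent.H51
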