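import Groth.Agent.H51.SpBasic
import Groth.Agent.H51.SpEtale
import Groth.Agent.H52.Points
import Mathlib.AlgebraicGeometry.Morphisms.UniversallyOpen
import Mathlib.AlgebraicGeometry.Morphisms.QuasiFinite

set_option autoImplicit false
universe u
open CategoryTheory CategoryTheory.Limits AlgebraicGeometry Opposite MorphismProperty

namespace Groth.Agent.H51

open AlgSp Groth.Agent.H50

variable {S : Scheme.{u}}

/-- A locally quasi-finite morphism is strictly monotone for the specialization orders. -/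
theorem strictMono_of_locallyQuasiFinite {X Y : Scheme.{u}} (g : X ⟶ Y) [LocallyQuasiFinite g] :
    StrictMono (g : X → Y) := by
  intro a b hab
  have h1 : b ⤳ a := hab.le
  have h2 : g b ⤳ g a := h1.map g.continuous
  refine lt_of_le_not_ge h2 ?_
  intro h3
  have h3' : g a ⤳ g b := h3
  have h4 : g a = g b := (h3'.antisymm h2).eq
  have hd := Scheme.Hom.isDiscrete_preimage_singleton g (g a)
  have : b = a := hd.eq_of_specializes h1 (by simp [h4]) (by simp)
  exact (ne_of_lt hab) this.symm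

/-- The dimension of the local ring is preserved by flat locally quasi-finite morphisms. -/
theorem ringKrullDim_stalk_eq_of_flat_lqf {X Y : Scheme.{u}} (g : X ⟶ Y) [Flat g]
    [LocallyQuasiFinite g] (x : X) :
    ringKrullDim (X.presheaf.stalk x) = ringKrullDim (Y.presheaf.stalk (g x)) := by
  rw [ringKrullDim_stalk_eq_coheight, ringKrullDim_stalk_eq_coheight]
  congr 1
  refine Order.coheight_eq_of_strictMono (g : X → Y) (strictMono_of_locallyQuasiFinite g) ?_ x
  intro a b hab
  obtain ⟨a', ha', rfl⟩ := Flat.generalizingMap g (a := a) (b := b) hab.le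
  refine ⟨a', lt_of_le_not_ge ha' ?_, rfl⟩
  intro h
  have : (g a' : Y) ≤ g a := (show a ⤳ a' from h).map g.continuous
  exact (not_le_of_gt hab) this

theorem ringKrullDim_stalk_eq_of_etale {X Y : Scheme.{u}} (g : X ⟶ Y) [Etale g] (x : X) :
    ringKrullDim (X.presheaf.stalk x) = ringKrullDim (Y.presheaf.stalk (g x)) := by
  haveI : LocallyQuasiFinite g := locallyQuasiFinite_of_formallyUnramified g
  exact ringKrullDim_stalk_eq_of_flat_lqf g x

end Groth.Agent.H51

namespace Groth.Agent.H51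
open AlgSp Groth.Agent.H50
variable {S : Scheme.{u}}

/-- Two etale charts through the same point have a common etale refinement through that point. -/
theorem exists_common_etale_refinement {X : Sp S} {U₀ U : Over S}
    (a₀ : (yon S).obj U₀ ⟶ X) (ha₀ : RepWith @Etale a₀) (a : (yon S).obj U ⟶ X)
    (ha : RepWith @Etale a) (u₀ : ↥U₀.left) (u : ↥U.left)
    (h : Points.ofPt a₀ u₀ = Points.ofPt a u) :
    ∃ (W : Over S) (p₁ : W ⟶ U₀) (p₂ : W ⟶ U) (w : ↥W.left), Etale p₁.left ∧ Etale p₂.left ∧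
      p₁.left w = u₀ ∧ p₂.left w = u ∧ (yon S).map p₁ ≫ a₀ = (yon S).map p₂ ≫ a := by
  have sq := ha₀.rep.isPullback' a
  obtain ⟨w, hw1, hw2⟩ := exists_of_ofPt_eq sq u₀ u h
  exact ⟨_, _, _, w, ha.property _ _ _ sq.flip, ha₀.property _ _ _ sq, hw1, hw2, sq.w⟩

/-- **S10248**. -/
theorem s10248 (X : AlgSp.Space S) (x : AlgSp.Points X.obj) (d : WithBot ℕ∞) :
    AlgSp.HasAt (fun U u => ringKrullDim ↥(U.presheaf.stalk u) = d) X.obj x ↔
      ∀ (U : Over S) (a : (AlgSp.yon S).obj U ⟶ X.obj) (u : ↥U.left),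
        AlgSp.RepWith @Etale a → AlgSp.Points.ofPt a u = x →
          ringKrullDim ↥(U.left.presheaf.stalk u) = d := by
  constructor
  · rintro ⟨U₀, a₀, u₀, ha₀, hu₀, hd⟩ U a u ha hu
    obtain ⟨W, p₁, p₂, w, hp₁, hp₂, hw1, hw2, -⟩ :=
      exists_common_etale_refinement a₀ ha₀ a ha u₀ u (hu₀.trans hu.symm)
    rw [← hw2, ← ringKrullDim_stalk_eq_of_etale p₂.left w, ringKrullDim_stalk_eq_of_etale p₁.left w,
      hw1]
    exact hd
  · intro h
    obtain ⟨U, a, ha, has⟩ := X.property.atlas
    obtain ⟨u, hu⟩ := surjective_ofPt_of_surjective a has x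
    exact ⟨U, a, u, ha, hu, h U a u ha hu⟩

/-- **S10302**. -/
theorem s10302 {X Y : AlgSp.Space S} (f : X ⟶ Y) (hf : AlgSp.LocP @Flat f.hom)
    (x : AlgSp.Points X.obj)
    (hx : AlgSp.HasAt (fun U u => ringKrullDim ↥(U.presheaf.stalk u) = 0) X.obj x) :
    AlgSp.HasAt (fun U u => ringKrullDim ↥(U.presheaf.stalk u) = 0) Y.obj
      (AlgSp.Points.map f.hom x) := by
  obtain ⟨U, a, u, ha, hu, hd⟩ := hx
  obtain ⟨V, b, hb, hbs⟩ := Y.property.atlas
  have hrep : Representable (a ≫ f.hom) := Y.property.representable_from_yon _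
  let U' := hrep.pullback b
  let p₁ : U' ⟶ U := hrep.fst' b
  let p₂ : U' ⟶ V := hrep.snd b
  have sq : IsPullback ((yon S).map p₁) ((yon S).map p₂) (a ≫ f.hom) b := hrep.isPullback' b
  have hp₁E : Etale p₁.left := hb.property _ _ _ sq.flip
  have hp₁S : Surjective p₁.left := hbs.property _ _ _ sq.flip
  have hp₂ : Flat p₂.left := by
    refine hf ((yon S).map p₁ ≫ a) b p₂
      ((RepWith @Etale).comp_mem _ _ ((repWith_yon_map_iff _ _).2 hp₁E) ha) hb ?_
    rw [Category.assoc, sq.w]
  obtain ⟨u', hu'⟩ := hp₁S.surj u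
  refine ⟨V, b, p₂.left u', hb, ?_, ?_⟩
  · rw [← ofPt_map_comp, ← sq.w, ofPt_map_comp, hu', ← Points.map_ofPt, hu]
  · have h0 : ringKrullDim (U'.left.presheaf.stalk u') = 0 := by
      rw [ringKrullDim_stalk_eq_of_etale p₁.left u', hu']
      exact hd
    change ringKrullDim (V.left.presheaf.stalk (p₂.left u')) = 0
    rw [ringKrullDim_stalk_eq_coheight] at h0 ⊢
    have h0' : Order.coheight u' = 0 := by exact_mod_cast h0
    rw [Order.coheight_eq_zero] at h0'
    have : Order.coheight (p₂.left u') = 0 := by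
      rw [Order.coheight_eq_zero]
      intro w hw
      obtain ⟨y, hy, rfl⟩ := Flat.generalizingMap p₂.left (a := u') (b := w) hw
      have : (y : U'.left) ≤ u' := h0' hy
      exact (show u' ⤳ y from this).map p₂.left.continuous
    rw [this]
    rfl

end Groth.Agent.H51
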