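import Groth.Agent.H50.Points
import Groth.Agent.H50.OpenImm
import Groth.Prelude.Def_AlgSp3
import Groth.Prelude.Def_AlgSp4
import Groth.Prelude.Def_AlgSpDec
import Mathlib.AlgebraicGeometry.Morphisms.UniversallyOpen
import Mathlib.AlgebraicGeometry.Morphisms.Etale
import Mathlib.AlgebraicGeometry.Morphisms.Smooth
import Mathlib.AlgebraicGeometry.AffineScheme
import Mathlib.AlgebraicGeometry.Morphisms.QuasiCompact
import Mathlib.AlgebraicGeometry.Noetherian
import Mathlib.AlgebraicGeometry.Properties

set_option autoImplicit false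
universe u
open CategoryTheory CategoryTheory.Limits AlgebraicGeometry Opposite

namespace Groth.Agent.H51

open AlgSp Groth.Agent.H50

variable {S : Scheme.{u}}

/-- `ofPt` as `map` of the canonical point of the scheme. -/
theorem ofPt_eq_map_schemeHomeo {F : Sp S} {T : Over S} (g : (yon S).obj T ⟶ F) (t : ↥T.left) :
    Points.ofPt g t = Points.map g (Points.schemeHomeo T t) :=
  Points.ofPt_eq_map_ofScheme g t

/-- Precomposing the chart with a morphism of schemes. -/
theorem ofPt_map_comp {F : Sp S} {T T' : Over S} (φ : T ⟶ T') (g : (yon S).obj T' ⟶ F)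
    (t : ↥T.left) : Points.ofPt ((yon S).map φ ≫ g) t = Points.ofPt g (φ.left t) := by
  rw [ofPt_eq_map_schemeHomeo, Points.map_comp, Points.map_yon_map_apply,
    ← ofPt_eq_map_schemeHomeo]

/-- Every point of a sheaf is of the form `ofPt` for a morphism from the spectrum of a field. -/
theorem exists_ofPt_eq (F : Sp S) (x : Points F) :
    ∃ (T : Over S) (g : (yon S).obj T ⟶ F) (t : ↥T.left), Points.ofPt g t = x := by
  induction x using Points.ind with
  | h p => exact ⟨p.pt, p.toHom, IsLocalRing.closedPoint p.K, Points.ofPt_toHom p _⟩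

/-- Points of a fibre product of a chart with a representable morphism. -/
theorem exists_of_ofPt_eq {G : Sp S} {U T P : Over S} {a : (yon S).obj U ⟶ G}
    {g : (yon S).obj T ⟶ G} {q : P ⟶ U} {r : P ⟶ T}
    (sq : IsPullback ((yon S).map q) ((yon S).map r) a g) (u : ↥U.left) (t : ↥T.left)
    (h : Points.ofPt a u = Points.ofPt g t) : ∃ v : ↥P.left, q.left v = u ∧ r.left v = t := by
  rw [ofPt_eq_map_schemeHomeo, ofPt_eq_map_schemeHomeo] at h
  obtain ⟨z, hz1, hz2⟩ := points_exists_of_isPullback sq _ _ h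
  obtain ⟨v, rfl⟩ := (Points.schemeHomeo P).surjective z
  rw [Points.map_yon_map_apply] at hz1 hz2
  exact ⟨v, (Points.schemeHomeo U).injective hz1, (Points.schemeHomeo T).injective hz2⟩

/-- preimage of the image of a chart under another chart, via the fibre product. -/
theorem preimage_image_ofPt {G : Sp S} {U T P : Over S} {a : (yon S).obj U ⟶ G}
    {g : (yon S).obj T ⟶ G} {q : P ⟶ U} {r : P ⟶ T}
    (sq : IsPullback ((yon S).map q) ((yon S).map r) a g) (W : Set ↥U.left) :
    Points.ofPt g ⁻¹' (Points.ofPt a '' W) = r.left '' (q.left ⁻¹' W) := by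
  ext t
  constructor
  · rintro ⟨u, hu, h⟩
    obtain ⟨v, hv1, hv2⟩ := exists_of_ofPt_eq sq u t h
    exact ⟨v, by simpa [hv1] using hu, hv2⟩
  · rintro ⟨v, hv, rfl⟩
    refine ⟨q.left v, hv, ?_⟩
    rw [← ofPt_map_comp, ← ofPt_map_comp, sq.w]

theorem repWith_mono {P Q : MorphismProperty Scheme.{u}} (h : P ≤ Q) {F G : Sp S} {f : F ⟶ G}
    (hf : RepWith P f) : RepWith Q f :=
  MorphismProperty.relative_monotone (F := yon S)
    (fun _ _ _ hf => h _ hf) _ hf

theorem isOpenMap_ofPt_of_universallyOpen {G : Sp S} {U : Over S} (a : (yon S).obj U ⟶ G)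
    (ha : RepWith @UniversallyOpen a) : IsOpenMap (Points.ofPt a) := by
  intro W hW
  rw [Points.isOpen_iff]
  intro T g
  have sq := ha.rep.isPullback' g
  rw [preimage_image_ofPt sq W]
  have : UniversallyOpen (ha.rep.snd g).left := ha.property_snd g
  exact (ha.rep.snd g).left.isOpenMap _ (hW.preimage (ha.rep.fst' g).left.continuous)

theorem etale_le_universallyOpen : (@Etale : MorphismProperty Scheme.{u}) ≤ @UniversallyOpen := by
  intro X Y f hf
  have : Etale f := hf
  infer_instance

/-- Etale charts induce open maps on points (for any sheaf). -/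
theorem isOpenMap_ofPt_of_etale {G : Sp S} {U : Over S} (a : (yon S).obj U ⟶ G)
    (ha : RepWith @Etale a) : IsOpenMap (Points.ofPt a) :=
  isOpenMap_ofPt_of_universallyOpen a (repWith_mono etale_le_universallyOpen ha)

/-- A representable surjective chart is surjective on points. -/
theorem surjective_ofPt_of_surjective {G : Sp S} {U : Over S} (a : (yon S).obj U ⟶ G)
    (ha : RepWith @Surjective a) : Function.Surjective (Points.ofPt a) := by
  intro x
  induction x using Points.ind with
  | h p =>
  have sq := ha.rep.isPullback' p.toHom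
  have hs : Surjective (ha.rep.snd p.toHom).left := ha.property_snd p.toHom
  obtain ⟨v, hv⟩ := hs.surj (IsLocalRing.closedPoint p.K)
  refine ⟨(ha.rep.fst' p.toHom).left v, ?_⟩
  rw [← ofPt_map_comp, sq.w, ofPt_map_comp, Points.ofPt_toHom]

/-- A representable morphism is `RepWith Surjective` iff it is surjective on points. -/
theorem repWith_surjective_of_surjective_map {F G : Sp S} (f : F ⟶ G) (hf : Representable f)
    (hs : Function.Surjective (Points.map f)) : RepWith @Surjective f := by
  refine ⟨hf, ?_⟩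
  intro T V g fst snd sq
  refine ⟨fun t => ?_⟩
  obtain ⟨x, hx⟩ := hs (Points.map g (Points.schemeHomeo T t))
  obtain ⟨z, -, hz⟩ := points_exists_of_isPullback sq x (Points.schemeHomeo T t) hx
  obtain ⟨v, rfl⟩ := (Points.schemeHomeo V).surjective z
  rw [Points.map_yon_map_apply] at hz
  exact ⟨v, (Points.schemeHomeo T).injective hz⟩

theorem surjective_map_of_repWith_surjective {F G : Sp S} (f : F ⟶ G)
    (hf : RepWith @Surjective f) : Function.Surjective (Points.map f) := by
  intro y
  induction y using Points.ind with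
  | h p =>
  have sq := hf.rep.isPullback p.toHom
  have hs : Surjective (hf.rep.snd p.toHom).left := hf.property_snd p.toHom
  obtain ⟨v, hv⟩ := hs.surj (IsLocalRing.closedPoint p.K)
  refine ⟨Points.ofPt (hf.rep.fst p.toHom) v, ?_⟩
  rw [Points.map_ofPt, sq.w, ofPt_map_comp, Points.ofPt_toHom]

theorem repWith_surjective_iff {F G : Sp S} (f : F ⟶ G) :
    RepWith @Surjective f ↔ Representable f ∧ Function.Surjective (Points.map f) :=
  ⟨fun h => ⟨h.rep, surjective_map_of_repWith_surjective f h⟩,
    fun h => repWith_surjective_of_surjective_map f h.1 h.2⟩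

theorem range_map_eq_range_ofPt {F : Sp S} {U : Over S} (a : (yon S).obj U ⟶ F) :
    Set.range (Points.map a) = Set.range (Points.ofPt a) := by
  ext x
  constructor
  · rintro ⟨z, rfl⟩
    obtain ⟨u, rfl⟩ := (Points.schemeHomeo U).surjective z
    exact ⟨u, ofPt_eq_map_schemeHomeo a u⟩
  · rintro ⟨u, rfl⟩
    exact ⟨_, (ofPt_eq_map_schemeHomeo a u).symm⟩

theorem repWith_surjective_of_surjective_ofPt {G : Sp S} {U : Over S} (a : (yon S).obj U ⟶ G)
    (ha : Representable a) (hs : Function.Surjective (Points.ofPt a)) : RepWith @Surjective a := by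
  refine repWith_surjective_of_surjective_map a ha ?_
  rw [← Set.range_eq_univ, range_map_eq_range_ofPt, Set.range_eq_univ]
  exact hs

/-- An etale morphism (in the sense of `IsEtaleMor`) from a sheaf with an etale surjective chart is
open on points. -/
theorem isOpenMap_map_of_isEtaleMor {F G : Sp S} (f : F ⟶ G) (hF : IsAlgSpace F)
    (hf : IsEtaleMor f) : IsOpenMap (Points.map f) := by
  obtain ⟨U, p, hp, hps⟩ := hF.atlas
  intro W hW
  have hsurj := surjective_ofPt_of_surjective p hps
  have : Points.map f '' W = Points.ofPt (p ≫ f) '' (Points.ofPt p ⁻¹' W) := by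
    ext y
    constructor
    · rintro ⟨x, hx, rfl⟩
      obtain ⟨u, rfl⟩ := hsurj x
      exact ⟨u, hx, rfl⟩
    · rintro ⟨u, hu, rfl⟩
      exact ⟨Points.ofPt p u, hu, rfl⟩
  rw [this]
  exact isOpenMap_ofPt_of_etale _ (hf p hp) _ (hW.preimage (Points.continuous_ofPt p))

theorem exists_isCompact_open_nhds {F : Sp S} (hF : IsAlgSpace F) (x : Points F)
    (W : Set (Points F)) (hW : IsOpen W) (hx : x ∈ W) :
    ∃ V : Set (Points F), IsOpen V ∧ IsCompact V ∧ x ∈ V ∧ V ⊆ W := by
  obtain ⟨U, p, hp, hps⟩ := hF.atlas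
  obtain ⟨u, rfl⟩ := surjective_ofPt_of_surjective p hps x
  have hWo : IsOpen (Points.ofPt p ⁻¹' W) := hW.preimage (Points.continuous_ofPt p)
  obtain ⟨_, ⟨V, hV, rfl⟩, huV, hVW⟩ :=
    (U.left.isBasis_affineOpens).exists_subset_of_mem_open (a := u) hx hWo
  refine ⟨Points.ofPt p '' (V : Set U.left), isOpenMap_ofPt_of_etale p hp _ V.isOpen,
    hV.isCompact.image (Points.continuous_ofPt p), ⟨u, huV, rfl⟩, ?_⟩
  rintro _ ⟨v, hv, rfl⟩
  exact hVW hv

/-- The open subscheme of a scheme over `S` as a scheme over `S`. -/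
noncomputable abbrev overOpen (U : Over S) (W : U.left.Opens) : Over S := Over.mk (W.ι ≫ U.hom)

/-- The inclusion of an open subscheme, over `S`. -/
noncomputable abbrev overOpenι (U : Over S) (W : U.left.Opens) : overOpen U W ⟶ U :=
  Over.homMk W.ι rfl

theorem repWith_etale_overOpenι (U : Over S) (W : U.left.Opens) :
    RepWith @Etale ((yon S).map (overOpenι U W)) :=
  (repWith_yon_map_iff _ _).2 (show Etale W.ι from inferInstance)

theorem repWith_isOpenImmersion_overOpenι (U : Over S) (W : U.left.Opens) :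
    RepWith @IsOpenImmersion ((yon S).map (overOpenι U W)) :=
  (repWith_yon_map_iff _ _).2 (show IsOpenImmersion W.ι from inferInstance)

/-- Restricting an etale chart to an open subscheme. -/
theorem repWith_etale_restrict {F : Sp S} {U : Over S} (a : (yon S).obj U ⟶ F)
    (ha : RepWith @Etale a) (W : U.left.Opens) :
    RepWith @Etale ((yon S).map (overOpenι U W) ≫ a) :=
  (RepWith @Etale).comp_mem _ _ (repWith_etale_overOpenι U W) ha

theorem ofPt_restrict {F : Sp S} {U : Over S} (a : (yon S).obj U ⟶ F) (W : U.left.Opens)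
    (w : ↥(overOpen U W).left) :
    Points.ofPt ((yon S).map (overOpenι U W) ≫ a) w = Points.ofPt a (W.ι w) :=
  ofPt_map_comp _ _ _

theorem range_ofPt_restrict {F : Sp S} {U : Over S} (a : (yon S).obj U ⟶ F) (W : U.left.Opens) :
    Set.range (Points.ofPt ((yon S).map (overOpenι U W) ≫ a)) = Points.ofPt a '' (W : Set U.left) := by
  ext x
  constructor
  · rintro ⟨w, rfl⟩
    exact ⟨W.ι w, by simp, (ofPt_restrict a W w).symm⟩
  · rintro ⟨u, hu, rfl⟩
    exact ⟨⟨u, hu⟩, by rw [ofPt_restrict]; rfl⟩

theorem isQuasiCompactSp_iff {F : Sp S} (hF : IsAlgSpace F) :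
    IsQuasiCompactSp F ↔ CompactSpace (Points F) := by
  constructor
  · rintro ⟨U, p, hp, hps, hU⟩
    have hU : CompactSpace ↥U.left := hU
    constructor
    rw [← Set.range_eq_univ.2 (surjective_ofPt_of_surjective p hps)]
    exact isCompact_range (Points.continuous_ofPt p)
  · intro hc
    obtain ⟨U, p, hp, hps⟩ := hF.atlas
    have hsurj := surjective_ofPt_of_surjective p hps
    have hopen : ∀ V : U.left.affineOpens, IsOpen (Points.ofPt p '' (V.1 : Set U.left)) :=
      fun V => isOpenMap_ofPt_of_etale p hp _ V.1.isOpen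
    have hcov : (Set.univ : Set (Points F)) ⊆ ⋃ V : U.left.affineOpens,
        Points.ofPt p '' (V.1 : Set U.left) := by
      intro x _
      obtain ⟨u, rfl⟩ := hsurj x
      obtain ⟨_, ⟨V, hV, rfl⟩, huV, -⟩ :=
        (U.left.isBasis_affineOpens).exists_subset_of_mem_open (Set.mem_univ u) isOpen_univ
      exact Set.mem_iUnion.2 ⟨⟨V, hV⟩, u, huV, rfl⟩
    obtain ⟨t, ht⟩ := isCompact_univ.elim_finite_subcover _ hopen hcov
    let W : U.left.Opens := ⨆ V ∈ t, (V : U.left.affineOpens).1
    have hWc : IsCompact (W : Set U.left) := by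
      have : (W : Set U.left) = ⋃ V ∈ t, ((V : U.left.affineOpens).1 : Set U.left) := by
        simp [W]
      rw [this]
      exact t.finite_toSet.isCompact_biUnion fun V _ => V.2.isCompact
    refine ⟨overOpen U W, (yon S).map (overOpenι U W) ≫ p, repWith_etale_restrict p hp W, ?_,
      isCompact_iff_compactSpace.1 hWc⟩
    refine repWith_surjective_of_surjective_ofPt _ (repWith_etale_restrict p hp W).rep ?_
    rw [← Set.range_eq_univ, range_ofPt_restrict]
    refine Set.eq_univ_of_univ_subset (ht.trans ?_)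
    refine Set.iUnion₂_subset fun V hV => Set.image_mono ?_
    intro u hu
    simp only [W, TopologicalSpace.Opens.coe_iSup, Set.mem_iUnion]
    exact ⟨V, hV, hu⟩

theorem noetherianSpace_image {α β : Type*} [TopologicalSpace α] [TopologicalSpace β]
    (f : α → β) (hf : Continuous f) (s : Set α) [TopologicalSpace.NoetherianSpace s] : TopologicalSpace.NoetherianSpace (f '' s) := by
  rw [Set.image_eq_range]
  exact TopologicalSpace.NoetherianSpace.range _ (hf.comp continuous_subtype_val)

theorem exists_noetherian_open_nhds {F : Sp S} (hX : IsLocNoethSp F) (x : Points F) :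
    ∃ W : Set (Points F), IsOpen W ∧ x ∈ W ∧ TopologicalSpace.NoetherianSpace ↥W := by
  obtain ⟨U, p, hp, hps, hU⟩ := hX
  have hU : IsLocallyNoetherian U.left := hU
  obtain ⟨u, rfl⟩ := surjective_ofPt_of_surjective p hps x
  obtain ⟨_, ⟨V, hV, rfl⟩, huV, -⟩ :=
    (U.left.isBasis_affineOpens).exists_subset_of_mem_open (Set.mem_univ u) isOpen_univ
  have : IsNoetherianRing Γ(U.left, V) := hU.component_noetherian ⟨V, hV⟩
  have : TopologicalSpace.NoetherianSpace V := noetherianSpace_of_isAffineOpen V hV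
  refine ⟨Points.ofPt p '' (V : Set U.left), isOpenMap_ofPt_of_etale p hp _ V.isOpen,
    ⟨u, huV, rfl⟩, ?_⟩
  exact @noetherianSpace_image _ _ _ _ _ (Points.continuous_ofPt p) (V : Set U.left) this

theorem noetherianSpace_points {F : Sp S} (hF : IsAlgSpace F) (hqc : IsQuasiCompactSp F)
    (hX : IsLocNoethSp F) : TopologicalSpace.NoetherianSpace (Points F) := by
  have hc : CompactSpace (Points F) := (isQuasiCompactSp_iff hF).1 hqc
  choose W hW1 hW2 hW3 using fun x => exists_noetherian_open_nhds hX x
  obtain ⟨t, ht⟩ := isCompact_univ.elim_finite_subcover W hW1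
    (fun x _ => Set.mem_iUnion.2 ⟨x, hW2 x⟩)
  rw [← TopologicalSpace.noetherian_univ_iff]
  have : (Set.univ : Set (Points F)) = ⋃ i : t, W i.1 := by
    refine Set.eq_univ_of_univ_subset (ht.trans ?_) |>.symm
    exact Set.iUnion₂_subset fun i hi => Set.subset_iUnion (fun i : t => W i.1) ⟨i, hi⟩
  rw [this]
  have : ∀ i : t, TopologicalSpace.NoetherianSpace (W i.1) := fun i => hW3 i.1
  exact TopologicalSpace.NoetherianSpace.iUnion _

/-- Every nonempty open subset of a scheme contains a point whose local ring has dimension 0. -/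
theorem exists_mem_ringKrullDim_stalk_eq_zero (U : Scheme.{u}) (V : U.Opens) (u : U) (hu : u ∈ V) :
    ∃ v ∈ V, ringKrullDim (U.presheaf.stalk v) = 0 := by
  obtain ⟨R, f, hf, hsub⟩ := Scheme.exists_affine_mem_range_and_range_subset hu
  obtain ⟨y, rfl⟩ := Set.mem_range.mp hsub.1
  have hnt : Nontrivial R := by
    have : Nonempty (Spec R) := ⟨y⟩
    by_contra h
    rw [not_nontrivial_iff_subsingleton] at h
    exact (inferInstance : IsEmpty (PrimeSpectrum R)).false y
  obtain ⟨p, hp⟩ := Ideal.nonempty_minimalPrimes (I := (⊥ : Ideal R)) (by simp)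
  have hpp : p.IsPrime := hp.1.1
  let z : Spec R := ⟨p, hpp⟩
  refine ⟨f z, hsub.2 ⟨z, rfl⟩, ?_⟩
  rw [ringKrullDim_stalk_eq_coheight, coheight_eq_of_isOpenImmersion, ← idealHeight_eq_coheight]
  have : z.asIdeal.height = 0 := Ideal.height_eq_zero_iff.2 hp
  rw [this]; rfl

theorem dense_codim_zero {F : Sp S} (hF : IsAlgSpace F) :
    Dense {x : Points F | HasAt (fun U u => ringKrullDim ↥(U.presheaf.stalk u) = 0) F x} := by
  obtain ⟨U, p, hp, hps⟩ := hF.atlas
  rw [dense_iff_inter_open]
  rintro W hW ⟨x, hx⟩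
  obtain ⟨u, rfl⟩ := surjective_ofPt_of_surjective p hps x
  obtain ⟨v, hv, hdim⟩ := exists_mem_ringKrullDim_stalk_eq_zero U.left
    ⟨_, hW.preimage (Points.continuous_ofPt p)⟩ u hx
  exact ⟨Points.ofPt p v, hv, U, p, v, hp, rfl, hdim⟩

end Groth.Agent.H51
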