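import Groth.Agent.H51.SpBasic
import Groth.Agent.H49.AlgSpBasic
import Groth.Agent.H49.AlgSpLocal
import Groth.Agent.H49.AlgSpRep
import Groth.Agent.H49.DiagPullback
import Mathlib.CategoryTheory.Sites.Subsheaf

set_option autoImplicit false
universe u
open CategoryTheory CategoryTheory.Limits AlgebraicGeometry Opposite MorphismProperty

namespace Groth.Agent.H51

open AlgSp Groth.Agent.H50

variable {S : Scheme.{u}}

theorem isOpenImmersion_le_mono :
    (@IsOpenImmersion : MorphismProperty Scheme.{u}) ≤ MorphismProperty.monomorphisms Scheme.{u} := by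
  intro X Y f hf
  have : IsOpenImmersion f := hf
  exact (inferInstance : Mono f)

/-- A morphism of sheaves which is bijective on sections over representables is an isomorphism. -/
theorem isIso_of_forall_yon_bijective {F G : Sp S} (w : F ⟶ G)
    (h : ∀ (T : Over S) (x : (yon S).obj T ⟶ G), ∃! a : (yon S).obj T ⟶ F, a ≫ w = x) :
    IsIso w := by
  have : ∀ T : (Over S)ᵒᵖ, IsIso (w.hom.app T) := by
    intro T
    rw [isIso_iff_bijective]
    constructor
    · intro a b hab
      obtain ⟨c, -, hc⟩ := h T.unop ((J S).uliftYonedaEquiv.symm (w.hom.app T a))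
      have ha : (J S).uliftYonedaEquiv.symm a = c := hc _ (by
        apply (J S).uliftYonedaEquiv.injective
        rw [(J S).uliftYonedaEquiv_comp]; simp)
      have hb : (J S).uliftYonedaEquiv.symm b = c := hc _ (by
        apply (J S).uliftYonedaEquiv.injective
        rw [(J S).uliftYonedaEquiv_comp]; simp [hab])
      exact (J S).uliftYonedaEquiv.symm.injective (ha.trans hb.symm)
    · intro x
      obtain ⟨c, hc, -⟩ := h T.unop ((J S).uliftYonedaEquiv.symm x)
      refine ⟨(J S).uliftYonedaEquiv c, ?_⟩
      have := congrArg (J S).uliftYonedaEquiv hc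
      rw [(J S).uliftYonedaEquiv_comp] at this
      simpa using this
  have h1 : IsIso w.hom := NatIso.isIso_of_isIso_app _
  have h2 : IsIso ((sheafToPresheaf _ _).map w) := h1
  exact isIso_of_reflects_iso w (sheafToPresheaf _ _)

/-- An open immersion of sheaves which is surjective on points is an isomorphism. -/
theorem isIso_of_isOpenImmersion_of_surjective {F G : Sp S} (w : F ⟶ G)
    (hw : RepWith @IsOpenImmersion w) (hs : Function.Surjective (Points.map w)) : IsIso w := by
  have hm : Mono w := Groth.Agent.H49.mono_of_repWith_mono isOpenImmersion_le_mono w hw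
  apply isIso_of_forall_yon_bijective
  intro T x
  obtain ⟨a, ha⟩ := exists_factor_of_isOpenImmersion w hw x (by
    rw [Set.range_eq_univ.2 hs]; exact Set.subset_univ _)
  exact ⟨a, ha, fun b hb => (cancel_mono w).1 (hb.trans ha.symm)⟩

/-- Factorization through an open subsheaf, for an arbitrary source sheaf. -/
theorem exists_factor_iff_of_isOpenImmersion' {W U Y : Sp S} (w : W ⟶ U)
    (hw : RepWith @IsOpenImmersion w) (f : Y ⟶ U) :
    (∃ g : Y ⟶ W, g ≫ w = f) ↔ Set.range (Points.map f) ⊆ Set.range (Points.map w) := by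
  constructor
  · rintro ⟨g, rfl⟩ _ ⟨p, rfl⟩
    exact ⟨Points.map g p, (Points.map_comp g w p).symm⟩
  · intro h
    have sq := IsPullback.of_hasPullback f w
    have h1 : RepWith @IsOpenImmersion (pullback.fst f w) :=
      (RepWith @IsOpenImmersion).of_isPullback sq.flip hw
    have h2 : Function.Surjective (Points.map (pullback.fst f w)) := by
      intro y
      obtain ⟨x', hx'⟩ := h ⟨y, rfl⟩
      obtain ⟨z, hz, -⟩ := points_exists_of_isPullback sq y x' hx'.symm
      exact ⟨z, hz⟩
    have : IsIso (pullback.fst f w) := isIso_of_isOpenImmersion_of_surjective _ h1 h2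
    refine ⟨inv (pullback.fst f w) ≫ pullback.snd f w, ?_⟩
    rw [Category.assoc, ← pullback.condition, IsIso.inv_hom_id_assoc]

/-- A commutative square of sheaves which is a pullback on sections over representables is a
pullback. -/
theorem isPullback_of_forall_yon {P A B C : Sp S} {fst : P ⟶ A} {snd : P ⟶ B} {f : A ⟶ C}
    {g : B ⟶ C} (w : fst ≫ f = snd ≫ g)
    (h : ∀ (T : Over S) (a : (yon S).obj T ⟶ A) (b : (yon S).obj T ⟶ B), a ≫ f = b ≫ g →
      ∃! p : (yon S).obj T ⟶ P, p ≫ fst = a ∧ p ≫ snd = b) : IsPullback fst snd f g := by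
  let k : P ⟶ pullback f g := pullback.lift fst snd w
  have hk : IsIso k := by
    apply isIso_of_forall_yon_bijective
    intro T x
    obtain ⟨p, ⟨hp1, hp2⟩, hpu⟩ := h T (x ≫ pullback.fst f g) (x ≫ pullback.snd f g)
      (by rw [Category.assoc, Category.assoc, pullback.condition])
    refine ⟨p, ?_, ?_⟩
    · apply pullback.hom_ext
      · rw [Category.assoc, pullback.lift_fst, hp1]
      · rw [Category.assoc, pullback.lift_snd, hp2]
    · intro q hq
      apply hpu
      subst hq
      constructor
      · rw [Category.assoc, pullback.lift_fst]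
      · rw [Category.assoc, pullback.lift_snd]
  exact IsPullback.of_iso_pullback ⟨w⟩ (asIso k) (pullback.lift_fst _ _ _) (pullback.lift_snd _ _ _)

/-- Covering sieves of the fppf topology over `S` are jointly surjective on points. -/
theorem exists_mem_sieve_of_mem_J {T : Over S} (R : Sieve T) (hR : R ∈ J S T) (t : ↥T.left) :
    ∃ (T' : Over S) (φ : T' ⟶ T) (t' : ↥T'.left), R φ ∧ φ.left t' = t := by
  rw [GrothendieckTopology.mem_over_iff,
    Precoverage.mem_toGrothendieck_iff_of_isStableUnderComposition] at hR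
  obtain ⟨R₀, hR₀, hle⟩ := hR
  have hjs : R₀ ∈ Scheme.jointlySurjectivePrecoverage T.left := hR₀.1
  rw [Scheme.jointlySurjectivePrecoverage, Presieve.mem_comap_jointlySurjectivePrecoverage_iff] at hjs
  obtain ⟨Y, g, hg, t', ht'⟩ := hjs t
  have h := hle _ _ hg
  rw [Sieve.overEquiv_iff] at h
  exact ⟨Over.mk (g ≫ T.hom), Over.homMk g, t', h, ht'⟩

theorem uliftYonedaEquiv_symm_map {F : Sp S} {T T' : Over S} (φ : T' ⟶ T) (x : F.obj.obj (op T)) :
    (J S).uliftYonedaEquiv.symm (F.obj.map φ.op x) =
      (yon S).map φ ≫ (J S).uliftYonedaEquiv.symm x := by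
  apply (J S).uliftYonedaEquiv.injective
  rw [Equiv.apply_symm_apply, ← (J S).uliftYonedaEquiv_naturality, Equiv.apply_symm_apply]

/-- The subfunctor of sections landing in a set of points. -/
def openSub (F : Sp S) (W : Set (Points F)) : Subfunctor F.obj where
  obj T := {x | ∀ t : ↥(unop T).left, Points.ofPt ((J S).uliftYonedaEquiv.symm x) t ∈ W}
  map := by
    intro T T' i x hx t'
    have h := uliftYonedaEquiv_symm_map (F := F) i.unop x
    simp only [Quiver.Hom.op_unop] at h
    rw [h, ofPt_map_comp]
    exact hx _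

theorem openSub_isSheaf (F : Sp S) (W : Set (Points F)) :
    Presheaf.IsSheaf (J S) (openSub F W).toFunctor := by
  rw [isSheaf_iff_isSheaf_of_type,
    Subfunctor.isSheaf_iff _ ((isSheaf_iff_isSheaf_of_type _ _).1 F.property)]
  intro T x hx t
  obtain ⟨T', φ, t', hφ, rfl⟩ := exists_mem_sieve_of_mem_J _ hx t
  have h1 : F.obj.map φ.op x ∈ (openSub F W).obj (op T') := hφ
  have h2 := h1 t'
  rwa [uliftYonedaEquiv_symm_map, ofPt_map_comp] at h2

/-- The open subsheaf attached to a set of points. -/
def openSubSp (F : Sp S) (W : Set (Points F)) : Sp S := ⟨(openSub F W).toFunctor, openSub_isSheaf F W⟩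

/-- The inclusion of the open subsheaf. -/
def openSubι (F : Sp S) (W : Set (Points F)) : openSubSp F W ⟶ F := ⟨(openSub F W).ι⟩

theorem openSubι_app {F : Sp S} (W : Set (Points F)) (T : (Over S)ᵒᵖ)
    (x : (openSubSp F W).obj.obj T) : (openSubι F W).hom.app T x = x.1 := rfl

instance mono_openSubι (F : Sp S) (W : Set (Points F)) : Mono (openSubι F W) := by
  apply Groth.Agent.H49.mono_of_forall_yon
  intro T a b hab
  apply (J S).uliftYonedaEquiv.injective
  have := congrArg (J S).uliftYonedaEquiv hab
  rw [(J S).uliftYonedaEquiv_comp, (J S).uliftYonedaEquiv_comp, openSubι_app, openSubι_app] at this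
  exact Subtype.ext this

/-- A section factors through the open subsheaf iff all its points lie in `W`. -/
theorem exists_factor_openSubι_iff {F : Sp S} (W : Set (Points F)) {T : Over S}
    (x : (yon S).obj T ⟶ F) :
    (∃ a : (yon S).obj T ⟶ openSubSp F W, a ≫ openSubι F W = x) ↔
      ∀ t : ↥T.left, Points.ofPt x t ∈ W := by
  constructor
  · rintro ⟨a, rfl⟩ t
    have h := ((J S).uliftYonedaEquiv a).2 t
    have e : (J S).uliftYonedaEquiv.symm ((J S).uliftYonedaEquiv a).1 = a ≫ openSubι F W := by
      apply (J S).uliftYonedaEquiv.injective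
      rw [Equiv.apply_symm_apply, (J S).uliftYonedaEquiv_comp, openSubι_app]
    rwa [e] at h
  · intro h
    refine ⟨(J S).uliftYonedaEquiv.symm ⟨(J S).uliftYonedaEquiv x, ?_⟩, ?_⟩
    · intro t
      rw [Equiv.symm_apply_apply]
      exact h t
    · apply (J S).uliftYonedaEquiv.injective
      rw [(J S).uliftYonedaEquiv_comp, Equiv.apply_symm_apply, openSubι_app]

theorem range_map_openSubι {F : Sp S} (W : Set (Points F)) :
    Set.range (Points.map (openSubι F W)) = W := by
  ext x
  constructor
  · rintro ⟨z, rfl⟩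
    obtain ⟨T, g, t, rfl⟩ := exists_ofPt_eq _ z
    rw [Points.map_ofPt]
    exact (exists_factor_openSubι_iff W (g ≫ openSubι F W)).1 ⟨g, rfl⟩ t
  · intro hx
    obtain ⟨T, g, t, rfl⟩ := exists_ofPt_eq _ x
    -- restrict to the residue field point
    let k : Over S := Over.mk (T.left.fromSpecResidueField t ≫ T.hom)
    let i : k ⟶ T := Over.homMk (T.left.fromSpecResidueField t) rfl
    have hk : ∀ s : ↥k.left, Points.ofPt ((yon S).map i ≫ g) s ∈ W := by
      intro s
      rw [ofPt_map_comp]
      have : i.left s = t := by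
        change (T.left.fromSpecResidueField t) s = t
        have : s = IsLocalRing.closedPoint (T.left.residueField t) :=
          @Subsingleton.elim (↥(Spec (.of (T.left.residueField t)))) inferInstance _ _
        rw [this, Scheme.fromSpecResidueField_apply]
      rwa [this]
    obtain ⟨a, ha⟩ := (exists_factor_openSubι_iff W _).2 hk
    refine ⟨Points.ofPt a (IsLocalRing.closedPoint _), ?_⟩
    rw [Points.map_ofPt, ha, ofPt_map_comp]
    congr 1
    exact Scheme.fromSpecResidueField_apply _ _

/-- The base change of the open subsheaf along a chart is the open subscheme of points mapping to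
`W`. -/
theorem exists_isPullback_openSubι {F : Sp S} (W : Set (Points F)) (hW : IsOpen W) {T : Over S}
    (g : (yon S).obj T ⟶ F) :
    ∃ (V : T.left.Opens) (fst : (yon S).obj (overOpen T V) ⟶ openSubSp F W),
      (V : Set T.left) = Points.ofPt g ⁻¹' W ∧
      IsPullback fst ((yon S).map (overOpenι T V)) (openSubι F W) g := by
  let V : T.left.Opens := ⟨Points.ofPt g ⁻¹' W, hW.preimage (Points.continuous_ofPt g)⟩
  have hV : ∀ v : ↥(overOpen T V).left, Points.ofPt ((yon S).map (overOpenι T V) ≫ g) v ∈ W := by
    intro v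
    rw [ofPt_map_comp]
    exact v.2
  obtain ⟨fst, hfst⟩ := (exists_factor_openSubι_iff W _).2 hV
  refine ⟨V, fst, rfl, isPullback_of_forall_yon hfst ?_⟩
  intro T' a' b' hab
  obtain ⟨β, rfl⟩ := (yon S).map_surjective b'
  have hβ : Set.range β.left ⊆ Set.range V.ι := by
    rintro _ ⟨t', rfl⟩
    have := (exists_factor_openSubι_iff W ((yon S).map β ≫ g)).1 ⟨a', hab⟩ t'
    rw [ofPt_map_comp] at this
    rw [Scheme.Opens.range_ι]
    exact this
  let γ : T'.left ⟶ ↑V := IsOpenImmersion.lift V.ι β.left hβ
  have hγ : γ ≫ V.ι = β.left := IsOpenImmersion.lift_fac _ _ _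
  let γ' : T' ⟶ overOpen T V := Over.homMk γ (by
    change γ ≫ V.ι ≫ T.hom = T'.hom
    rw [← Category.assoc, hγ, CategoryTheory.Over.w])
  have hγ' : γ' ≫ overOpenι T V = β := by
    ext1
    exact hγ
  refine ⟨(yon S).map γ', ⟨?_, ?_⟩, ?_⟩
  · rw [← cancel_mono (openSubι F W), Category.assoc, hfst, ← Category.assoc, ← Functor.map_comp,
      hγ', hab]
  · rw [← Functor.map_comp, hγ']
  · rintro q ⟨-, hq⟩
    obtain ⟨q₀, rfl⟩ := (yon S).map_surjective q
    rw [← Functor.map_comp] at hq
    have hq' := (yon S).map_injective hq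
    congr 1
    ext1
    rw [← cancel_mono V.ι]
    change q₀.left ≫ (overOpenι T V).left = γ ≫ V.ι
    rw [← Over.comp_left, hq', hγ]

theorem repWith_isOpenImmersion_openSubι {F : Sp S} (W : Set (Points F)) (hW : IsOpen W) :
    RepWith @IsOpenImmersion (openSubι F W) := by
  refine MorphismProperty.relative.of_exists ?_
  intro T g
  obtain ⟨V, fst, -, sq⟩ := exists_isPullback_openSubι W hW g
  exact ⟨overOpen T V, fst, overOpenι T V, sq, (inferInstance : IsOpenImmersion V.ι)⟩

theorem isAlgSpace_openSubSp {F : Sp S} (hF : IsAlgSpace F) (W : Set (Points F)) (hW : IsOpen W) :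
    IsAlgSpace (openSubSp F W) :=
  Groth.Agent.H49.isAlgSpace_of_representable_to (openSubι F W)
    (repWith_isOpenImmersion_openSubι W hW).rep hF

/-- Open subsets of `|X|` come from open subspaces. -/
theorem exists_open_subspace {F : Sp S} (hF : IsAlgSpace F) (W : Set (Points F)) (hW : IsOpen W) :
    ∃ (F' : Sp S) (j : F' ⟶ F), IsAlgSpace F' ∧ RepWith @IsOpenImmersion j ∧
      Set.range (Points.map j) = W :=
  ⟨openSubSp F W, openSubι F W, isAlgSpace_openSubSp hF W hW,
    repWith_isOpenImmersion_openSubι W hW, range_map_openSubι W⟩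

/-- Monomorphisms of sheaves are injective on points. -/
theorem injective_map_of_mono {F G : Sp S} (j : F ⟶ G) [Mono j] :
    Function.Injective (Points.map j) := by
  intro x y hxy
  have sq : IsPullback (𝟙 F) (𝟙 F) j j := (IsKernelPair.id_of_mono j)
  obtain ⟨z, hz1, hz2⟩ := points_exists_of_isPullback sq x y hxy
  rw [Points.map_id] at hz1 hz2
  exact hz1.symm.trans hz2

/-- `RepWith P` can be checked after composing with a monomorphism. -/
theorem repWith_of_comp_mono {P : MorphismProperty Scheme.{u}} [P.RespectsIso] {F G' G : Sp S}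
    (a' : F ⟶ G') (j : G' ⟶ G) [Mono j] (h : RepWith P (a' ≫ j)) : RepWith P a' := by
  refine MorphismProperty.relative.of_exists ?_
  intro T g
  have sq := h.rep.isPullback (g ≫ j)
  exact ⟨_, _, _, Groth.Agent.H49.isPullback_of_comp_mono j sq, h.property_snd (g ≫ j)⟩

/-- A cartesian square `R = U ×_X U` over an etale chart gives an etale equivalence relation. -/
theorem isEtaleEqvRel_of_isPullback {F : Sp S} {R U : Over S} (s t : R ⟶ U)
    (a : (yon S).obj U ⟶ F) (ha : RepWith @Etale a)
    (sq : IsPullback ((yon S).map t) ((yon S).map s) a a) : IsEtaleEqvRel s t := by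
  have key : ∀ (T : Over S) (x y : T ⟶ U),
      (∃ r : T ⟶ R, r ≫ t = x ∧ r ≫ s = y) ↔ (yon S).map x ≫ a = (yon S).map y ≫ a := by
    intro T x y
    constructor
    · rintro ⟨r, rfl, rfl⟩
      rw [Functor.map_comp, Functor.map_comp, Category.assoc, Category.assoc, sq.w]
    · intro h
      obtain ⟨r, hr⟩ := (yon S).map_surjective (sq.lift _ _ h)
      refine ⟨r, (yon S).map_injective ?_, (yon S).map_injective ?_⟩
      · rw [Functor.map_comp, hr, sq.lift_fst]
      · rw [Functor.map_comp, hr, sq.lift_snd]
  refine ⟨⟨?_, ?_⟩, ?_, ?_⟩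
  · intro T r r' h1 h2
    apply (yon S).map_injective
    apply sq.hom_ext
    · rw [← Functor.map_comp, ← Functor.map_comp, h1]
    · rw [← Functor.map_comp, ← Functor.map_comp, h2]
  · intro T
    refine ⟨fun x => (key T x x).2 rfl, fun {x y} h => (key T y x).2 ((key T x y).1 h).symm,
      fun {x y z} h1 h2 => (key T x z).2 (((key T x y).1 h1).trans ((key T y z).1 h2))⟩
  · exact ha.property a _ s sq
  · exact ha.property a _ t sq.flip

theorem isPresentation_of_open_image {F F' : Sp S} {U : Over S}
    (a : (yon S).obj U ⟶ F) (ha : RepWith @Etale a) (j : F' ⟶ F)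
    (hj : RepWith @IsOpenImmersion j)
    (himage : Set.range (Points.map j) = Set.range (Points.ofPt a)) :
    ∃ a' : (yon S).obj U ⟶ F', a' ≫ j = a ∧ RepWith @Etale a' ∧ RepWith @Surjective a' ∧
      ∀ (R : Over S) (s t : R ⟶ U), IsPullback ((yon S).map t) ((yon S).map s) a a →
        IsPresentation s t a' := by
  have hm : Mono j := Groth.Agent.H49.mono_of_repWith_mono isOpenImmersion_le_mono j hj
  obtain ⟨a', ha'⟩ := exists_factor_of_isOpenImmersion j hj a (by
    rw [range_map_eq_range_ofPt, himage])
  subst ha'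
  have he : RepWith @Etale a' := repWith_of_comp_mono a' j ha
  have hs : RepWith @Surjective a' := by
    refine repWith_surjective_of_surjective_ofPt a' he.rep ?_
    intro x'
    obtain ⟨u, hu⟩ : Points.map j x' ∈ Set.range (Points.ofPt (a' ≫ j)) := himage ▸ ⟨x', rfl⟩
    refine ⟨u, injective_map_of_mono j ?_⟩
    rw [Points.map_ofPt, hu]
  refine ⟨a', rfl, he, hs, ?_⟩
  intro R s t sq
  have sq' : IsPullback ((yon S).map t) ((yon S).map s) a' a' :=
    Groth.Agent.H49.isPullback_of_comp_mono j sq
  exact ⟨isEtaleEqvRel_of_isPullback s t a' he sq', he, hs, sq'⟩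

end Groth.Agent.H51
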