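import Groth.Agent.H52.EqvRelGeom
import Groth.Agent.H52.Epi
import Groth.Agent.H51.SpEtale
import Groth.Agent.H51.SpOpen
import Mathlib.AlgebraicGeometry.Morphisms.QuasiFinite

set_option autoImplicit false
universe u
open CategoryTheory CategoryTheory.Limits AlgebraicGeometry Opposite MorphismProperty

namespace Groth.Agent.H51

open AlgSp Groth.Agent.H50 Groth.Agent.H49

variable {S : Scheme.{u}}

/-- A sheaf with an etale surjective field-valued point whose self fibre product is finite over the
point is (the sheaf of) the spectrum of a field. -/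
theorem exists_iso_spec_field_of_finite {X : Sp S} (q : FieldPt X)
    (hp : RepWith @Etale q.toHom) (hs : RepWith @Surjective q.toHom) {R : Over S}
    (pr₁ pr₂ : R ⟶ q.pt)
    (hR : IsPullback ((yon S).map pr₁) ((yon S).map pr₂) q.toHom q.toHom) [IsFinite pr₁.left] :
    ∃ (p : FieldPt X) (c : q.pt ⟶ p.pt), (yon S).map c ≫ p.toHom = q.toHom ∧ IsIso p.toHom ∧
      IsFinite c.left ∧ Etale c.left := by
  obtain ⟨p, c, h1, hm, hfin, -⟩ := Groth.Agent.H52.exists_mono_point_of_finite q pr₁ pr₂ hR
  have hepi : Epi q.toHom := Groth.Agent.H52.epi_of_repWith_etale_surjective _ hp hs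
  have hepi' : Epi p.toHom := by
    rw [← h1] at hepi
    exact epi_of_epi ((yon S).map c) p.toHom
  have hiso : IsIso p.toHom := Balanced.isIso_of_mono_of_epi _
  refine ⟨p, c, h1, hiso, hfin, ?_⟩
  have h2 : RepWith @Etale ((yon S).map c) := by
    have h3 : (yon S).map c = q.toHom ≫ inv p.toHom := by
      rw [← h1, Category.assoc, IsIso.hom_inv_id, Category.comp_id]
    rw [h3]
    exact (RepWith @Etale).comp_mem _ _ hp
      ((RepWith @Etale).of_isIso (inv p.toHom))
  exact (repWith_yon_map_iff _ _).1 h2

end Groth.Agent.H51
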