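import Mathlib.AlgebraicGeometry.Cover.MorphismProperty
import Groth.Agent.H51.SpBasic
import Mathlib.AlgebraicGeometry.Morphisms.FlatDescent
import Mathlib.AlgebraicGeometry.Morphisms.LocalFlatDescent

set_option autoImplicit false
universe u
open CategoryTheory CategoryTheory.Limits AlgebraicGeometry Opposite MorphismProperty

namespace Groth.Agent.H51

open AlgSp Groth.Agent.H50

variable {S : Scheme.{u}}

/-- The comparison between the chosen pullbacks of a representable morphism along `g` and along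
`h_τ ≫ g` is a pullback square of schemes over `S`. -/
theorem exists_isPullback_snd_comp {F Y : Sp S} {c : F ⟶ Y} (hc : Representable c) {T T' : Over S}
    (g : (yon S).obj T ⟶ Y) (τ : T' ⟶ T) :
    ∃ k : hc.pullback ((yon S).map τ ≫ g) ⟶ hc.pullback g,
      (yon S).map k ≫ hc.fst g = hc.fst ((yon S).map τ ≫ g) ∧
      IsPullback k (hc.snd ((yon S).map τ ≫ g)) (hc.snd g) τ := by
  have hw : hc.fst ((yon S).map τ ≫ g) ≫ c =
      (yon S).map (hc.snd ((yon S).map τ ≫ g) ≫ τ) ≫ g := by
    rw [hc.w, Functor.map_comp, Category.assoc]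
  refine ⟨hc.lift _ _ hw, hc.lift_fst _ _ hw, ?_⟩
  have hcomm : hc.lift _ _ hw ≫ hc.snd g = hc.snd ((yon S).map τ ≫ g) ≫ τ := hc.lift_snd _ _ hw
  refine IsPullback.of_map (yon S) hcomm ?_
  have big := hc.isPullback ((yon S).map τ ≫ g)
  have right := hc.isPullback g
  refine IsPullback.of_right ?_ (by rw [← Functor.map_comp, ← Functor.map_comp, hcomm]) right
  rw [hc.lift_fst _ _ hw]
  exact big

/-- Independence of the chosen pullback. -/
theorem prop_snd_iff_of_isPullback (P : MorphismProperty Scheme.{u}) [P.RespectsIso]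
    {F Y : Sp S} {c : F ⟶ Y} (hc : Representable c) {T V : Over S} (g : (yon S).obj T ⟶ Y)
    (fst : (yon S).obj V ⟶ F) (snd : V ⟶ T) (sq : IsPullback fst ((yon S).map snd) c g) :
    P snd.left ↔ P (hc.snd g).left := by
  let e := sq.isoIsPullback _ _ (hc.isPullback g)
  have he : e.hom ≫ (yon S).map (hc.snd g) = (yon S).map snd :=
    sq.isoIsPullback_hom_snd _ _ (hc.isPullback g)
  let e' : V ≅ hc.pullback g := (yon S).preimageIso e
  have he' : e'.hom ≫ hc.snd g = snd := by
    apply (yon S).map_injective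
    rw [Functor.map_comp]
    simpa [e'] using he
  rw [← he', Over.comp_left]
  have : IsIso e'.hom.left := inferInstanceAs (IsIso ((Over.forget S).map e'.hom))
  exact P.cancel_left_of_respectsIso _ _

theorem prop_snd_comp (P : MorphismProperty Scheme.{u}) [P.IsStableUnderBaseChange]
    {F Y : Sp S} {c : F ⟶ Y} (hc : Representable c) {T T' : Over S}
    (g : (yon S).obj T ⟶ Y) (τ : T' ⟶ T) (h : P (hc.snd g).left) :
    P (hc.snd ((yon S).map τ ≫ g)).left := by
  obtain ⟨k, -, sq⟩ := exists_isPullback_snd_comp hc g τ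
  exact P.of_isPullback (sq.map (Over.forget S)) h

theorem prop_snd_of_comp (P Q : MorphismProperty Scheme.{u}) [P.DescendsAlong Q]
    {F Y : Sp S} {c : F ⟶ Y} (hc : Representable c) {T T' : Over S}
    (g : (yon S).obj T ⟶ Y) (τ : T' ⟶ T) (hτ : Q τ.left)
    (h : P (hc.snd ((yon S).map τ ≫ g)).left) : P (hc.snd g).left := by
  obtain ⟨k, -, sq⟩ := exists_isPullback_snd_comp hc g τ
  exact DescendsAlong.of_isPullback (sq.map (Over.forget S)).flip hτ h

/-- A representable morphism whose base change to an etale atlas has `P` is `RepWith P`, for `P`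
stable under base change and fppf local on the target. -/
theorem repWith_of_atlas (P : MorphismProperty Scheme.{u}) [P.IsStableUnderBaseChange]
    [P.DescendsAlong (@Surjective ⊓ @Flat ⊓ @LocallyOfFinitePresentation)]
    {F Y : Sp S} {c : F ⟶ Y} (hc : Representable c) {V : Over S} (b : (yon S).obj V ⟶ Y)
    (hb : RepWith @Etale b) (hbs : RepWith @Surjective b) (h : P (hc.snd b).left) :
    RepWith P c := by
  have : P.RespectsIso := MorphismProperty.IsStableUnderBaseChange.respectsIso
  refine ⟨hc, ?_⟩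
  intro T W g fst snd sq
  change P snd.left
  rw [prop_snd_iff_of_isPullback P hc g fst snd sq]
  have hτ1 : Etale (hb.rep.snd g).left := hb.property_snd g
  have hτ2 : Surjective (hb.rep.snd g).left := hbs.property_snd g
  refine prop_snd_of_comp P (@Surjective ⊓ @Flat ⊓ @LocallyOfFinitePresentation) hc g
    (hb.rep.snd g) ⟨⟨hτ2, inferInstance⟩, inferInstance⟩ ?_
  have hw : (yon S).map (hb.rep.fst' g) ≫ b = (yon S).map (hb.rep.snd g) ≫ g :=
    (hb.rep.isPullback' g).w
  rw [← hw]
  exact prop_snd_comp P hc b _ h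

/-- A morphism between two etale charts of a sheaf is etale. -/
theorem etale_of_chart_hom {Z : Sp S} {U W : Over S} (a : (yon S).obj U ⟶ Z)
    (b : (yon S).obj W ⟶ Z) (ha : RepWith @Etale a) (hb : RepWith @Etale b) (k : U ⟶ W)
    (hk : (yon S).map k ≫ b = a) : Etale k.left := by
  have sq := hb.rep.isPullback' a
  have h1 : Etale (hb.rep.snd a).left := hb.property_snd a
  have h2 : Etale (hb.rep.fst' a).left := ha.property b _ _ sq.flip
  have hw : (yon S).map k ≫ b = (yon S).map (𝟙 U) ≫ a := by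
    rw [hk, CategoryTheory.Functor.map_id, Category.id_comp]
  let σ : U ⟶ hb.rep.pullback a := hb.rep.lift' k (𝟙 U) hw
  have hσ1 : σ ≫ hb.rep.fst' a = k := hb.rep.lift'_fst k (𝟙 U) hw
  have hσ2 : σ ≫ hb.rep.snd a = 𝟙 U := hb.rep.lift'_snd k (𝟙 U) hw
  have hσ2' : σ.left ≫ (hb.rep.snd a).left = 𝟙 U.left := by
    rw [← Over.comp_left, hσ2]; rfl
  have : Etale (σ.left ≫ (hb.rep.snd a).left) := by rw [hσ2']; infer_instance
  have : Etale σ.left := Etale.of_comp σ.left (hb.rep.snd a).left
  rw [← hσ1, Over.comp_left]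
  infer_instance

theorem s10188 (P : Scheme.{u} → Prop)
    (hP : ∀ (V : Scheme.{u}) (𝒰 : Scheme.Cover.{u} (Scheme.precoverage @Etale) V), P V ↔ ∀ i, P (𝒰.X i))
    (X : AlgSp.Space S) :
    AlgSp.EtaleLocally P X.obj ↔
      ∀ (U : Over S) (a : (AlgSp.yon S).obj U ⟶ X.obj), AlgSp.RepWith @Etale a → P U.left := by
  constructor
  · rintro ⟨W, p, hp, hps, hPW⟩ U a ha
    have sq := hp.rep.isPullback' a
    have hr1 : Etale (hp.rep.snd a).left := hp.property_snd a
    have hr2 : Surjective (hp.rep.snd a).left := hps.property_snd a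
    have hq : Etale (hp.rep.fst' a).left := ha.property p _ _ sq.flip
    let 𝒰 : Scheme.Cover.{u} (Scheme.precoverage @Etale) W.left :=
      (Scheme.coverOfIsIso.{u} (𝟙 W.left)).add (hp.rep.fst' a).left hq
    have hT : P (hp.rep.pullback a).left := (hP W.left 𝒰).1 hPW none
    let 𝒱 : Scheme.Cover.{u} (Scheme.precoverage @Etale) U.left :=
      Scheme.Cover.mkOfCovers PUnit.{u + 1} (fun _ => (hp.rep.pullback a).left)
        (fun _ => (hp.rep.snd a).left)
        (fun x => ⟨⟨⟩, hr2.surj x⟩) (fun _ => hr1)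
    exact (hP U.left 𝒱).2 fun _ => hT
  · intro h
    obtain ⟨U, p, hp, hps⟩ := X.property.atlas
    exact ⟨U, p, hp, hps, h U p hp⟩

end Groth.Agent.H51
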