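import Groth.Agent.H51.SpSep
import Groth.Agent.H51.SpEtale
import Groth.Agent.H51.SpRep
import Groth.Agent.H49.DiagPullback
import Mathlib.AlgebraicGeometry.Morphisms.Separated
import Groth.Agent.H49.FppfLocal
import Groth.Agent.H49.AlgSpDiagProps
import Mathlib.AlgebraicGeometry.PullbackCarrier
import Mathlib.AlgebraicGeometry.Morphisms.QuasiSeparated

set_option autoImplicit false
universe u
open CategoryTheory CategoryTheory.Limits AlgebraicGeometry Opposite MorphismProperty

namespace Groth.Agent.H51

open AlgSp Groth.Agent.H50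

variable {S : Scheme.{u}}

theorem exists_of_isPullback_scheme {A X Y Z : Scheme.{u}} {fst : A ⟶ X} {snd : A ⟶ Y} {f : X ⟶ Z}
    {g : Y ⟶ Z} (sq : IsPullback fst snd f g) (x : X) (y : Y) (h : f x = g y) :
    ∃ a : A, fst a = x ∧ snd a = y := by
  obtain ⟨z, hz1, hz2⟩ := Scheme.Pullback.exists_preimage_pullback x y h
  refine ⟨sq.isoPullback.inv z, ?_, ?_⟩
  · rw [← Scheme.Hom.comp_apply, sq.isoPullback_inv_fst, hz1]
  · rw [← Scheme.Hom.comp_apply, sq.isoPullback_inv_snd, hz2]

/-- Quasi-compactness descends along fppf covers. -/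
instance quasiCompact_descendsAlong_fppf :
    MorphismProperty.DescendsAlong (@QuasiCompact : MorphismProperty Scheme.{u})
      (@Surjective ⊓ @Flat ⊓ @LocallyOfFinitePresentation) where
  of_isPullback {A X Y Z fst snd f g} sq hf hfst := by
    obtain ⟨⟨hf1, hf2⟩, hf3⟩ := hf
    have : Surjective f := hf1
    have : Flat f := hf2
    have : LocallyOfFinitePresentation f := hf3
    have : QuasiCompact fst := hfst
    refine ⟨fun V hV hVc => ?_⟩
    obtain ⟨V', hV'c, hV'⟩ := f.isOpenMap.exists_opens_image_eq_of_prespectralSpace f.continuous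
      (by rw [Set.range_eq_univ.2 f.surjective]; exact Set.subset_univ _) hV hVc
    have h1 : IsCompact (fst ⁻¹' (V' : Set X)) :=
      QuasiCompact.isCompact_preimage _ V'.isOpen hV'c
    have h2 : g ⁻¹' V = snd '' (fst ⁻¹' (V' : Set X)) := by
      ext y
      constructor
      · intro hy
        have hy' : g y ∈ f '' (V' : Set X) := hV'.symm ▸ hy
        obtain ⟨x, hx, hxy⟩ := hy'
        obtain ⟨a, ha1, ha2⟩ := exists_of_isPullback_scheme sq x y hxy
        exact ⟨a, by simpa [ha1] using hx, ha2⟩
      · rintro ⟨a, ha, rfl⟩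
        have : g (snd a) = f (fst a) := by
          rw [← Scheme.Hom.comp_apply, ← Scheme.Hom.comp_apply, sq.w]
        change g (snd a) ∈ V
        rw [this, ← hV']
        exact ⟨fst a, ha, rfl⟩
    rw [h2]
    exact h1.image snd.continuous

instance quasiCompact_isLocalAtTarget_fppf :
    MorphismProperty.IsLocalAtTarget (@QuasiCompact : MorphismProperty Scheme.{u})
      Scheme.fppfPrecoverage :=
  Groth.Agent.H49.isLocalAtTarget_fppf_of_descendsAlong _

theorem quasiSeparated_prod_fst_left (U V : Over S) [QuasiSeparatedSpace ↥V.left] :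
    QuasiSeparated (prod.fst : U ⨯ V ⟶ U).left := by
  have hpb : IsPullback (prod.fst : U ⨯ V ⟶ U).left (prod.snd : U ⨯ V ⟶ V).left U.hom V.hom :=
    Over.isPullback_of_binaryFan_isLimit (BinaryFan.mk prod.fst prod.snd) (prodIsProd U V)
  have h : QuasiSeparated V.hom := inferInstance
  exact MorphismProperty.of_isPullback (P := @QuasiSeparated) hpb.flip h

theorem s10182 (X : AlgSp.Space S) {R U : Over S}
    (p : (AlgSp.yon S).obj U ⟶ X.obj) (hp : AlgSp.RepWith @Etale p) (hs : AlgSp.RepWith @Surjective p)
    [QuasiSeparatedSpace ↥U.left] (s t : R ⟶ U)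
    (hR : IsPullback ((AlgSp.yon S).map t) ((AlgSp.yon S).map s) p p) [QuasiCompact t.left] :
    AlgSp.IsQuasiSeparatedSp X.obj := by
  refine Groth.Agent.H49.repWith_diag_of_atlas @QuasiCompact X.property p hp hs s t hR ?_
  have := quasiSeparated_prod_fst_left U U
  have e : (prod.lift t s).left ≫ (prod.fst : U ⨯ U ⟶ U).left = t.left := by
    rw [← Over.comp_left, prod.lift_fst]
  have : QuasiCompact ((prod.lift t s).left ≫ (prod.fst : U ⨯ U ⟶ U).left) := by
    rw [e]; infer_instance
  exact QuasiCompact.of_comp _ (prod.fst : U ⨯ U ⟶ U).left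

/-- If `P = U ×_X V` then `P ⟶ U × V` (in `Over S`) is a base change of the diagonal of `X`. -/
theorem prop_prod_lift_of_repWith_diag {Q : MorphismProperty Scheme.{u}} {X : Sp S}
    (hX : RepWith Q (Limits.diag X)) {U V P : Over S}
    {a : (yon S).obj U ⟶ X} {b : (yon S).obj V ⟶ X} {fst : P ⟶ U} {snd : P ⟶ V}
    (h : IsPullback ((yon S).map fst) ((yon S).map snd) a b) :
    Q (prod.lift fst snd).left := by
  have sq := Groth.Agent.H49.isPullback_diag_prodMap h
  have e1 : prod.lift ((yon S).map fst) ((yon S).map snd) =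
      (yon S).map (prod.lift fst snd) ≫ prodComparison (yon S) U V := by
    apply Limits.prod.hom_ext
    · rw [Category.assoc, prodComparison_fst, ← Functor.map_comp, prod.lift_fst, prod.lift_fst]
    · rw [Category.assoc, prodComparison_snd, ← Functor.map_comp, prod.lift_snd, prod.lift_snd]
  rw [e1] at sq
  have sq' : IsPullback ((yon S).map fst ≫ a) ((yon S).map (prod.lift fst snd)) (Limits.diag X)
      (prodComparison (yon S) U V ≫ prod.map a b) := by
    refine ⟨⟨by rw [sq.w, Category.assoc]⟩, ⟨PullbackCone.IsLimit.mk _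
      (fun s => sq.lift s.fst (s.snd ≫ prodComparison (yon S) U V)
        (by rw [s.condition, Category.assoc])) (fun s => by simp) (fun s => ?_)
      (fun s m h1 h2 => ?_)⟩⟩
    · rw [← cancel_mono (prodComparison (yon S) U V), Category.assoc, sq.lift_snd]
    · apply sq.hom_ext
      · rw [sq.lift_fst, h1]
      · rw [sq.lift_snd, ← h2, Category.assoc]
  exact hX.property _ _ _ sq'

theorem compactSpace_prod_left [QuasiSeparatedSpace ↥S] (U V : Over S) [CompactSpace ↥U.left]
    [CompactSpace ↥V.left] : CompactSpace ↥(U ⨯ V).left := by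
  have : QuasiCompact U.hom := inferInstance
  have : CompactSpace ↥(pullback U.hom V.hom) := inferInstance
  exact (Over.prodLeftIsoPullback U V).inv.homeomorph.compactSpace

theorem s10185 [QuasiSeparatedSpace ↥S]
    (X : AlgSp.Space S) (hX : AlgSp.IsQuasiSeparatedSp X.obj) (U V P : Over S) (a : (AlgSp.yon S).obj U ⟶ X.obj) (b : (AlgSp.yon S).obj V ⟶ X.obj)
      (fst : P ⟶ U) (snd : P ⟶ V)
    [CompactSpace ↥U.left] [CompactSpace ↥V.left]
    (h : IsPullback ((AlgSp.yon S).map fst) ((AlgSp.yon S).map snd) a b) :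
    CompactSpace ↥P.left := by
  have hq : QuasiCompact (prod.lift fst snd).left := prop_prod_lift_of_repWith_diag hX h
  have := compactSpace_prod_left U V
  exact QuasiCompact.compactSpace_of_compactSpace (prod.lift fst snd).left

/-- For `P` Zariski local on the target, it suffices to check the base changes to affine schemes. -/
theorem prop_snd_of_forall_affine (P : MorphismProperty Scheme.{u}) [IsZariskiLocalAtTarget P]
    {F Y : Sp S} {c : F ⟶ Y} (hc : Representable c)
    (h : ∀ (T : Over S) (g : (yon S).obj T ⟶ Y), IsAffine T.left → P (hc.snd g).left)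
    (T : Over S) (g : (yon S).obj T ⟶ Y) : P (hc.snd g).left := by
  refine IsZariskiLocalAtTarget.of_openCover T.left.affineCover fun i => ?_
  let T' : Over S := Over.mk (T.left.affineCover.f i ≫ T.hom)
  let τ : T' ⟶ T := Over.homMk (T.left.affineCover.f i) rfl
  obtain ⟨k, -, sq⟩ := exists_isPullback_snd_comp hc g τ
  have sq' : IsPullback k.left (hc.snd ((yon S).map τ ≫ g)).left (hc.snd g).left
      (T.left.affineCover.f i) := sq.map (Over.forget S)
  have h1 : P (hc.snd ((yon S).map τ ≫ g)).left :=
    h T' ((yon S).map τ ≫ g) (show IsAffine (T.left.affineCover.X i) from inferInstance)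
  have e : sq'.isoPullback.hom ≫ pullback.snd (hc.snd g).left (T.left.affineCover.f i) =
      (hc.snd ((yon S).map τ ≫ g)).left := sq'.isoPullback_hom_snd
  change P (pullback.snd (hc.snd g).left (T.left.affineCover.f i))
  rw [← P.cancel_left_of_respectsIso sq'.isoPullback.hom, e]
  exact h1

theorem repWith_of_forall_affine (P : MorphismProperty Scheme.{u}) [IsZariskiLocalAtTarget P]
    {F Y : Sp S} {c : F ⟶ Y} (hc : Representable c)
    (h : ∀ (T : Over S) (g : (yon S).obj T ⟶ Y), IsAffine T.left → P (hc.snd g).left) :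
    RepWith P c := by
  refine ⟨hc, ?_⟩
  intro T W g fst snd sq
  change P snd.left
  rw [prop_snd_iff_of_isPullback P hc g fst snd sq]
  exact prop_snd_of_forall_affine P hc h T g

theorem isClosedImmersion_diag_left (T : Over S) [IsSeparated T.hom] :
    IsClosedImmersion (Limits.diag T).left := by
  have e := diag_left_comp_prodLeftIsoPullback T
  have h : IsClosedImmersion (pullback.diagonal T.hom) := inferInstance
  rw [← e] at h
  exact (MorphismProperty.cancel_right_of_respectsIso @IsClosedImmersion _ _).1 h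

theorem prod_lift_yon_map {U V P : Over S} (p₁ : P ⟶ U) (p₂ : P ⟶ V) :
    prod.lift ((yon S).map p₁) ((yon S).map p₂) =
      (yon S).map (prod.lift p₁ p₂) ≫ prodComparison (yon S) U V := by
  apply Limits.prod.hom_ext
  · rw [Category.assoc, prodComparison_fst, ← Functor.map_comp, prod.lift_fst, prod.lift_fst]
  · rw [Category.assoc, prodComparison_snd, ← Functor.map_comp, prod.lift_snd, prod.lift_snd]

/-- The base change of the diagonal of `X` along `g : h_T ⟶ X × X` is, as a scheme over `T`,
a base change of the diagonal of `T` along `P = T ×_X T ⟶ T × T`. -/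
theorem exists_isPullback_diag_left {X : Sp S} {T W P : Over S} (g : (yon S).obj T ⟶ X ⨯ X)
    {fst : (yon S).obj W ⟶ X} {snd : W ⟶ T} (sqW : IsPullback fst ((yon S).map snd) (Limits.diag X) g)
    {p₁ p₂ : P ⟶ T}
    (sqP : IsPullback ((yon S).map p₁) ((yon S).map p₂) (g ≫ prod.fst) (g ≫ prod.snd)) :
    ∃ k : W ⟶ P, IsPullback k.left snd.left (prod.lift p₁ p₂).left (Limits.diag T).left := by
  obtain ⟨k, hk⟩ := Groth.Agent.H49.exists_isPullback_diag_of_isPullback sqW sqP
  obtain ⟨k, rfl⟩ := (yon S).map_surjective k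
  rw [prod_lift_yon_map, diag_yon_obj] at hk
  have hk' := Groth.Agent.H49.isPullback_of_comp_mono _ hk
  have hk'' : IsPullback k snd (prod.lift p₁ p₂) (Limits.diag T) :=
    IsPullback.of_map (yon S) (by
      apply (yon S).map_injective
      rw [Functor.map_comp, Functor.map_comp]
      exact hk'.w) hk'
  exact ⟨k, hk''.map (Over.forget S)⟩

theorem s10184 (X : AlgSp.Space S)
    (h : ∀ (U V P : Over S) (a : (AlgSp.yon S).obj U ⟶ X.obj) (b : (AlgSp.yon S).obj V ⟶ X.obj)
      (fst : P ⟶ U) (snd : P ⟶ V),
      IsAffine U.left → IsAffine V.left →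
      IsPullback ((AlgSp.yon S).map fst) ((AlgSp.yon S).map snd) a b → CompactSpace ↥P.left) :
    AlgSp.IsQuasiSeparatedSp X.obj := by
  have hc := X.property.diag
  refine repWith_of_forall_affine @QuasiCompact hc ?_
  intro T g hT
  have ha : Representable (g ≫ prod.fst) := X.property.representable_from_yon _
  have sqP := ha.isPullback' (g ≫ prod.snd)
  have hPc : CompactSpace ↥(ha.pullback (g ≫ prod.snd)).left := h _ _ _ _ _ _ _ hT hT sqP
  obtain ⟨k, hk⟩ := exists_isPullback_diag_left g (hc.isPullback g) sqP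
  have : IsSeparated T.hom := inferInstance
  have := isClosedImmersion_diag_left T
  have hkc : IsClosedImmersion k.left := MorphismProperty.of_isPullback hk.flip this
  have : CompactSpace ↥(hc.pullback g).left := QuasiCompact.compactSpace_of_compactSpace k.left
  exact quasiCompact_of_compactSpace _

theorem s10183 (X : AlgSp.Space S) {R U : Over S}
    (a : (AlgSp.yon S).obj U ⟶ X.obj) (ha : AlgSp.RepWith @Etale a) (s t : R ⟶ U)
    (hR : IsPullback ((AlgSp.yon S).map t) ((AlgSp.yon S).map s) a a)
    [QuasiCompact s.left] [QuasiCompact t.left] (x : AlgSp.Points X.obj) :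
    (AlgSp.Points.ofPt a ⁻¹' {x}).Finite ∧
      (AlgSp.Points.ofPt ((AlgSp.yon S).map t ≫ a) ⁻¹' {x}).Finite := by
  have hte : Etale t.left := ha.property a _ t hR.flip
  have : LocallyQuasiFinite t.left := locallyQuasiFinite_of_formallyUnramified t.left
  have hfib : ∀ u : ↥U.left, (t.left ⁻¹' {u}).Finite := fun u =>
    Scheme.Hom.finite_preimage_singleton t.left u
  have h1 : (AlgSp.Points.ofPt a ⁻¹' {x}).Finite := by
    by_cases hne : (AlgSp.Points.ofPt a ⁻¹' {x}).Nonempty
    · obtain ⟨u₀, hu₀⟩ := hne
      refine ((hfib u₀).image s.left).subset ?_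
      intro u hu
      have h : Points.ofPt a u₀ = Points.ofPt a u := by
        rw [Set.mem_preimage, Set.mem_singleton_iff] at hu hu₀
        rw [hu, hu₀]
      obtain ⟨r, hr1, hr2⟩ := exists_of_ofPt_eq hR u₀ u h
      exact ⟨r, hr1, hr2⟩
    · rw [Set.not_nonempty_iff_eq_empty] at hne
      rw [hne]
      exact Set.finite_empty
  refine ⟨h1, ?_⟩
  have : AlgSp.Points.ofPt ((AlgSp.yon S).map t ≫ a) ⁻¹' {x} =
      t.left ⁻¹' (AlgSp.Points.ofPt a ⁻¹' {x}) := by
    ext r
    simp only [Set.mem_preimage, Set.mem_singleton_iff]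
    rw [ofPt_map_comp]
  rw [this]
  exact h1.preimage' fun u _ => hfib u

end Groth.Agent.H51
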