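import Groth.Agent.H52.EqvRelGeom
import Groth.Agent.H52.Epi
import Groth.Agent.H51.SpEtale
import Groth.Agent.H51.SpOpen
import Groth.Agent.H51.SpQc
import Groth.Agent.H51.SpField0
import Mathlib.AlgebraicGeometry.Morphisms.QuasiFinite
import Mathlib.AlgebraicGeometry.Artinian

set_option autoImplicit false
universe u
open CategoryTheory CategoryTheory.Limits AlgebraicGeometry Opposite MorphismProperty

namespace Groth.Agent.H51

open AlgSp Groth.Agent.H50 Groth.Agent.H49

variable {S : Scheme.{u}}

/-- Any morphism from the spectrum of a field is quasi-compact. -/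
theorem quasiCompact_of_field {k : Type u} [Field k] {Y : Scheme.{u}}
    (f : Spec (CommRingCat.of k) ⟶ Y) : QuasiCompact f := by
  refine ⟨fun U _ _ => ?_⟩
  haveI : Finite ↥(Spec (CommRingCat.of k)) :=
    inferInstanceAs (Finite (PrimeSpectrum k))
  exact (Set.toFinite _).isCompact

/-- A scheme etale and quasi-compact over the spectrum of a field is finite over it. -/
theorem isFinite_of_etale_of_compact {k : Type u} [Field k] {R : Scheme.{u}}
    (f : R ⟶ Spec (CommRingCat.of k)) [Etale f] [CompactSpace ↥R] : IsFinite f := by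
  haveI : LocallyQuasiFinite f := locallyQuasiFinite_of_formallyUnramified f
  haveI : IsLocallyArtinian (Spec (CommRingCat.of k)) :=
    Scheme.isLocallyArtinianScheme_Spec.mpr (inferInstanceAs (IsArtinianRing k))
  exact IsFinite.of_locallyQuasiFinite f

end Groth.Agent.H51

namespace Groth.Agent.H51
open AlgSp Groth.Agent.H50 Groth.Agent.H49
variable {S : Scheme.{u}}

/-- **S10205**. -/
theorem s10205 (X : AlgSp.Space S)
    (hX : AlgSp.IsQuasiSeparatedSp X.obj) (k : Type u) [Field k] (str : Spec (CommRingCat.of k) ⟶ S)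
    (p : (AlgSp.yon S).obj (Over.mk str) ⟶ X.obj) (hp : AlgSp.RepWith @Etale p)
    (hs : AlgSp.RepWith @Surjective p) :
    ∃ (k' : Type u) (_ : Field k') (str' : Spec (CommRingCat.of k') ⟶ S)
      (e : (AlgSp.yon S).obj (Over.mk str') ≅ X.obj) (c : Over.mk str ⟶ Over.mk str'),
      (AlgSp.yon S).map c ≫ e.hom = p ∧ IsFinite c.left ∧ Etale c.left := by
  let q : FieldPt X.obj := Groth.Agent.H52.fieldPtOfHom str p
  have hq : q.toHom = p := Groth.Agent.H52.toHom_fieldPtOfHom str p
  let U : Over S := Over.mk str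
  let R : Over S := hp.rep.pullback p
  let pr₁ : R ⟶ U := hp.rep.fst' p
  let pr₂ : R ⟶ U := hp.rep.snd p
  have sq : IsPullback ((yon S).map pr₁) ((yon S).map pr₂) p p := hp.rep.isPullback' p
  have hE : Etale pr₁.left := hp.property _ _ _ sq.flip
  -- `R` is quasi-compact
  have hqc : QuasiCompact (prod.lift pr₁ pr₂).left := prop_prod_lift_of_repWith_diag hX sq
  haveI : CompactSpace ↥(U ⨯ U).left := by
    have : QuasiCompact U.hom := quasiCompact_of_field str
    have : CompactSpace ↥U.left := inferInstanceAs (CompactSpace ↥(Spec (CommRingCat.of k)))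
    have : CompactSpace ↥(pullback U.hom U.hom) := inferInstance
    exact (Over.prodLeftIsoPullback U U).inv.homeomorph.compactSpace
  haveI : CompactSpace ↥R.left := QuasiCompact.compactSpace_of_compactSpace (prod.lift pr₁ pr₂).left
  haveI : IsFinite pr₁.left := isFinite_of_etale_of_compact (k := k) pr₁.left
  have sq' : IsPullback ((yon S).map pr₁) ((yon S).map pr₂) q.toHom q.toHom := by rw [hq]; exact sq
  obtain ⟨p', c, h1, hiso, hfin, het⟩ := exists_iso_spec_field_of_finite q (hq ▸ hp) (hq ▸ hs)
    pr₁ pr₂ sq'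
  exact ⟨p'.K, inferInstance, p'.str, asIso p'.toHom, c, by rw [asIso_hom, h1, hq], hfin, het⟩

end Groth.Agent.H51
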