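import Groth.Agent.H51.SpGlue2
import Groth.Agent.H51.SpField
import Mathlib.RingTheory.Unramified.Field
import Mathlib.RingTheory.KrullDimension.Zero

set_option autoImplicit false
universe u
open CategoryTheory CategoryTheory.Limits AlgebraicGeometry Opposite MorphismProperty

namespace Groth.Agent.H51

open AlgSp Groth.Agent.H50 Groth.Agent.H49

variable {S : Scheme.{u}}

theorem isRepresentable_of_iso {X : Sp S} {G : Over S} (e : (yon S).obj G ≅ X) :
    X.obj.IsRepresentable := by
  have e' : uliftYoneda.{u + 1}.obj G ≅ X.obj := (sheafToPresheaf _ _).mapIso e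
  exact ((Functor.RepresentableBy.equivUliftYonedaIso X.obj G).symm e').isRepresentable

theorem exists_iso_of_isRepresentable {X : Sp S} (h : X.obj.IsRepresentable) :
    ∃ G : Over S, Nonempty ((yon S).obj G ≅ X) := by
  obtain ⟨G, ⟨r⟩⟩ := h
  have e' : uliftYoneda.{u + 1}.obj G ≅ X.obj := Functor.RepresentableBy.equivUliftYonedaIso X.obj G r
  exact ⟨G, ⟨(fullyFaithfulSheafToPresheaf _ _).preimageIso e'⟩⟩

end Groth.Agent.H51

namespace Groth.Agent.H51
open AlgSp Groth.Agent.H50 Groth.Agent.H49
variable {S : Scheme.{u}}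

/-- A one-point scheme etale over a field is the spectrum of a field (finite over the base). -/
theorem exists_iso_spec_field_of_subsingleton {k : Type u} [Field k] {V : Scheme.{u}}
    [Subsingleton ↥V] [Nonempty ↥V] (g : V ⟶ Spec (CommRingCat.of k)) [Etale g] :
    ∃ (K : Type u) (_ : Field K) (e : Spec (CommRingCat.of K) ≅ V), IsFinite (e.hom ≫ g) := by
  haveI : Finite ↥V := Finite.of_subsingleton
  haveI : CompactSpace ↥V := Finite.compactSpace
  haveI : IsFinite g := isFinite_of_etale_of_compact g
  haveI : IsAffine V := isAffine_of_isAffineHom g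
  let A : CommRingCat.{u} := Γ(V, ⊤)
  let iso : V ≅ Spec A := V.isoSpec
  obtain ⟨ψ, hψ⟩ := Spec.map_surjective (iso.inv ≫ g)
  have hE : Etale (Spec.map ψ) := by rw [hψ]; infer_instance
  have hE' : ψ.hom.Etale := (HasRingHomProperty.Spec_iff (P := @Etale)).1 hE
  algebraize [ψ.hom]
  haveI : IsReduced A := Algebra.FormallyUnramified.isReduced_of_field k A
  haveI : Nonempty ↥(Spec A) := ⟨iso.hom (Classical.arbitrary _)⟩
  haveI : Nontrivial A := (PrimeSpectrum.nonempty_iff_nontrivial).1 ‹_›
  haveI : Subsingleton (PrimeSpectrum A) :=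
    (Scheme.homeoOfIso iso).symm.injective.subsingleton
  have hA : IsField A := PrimeSpectrum.subsingleton_iff_isField_of_isReduced.1 inferInstance
  letI := hA.toField
  refine ⟨A, inferInstance, iso.symm, ?_⟩
  change IsFinite (iso.inv ≫ g)
  infer_instance

end Groth.Agent.H51
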