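import Groth.Agent.H51.SpGlue
import Groth.Agent.H51.SpRep
import Groth.Agent.H49.AlgSpSep
import Mathlib.AlgebraicGeometry.Morphisms.Integral
import Mathlib.AlgebraicGeometry.Morphisms.Finite

set_option autoImplicit false
universe u
open CategoryTheory CategoryTheory.Limits AlgebraicGeometry Opposite MorphismProperty

namespace Groth.Agent.H51

open AlgSp Groth.Agent.H50

variable {S : Scheme.{u}}

/-- A morphism of sheaves whose base changes to all affine schemes are representable by schemes is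
representable. -/
theorem representable_of_affine_test {X Y : Sp S} (f : X ⟶ Y)
    (h : ∀ ⦃Z : Over S⦄, IsAffine Z.left → ∀ (g : (yon S).obj Z ⟶ Y),
      ∃ (W : Over S) (i : W ⟶ Z) (fst : (yon S).obj W ⟶ X), IsPullback fst ((yon S).map i) f g) :
    Representable f := by
  intro T g
  let 𝒰 := T.left.affineCover
  have hA : ∀ i, IsAffine (Groth.Agent.H53.overOf T (𝒰.f i)).left := fun i =>
    inferInstanceAs (IsAffine (𝒰.X i))
  choose W s fst sq using fun i => h (hA i) ((yon S).map (Groth.Agent.H53.overHom T (𝒰.f i)) ≫ g)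
  let p1 : pullback f g ⟶ X := pullback.fst f g
  let p2 : pullback f g ⟶ (yon S).obj T := pullback.snd f g
  have sqP : IsPullback p1 p2 f g := IsPullback.of_hasPullback f g
  have hw : ∀ i, fst i ≫ f = (yon S).map (s i ≫ Groth.Agent.H53.overHom T (𝒰.f i)) ≫ g := by
    intro i
    rw [(sq i).w, Functor.map_comp, Category.assoc]
  let j : ∀ i, (yon S).obj (W i) ⟶ pullback f g := fun i => sqP.lift (fst i) _ (hw i)
  have hj1 : ∀ i, j i ≫ p1 = fst i := fun i => sqP.lift_fst _ _ (hw i)
  have hj2 : ∀ i, j i ≫ p2 = (yon S).map (s i ≫ Groth.Agent.H53.overHom T (𝒰.f i)) :=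
    fun i => sqP.lift_snd _ _ (hw i)
  have sqj : ∀ i, IsPullback (j i) ((yon S).map (s i)) p2
      ((yon S).map (Groth.Agent.H53.overHom T (𝒰.f i))) := by
    intro i
    refine IsPullback.of_right ?_ ?_ sqP
    · rw [hj1]; exact sq i
    · rw [hj2, Functor.map_comp]
  have hopen : ∀ i, RepWith @IsOpenImmersion
      ((yon S).map (Groth.Agent.H53.overHom T (𝒰.f i))) := fun i =>
    (repWith_yon_map_iff _ _).2 (inferInstanceAs (IsOpenImmersion (𝒰.f i)))
  have hj : ∀ i, RepWith @IsOpenImmersion (j i) := fun i =>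
    (RepWith @IsOpenImmersion).of_isPullback (sqj i).flip (hopen i)
  have hcov : ∀ (V : Over S) (t : (yon S).obj V ⟶ pullback f g), ∃ R : Sieve V, R ∈ J S V ∧
      ∀ ⦃W' : Over S⦄ (w : W' ⟶ V), R w →
        ∃ (i : 𝒰.I₀) (g' : W' ⟶ W i), (yon S).map g' ≫ j i = (yon S).map w ≫ t := by
    intro V t
    obtain ⟨R, hR, hl⟩ := Groth.Agent.H53.cover_of_atlas (𝟙 ((yon S).obj T)) 𝒰 V (t ≫ p2)
    refine ⟨R, hR, fun W' w hw' => ?_⟩
    obtain ⟨i, g', hg'⟩ := hl w hw'
    rw [Category.comp_id] at hg'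
    obtain ⟨l, hl1, hl2⟩ := (sqj i).exists_lift ((yon S).map w ≫ t) ((yon S).map g')
      (by rw [Category.assoc, hg'])
    obtain ⟨g'', rfl⟩ := (yon S).map_surjective l
    exact ⟨i, g'', hl1⟩
  obtain ⟨e, he⟩ := SpGlue.exists_iso_yon hj hcov
  obtain ⟨snd, hsnd⟩ := (yon S).map_surjective (e.hom ≫ p2)
  refine ⟨SpGlue.glued hj, snd, e.hom ≫ p1, ?_⟩
  rw [hsnd]
  exact IsPullback.of_iso sqP e.symm (Iso.refl _) (Iso.refl _) (Iso.refl _) (by simp) (by simp)
    (by simp) (by simp)

/-- For a Zariski-local class `Q` of affine morphisms: the affine-test form of `Q` agrees with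
`RepWith Q`. -/
theorem affine_test_iff_repWith (Q : MorphismProperty Scheme.{u}) [IsZariskiLocalAtTarget Q]
    (hQ : ∀ {A B : Scheme.{u}} (g : A ⟶ B), Q g → IsAffineHom g) {X Y : Sp S} (f : X ⟶ Y) :
    (∀ ⦃Z : Over S⦄, IsAffine Z.left → ∀ (g : (yon S).obj Z ⟶ Y),
      ∃ (W : Over S) (i : W ⟶ Z) (fst : (yon S).obj W ⟶ X),
        IsPullback fst ((yon S).map i) f g ∧ IsAffine W.left ∧ Q i.left) ↔ RepWith Q f := by
  have : Q.RespectsIso := inferInstance
  constructor
  · intro h
    have hrep : Representable f := representable_of_affine_test f (fun Z hZ g => by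
      obtain ⟨W, i, fst, sq, -, -⟩ := h hZ g
      exact ⟨W, i, fst, sq⟩)
    refine Groth.Agent.H49.repWith_of_affine_test Q f hrep (fun T V hT ζ fst snd sq => ?_)
    obtain ⟨W, i, fst', sq', -, hQi⟩ := h hT ζ
    exact (prop_snd_iff_of_isPullback Q hrep ζ fst snd sq).2
      ((prop_snd_iff_of_isPullback Q hrep ζ fst' i sq').1 hQi)
  · intro hf Z hZ g
    refine ⟨hf.rep.pullback g, hf.rep.snd g, hf.rep.fst g, hf.rep.isPullback g, ?_,
      hf.property_snd g⟩
    have : IsAffineHom (hf.rep.snd g).left := hQ _ (hf.property_snd g)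
    exact isAffine_of_isAffineHom (hf.rep.snd g).left

theorem s10267 {X Y : AlgSp.Space S} (f : X ⟶ Y) :
    (AlgSp.IsIntegralMor f.hom ↔ AlgSp.RepWith @IsIntegralHom f.hom) ∧
    (AlgSp.IsFiniteMor f.hom ↔ AlgSp.RepWith @IsFinite f.hom) :=
  ⟨affine_test_iff_repWith @IsIntegralHom (fun g hg => by
      have : IsIntegralHom g := hg
      infer_instance) f.hom,
    affine_test_iff_repWith @IsFinite (fun g hg => by
      have : IsFinite g := hg
      infer_instance) f.hom⟩

end Groth.Agent.H51
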