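import Groth.Agent.H17.Chev.DimTotal
import Groth.Agent.H17.Chev.FibreLocal
import Groth.Agent.H17.Chev.TopLocalDim
import Groth.Agent.H72.FlatCM
import Groth.Agent.H49.FibreStalk
import Groth.Agent.H51.SpDim2

/-! Dimension of the source of a flat morphism of relative dimension `d` between locally
Noetherian schemes (Stacks 0AFF / Morphisms, `lemma-rel-dimension-dimension`). -/

set_option autoImplicit false
universe u
open CategoryTheory CategoryTheory.Limits AlgebraicGeometry Opposite TopologicalSpace

namespace Groth.Agent.H51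
open Groth.Agent.H49.FibreStalk

/-- A morphism locally of finite type to a locally Noetherian scheme is locally of finite
presentation. -/
theorem locallyOfFinitePresentation_of_isLocallyNoetherian {X Y : Scheme.{u}} (f : X ⟶ Y)
    [LocallyOfFiniteType f] [IsLocallyNoetherian Y] : LocallyOfFinitePresentation f := by
  rw [HasRingHomProperty.iff_appLE (P := @LocallyOfFinitePresentation)]
  intro U V e
  haveI : IsNoetherianRing Γ(Y, U.1) := IsLocallyNoetherian.component_noetherian U
  exact RingHom.FinitePresentation.of_finiteType.mp (f.finiteType_appLE U.2 V.2 e)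

/-- A flat morphism locally of finite type to a locally Noetherian scheme is open. -/
theorem isOpenMap_of_flat_of_isLocallyNoetherian {X Y : Scheme.{u}} (f : X ⟶ Y) [Flat f]
    [LocallyOfFiniteType f] [IsLocallyNoetherian Y] : IsOpenMap f := by
  haveI := locallyOfFinitePresentation_of_isLocallyNoetherian f
  exact f.isOpenMap

/-- The dimension formula for a flat morphism at a point. -/
theorem ringKrullDim_stalk_eq_add_of_flat {X Y : Scheme.{u}} [IsLocallyNoetherian X]
    [IsLocallyNoetherian Y] (f : X ⟶ Y) (x : X) (hfl : (f.stalkMap x).hom.Flat) :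
    ringKrullDim (X.presheaf.stalk x) = ringKrullDim (Y.presheaf.stalk (f x)) +
      ringKrullDim ((f.fiber (f x)).presheaf.stalk (f.asFiber x)) := by
  letI : Algebra (Y.presheaf.stalk (f x)) (X.presheaf.stalk x) := (f.stalkMap x).hom.toAlgebra
  haveI : IsLocalHom (algebraMap (Y.presheaf.stalk (f x)) (X.presheaf.stalk x)) :=
    (inferInstance : IsLocalHom (f.stalkMap x).hom)
  haveI : Module.Flat (Y.presheaf.stalk (f x)) (X.presheaf.stalk x) := hfl
  have e1 := ringKrullDim_eq_of_ringEquiv (quotientEquivStalkAsFiber f x)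
  rw [← e1]
  exact Groth.Agent.H72.FlatCM.ringKrullDim_eq_add_of_flat

variable {X Y : Scheme.{u}} [IsLocallyNoetherian X] [IsLocallyNoetherian Y] (f : X ⟶ Y) [Flat f]
  [LocallyOfFiniteType f] (d : ℕ)

theorem ringKrullDim_stalk_le_dim (Z : Scheme.{u}) (z : Z) :
    ringKrullDim (Z.presheaf.stalk z) ≤ topologicalKrullDim Z := by
  rw [ringKrullDim_stalk_eq_coheight, topologicalKrullDim_eq_iSup_coheight]
  exact le_iSup (fun z : Z => (Order.coheight z : WithBot ℕ∞)) z

theorem topologicalKrullDim_eq_iSup_stalk (Z : Scheme.{u}) :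
    topologicalKrullDim Z = ⨆ z : Z, ringKrullDim (Z.presheaf.stalk z) := by
  rw [topologicalKrullDim_eq_iSup_coheight]
  exact iSup_congr fun z => (ringKrullDim_stalk_eq_coheight z).symm

/-- `dim X ≤ dim Y + d` if all fibres have local dimension at most `d`. -/
theorem topologicalKrullDim_le_add_of_flat (hd : ∀ x : X, FlatMor.fibreDimAt f x ≤ d) :
    topologicalKrullDim X ≤ topologicalKrullDim Y + (d : WithBot ℕ∞) := by
  rw [topologicalKrullDim_eq_iSup_stalk X]
  refine iSup_le fun x => ?_
  rw [ringKrullDim_stalk_eq_add_of_flat f x (Flat.stalkMap f x)]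
  exact add_le_add (ringKrullDim_stalk_le_dim Y (f x))
    ((Groth.Agent.H17.Chev.ringKrullDim_stalk_fiber_le_fibreDimAt f x).trans (hd x))

/-- `dim Y + d ≤ dim X` if `f` is surjective with all fibres of local dimension `d`. -/
theorem add_le_topologicalKrullDim_of_flat (hs : Function.Surjective f)
    (hd : ∀ x : X, FlatMor.fibreDimAt f x = d) :
    topologicalKrullDim Y + (d : WithBot ℕ∞) ≤ topologicalKrullDim X := by
  rw [topologicalKrullDim_eq_iSup_stalk Y]
  refine Groth.Agent.H17.Chev.iSup_add_natCast_le _ d _ fun y => ?_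
  obtain ⟨x₀, rfl⟩ := hs y
  obtain ⟨x, hx, hxd⟩ := Groth.Agent.H17.Chev.exists_fibre_point_fibreDimAt_eq f x₀
  have h1 := ringKrullDim_stalk_eq_add_of_flat f x (Flat.stalkMap f x)
  rw [← hxd, hd x] at h1
  have h2 : ringKrullDim (Y.presheaf.stalk (f x)) = ringKrullDim (Y.presheaf.stalk (f x₀)) :=
    congrArg (fun y => ringKrullDim (Y.presheaf.stalk y)) hx
  rw [← h2, ← h1]
  exact ringKrullDim_stalk_le_dim X x

/-- **Local dimension of the source of a flat morphism of relative dimension `d`.** -/
theorem localDim_eq_add_of_flat (hd : ∀ x : X, FlatMor.fibreDimAt f x = d) (x : X) :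
    FlatMor.localDim X x = FlatMor.localDim Y (f x) + (d : WithBot ℕ∞) := by
  apply le_antisymm
  · obtain ⟨V, hyV, hV⟩ := Groth.Agent.H17.Chev.exists_open_dim_eq_localDim (f x)
    rw [← hV]
    refine (Groth.Agent.H17.Chev.localDim_le_dim_of_mem x (f ⁻¹ᵁ V) hyV).trans ?_
    haveI : Flat (f.resLE V (f ⁻¹ᵁ V) le_rfl) := IsZariskiLocalAtSource.resLE _ inferInstance
    haveI : LocallyOfFiniteType (f.resLE V (f ⁻¹ᵁ V) le_rfl) :=
      IsZariskiLocalAtSource.resLE _ inferInstance
    exact topologicalKrullDim_le_add_of_flat (f.resLE V (f ⁻¹ᵁ V) le_rfl) d fun u => by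
      rw [Groth.Agent.H17.Chev.fibreDimAt_resLE]; exact (hd _).le
  · obtain ⟨U, hxU, hU⟩ := Groth.Agent.H17.Chev.exists_open_dim_eq_localDim x
    rw [← hU]
    have hop := isOpenMap_of_flat_of_isLocallyNoetherian f
    set V : Y.Opens := ⟨f '' (U : Set X), hop _ U.isOpen⟩ with hVdef
    have hUV : U ≤ f ⁻¹ᵁ V := fun u hu => ⟨u, hu, rfl⟩
    have hyV : f x ∈ V := ⟨x, hxU, rfl⟩
    haveI : Flat (f.resLE V U hUV) := IsZariskiLocalAtSource.resLE _ inferInstance
    haveI : LocallyOfFiniteType (f.resLE V U hUV) := IsZariskiLocalAtSource.resLE _ inferInstance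
    have hs : Function.Surjective (f.resLE V U hUV) := by
      rintro ⟨_, u, hu, rfl⟩
      refine ⟨⟨u, hu⟩, ?_⟩
      apply Subtype.ext
      exact Scheme.Hom.coe_resLE_apply f hUV ⟨u, hu⟩
    have h1 := add_le_topologicalKrullDim_of_flat (f.resLE V U hUV) d hs fun u => by
      rw [Groth.Agent.H17.Chev.fibreDimAt_resLE]; exact hd _
    refine le_trans ?_ h1
    exact add_le_add (Groth.Agent.H17.Chev.localDim_le_dim_of_mem (f x) V hyV) le_rfl

end Groth.Agent.H51
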