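import Groth.Agent.H11.FibreBridge
import Groth.Agent.H11.StdSmoothFibre
import Groth.Agent.H17.Chev.FibreLocal
import Groth.Agent.H51.FlatDimFormula

/-! The local fibre dimension of a smooth morphism is locally constant; dimension formula for
smooth morphisms of locally Noetherian schemes. -/

set_option autoImplicit false
universe u
open CategoryTheory CategoryTheory.Limits AlgebraicGeometry Opposite TopologicalSpace

namespace Groth.Agent.H51

/-- On an affine chart where `f` is standard smooth of relative dimension `n`, all local fibre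
dimensions are `n` (the proof of S2768, on a fixed chart). -/
theorem fibreDimAt_eq_of_isStandardSmoothOfRelativeDimension {X Y : Scheme.{u}} (f : X ⟶ Y) (n : ℕ)
    {U : Y.Opens} (hU : IsAffineOpen U) {V : X.Opens} (hV : IsAffineOpen V) (e : V ≤ f ⁻¹ᵁ U)
    (hstd : RingHom.IsStandardSmoothOfRelativeDimension n (f.appLE U V e).hom) (x : X)
    (hxV : x ∈ V) : FlatMor.fibreDimAt f x = (n : WithBot ℕ∞) := by
  have hx' : hV.fromSpec (hV.primeIdealOf ⟨x, hxV⟩) = x := hV.fromSpec_primeIdealOf ⟨x, hxV⟩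
  have h1 := Groth.Agent.H17.Chev.fibreDimAt_eq_of_isOpenImmersion f (Spec.map (f.appLE U V e))
    hV.fromSpec hU.fromSpec hU.fromSpec.isOpenEmbedding.injective
    (hU.SpecMap_appLE_fromSpec f hV e) (hV.primeIdealOf ⟨x, hxV⟩)
  rw [hx'] at h1
  rw [← h1]
  letI := (f.appLE U V e).hom.toAlgebra
  haveI : Algebra.IsStandardSmoothOfRelativeDimension n Γ(Y, U) Γ(X, V) := hstd
  have h2 : Spec.map (f.appLE U V e) =
      Spec.map (CommRingCat.ofHom (algebraMap Γ(Y, U) Γ(X, V))) := rfl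
  rw [h2]
  obtain ⟨Q, hQ⟩ := Groth.Agent.H11.FibreBridge.exists_fibreDimAt_Spec_eq Γ(Y, U) Γ(X, V)
    (hV.primeIdealOf ⟨x, hxV⟩)
    ((Spec.map (CommRingCat.ofHom (algebraMap Γ(Y, U) Γ(X, V)))) (hV.primeIdealOf ⟨x, hxV⟩)) rfl
  rw [hQ]
  exact Groth.Agent.H11.StdSmoothFibre.localDim_fiber_eq Γ(Y, U) Γ(X, V) n _ Q

/-- A standard smooth ring map is standard smooth of some relative dimension. -/
theorem exists_isStandardSmoothOfRelativeDimension {R S : Type u} [CommRing R] [CommRing S]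
    (φ : R →+* S) (h : φ.IsStandardSmooth) : ∃ n : ℕ, φ.IsStandardSmoothOfRelativeDimension n := by
  letI := φ.toAlgebra
  obtain ⟨ι, σ, hσ, hι, ⟨P⟩⟩ := (h : Algebra.IsStandardSmooth R S).out
  exact ⟨P.dimension, ⟨ι, σ, hσ, hι, P, rfl⟩⟩

/-- The local fibre dimension of a smooth morphism is locally constant. -/
theorem exists_open_fibreDimAt_eq_of_smooth {X Y : Scheme.{u}} (f : X ⟶ Y) [Smooth f] (x : X) :
    ∃ (V : X.Opens) (n : ℕ), x ∈ V ∧ ∀ x' ∈ V, FlatMor.fibreDimAt f x' = (n : WithBot ℕ∞) := by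
  obtain ⟨U, hU, V, hV, hxV, e, hstd⟩ := Smooth.exists_isStandardSmooth f x
  obtain ⟨n, hn⟩ := exists_isStandardSmoothOfRelativeDimension _ hstd
  exact ⟨V, n, hxV, fun x' hx' =>
    fibreDimAt_eq_of_isStandardSmoothOfRelativeDimension f n hU hV e hn x' hx'⟩

theorem isLocallyConstant_fibreDimAt_of_smooth {X Y : Scheme.{u}} (f : X ⟶ Y) [Smooth f] :
    IsLocallyConstant (fun x : X => FlatMor.fibreDimAt f x) := by
  rw [IsLocallyConstant.iff_exists_open]
  intro x
  obtain ⟨V, n, hxV, hV⟩ := exists_open_fibreDimAt_eq_of_smooth f x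
  exact ⟨V, V.isOpen, hxV, fun x' hx' => (hV x' hx').trans (hV x hxV).symm⟩

/-- Dimension formula for a smooth morphism of locally Noetherian schemes. -/
theorem localDim_eq_add_fibreDimAt_of_smooth {X Y : Scheme.{u}} [IsLocallyNoetherian X]
    [IsLocallyNoetherian Y] (f : X ⟶ Y) [Smooth f] (x : X) :
    FlatMor.localDim X x = FlatMor.localDim Y (f x) + FlatMor.fibreDimAt f x := by
  obtain ⟨V, n, hxV, hV⟩ := exists_open_fibreDimAt_eq_of_smooth f x
  rw [hV x hxV]
  have h1 := localDim_eq_add_of_flat (V.ι ≫ f) n (fun v => by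
    rw [Groth.Agent.H17.Chev.fibreDimAt_ι_comp]; exact hV v.1 v.2) ⟨x, hxV⟩
  have h2 := Groth.Agent.H17.Chev.localDim_eq_of_isOpenEmbedding V.ι.isOpenEmbedding ⟨x, hxV⟩
  exact h2.symm.trans h1

end Groth.Agent.H51
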