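import Mathlib.RingTheory.QuasiFinite.Basic
import Mathlib.RingTheory.AlgebraicIndependent.TranscendenceBasis
import Mathlib.RingTheory.AlgebraicIndependent.Transcendental
import Mathlib.AlgebraicGeometry.Morphisms.QuasiFinite
import Mathlib.AlgebraicGeometry.ResidueField
import Groth.Prelude.Def_Dual3

set_option autoImplicit false
universe u
open CategoryTheory AlgebraicGeometry

namespace Groth.Agent.H51

theorem finite_residueField_of_quasiFinite {R S : Type u} [CommRing R] [CommRing S]
    [IsLocalRing R] [IsLocalRing S] (φ : R →+* S) [IsLocalHom φ] (h : φ.QuasiFinite) :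
    letI := (IsLocalRing.ResidueField.map φ).toAlgebra
    Module.Finite (IsLocalRing.ResidueField R) (IsLocalRing.ResidueField S) := by
  letI := (IsLocalRing.ResidueField.map φ).toAlgebra
  algebraize [φ]
  haveI : IsLocalHom (algebraMap R S) := ‹IsLocalHom φ›
  haveI : Algebra.QuasiFinite R (IsLocalRing.ResidueField S) :=
    Algebra.QuasiFinite.trans R S _
  letI : Algebra R (IsLocalRing.ResidueField R) := inferInstance
  haveI : IsScalarTower R (IsLocalRing.ResidueField R) (IsLocalRing.ResidueField S) :=
    IsScalarTower.of_algebraMap_eq' (by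
      ext r
      rfl)
  haveI : Algebra.QuasiFinite (IsLocalRing.ResidueField R) (IsLocalRing.ResidueField S) :=
    .of_restrictScalars R _ _
  exact Module.Finite.of_quasiFinite

end Groth.Agent.H51

namespace Groth.Agent.H51
open Dual3

theorem resTrdeg_eq_zero_of_finite {X Y : Scheme.{u}} (f : X ⟶ Y) (x : X)
    (h : letI := (f.residueFieldMap x).hom.toAlgebra
      Algebra.IsAlgebraic (Y.residueField (f x)) (X.residueField x)) :
    Dual3.resTrdeg f x = 0 := by
  letI := (f.residueFieldMap x).hom.toAlgebra
  exact trdeg_eq_zero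

theorem resTrdeg_eq_zero_of_quasiFiniteAt {X Y : Scheme.{u}} (f : X ⟶ Y) (x : X)
    (h : f.QuasiFiniteAt x) : Dual3.resTrdeg f x = 0 := by
  refine resTrdeg_eq_zero_of_finite f x ?_
  letI := (f.residueFieldMap x).hom.toAlgebra
  haveI : Module.Finite (Y.residueField (f x)) (X.residueField x) :=
    finite_residueField_of_quasiFinite (f.stalkMap x).hom h
  exact Algebra.IsAlgebraic.of_finite _ _

theorem resTrdeg_eq_zero_of_lqf {X Y : Scheme.{u}} (f : X ⟶ Y) [LocallyQuasiFinite f] (x : X) :
    Dual3.resTrdeg f x = 0 :=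
  resTrdeg_eq_zero_of_quasiFiniteAt f x (f.quasiFiniteAt x)

theorem resTrdeg_comp {X Y Z : Scheme.{u}} (f : X ⟶ Y) (g : Y ⟶ Z) (x : X) :
    Dual3.resTrdeg (f ≫ g) x = Dual3.resTrdeg g (f x) + Dual3.resTrdeg f x := by
  letI a1 := (f.residueFieldMap x).hom.toAlgebra
  letI a2 := (g.residueFieldMap (f x)).hom.toAlgebra
  letI a3 : Algebra (Z.residueField (g (f x))) (X.residueField x) :=
    ((f ≫ g).residueFieldMap x).hom.toAlgebra
  haveI : IsScalarTower (Z.residueField (g (f x))) (Y.residueField (f x)) (X.residueField x) :=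
    IsScalarTower.of_algebraMap_eq' (by
      change ((f ≫ g).residueFieldMap x).hom = _
      rw [Scheme.residueFieldMap_comp]
      rfl)
  exact (trdeg_add_eq (Z.residueField (g (f x))) (Y.residueField (f x))
    (A := X.residueField x)).symm

end Groth.Agent.H51
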