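import Mathlib.AlgebraicGeometry.Morphisms.Flat
import Mathlib.AlgebraicGeometry.Stalk
import Mathlib.AlgebraicGeometry.ValuativeCriterion
import Mathlib.RingTheory.Flat.FaithfullyFlat.Algebra
import Mathlib.RingTheory.Valuation.LocalSubring
import Mathlib.RingTheory.LocalRing.Quotient

set_option autoImplicit false
universe u
open CategoryTheory CategoryTheory.Limits AlgebraicGeometry Opposite MorphismProperty

namespace Groth.Agent.H51

/-- The canonical morphism `Spec 𝒪_{X,x} ⟶ X` is flat. -/
theorem flat_fromSpecStalk (X : Scheme.{u}) (x : X) : Flat (X.fromSpecStalk x) := by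
  obtain ⟨_, ⟨U, hU, rfl⟩, hxU, -⟩ := X.isBasis_affineOpens.exists_subset_of_mem_open
    (Set.mem_univ x) isOpen_univ
  rw [← hU.fromSpecStalk_eq_fromSpecStalk hxU]
  dsimp [IsAffineOpen.fromSpecStalk]
  have : Flat (Spec.map (X.presheaf.germ U x hxU)) := by
    rw [HasRingHomProperty.Spec_iff (P := @Flat)]
    letI : Algebra Γ(X, U) (X.presheaf.stalk x) := (X.presheaf.germ U x hxU).hom.toAlgebra
    haveI := hU.isLocalization_stalk ⟨x, hxU⟩
    change Module.Flat Γ(X, U) (X.presheaf.stalk x)
    exact IsLocalization.flat _ (hU.primeIdealOf ⟨x, hxU⟩).asIdeal.primeCompl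
  infer_instance

end Groth.Agent.H51

namespace Groth.Agent.H51

open IsLocalRing in
/-- **Lifting along flat morphisms**: a flat morphism to the spectrum of a valuation ring whose
image contains the closed point admits a section after an extension of valuation rings. -/
theorem exists_lift_valuationRing_of_flat_scheme {T : Scheme.{u}} {A : Type u} [CommRing A]
    [IsDomain A] [ValuationRing A] (π : T ⟶ Spec (CommRingCat.of A)) [Flat π] (t : T)
    (ht : π t = closedPoint A) :
    ∃ (A' : Type u) (_ : CommRing A') (_ : IsDomain A') (_ : ValuationRing A') (φ : A →+* A')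
      (m : Spec (CommRingCat.of A') ⟶ T),
      Function.Injective φ ∧ IsLocalHom φ ∧ m ≫ π = Spec.map (CommRingCat.ofHom φ) := by
  let B : CommRingCat.{u} := T.presheaf.stalk t
  obtain ⟨ψ, hψ⟩ := Spec.map_surjective (T.fromSpecStalk t ≫ π)
  haveI := flat_fromSpecStalk T t
  have hflat : Flat (Spec.map ψ) := by rw [hψ]; infer_instance
  have hψflat : ψ.hom.Flat := (HasRingHomProperty.Spec_iff (P := @Flat)).1 hflat
  have hcl : (Spec.map ψ) (closedPoint B) = closedPoint A := by
    rw [hψ, Scheme.Hom.comp_apply, Scheme.fromSpecStalk_closedPoint, ht]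
  have hloc : IsLocalHom ψ.hom := by
    refine ((IsLocalRing.local_hom_TFAE ψ.hom).out 0 4).2 ?_
    have := congrArg PrimeSpectrum.asIdeal hcl
    exact this
  algebraize [ψ.hom]
  haveI : IsLocalHom (algebraMap A B) := hloc
  haveI : Module.FaithfullyFlat A B := Module.FaithfullyFlat.of_flat_of_isLocalHom
  obtain ⟨P, hP, hPo⟩ := Ideal.exists_isPrime_liesOver_of_faithfullyFlat (B := B) (⊥ : Ideal A)
  let D := B ⧸ P
  haveI : IsLocalRing D :=
    IsLocalRing.of_surjective' (Ideal.Quotient.mk P) Ideal.Quotient.mk_surjective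
  let L := FractionRing D
  obtain ⟨V, hV, hVloc⟩ := exists_factor_valuationRing (algebraMap D L)
  let q : A →+* D := (Ideal.Quotient.mk P).comp ψ.hom
  have hq : Function.Injective q := by
    rw [injective_iff_map_eq_zero]
    intro a ha
    have h1 : ψ.hom a ∈ P := Ideal.Quotient.eq_zero_iff_mem.1 ha
    have h2 : a ∈ P.under A := h1
    rw [← hPo.over] at h2
    exact h2
  haveI : IsLocalHom (Ideal.Quotient.mk P) :=
    IsLocalHom.of_surjective _ Ideal.Quotient.mk_surjective
  let φ : A →+* V := ((algebraMap D L).codRestrict V.toSubring hV).comp q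
  refine ⟨V, inferInstance, inferInstance, inferInstance, φ,
    Spec.map (CommRingCat.ofHom (((algebraMap D L).codRestrict V.toSubring hV).comp
      (Ideal.Quotient.mk P))) ≫ T.fromSpecStalk t, ?_, ?_, ?_⟩
  · intro a a' haa'
    apply hq
    apply IsFractionRing.injective D L
    exact congrArg Subtype.val haa'
  · haveI : IsLocalHom q := RingHom.isLocalHom_comp _ _
    exact RingHom.isLocalHom_comp _ _
  · rw [Category.assoc, ← hψ, ← Spec.map_comp]
    rfl

end Groth.Agent.H51
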