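import Mathlib.Topology.Sober
import Mathlib.Topology.Irreducible
import Mathlib.Topology.Inseparable

set_option autoImplicit false
open Topology

namespace Groth.Agent.H51

variable {α β : Type*} [TopologicalSpace α] [TopologicalSpace β]

/-- A point without proper generalizations. -/
def IsMaxPt (x : α) : Prop := ∀ y : α, y ⤳ x → x ⤳ y

/-- In a quasi-sober space the generic points of irreducible components are the points without
proper generalizations. -/
theorem mem_genericPoints_iff [QuasiSober α] (x : α) : x ∈ genericPoints α ↔ IsMaxPt x := by
  constructor
  · intro hx y hy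
    have h1 : closure {x} ⊆ closure {y} := hy.closure_subset
    have h2 : IsIrreducible (closure {y}) := isIrreducible_singleton.closure
    have h3 : closure {y} ⊆ closure {x} := hx.2 h2 h1
    exact specializes_iff_closure_subset.2 h3
  · intro hx
    have h2 : IsIrreducible (closure {x}) := isIrreducible_singleton.closure
    obtain ⟨t, ht, hxt, hmax⟩ := exists_preirreducible (closure {x}) h2.isPreirreducible
    have htirr : IsIrreducible t := ⟨h2.nonempty.mono hxt, ht⟩
    have htc : IsClosed t := by
      have : closure t = t := hmax _ ht.closure subset_closure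
      rw [← this]; exact isClosed_closure
    have hgen := htirr.isGenericPoint_genericPoint htc
    have h3 : htirr.genericPoint ⤳ x := by
      rw [specializes_iff_mem_closure, hgen]
      exact hxt (subset_closure rfl)
    have h4 := hx _ h3
    have h5 : t ⊆ closure {x} := by
      rw [← hgen]
      exact h4.closure_subset
    have h6 : closure {x} = t := Set.Subset.antisymm hxt h5
    change closure {x} ∈ irreducibleComponents α
    rw [h6]
    refine ⟨htirr, fun u hu htu => ?_⟩
    exact (hmax u hu.isPreirreducible htu).le

/-- Finitely many irreducible components iff finitely many maximal points. -/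
theorem finite_irreducibleComponents_iff [QuasiSober α] [T0Space α] :
    (irreducibleComponents α).Finite ↔ {x : α | IsMaxPt x}.Finite := by
  have : {x : α | IsMaxPt x} = genericPoints α := by
    ext x; exact (mem_genericPoints_iff x).symm
  rw [this]
  constructor
  · exact genericPoints.finite
  · intro h
    haveI : Finite (genericPoints α) := h
    exact Set.finite_coe_iff.1 (Finite.of_equiv _ genericPoints.equiv)

end Groth.Agent.H51

namespace Groth.Agent.H51

variable {α β : Type*} [TopologicalSpace α] [TopologicalSpace β]

theorem sUnion_irreducibleComponents' (α : Type*) [TopologicalSpace α] :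
    ⋃₀ irreducibleComponents α = Set.univ := by
  ext x
  simp only [Set.mem_sUnion, Set.mem_univ, iff_true]
  exact ⟨irreducibleComponent x, irreducibleComponent_mem_irreducibleComponents x,
    mem_irreducibleComponent⟩

/-- The image of a space with finitely many irreducible components has finitely many irreducible
components. -/
theorem finite_irreducibleComponents_of_surjective (f : α → β) (hf : Continuous f)
    (hs : Function.Surjective f) (h : (irreducibleComponents α).Finite) :
    (irreducibleComponents β).Finite := by
  classical
  let T : Finset (Set β) := h.toFinset.image (fun Z => closure (f '' Z))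
  have hT : ∀ z ∈ T, IsClosed z := by
    intro z hz
    obtain ⟨Z, -, rfl⟩ := Finset.mem_image.1 hz
    exact isClosed_closure
  have hcov : (Set.univ : Set β) ⊆ ⋃₀ (↑T : Set (Set β)) := by
    intro y _
    obtain ⟨x, rfl⟩ := hs y
    have hx : x ∈ ⋃₀ irreducibleComponents α := by
      rw [sUnion_irreducibleComponents']; trivial
    obtain ⟨Z, hZ, hxZ⟩ := hx
    refine ⟨closure (f '' Z), ?_, subset_closure ⟨x, hxZ, rfl⟩⟩
    exact Finset.mem_coe.2 (Finset.mem_image.2 ⟨Z, h.mem_toFinset.2 hZ, rfl⟩)
  apply Set.Finite.subset (Finset.finite_toSet T)
  intro C hC
  obtain ⟨z, hz, hCz⟩ := (isIrreducible_iff_sUnion_isClosed.1 hC.1) T hT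
    ((Set.subset_univ _).trans hcov)
  obtain ⟨Z, hZ, rfl⟩ := Finset.mem_image.1 hz
  have hZirr : IsIrreducible Z := (h.mem_toFinset.1 hZ).1
  have hirr : IsIrreducible (closure (f '' Z)) := (hZirr.image f hf.continuousOn).closure
  have : closure (f '' Z) ⊆ C := hC.2 hirr hCz
  have heq : C = closure (f '' Z) := Set.Subset.antisymm hCz this
  rw [heq]
  exact Finset.mem_coe.2 hz

end Groth.Agent.H51
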