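import Groth.Agent.S1621
import Groth.Agent.H11.FtChart
import Groth.Prelude.Def_Dual3
import Groth.Agent.H17.Chev.DimIneqScheme

set_option autoImplicit false
universe u
open CategoryTheory CategoryTheory.Limits AlgebraicGeometry Opposite MorphismProperty
attribute [local instance] Curv2.stalkAlgebra Curv2.resAlgebra

namespace Groth.Agent.H51


/-- Residue fields of a scheme locally of finite type over a field have finite transcendence
degree. -/
theorem exists_nat_trdeg_residueField (k : Type u) [Field k] (X : Scheme.{u})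
    [X.Over (Spec (CommRingCat.of k))] [LocallyOfFiniteType (X ↘ Spec (CommRingCat.of k))] (x : X) :
    ∃ a : ℕ, Algebra.trdeg k (X.residueField x) = a := by
  obtain ⟨_, ⟨U, hU, rfl⟩, hxU, -⟩ := X.isBasis_affineOpens.exists_subset_of_mem_open
    (Set.mem_univ x) isOpen_univ
  have hU' : IsAffineOpen U := hU
  have hx : x ∈ U := hxU
  letI := Groth.Agent.H11.FtChart.secAlgebra k X U
  haveI := Groth.Agent.H11.FtChart.finiteType_sec k X hU'
  rw [← Groth.Agent.H11.FtChart.trdeg_eq k hU' x hx]
  set p := (hU'.primeIdealOf ⟨x, hx⟩).asIdeal with hp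
  obtain ⟨n, hn1, -, -⟩ :=
    Groth.Agent.H14.ringKrullDim_eq_trdeg_of_finiteType_domain k (Γ(X, U) ⧸ p)
  have h1 : Algebra.trdeg k (FractionRing (Γ(X, U) ⧸ p)) = Algebra.trdeg k p.ResidueField :=
    ((FractionRing.algEquiv (Γ(X, U) ⧸ p) p.ResidueField).restrictScalars k).trdeg_eq
  exact ⟨n, h1 ▸ hn1⟩



/-- The structure map of the residue field of a point of a `k`-scheme, as a morphism of schemes. -/
theorem fromSpecResidueField_comp_over (k : Type u) [Field k] (Z : Scheme.{u})
    [Z.Over (Spec (CommRingCat.of k))] (z : Z) :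
    Z.fromSpecResidueField z ≫ (Z ↘ Spec (CommRingCat.of k)) =
      Spec.map (CommRingCat.ofHom (Curv2.resMap k Z z)) := by
  have h1 : Z.fromSpecResidueField z ≫ (Z ↘ Spec (CommRingCat.of k)) =
      (Z.fromSpecResidueField z ≫ (Z ↘ Spec (CommRingCat.of k))) ≫
        (Spec (CommRingCat.of k)).toSpecΓ ≫ Spec.map (Scheme.ΓSpecIso (CommRingCat.of k)).inv := by
    rw [toSpecΓ_SpecMap_ΓSpecIso_inv, Category.comp_id]
  rw [h1, Category.assoc, Scheme.toSpecΓ_naturality_assoc]
  unfold Scheme.fromSpecResidueField
  rw [Category.assoc, Scheme.fromSpecStalk_toSpecΓ_assoc, ← Spec.map_comp, ← Spec.map_comp,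
    ← Spec.map_comp]
  rfl



/-- A preimmersion from the spectrum of a field identifies the field with the residue field of
the image point. -/
theorem exists_ringEquiv_residueField_of_preimmersion {K' : Type u} [Field K'] {Z : Scheme.{u}}
    (α : Spec (CommRingCat.of K') ⟶ Z) [IsPreimmersion α] (z₀ : Z)
    (hz : α (IsLocalRing.closedPoint K') = z₀) :
    ∃ e : Z.residueField z₀ ≃+* K',
      Spec.map (CommRingCat.ofHom e.toRingHom) ≫ Z.fromSpecResidueField z₀ = α := by
  subst hz
  let φ : Z.residueField (α (IsLocalRing.closedPoint K')) ⟶ CommRingCat.of K' :=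
    Z.descResidueField (Scheme.stalkClosedPointTo α)
  have hφ : Spec.map φ ≫ Z.fromSpecResidueField (α (IsLocalRing.closedPoint K')) = α :=
    Scheme.descResidueField_stalkClosedPointTo_fromSpecResidueField K' Z α
  have hinj : Function.Injective φ.hom := φ.hom.injective
  have hsurj : Function.Surjective φ.hom := by
    have h1 : Function.Surjective (Scheme.stalkClosedPointTo α).hom := by
      unfold Scheme.stalkClosedPointTo
      rw [CommRingCat.hom_comp, RingHom.coe_comp]
      exact (ConcreteCategory.bijective_of_isIso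
        (stalkClosedPointIso (CommRingCat.of K')).hom).2.comp
          (α.stalkMap_surjective (IsLocalRing.closedPoint K'))
    have h2 : Z.residue _ ≫ φ = Scheme.stalkClosedPointTo α :=
      Scheme.residue_descResidueField _
    intro y
    obtain ⟨s, hs⟩ := h1 y
    refine ⟨(Z.residue _).hom s, ?_⟩
    rw [← hs, ← h2]
    rfl
  refine ⟨RingEquiv.ofBijective φ.hom ⟨hinj, hsurj⟩, ?_⟩
  exact hφ



/-- `dim_x(X_y) = dim O_{X_y, x} + trdeg_{κ(y)} κ(x)` for a morphism locally of finite type. -/
theorem fibreDimAt_eq_dim_stalk_add_trdeg {U V : Scheme.{u}} (h : U ⟶ V) [LocallyOfFiniteType h]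
    (u : U) :
    FlatMor.fibreDimAt h u =
      ringKrullDim ((h.fiber (h u)).presheaf.stalk (h.asFiber u)) +
        ((Cardinal.toENat (Dual3.resTrdeg h u) : ℕ∞) : WithBot ℕ∞) := by
  letI : (h.fiber (h u)).Over (Spec (CommRingCat.of (V.residueField (h u)))) :=
    h.fiberOverSpecResidueField (h u)
  haveI : LocallyOfFiniteType (h.fiber (h u) ↘ Spec (CommRingCat.of (V.residueField (h u)))) :=
    MorphismProperty.pullback_snd (P := @LocallyOfFiniteType) _ _ inferInstance
  obtain ⟨a, ha⟩ := exists_nat_trdeg_residueField (V.residueField (h u)) (h.fiber (h u))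
    (h.asFiber u)
  haveI : IsLocallyNoetherian (Spec (CommRingCat.of (V.residueField (h u)))) := inferInstance
  haveI : IsLocallyNoetherian (h.fiber (h u)) :=
    LocallyOfFiniteType.isLocallyNoetherian
      (h.fiber (h u) ↘ Spec (CommRingCat.of (V.residueField (h u))))
  obtain ⟨b, hb⟩ := Groth.Agent.H17.Chev.exists_nat_eq_ringKrullDim
    ((h.fiber (h u)).presheaf.stalk (h.asFiber u))
  have hloc := Groth.Agent.S1621.result (V.residueField (h u)) (h.fiber (h u)) (h.asFiber u) a b
    ha hb
  -- identify the transcendence degrees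
  have hα : (h.asFiberHom u) (IsLocalRing.closedPoint (U.residueField u)) = h.asFiber u :=
    h.asFiberHom_apply u _
  obtain ⟨e, he⟩ := exists_ringEquiv_residueField_of_preimmersion (K' := U.residueField u)
    (h.asFiberHom u) (h.asFiber u) hα
  have h1 : Spec.map (CommRingCat.ofHom e.toRingHom) ≫
      Spec.map (CommRingCat.ofHom (Curv2.resMap (V.residueField (h u)) (h.fiber (h u))
        (h.asFiber u))) = Spec.map (h.residueFieldMap u) := by
    rw [← fromSpecResidueField_comp_over, ← Category.assoc, he]
    exact h.asFiberHom_fiberToSpecResidueField u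
  have h2 : CommRingCat.ofHom (Curv2.resMap (V.residueField (h u)) (h.fiber (h u))
      (h.asFiber u)) ≫ CommRingCat.ofHom e.toRingHom = h.residueFieldMap u :=
    Spec.map_injective (by rw [Spec.map_comp]; exact h1)
  have htr : Dual3.resTrdeg h u = a := by
    unfold Dual3.resTrdeg
    letI := (h.residueFieldMap u).hom.toAlgebra
    rw [← ha]
    let E : (h.fiber (h u)).residueField (h.asFiber u) ≃ₐ[V.residueField (h u)]
        U.residueField u :=
      AlgEquiv.ofRingEquiv (f := e) (fun c => congr(($h2).hom c))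
    exact E.trdeg_eq.symm
  rw [htr, Cardinal.toENat_nat, hb]
  change FlatMor.localDim (h.fiber (h u)) (h.asFiber u) = _
  rw [hloc]
  push_cast
  exact add_comm _ _

end Groth.Agent.H51
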