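import Groth.Agent.H51.FibCompScheme

set_option autoImplicit false
universe u
open CategoryTheory CategoryTheory.Limits AlgebraicGeometry Opposite MorphismProperty IsLocalRing

namespace Groth.Agent.H51

/-- Fibre dimension of a composite (Stacks 02JS). -/
theorem fibreDimAt_comp_le {X Y S : Scheme.{u}} (f : X ⟶ Y) (g : Y ⟶ S)
    [LocallyOfFiniteType f] [LocallyOfFiniteType g] (x : X) :
    FlatMor.fibreDimAt (f ≫ g) x ≤ FlatMor.fibreDimAt f x + FlatMor.fibreDimAt g (f.base x) ∧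
      ((f.stalkMap x).hom.Flat →
        FlatMor.fibreDimAt (f ≫ g) x =
          FlatMor.fibreDimAt f x + FlatMor.fibreDimAt g (f.base x)) := by
  have h1 := fibreDimAt_eq_dim_stalk_add_trdeg f x
  have h2 := fibreDimAt_eq_dim_stalk_add_trdeg g (f x)
  have h3 := fibreDimAt_eq_dim_stalk_add_trdeg (f ≫ g) x
  have ht := resTrdeg_comp f g x
  obtain ⟨hle, heq⟩ := dim_stalk_fiber_comp f g x
  have hcast : ((Cardinal.toENat (Dual3.resTrdeg (f ≫ g) x) : ℕ∞) : WithBot ℕ∞) =
      ((Cardinal.toENat (Dual3.resTrdeg g (f x)) : ℕ∞) : WithBot ℕ∞) +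
        ((Cardinal.toENat (Dual3.resTrdeg f x) : ℕ∞) : WithBot ℕ∞) := by
    rw [ht, map_add, WithBot.coe_add]
  change FlatMor.fibreDimAt (f ≫ g) x ≤ FlatMor.fibreDimAt f x + FlatMor.fibreDimAt g (f x) ∧
    ((f.stalkMap x).hom.Flat →
      FlatMor.fibreDimAt (f ≫ g) x = FlatMor.fibreDimAt f x + FlatMor.fibreDimAt g (f x))
  rw [h1, h2, h3, hcast]
  constructor
  · calc _ ≤ (ringKrullDim ((g.fiber (g (f x))).presheaf.stalk (g.asFiber (f x))) +
          ringKrullDim ((f.fiber (f x)).presheaf.stalk (f.asFiber x))) +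
          (((Cardinal.toENat (Dual3.resTrdeg g (f x)) : ℕ∞) : WithBot ℕ∞) +
            ((Cardinal.toENat (Dual3.resTrdeg f x) : ℕ∞) : WithBot ℕ∞)) :=
        add_le_add_left hle _
      _ = _ := by abel
  · intro hfl
    rw [heq hfl]
    abel

end Groth.Agent.H51
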