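import Groth.Agent.H51.ResTrdeg2
import Groth.Prelude.Def_Flat
import Mathlib.AlgebraicGeometry.ZariskisMainTheorem
import Mathlib.AlgebraicGeometry.Artinian

set_option autoImplicit false
universe u
open CategoryTheory CategoryTheory.Limits AlgebraicGeometry Opposite MorphismProperty

namespace Groth.Agent.H51

open AlgSp

/-- Quasi-finiteness at a point of a composite. -/
theorem quasiFiniteAt_comp {W U V : Scheme.{u}} (p : W ⟶ U) (h : U ⟶ V) (w : W)
    (hp : p.QuasiFiniteAt w) (hh : h.QuasiFiniteAt (p w)) : (p ≫ h).QuasiFiniteAt w := by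
  unfold Scheme.Hom.QuasiFiniteAt at *
  rw [Scheme.Hom.stalkMap_comp]
  exact RingHom.QuasiFinite.comp hp hh

/-- Quasi-finiteness at a point in terms of the point being isolated in its fibre. -/
theorem quasiFiniteAt_iff_isolated {X Y : Scheme.{u}} (f : X ⟶ Y) [LocallyOfFiniteType f] (x : X) :
    f.QuasiFiniteAt x ↔ ∃ N : Set X, IsOpen N ∧ N ∩ f ⁻¹' {f x} = {x} := by
  rw [Scheme.Hom.quasiFiniteAt_iff_isOpen_singleton_asFiber,
    ← (f.fiberHomeo (f x)).isOpen_image]
  simp only [Set.image_singleton, Scheme.Hom.asFiber, Homeomorph.apply_symm_apply]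
  rw [isOpen_induced_iff]
  constructor
  · rintro ⟨N, hN, hN'⟩
    refine ⟨N, hN, ?_⟩
    ext z
    constructor
    · rintro ⟨hz1, hz2⟩
      have : (⟨z, hz2⟩ : f ⁻¹' {f x}) ∈ Subtype.val ⁻¹' N := hz1
      rw [hN'] at this
      exact congrArg Subtype.val this
    · rintro rfl
      have : (⟨z, rfl⟩ : f ⁻¹' {f z}) ∈ Subtype.val ⁻¹' N := by rw [hN']; rfl
      exact ⟨this, rfl⟩
  · rintro ⟨N, hN, hN'⟩
    refine ⟨N, hN, ?_⟩
    ext ⟨z, hz⟩
    constructor
    · intro hz1
      have : z ∈ N ∩ f ⁻¹' {f x} := ⟨hz1, hz⟩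
      rw [hN'] at this
      exact Subtype.ext this
    · intro hz1
      have : z = x := congrArg Subtype.val hz1
      subst this
      have : z ∈ N ∩ f ⁻¹' {f z} := by rw [hN']; rfl
      exact this.1

/-- Descent of quasi-finiteness at a point along an étale morphism of the source. -/
theorem quasiFiniteAt_of_comp_etale {W U V : Scheme.{u}} (p : W ⟶ U) (h : U ⟶ V) [Etale p]
    [LocallyOfFiniteType h] (w : W) (hw : (p ≫ h).QuasiFiniteAt w) : h.QuasiFiniteAt (p w) := by
  rw [quasiFiniteAt_iff_isolated] at hw ⊢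
  obtain ⟨N, hN, hN'⟩ := hw
  refine ⟨p '' N, p.isOpenMap _ hN, ?_⟩
  ext z
  constructor
  · rintro ⟨⟨n, hn, rfl⟩, hz⟩
    have : n ∈ N ∩ (p ≫ h) ⁻¹' {(p ≫ h) w} := ⟨hn, by simpa using hz⟩
    rw [hN'] at this
    rw [this]
    rfl
  · rintro rfl
    have : w ∈ N ∩ (p ≫ h) ⁻¹' {(p ≫ h) w} := by rw [hN']; rfl
    exact ⟨⟨w, this.1, rfl⟩, rfl⟩

end Groth.Agent.H51

namespace Groth.Agent.H51
open AlgSp

theorem topologicalKrullDim_nonneg_of_mem {X : Type*} [TopologicalSpace X] (x : X) :
    0 ≤ topologicalKrullDim X := by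
  haveI : Nonempty (TopologicalSpace.IrreducibleCloseds X) :=
    ⟨⟨closure {x}, isIrreducible_singleton.closure, isClosed_closure⟩⟩
  exact Order.krullDim_nonneg

/-- A locally quasi-finite morphism has fibre dimension `0` at every point. -/
theorem fibreDimAt_eq_zero_of_lqf {X Y : Scheme.{u}} (f : X ⟶ Y) [LocallyQuasiFinite f] (x : X) :
    FlatMor.fibreDimAt f x = 0 := by
  unfold FlatMor.fibreDimAt FlatMor.localDim
  refine le_antisymm ?_ (le_iInf fun U => ?_)
  · refine iInf_le_of_le ⟨⊤, trivial⟩ ?_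
    exact topologicalKrullDim_zero_of_discreteTopology _
  · exact topologicalKrullDim_nonneg_of_mem (⟨f.asFiber x, U.2⟩ : (U.1 : Set (f.fiber (f x))))

/-- If the fibre has dimension `0` at `x` then `f` is quasi-finite at `x`. -/
theorem quasiFiniteAt_of_fibreDimAt_eq_zero {X Y : Scheme.{u}} (f : X ⟶ Y)
    [LocallyOfFiniteType f] (x : X) (h : FlatMor.fibreDimAt f x = 0) : f.QuasiFiniteAt x := by
  rw [Scheme.Hom.quasiFiniteAt_iff_isOpen_singleton_asFiber]
  unfold FlatMor.fibreDimAt FlatMor.localDim at h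
  -- an open neighbourhood of dimension `≤ 0`
  obtain ⟨U, hU⟩ : ∃ U : {U : TopologicalSpace.Opens (f.fiber (f x)) // f.asFiber x ∈ U},
      topologicalKrullDim (U.1 : Set (f.fiber (f x))) ≤ 0 := by
    by_contra hcon
    push_neg at hcon
    have h1 : (1 : WithBot ℕ∞) ≤ ⨅ U : {U : TopologicalSpace.Opens (f.fiber (f x)) //
        f.asFiber x ∈ U}, topologicalKrullDim (U.1 : Set (f.fiber (f x))) := by
      refine le_iInf fun U => ?_
      have := hcon U
      generalize topologicalKrullDim (U.1 : Set (f.fiber (f x))) = d at this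
      induction d with
      | bot => simp at this
      | coe n =>
        have hn : n ≠ 0 := by
          rintro rfl
          simp at this
        have : (1 : ℕ∞) ≤ n := ENat.one_le_iff_ne_zero.2 hn
        exact_mod_cast this
    rw [h] at h1
    exact absurd h1 (by decide)
  haveI : LocallyOfFiniteType (f.fiberToSpecResidueField (f x)) :=
    MorphismProperty.pullback_snd _ _ inferInstance
  haveI : IsLocallyNoetherian (f.fiber (f x)) :=
    LocallyOfFiniteType.isLocallyNoetherian (f.fiberToSpecResidueField (f x))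
  let U' : (f.fiber (f x)).Opens := U.1
  haveI : IsLocallyArtinian U'.toScheme :=
    IsLocallyArtinian.of_topologicalKrullDim_le_zero hU
  haveI : DiscreteTopology ↥U' :=
    IsLocallyArtinian.discreteTopology (X := U'.toScheme)
  have h1 : IsOpen ({⟨f.asFiber x, U.2⟩} : Set ↥U') := isOpen_discrete _
  have h2 := U.1.2.isOpenEmbedding_subtypeVal.isOpenMap _ h1
  simpa using h2

end Groth.Agent.H51

namespace Groth.Agent.H51
open AlgSp Groth.Agent.H50
variable {S : Scheme.{u}}

/-- Chart transfer of quasi-finiteness at a point. -/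
theorem quasiFiniteAt_chart_transfer {X Y : AlgSp.Space S} (f : X ⟶ Y)
    {U V U' V' : Over S} (a : (yon S).obj U ⟶ X.obj) (b : (yon S).obj V ⟶ Y.obj) (h : U ⟶ V)
    (a' : (yon S).obj U' ⟶ X.obj) (b' : (yon S).obj V' ⟶ Y.obj) (h' : U' ⟶ V')
    (ha : RepWith @Etale a) (hb : RepWith @Etale b) (ha' : RepWith @Etale a')
    (hb' : RepWith @Etale b') (e : a ≫ f.hom = (yon S).map h ≫ b)
    (e' : a' ≫ f.hom = (yon S).map h' ≫ b') (u : ↥U.left) (u' : ↥U'.left)
    (hu : Points.ofPt a u = Points.ofPt a' u') [LocallyOfFiniteType h.left]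
    (hq : h'.left.QuasiFiniteAt u') : h.left.QuasiFiniteAt u := by
  obtain ⟨W, p₁, p₂, w, hp₁, hp₂, hw1, hw2, hw⟩ :=
    exists_common_etale_refinement a ha a' ha' u u' hu
  have sq := hb.rep.isPullback' b'
  set q₁ := hb.rep.fst' b' with hq₁
  set q₂ := hb.rep.snd b' with hq₂
  haveI hq₁E : Etale q₁.left := hb'.property _ _ _ sq.flip
  haveI hq₂E : Etale q₂.left := hb.property _ _ _ sq
  have hcomm : (yon S).map (p₁ ≫ h) ≫ b = (yon S).map (p₂ ≫ h') ≫ b' := by
    rw [Functor.map_comp, Functor.map_comp, Category.assoc, Category.assoc, ← e, ← e',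
      ← Category.assoc, ← Category.assoc, hw]
  obtain ⟨k, hk⟩ := (yon S).map_surjective (sq.lift _ _ hcomm)
  have hk1 : k ≫ q₁ = p₁ ≫ h := by
    apply (yon S).map_injective
    rw [Functor.map_comp, hk, sq.lift_fst]
  have hk2 : k ≫ q₂ = p₂ ≫ h' := by
    apply (yon S).map_injective
    rw [Functor.map_comp, hk, sq.lift_snd]
  have hk1' : k.left ≫ q₁.left = p₁.left ≫ h.left := congrArg CommaMorphism.left hk1
  have hk2' : k.left ≫ q₂.left = p₂.left ≫ h'.left := congrArg CommaMorphism.left hk2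
  haveI : LocallyQuasiFinite p₂.left := locallyQuasiFinite_of_formallyUnramified p₂.left
  haveI : LocallyQuasiFinite q₁.left := locallyQuasiFinite_of_formallyUnramified q₁.left
  haveI : LocallyQuasiFinite q₂.left := locallyQuasiFinite_of_formallyUnramified q₂.left
  have s1 : (p₂.left ≫ h'.left).QuasiFiniteAt w :=
    quasiFiniteAt_comp p₂.left h'.left w (p₂.left.quasiFiniteAt w) (by rw [hw2]; exact hq)
  rw [← hk2', Scheme.Hom.quasiFiniteAt_comp_iff] at s1
  have s2 : (k.left ≫ q₁.left).QuasiFiniteAt w := Scheme.Hom.quasiFiniteAt_comp_iff.2 s1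
  rw [hk1'] at s2
  have s3 := quasiFiniteAt_of_comp_etale p₁.left h.left w s2
  rwa [hw1] at s3

theorem lqf_iff_fibreDimAt_zero {X Y : AlgSp.Space S} (f : X ⟶ Y)
    (hf : AlgSp.LocP @LocallyOfFiniteType f.hom) :
    AlgSp.LocP (@LocallyQuasiFinite ⊓ @LocallyOfFiniteType) f.hom ↔
      ∀ x : AlgSp.Points X.obj,
        AlgSp.HasAtMor (fun _ _ h u => FlatMor.fibreDimAt h u = 0) f.hom x := by
  constructor
  · intro hq x
    obtain ⟨U, V, a, b, h, u, ha, hb, e, hu⟩ := exists_chart_diagram f x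
    haveI : LocallyQuasiFinite h.left := (hq a b h ha hb e).1
    exact ⟨U, V, a, b, h, u, ha, hb, e, hu, fibreDimAt_eq_zero_of_lqf h.left u⟩
  · intro hx U V a b h ha hb e
    haveI hlft : LocallyOfFiniteType h.left := hf a b h ha hb e
    refine ⟨?_, hlft⟩
    rw [← Scheme.Hom.quasiFiniteLocus_eq_top_iff]
    refine top_le_iff.mp fun u _ => ?_
    obtain ⟨U', V', a', b', h', u', ha', hb', e', hu', hd⟩ := hx (Points.ofPt a u)
    haveI : LocallyOfFiniteType h'.left := hf a' b' h' ha' hb' e'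
    have hq := quasiFiniteAt_of_fibreDimAt_eq_zero h'.left u' hd
    exact quasiFiniteAt_chart_transfer f a b h a' b' h' ha hb ha' hb' e e' u u' hu'.symm hq

end Groth.Agent.H51
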