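import Groth.Agent.H17.Chev.RedSubChev
import Groth.Agent.H17.Chev.DimOneBase
import Groth.Agent.H17.Chev.DimEqScheme
import Groth.Agent.H12.Topo

/-!
# Dimension of the connected component of a fibre through a section (EGA IV 13.x / 15.6.x)
-/

set_option autoImplicit false
set_option linter.unusedSectionVars false
set_option linter.style.haveILetI false
universe u
open CategoryTheory CategoryTheory.Limits AlgebraicGeometry Topology Order TopologicalSpace

namespace Groth.Agent.H51

open Groth.Agent.H17.Chev

/-- a strictly monotone map with all values strictly below a fixed element raises the Krull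
dimension by at least one -/
theorem krullDim_add_one_le_of_strictMono_of_lt {α β : Type*} [Preorder α] [Preorder β]
    (g : α → β) (hg : StrictMono g) (t : β) (ht : ∀ a, g a < t) :
    krullDim α + 1 ≤ krullDim β := by
  have key : ∀ p : LTSeries α, ((p.length : ℕ) : WithBot ℕ∞) + ((1 : ℕ) : WithBot ℕ∞) ≤
      krullDim β := by
    intro p
    let p' : LTSeries β := (p.map g hg).snoc t (by simpa using ht _)
    have h3 : p'.length = p.length + 1 := by simp [p']
    have := LTSeries.length_le_krullDim p'
    rw [h3] at this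
    exact_mod_cast this
  have := iSup_add_natCast_le (fun p : LTSeries α => ((p.length : ℕ) : WithBot ℕ∞)) 1 _ key
  simpa [krullDim] using this

/-- a proper relatively closed subset of an irreducible subset has strictly smaller dimension -/
theorem topologicalKrullDim_add_one_le_of_ssubset {B : Type*} [TopologicalSpace B] (C D : Set B)
    (hC : IsIrreducible C) (hDC : D ⊆ C) (T : Set B) (hT : IsClosed T) (hD : D = C ∩ T)
    (hne : D ≠ C) :
    topologicalKrullDim ↥D + 1 ≤ topologicalKrullDim ↥C := by
  haveI : IrreducibleSpace ↥C := Subtype.irreducibleSpace hC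
  have hind : IsInducing (Set.inclusion hDC) := (IsEmbedding.inclusion hDC).isInducing
  let t : IrreducibleCloseds ↥C :=
    ⟨Set.univ, IrreducibleSpace.isIrreducible_univ _, isClosed_univ⟩
  refine krullDim_add_one_le_of_strictMono_of_lt
    (IrreducibleCloseds.map (Set.inclusion hDC) hind.continuous)
    (IrreducibleCloseds.map_strictMono_of_isInducing hind) t ?_
  intro a
  have hcl : IsClosed (Set.range (Set.inclusion hDC)) := by
    have : Set.range (Set.inclusion hDC) = (Subtype.val : ↥C → B) ⁻¹' T := by
      ext z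
      simp only [Set.range_inclusion, Set.mem_setOf_eq, Set.mem_preimage]
      rw [hD]
      exact ⟨fun h => h.2, fun h => ⟨z.2, h⟩⟩
    rw [this]
    exact hT.preimage continuous_subtype_val
  have hsub : (IrreducibleCloseds.map (Set.inclusion hDC) hind.continuous a : Set ↥C) ⊆
      Set.range (Set.inclusion hDC) := by
    rw [IrreducibleCloseds.coe_map]
    exact closure_minimal (Set.image_subset_range _ _) hcl
  refine lt_of_le_of_ne (fun z _ => Set.mem_univ z) ?_
  intro h
  apply hne
  apply subset_antisymm hDC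
  intro c hc
  have h1 : (⟨c, hc⟩ : ↥C) ∈ (IrreducibleCloseds.map (Set.inclusion hDC) hind.continuous a :
      Set ↥C) := by
    rw [h]; exact Set.mem_univ _
  obtain ⟨d, hd⟩ := hsub h1
  have : (d : B) = c := congrArg Subtype.val hd
  rw [← this]
  exact d.2

theorem isIrreducible_of_image_of_isInducing {A B : Type*} [TopologicalSpace A] [TopologicalSpace B]
    (φ : A → B) (hφ : IsInducing φ) (K : Set A) (h : IsIrreducible (φ '' K)) : IsIrreducible K := by
  refine ⟨h.1.of_image, ?_⟩
  rintro U V hU hV ⟨a, haK, haU⟩ ⟨b, hbK, hbV⟩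
  obtain ⟨U', hU', rfl⟩ := hφ.isOpen_iff.mp hU
  obtain ⟨V', hV', rfl⟩ := hφ.isOpen_iff.mp hV
  obtain ⟨_, ⟨c, hcK, rfl⟩, hc⟩ := h.2 U' V' hU' hV' ⟨φ a, ⟨a, haK, rfl⟩, haU⟩
    ⟨φ b, ⟨b, hbK, rfl⟩, hbV⟩
  exact ⟨c, hcK, hc⟩

/-- A scheme locally of finite type over a field is locally connected. -/
theorem locallyConnectedSpace_of_lft_field (κ : Type u) [Field κ] {Z : Scheme.{u}}
    (z : Z ⟶ Spec (.of κ)) [LocallyOfFiniteType z] : LocallyConnectedSpace Z := by
  haveI : IsLocallyNoetherian Z := LocallyOfFiniteType.isLocallyNoetherian z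
  apply Groth.Agent.H12.locallyConnectedSpace_of_locallyNoetherian
  intro x
  obtain ⟨W, hW, hxW, -⟩ := exists_isAffineOpen_mem_and_subset (x := x) (U := ⊤) trivial
  haveI := IsLocallyNoetherian.component_noetherian ⟨W, hW⟩
  exact ⟨W, W.2.mem_nhds hxW, noetherianSpace_of_isAffineOpen W hW⟩

/-- For a scheme locally of finite type over a field: an irreducible connected component is open,
its dimension is the local dimension at any of its points, and it has a generic point. -/
theorem connectedComponent_of_lft_field (κ : Type u) [Field κ] {Z : Scheme.{u}}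
    (z : Z ⟶ Spec (.of κ)) [LocallyOfFiniteType z] (t₀ : Z)
    (hirr : IsIrreducible (connectedComponent t₀)) :
    IsOpen (connectedComponent t₀) ∧
    topologicalKrullDim ↥(connectedComponent t₀) = FlatMor.localDim Z t₀ ∧
    ∃ η ∈ connectedComponent t₀, connectedComponent t₀ ⊆ closure {η} := by
  haveI := locallyConnectedSpace_of_lft_field κ z
  have hopen : IsOpen (connectedComponent t₀) := isOpen_connectedComponent
  refine ⟨hopen, ?_, ?_⟩
  · let U : Z.Opens := ⟨connectedComponent t₀, hopen⟩
    haveI : IrreducibleSpace (U : Scheme.{u}) := Subtype.irreducibleSpace hirr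
    have h1 := topologicalKrullDim_eq_localDim_of_irreducible κ (U.ι ≫ z)
      (⟨t₀, mem_connectedComponent⟩ : (U : Scheme.{u}))
    have h2 := localDim_eq_of_isOpenEmbedding U.ι.isOpenEmbedding
      (⟨t₀, mem_connectedComponent⟩ : (U : Scheme.{u}))
    exact h1.trans h2
  · let U : Z.Opens := ⟨connectedComponent t₀, hopen⟩
    haveI : IrreducibleSpace (U : Scheme.{u}) := Subtype.irreducibleSpace hirr
    refine ⟨(genericPoint (U : Scheme.{u})).1, (genericPoint (U : Scheme.{u})).2, ?_⟩
    intro c hc
    have h1 : (⟨c, hc⟩ : (U : Scheme.{u})) ∈ closure {genericPoint (U : Scheme.{u})} := by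
      rw [(genericPoint_spec (U : Scheme.{u})).def]; exact Set.mem_univ _
    have h2 : genericPoint (U : Scheme.{u}) ⤳ (⟨c, hc⟩ : (U : Scheme.{u})) :=
      specializes_iff_mem_closure.mpr h1
    exact specializes_iff_mem_closure.mp (h2.map continuous_subtype_val)


theorem fibreComp_facts {X Y : Scheme.{u}} (f : X ⟶ Y) [LocallyOfFiniteType f] (y : Y) (x : X)
    (hx : f.base x = y)
    (hirr : IsIrreducible (connectedComponentIn (f.base ⁻¹' {y}) x)) :
    (∃ W : Set X, IsOpen W ∧ connectedComponentIn (f.base ⁻¹' {y}) x = W ∩ f.base ⁻¹' {y}) ∧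
    topologicalKrullDim ↥(connectedComponentIn (f.base ⁻¹' {y}) x) = FlatMor.fibreDimAt f x ∧
    ∃ ξ ∈ connectedComponentIn (f.base ⁻¹' {y}) x,
      connectedComponentIn (f.base ⁻¹' {y}) x ⊆ closure {ξ} := by
  have hxF : x ∈ f.base ⁻¹' {y} := hx
  set e := f.fiberHomeo y with he
  set t₀ := e.symm ⟨x, hxF⟩ with ht₀
  have het₀ : e t₀ = ⟨x, hxF⟩ := e.apply_symm_apply _
  have hφt₀ : (f.fiberι y).base t₀ = x := congrArg Subtype.val het₀
  have h1 : e '' connectedComponent t₀ = connectedComponent (e t₀) := by
    have := e.image_connectedComponentIn (s := Set.univ) (x := t₀) (Set.mem_univ _)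
    rwa [connectedComponentIn_univ, Set.image_univ, e.surjective.range_eq,
      connectedComponentIn_univ] at this
  have hC : connectedComponentIn (f.base ⁻¹' {y}) x =
      (f.fiberι y).base '' connectedComponent t₀ := by
    rw [connectedComponentIn_eq_image hxF, ← het₀, ← h1, Set.image_image]
    rfl
  have hlft : LocallyOfFiniteType (f.fiberToSpecResidueField y) :=
    inferInstanceAs (LocallyOfFiniteType (pullback.snd f (Y.fromSpecResidueField y)))
  have hirrK : IsIrreducible (connectedComponent t₀) :=
    isIrreducible_of_image_of_isInducing _ (f.fiberι y).isEmbedding.isInducing _ (hC ▸ hirr)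
  obtain ⟨hopen, hdim, η, hηK, hη⟩ := connectedComponent_of_lft_field (Y.residueField y)
    (f.fiberToSpecResidueField y) t₀ hirrK
  refine ⟨?_, ?_, ?_⟩
  · have h2 : IsOpen (e '' connectedComponent t₀) := e.isOpenMap _ hopen
    obtain ⟨W, hW, hWe⟩ := isOpen_induced_iff.mp h2
    refine ⟨W, hW, ?_⟩
    rw [connectedComponentIn_eq_image hxF, ← het₀, ← h1, ← hWe]
    ext z
    simp only [Set.mem_image, Set.mem_preimage, Subtype.exists, exists_and_right, exists_eq_right,
      Set.mem_inter_iff, Set.mem_singleton_iff]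
    exact ⟨fun ⟨h, hz⟩ => ⟨hz, h⟩, fun ⟨hz, h⟩ => ⟨h, hz⟩⟩
  · have hemb : IsEmbedding (fun k : ↥(connectedComponent t₀) => (f.fiberι y).base k.1) :=
      (f.fiberι y).isEmbedding.comp IsEmbedding.subtypeVal
    have hr : Set.range (fun k : ↥(connectedComponent t₀) => (f.fiberι y).base k.1) =
        connectedComponentIn (f.base ⁻¹' {y}) x := by
      rw [hC]
      ext z
      simp
    rw [← topologicalKrullDim_eq_of_isEmbedding _ hemb _ hr, hdim,
      localDim_fiber_eq_fibreDimAt, hφt₀]
  · refine ⟨(f.fiberι y).base η, hC ▸ ⟨η, hηK, rfl⟩, ?_⟩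
    rw [hC]
    rintro _ ⟨k, hk, rfl⟩
    have : η ⤳ k := specializes_iff_mem_closure.mpr (hη hk)
    exact specializes_iff_mem_closure.mp (this.map (f.fiberι y).continuous)


end Groth.Agent.H51
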