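import Groth.Agent.H51.EtSourceRing3
import Mathlib.AlgebraicGeometry.Sites.Etale
import Mathlib.AlgebraicGeometry.Morphisms.Etale
import Mathlib.AlgebraicGeometry.Morphisms.FormallyUnramified

set_option autoImplicit false
universe u
open CategoryTheory CategoryTheory.Limits AlgebraicGeometry Opposite MorphismProperty TensorProduct

namespace Groth.Agent.H51

open Groth.Agent.H50

/-- Being locally of finite presentation is etale local on the source. -/
theorem locallyOfFinitePresentation_of_comp_etale_surjective {A B C : Scheme.{u}} (e : A ⟶ B)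
    (h : B ⟶ C) [Etale e] [Surjective e] (H : LocallyOfFinitePresentation (e ≫ h)) :
    LocallyOfFinitePresentation h :=
  haveI := respectsRight_isOpenImmersion_of @LocallyOfFinitePresentation
    (fun f _ => inferInstance)
  of_comp_etale_surjective (P := @LocallyOfFinitePresentation)
    descendsStdEtale_finitePresentation e h H

/-- Being formally unramified is etale local on the source. -/
theorem formallyUnramified_of_comp_etale_surjective {A B C : Scheme.{u}} (e : A ⟶ B)
    (h : B ⟶ C) [Etale e] [Surjective e] (H : FormallyUnramified (e ≫ h)) :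
    FormallyUnramified h :=
  haveI := respectsRight_isOpenImmersion_of @FormallyUnramified (fun f _ => inferInstance)
  of_comp_etale_surjective (P := @FormallyUnramified)
    descendsStdEtale_formallyUnramified e h H

/-- Being flat is etale local on the source. -/
theorem flat_of_comp_etale_surjective {A B C : Scheme.{u}} (e : A ⟶ B)
    (h : B ⟶ C) [Etale e] [Surjective e] (H : Flat (e ≫ h)) : Flat h :=
  haveI := respectsRight_isOpenImmersion_of @Flat (fun f _ => inferInstance)
  of_comp_etale_surjective (P := @Flat) descendsStdEtale_flat e h H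

/-- Being etale is etale local on the source. -/
theorem etale_of_comp_etale_surjective {A B C : Scheme.{u}} (e : A ⟶ B)
    (h : B ⟶ C) [Etale e] [Surjective e] (H : Etale (e ≫ h)) : Etale h :=
  haveI := respectsRight_isOpenImmersion_of @Etale (fun f _ => inferInstance)
  of_comp_etale_surjective (P := @Etale) descendsStdEtale_etale e h H

/-- Family version: a Zariski-source-local property which descends along surjective etale maps on
the source descends along etale covering families. -/
theorem of_forall_comp_of_mem_etalePrecoverage {P : MorphismProperty Scheme.{u}}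
    [IsZariskiLocalAtSource P]
    (hP : ∀ {A B C : Scheme.{u}} (e : A ⟶ B) (h : B ⟶ C), Etale e → Surjective e →
      P (e ≫ h) → P h)
    {X Y : Scheme.{u}} (f : X ⟶ Y) (R : Presieve X) (hR : R ∈ Scheme.etalePrecoverage X)
    (H : ∀ ⦃U : Scheme.{u}⦄ ⦃g : U ⟶ X⦄, R g → P (g ≫ f)) : P f := by
  have hsurj : ∀ x : X, ∃ (U : Scheme.{u}) (g : U ⟶ X), R g ∧ x ∈ Set.range g := by
    have := hR.1
    rw [Scheme.jointlySurjectivePrecoverage,
      Presieve.mem_comap_jointlySurjectivePrecoverage_iff] at this
    intro x
    obtain ⟨U, g, hg, y, hy⟩ := this x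
    exact ⟨U, g, hg, y, hy⟩
  choose U g hg hx using hsurj
  have het : ∀ x, Etale (g x) := fun x => hR.2 (hg x)
  let V : X → X.Opens := fun x => ⟨Set.range (g x), (g x).isOpenMap.isOpen_range⟩
  have hV : ⨆ x, V x = ⊤ := by
    rw [eq_top_iff]
    intro x _
    exact TopologicalSpace.Opens.mem_iSup.2 ⟨x, hx x⟩
  rw [IsZariskiLocalAtSource.iff_of_iSup_eq_top (P := P) V hV]
  intro x
  have hle : Set.range (g x) ⊆ Set.range (V x).ι := by simp [V]
  let g' : U x ⟶ (V x : Scheme.{u}) := IsOpenImmersion.lift (V x).ι (g x) hle
  have hg' : g' ≫ (V x).ι = g x := IsOpenImmersion.lift_fac _ _ _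
  have h1 : Etale g' := by
    have : Etale (g' ≫ (V x).ι) := by rw [hg']; exact het x
    exact MorphismProperty.of_postcomp (W := @Etale) (W' := @IsOpenImmersion) g' (V x).ι
      inferInstance this
  have h2 : Surjective g' := ⟨fun ⟨y, ⟨z, hz⟩⟩ ↦
    ⟨z, by apply (V x).ι.injective; simp [← Scheme.Hom.comp_apply, hg', hz]⟩⟩
  refine hP g' ((V x).ι ≫ f) h1 h2 ?_
  rw [← Category.assoc, hg']
  exact H (hg x)

/-- Being etale is local on the source for the etale precoverage. -/
theorem etale_isLocalAtSource_etalePrecoverage :
    MorphismProperty.IsLocalAtSource (@Etale : MorphismProperty Scheme.{u})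
      Scheme.etalePrecoverage where
  comp {X Y f R} hR U g hg hf := by
    have : Etale g := hR.2 hg
    have : Etale f := hf
    exact (inferInstance : Etale (g ≫ f))
  of_forall_comp {X Y f R} hR H :=
    of_forall_comp_of_mem_etalePrecoverage
      (fun e h he hs H => @etale_of_comp_etale_surjective _ _ _ e h he hs H) f R hR H

end Groth.Agent.H51
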