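import Groth.Prelude.Def_Cyc
import Groth.Prelude.Def_Flat
import Groth.Agent.H17.Chev.LocMax
import Groth.Agent.H17.Chev.CompDim
import Groth.Agent.H17.Chev.MaxPt

/-! Pure relative dimension `r` (all irreducible components of all fibres have dimension `r`) is
the same as `fibreDimAt = r` at every point, for morphisms locally of finite type. -/

set_option autoImplicit false
universe u
open CategoryTheory CategoryTheory.Limits AlgebraicGeometry Opposite TopologicalSpace

namespace Groth.Agent.H51

/-- The local dimension grows along specialization. -/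
theorem localDim_le_of_specializes {T : Type*} [TopologicalSpace T] {w t : T} (h : w ⤳ t) :
    FlatMor.localDim T w ≤ FlatMor.localDim T t := by
  unfold FlatMor.localDim
  refine le_iInf fun W => ?_
  exact iInf_le (fun U : {U : Opens T // w ∈ U} => topologicalKrullDim (U.1 : Set T))
    ⟨W.1, h.mem_open W.1.isOpen W.2⟩

/-- The fibre dimension at a point, in terms of the fibre over a given point. -/
theorem fibreDimAt_eq_localDim_fiber {X Y : Scheme.{u}} (f : X ⟶ Y) (y : Y) (z : X) (hz : f z = y)
    (t : f.fiber y) (ht : f.fiberι y t = z) :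
    FlatMor.fibreDimAt f z = FlatMor.localDim (f.fiber y) t := by
  subst hz
  have : t = f.asFiber z := by
    apply (f.fiberι _).isEmbedding.injective
    rw [ht, Scheme.Hom.fiberι_asFiber]
  subst this
  rfl

theorem map_fiberι' {X Y : Scheme.{u}} (f : X ⟶ Y) (y : Y) (t : f.fiber y) :
    f (f.fiberι y t) = y := by
  have := (f.fiberHomeo y t).2
  exact this

/-- On a scheme locally of finite type over a field: all irreducible components have dimension
`r` iff the local dimension is `r` everywhere. -/
theorem forall_irreducibleComponents_dim_iff (κ : Type u) [Field κ] {F : Scheme.{u}}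
    (φ : F ⟶ Spec (.of κ)) [LocallyOfFiniteType φ] (r : WithBot ℕ∞) :
    (∀ T ∈ irreducibleComponents (F : Type u), topologicalKrullDim ↥T = r) ↔
      ∀ t : F, FlatMor.localDim F t = r := by
  have hFN : IsLocallyNoetherian F := LocallyOfFiniteType.isLocallyNoetherian φ
  constructor
  · intro h t
    apply le_antisymm
    · exact Groth.Agent.H17.Chev.localDim_le_of_forall_irreducibleComponents F t r
        (fun Z hZ _ => (h Z hZ).le)
    · obtain ⟨Z, hZ, htZ⟩ := exists_mem_irreducibleComponents_subset_of_isIrreducible
        ({t} : Set F) isIrreducible_singleton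
      have hZc : IsClosed Z := isClosed_of_mem_irreducibleComponents Z hZ
      obtain ⟨w, hw⟩ := QuasiSober.sober hZ.1 hZc
      have hwt : w ⤳ t := hw.specializes (htZ rfl)
      rw [← h Z hZ, Groth.Agent.H17.Chev.dim_irreducibleComponent_eq_localDim κ φ Z hZ w hw]
      exact localDim_le_of_specializes hwt
  · intro h T hT
    have hTc : IsClosed T := isClosed_of_mem_irreducibleComponents T hT
    obtain ⟨w, hw⟩ := QuasiSober.sober hT.1 hTc
    rw [Groth.Agent.H17.Chev.dim_irreducibleComponent_eq_localDim κ φ T hT w hw]
    exact h w

/-- **Pure relative dimension via local fibre dimensions.** -/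
theorem hasRelDim_iff {X Y : Scheme.{u}} (f : X ⟶ Y) [LocallyOfFiniteType f] (r : ℕ) :
    Cyc.HasRelDim f r ↔ ∀ x : X, FlatMor.fibreDimAt f x = r := by
  have key : ∀ y : Y, (∀ T ∈ irreducibleComponents ↥(f.fiber y), topologicalKrullDim ↥T = r) ↔
      ∀ t : f.fiber y, FlatMor.localDim (f.fiber y) t = r := by
    intro y
    haveI : LocallyOfFiniteType (f.fiberToSpecResidueField y) :=
      inferInstanceAs (LocallyOfFiniteType (pullback.snd f (Y.fromSpecResidueField y)))
    exact forall_irreducibleComponents_dim_iff (Y.residueField y) (f.fiberToSpecResidueField y) r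
  constructor
  · intro h x
    exact ((key (f x)).1 (h (f x))) (f.asFiber x)
  · intro h y
    refine (key y).2 fun t => ?_
    rw [← fibreDimAt_eq_localDim_fiber f y (f.fiberι y t) (map_fiberι' f y t) t rfl]
    exact h _

end Groth.Agent.H51
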