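import Groth.Agent.H90.GrpdFibre
import Groth.Agent.H49.FibreDimAtBC
import Groth.Agent.H17.Chev.Irreducible
import Groth.Agent.H17.Chev.TopLocalDim
import Groth.Agent.H51.RelDimIff

/-! A groupoid scheme on the spectrum of a field with `s` locally of finite type is
equidimensional (Stacks 04MQ). -/

set_option autoImplicit false
universe u
open CategoryTheory CategoryTheory.Limits AlgebraicGeometry Opposite TopologicalSpace

namespace Groth.Agent.H51

/-- Local dimension of a base change of a `k`-scheme locally of finite type along a field point of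
`Spec k` (here through an isomorphism `U ≅ Spec k`). -/
theorem localDim_pullback_field {R U : Scheme.{u}} (k : Type u) [Field k]
    (eU : U ≅ Spec (CommRingCat.of k)) (s : R ⟶ U) [LocallyOfFiniteType s] {K : Type u} [Field K]
    (a : Spec (CommRingCat.of K) ⟶ U) (p : ↑(pullback s a)) :
    FlatMor.localDim ↑(pullback s a) p = FlatMor.localDim ↑R (pullback.fst s a p) := by
  have hφ : Spec.map (CommRingCat.ofHom (Spec.preimage (a ≫ eU.hom)).hom) = a ≫ eU.hom :=
    Spec.map_preimage _
  have hpb : IsPullback (pullback.fst s a) (pullback.snd s a) (s ≫ eU.hom)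
      (Spec.map (CommRingCat.ofHom (Spec.preimage (a ≫ eU.hom)).hom)) := by
    rw [hφ]
    exact IsPullback.of_iso (IsPullback.of_hasPullback s a) (Iso.refl _) (Iso.refl _) (Iso.refl _)
      eU (by simp) (by simp) (by simp) (by simp)
  exact Groth.Agent.H49.FibreDimAtBC.localDim_eq_of_isPullback_field k K
    (Spec.preimage (a ≫ eU.hom)).hom (s ≫ eU.hom) _ _ hpb p

/-- Homogeneity: all local dimensions of `R` agree. -/
theorem localDim_eq_of_groupoid_field (S : Scheme.{u}) (G : Grpd.GroupoidScheme S) (k : Type u)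
    [Field k] (eU : G.U ≅ Spec (CommRingCat.of k)) [LocallyOfFiniteType G.s] (r r' : G.R) :
    FlatMor.localDim ↥G.R r = FlatMor.localDim ↥G.R r' := by
  have hsub : Subsingleton ↥G.U := eU.hom.homeomorph.injective.subsingleton
  obtain ⟨K, _, a, b, φ, p, -, -, -, hp, hp'⟩ :=
    Groth.Agent.H90.exists_iso_fibres S G r r' (Subsingleton.elim _ _)
  rw [← hp, ← hp', ← localDim_pullback_field k eU G.s a p,
    ← localDim_pullback_field k eU G.s b (φ.hom p)]
  exact Groth.Agent.H17.Chev.localDim_eq_of_isOpenEmbedding φ.hom.isOpenEmbedding p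

theorem s7518 (S : Scheme.{u}) (G : Grpd.GroupoidScheme S) (k : Type u) [Field k]
    (eU : G.U ≅ Spec (CommRingCat.of k)) [LocallyOfFiniteType G.s] :
    (∀ Z ∈ irreducibleComponents ↥G.R, topologicalKrullDim ↥Z = topologicalKrullDim ↥G.R) ∧
      ∀ r : G.R, FlatMor.localDim ↥G.R r = topologicalKrullDim ↥G.R := by
  have h2 : ∀ r : G.R, FlatMor.localDim ↥G.R r = topologicalKrullDim ↥G.R := by
    intro r
    rw [Groth.Agent.H17.Chev.topologicalKrullDim_eq_iSup_localDim]
    apply le_antisymm
    · exact le_iSup (fun x : G.R => FlatMor.localDim ↥G.R x) r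
    · exact iSup_le fun r' => (localDim_eq_of_groupoid_field S G k eU r' r).le
  refine ⟨?_, h2⟩
  exact (forall_irreducibleComponents_dim_iff k (G.s ≫ eU.hom) _).2 h2

end Groth.Agent.H51
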