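import Groth.Agent.H51.GrpTranslate
import Groth.Agent.H51.GpdFieldDim

/-! A group scheme locally of finite type over a field is equidimensional. -/

set_option autoImplicit false
universe u
open CategoryTheory CategoryTheory.Limits AlgebraicGeometry Opposite TopologicalSpace
open MonoidalCategory CartesianMonoidalCategory MonObj GrpObj

namespace Groth.Agent.H51

/-- Local dimension of a base change of a `k`-scheme locally of finite type along a field point,
for an arbitrary pullback square. -/
theorem localDim_of_isPullback_field {R U P : Scheme.{u}} (k : Type u) [Field k]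
    (eU : U ≅ Spec (CommRingCat.of k)) (s : R ⟶ U) [LocallyOfFiniteType s] {K : Type u} [Field K]
    (a : Spec (CommRingCat.of K) ⟶ U) (pR : P ⟶ R) (pT : P ⟶ Spec (CommRingCat.of K))
    (h : IsPullback pR pT s a) (p : P) :
    FlatMor.localDim ↑P p = FlatMor.localDim ↑R (pR p) := by
  have hφ : Spec.map (CommRingCat.ofHom (Spec.preimage (a ≫ eU.hom)).hom) = a ≫ eU.hom :=
    Spec.map_preimage _
  have hpb : IsPullback pR pT (s ≫ eU.hom)
      (Spec.map (CommRingCat.ofHom (Spec.preimage (a ≫ eU.hom)).hom)) := by
    rw [hφ]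
    exact IsPullback.of_iso h (Iso.refl _) (Iso.refl _) (Iso.refl _)
      eU (by simp) (by simp) (by simp) (by simp)
  exact Groth.Agent.H49.FibreDimAtBC.localDim_eq_of_isPullback_field k K
    (Spec.preimage (a ≫ eU.hom)).hom (s ≫ eU.hom) _ _ hpb p

/-- Homogeneity of a group scheme locally of finite type over a field. -/
theorem localDim_eq_of_grpObj_field (k : Type u) [Field k] (G : Over (Spec (CommRingCat.of k)))
    [GrpObj G] [LocallyOfFiniteType G.hom] (g : G.left) (x₀ : Spec (CommRingCat.of k)) :
    FlatMor.localDim ↥G.left g = FlatMor.localDim ↥G.left (η[G].left x₀) := by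
  set K := G.left.residueField g
  set ρ₀ := G.left.fromSpecResidueField g
  set T : Over (Spec (CommRingCat.of k)) := Over.mk (ρ₀ ≫ G.hom) with hT
  set ρ : T ⟶ G := Over.homMk ρ₀ rfl with hρ
  obtain ⟨φ, -, hφ⟩ := exists_translation_iso G ρ
  have hpb : IsPullback (snd T G).left (fst T G).left G.hom T.hom :=
    (IsPullback.of_hasPullback T.hom G.hom).flip
  set pt : Spec (CommRingCat.of K) := IsLocalRing.closedPoint K
  set p₁ := (lift (𝟙 T) ρ).left pt with hp₁
  have h1 : (snd T G).left p₁ = g := by
    rw [hp₁, ← Scheme.Hom.comp_apply, ← Over.comp_left, lift_snd]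
    exact Scheme.fromSpecResidueField_apply _ _
  have h2 : (snd T G).left (φ.hom.left p₁) = η[G].left x₀ := by
    rw [hp₁, ← Scheme.Hom.comp_apply, ← Scheme.Hom.comp_apply, ← Over.comp_left, ← Over.comp_left,
      ← Category.assoc, hφ, lift_snd, Over.comp_left, Scheme.Hom.comp_apply]
    congr 1
    exact (inferInstance : Subsingleton (Spec (CommRingCat.of k))).elim _ _
  have e1 := localDim_of_isPullback_field k (Iso.refl _) G.hom T.hom _ _ hpb p₁
  have e2 := localDim_of_isPullback_field k (Iso.refl _) G.hom T.hom _ _ hpb (φ.hom.left p₁)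
  rw [h1] at e1
  rw [h2] at e2
  rw [← e1, ← e2]
  haveI : IsIso φ.hom.left := (Over.forget _).map_isIso φ.hom
  exact Groth.Agent.H17.Chev.localDim_eq_of_isOpenEmbedding φ.hom.left.isOpenEmbedding p₁

theorem s5341 (k : Type u) [Field k] (G : Over (Spec (CommRingCat.of k))) [GrpObj G]
    [LocallyOfFiniteType G.hom] :
    (∀ Z ∈ irreducibleComponents ↥G.left, topologicalKrullDim ↥Z = topologicalKrullDim ↥G.left) ∧
    (∀ g : G.left, FlatMor.localDim ↥G.left g = topologicalKrullDim ↥G.left) := by
  have h2 : ∀ g : G.left, FlatMor.localDim ↥G.left g = topologicalKrullDim ↥G.left := by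
    intro g
    rw [Groth.Agent.H17.Chev.topologicalKrullDim_eq_iSup_localDim]
    apply le_antisymm
    · exact le_iSup (fun x : G.left => FlatMor.localDim ↥G.left x) g
    · refine iSup_le fun g' => ?_
      rw [localDim_eq_of_grpObj_field k G g' (IsLocalRing.closedPoint k),
        localDim_eq_of_grpObj_field k G g (IsLocalRing.closedPoint k)]
  refine ⟨?_, h2⟩
  exact (forall_irreducibleComponents_dim_iff k G.hom _).2 h2

end Groth.Agent.H51
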