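import Groth.Agent.H51.FibCompRing
import Groth.Agent.H51.FibreDimTrdeg
import Groth.Agent.H51.ResTrdeg

set_option autoImplicit false
universe u
open CategoryTheory CategoryTheory.Limits AlgebraicGeometry Opposite MorphismProperty IsLocalRing

namespace Groth.Agent.H51
open Groth.Agent.H49.FibreStalk

/-- The local ring of a fibre of a morphism locally of finite type is Noetherian. -/
theorem isNoetherianRing_stalk_fiber {X Y : Scheme.{u}} (f : X ⟶ Y) [LocallyOfFiniteType f]
    (y : Y) (z : f.fiber y) : IsNoetherianRing ((f.fiber y).presheaf.stalk z) := by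
  letI : (f.fiber y).Over (Spec (CommRingCat.of (Y.residueField y))) :=
    f.fiberOverSpecResidueField y
  haveI : LocallyOfFiniteType (f.fiber y ↘ Spec (CommRingCat.of (Y.residueField y))) :=
    MorphismProperty.pullback_snd (P := @LocallyOfFiniteType) _ _ inferInstance
  haveI : IsLocallyNoetherian (Spec (CommRingCat.of (Y.residueField y))) := inferInstance
  haveI : IsLocallyNoetherian (f.fiber y) :=
    LocallyOfFiniteType.isLocallyNoetherian
      (f.fiber y ↘ Spec (CommRingCat.of (Y.residueField y)))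
  infer_instance

/-- `dim O_{X_s,x} ≤ dim O_{Y_s,y} + dim O_{X_y,x}`, with equality in the flat case. -/
theorem dim_stalk_fiber_comp {X Y S : Scheme.{u}} (f : X ⟶ Y) (g : Y ⟶ S)
    [LocallyOfFiniteType f] [LocallyOfFiniteType g] (x : X) :
    ringKrullDim (((f ≫ g).fiber ((f ≫ g) x)).presheaf.stalk ((f ≫ g).asFiber x)) ≤
      ringKrullDim ((g.fiber (g (f x))).presheaf.stalk (g.asFiber (f x))) +
        ringKrullDim ((f.fiber (f x)).presheaf.stalk (f.asFiber x)) ∧
    ((f.stalkMap x).hom.Flat →
      ringKrullDim (((f ≫ g).fiber ((f ≫ g) x)).presheaf.stalk ((f ≫ g).asFiber x)) =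
        ringKrullDim ((g.fiber (g (f x))).presheaf.stalk (g.asFiber (f x))) +
          ringKrullDim ((f.fiber (f x)).presheaf.stalk (f.asFiber x))) := by
  letI : Algebra (Y.presheaf.stalk (f x)) (X.presheaf.stalk x) := (f.stalkMap x).hom.toAlgebra
  haveI : IsLocalHom (algebraMap (Y.presheaf.stalk (f x)) (X.presheaf.stalk x)) :=
    (inferInstance : IsLocalHom (f.stalkMap x).hom)
  have e1 := ringKrullDim_eq_of_ringEquiv (quotientEquivStalkAsFiber f x)
  have e2 := ringKrullDim_eq_of_ringEquiv (quotientEquivStalkAsFiber g (f x))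
  have e3 := ringKrullDim_eq_of_ringEquiv (quotientEquivStalkAsFiber (f ≫ g) x)
  have hI : fibreIdeal g (f x) ≠ ⊤ := fibreIdeal_ne_top g (f x)
  have hmap : fibreIdeal (f ≫ g) x =
      (fibreIdeal g (f x)).map (algebraMap (Y.presheaf.stalk (f x)) (X.presheaf.stalk x)) := by
    unfold fibreIdeal
    rw [Ideal.map_map, Scheme.Hom.stalkMap_comp]
    rfl
  haveI : IsNoetherianRing (Y.presheaf.stalk (f x) ⧸ fibreIdeal g (f x)) :=
    haveI := isNoetherianRing_stalk_fiber g (g (f x)) (g.asFiber (f x))
    isNoetherianRing_of_ringEquiv _ (quotientEquivStalkAsFiber g (f x)).symm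
  haveI : IsNoetherianRing (X.presheaf.stalk x ⧸
      (fibreIdeal g (f x)).map (algebraMap (Y.presheaf.stalk (f x)) (X.presheaf.stalk x))) := by
    haveI := isNoetherianRing_stalk_fiber (f ≫ g) ((f ≫ g) x) ((f ≫ g).asFiber x)
    rw [← hmap]
    exact isNoetherianRing_of_ringEquiv _ (quotientEquivStalkAsFiber (f ≫ g) x).symm
  have e3' : ringKrullDim (X.presheaf.stalk x ⧸
      (fibreIdeal g (f x)).map (algebraMap (Y.presheaf.stalk (f x)) (X.presheaf.stalk x))) =
      ringKrullDim (((f ≫ g).fiber ((f ≫ g) x)).presheaf.stalk ((f ≫ g).asFiber x)) := by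
    rw [← e3, hmap]
  constructor
  · rw [← e3', ← e2, ← e1]
    exact FibComp.ringKrullDim_quotient_le_add (fibreIdeal g (f x)) hI
  · intro hfl
    haveI : Module.Flat (Y.presheaf.stalk (f x)) (X.presheaf.stalk x) := hfl
    rw [← e3', ← e2, ← e1]
    exact FibComp.ringKrullDim_quotient_eq_add_of_flat (fibreIdeal g (f x)) hI

end Groth.Agent.H51
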