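import Groth.Agent.H17.Chev.RedSubMain
import Groth.Agent.H17.Chev.DimIneqScheme
import Groth.Agent.H17.Chev.EquiCodim
import Groth.Agent.H48.CycDim7
import Groth.Agent.H51.FibreDimTrdeg
import Groth.Agent.H51.ResTrdeg
import Groth.Agent.H51.FibCompScheme

/-! The dimension inequality for a morphism locally of finite type to a locally Noetherian
scheme (Stacks 02JU), in the form with transcendence degrees of residue fields. -/

set_option autoImplicit false
universe u
open CategoryTheory CategoryTheory.Limits AlgebraicGeometry Opposite TopologicalSpace Order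

namespace Groth.Agent.H51
open Groth.Agent.H17.Chev

/-- The fibre local ring at a point without proper generizations is zero-dimensional. -/
theorem ringKrullDim_stalk_fiber_eq_zero_of_isMax {X Y : Scheme.{u}} (f : X ⟶ Y) (ξ : X)
    (hξ : IsMax ξ) :
    ringKrullDim ((f.fiber (f ξ)).presheaf.stalk (f.asFiber ξ)) = 0 := by
  rw [ringKrullDim_stalk_eq_coheight]
  have hmax : IsMax (f.asFiber ξ) := by
    intro w' hw'
    have h1 : w' ⤳ f.asFiber ξ := hw'
    have h2 : (f.fiberι (f ξ)) w' ⤳ (f.fiberι (f ξ)) (f.asFiber ξ) :=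
      h1.map (f.fiberι (f ξ)).continuous
    rw [Scheme.Hom.fiberι_asFiber] at h2
    have h3 : ξ ≤ (f.fiberι (f ξ)) w' := h2
    have h4 : (f.fiberι (f ξ)) w' ≤ ξ := hξ h3
    have h5 : (f.fiberι (f ξ)) (f.asFiber ξ) ⤳ (f.fiberι (f ξ)) w' := by
      rw [Scheme.Hom.fiberι_asFiber]; exact h4
    exact ((f.fiberι (f ξ)).isEmbedding.isInducing.specializes_iff.mp h5)
  rw [coheight_eq_zero.mpr hmax]
  rfl

/-- The transcendence degree of a residue field extension of a morphism locally of finite type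
is finite. -/
theorem exists_nat_resTrdeg {X Y : Scheme.{u}} (f : X ⟶ Y) [LocallyOfFiniteType f] (x : X) :
    ∃ n : ℕ, ((Cardinal.toENat (Dual3.resTrdeg f x) : ℕ∞) : WithBot ℕ∞) = n := by
  obtain ⟨m, hm⟩ := exists_nat_eq_fibreDimAt f x
  have h := fibreDimAt_eq_dim_stalk_add_trdeg f x
  rw [hm] at h
  generalize ((Cardinal.toENat (Dual3.resTrdeg f x) : ℕ∞)) = t at h
  induction t with
  | top =>
    exfalso
    have h0 : (0 : WithBot ℕ∞) ≤
        ringKrullDim ((f.fiber (f x)).presheaf.stalk (f.asFiber x)) :=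
      ringKrullDim_nonneg_of_nontrivial
    generalize ringKrullDim ((f.fiber (f x)).presheaf.stalk (f.asFiber x)) = r at h h0
    induction r with
    | bot => simp at h0
    | coe r =>
      have : ((m : ℕ∞) : WithBot ℕ∞) = ((r + ⊤ : ℕ∞) : WithBot ℕ∞) := by exact_mod_cast h
      have h2 : (m : ℕ∞) = r + ⊤ := WithBot.coe_injective this
      simp at h2
  | coe n => exact ⟨n, rfl⟩

/-- Dimension inequality, integral dominant case, in terms of transcendence degrees. -/
theorem stalk_dim_add_trdeg_le_of_irreducible {X Y : Scheme.{u}} [IrreducibleSpace X]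
    [IrreducibleSpace Y] [IsLocallyNoetherian Y] (f : X ⟶ Y) [LocallyOfFiniteType f]
    [IsDominant f] (x : X) :
    ringKrullDim (X.presheaf.stalk x) +
        ((Cardinal.toENat (Dual3.resTrdeg f x) : ℕ∞) : WithBot ℕ∞) ≤
      ringKrullDim (Y.presheaf.stalk (f x)) +
        ((Cardinal.toENat (Dual3.resTrdeg f (genericPoint X)) : ℕ∞) : WithBot ℕ∞) := by
  have key := stalk_dim_add_fibreDimAt_le f x
  rw [dim_genericFiber_eq_fibreDimAt, fibreDimAt_eq_dim_stalk_add_trdeg f x,
    fibreDimAt_eq_dim_stalk_add_trdeg f (genericPoint X),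
    ringKrullDim_stalk_fiber_eq_zero_of_isMax f (genericPoint X)
      (fun b hb => (genericPoint_specializes b : genericPoint X ⤳ b)), zero_add] at key
  haveI : IsNoetherianRing ((f.fiber (f x)).presheaf.stalk (f.asFiber x)) :=
    isNoetherianRing_stalk_fiber f (f x) (f.asFiber x)
  obtain ⟨n, hn⟩ := exists_nat_eq_ringKrullDim ((f.fiber (f x)).presheaf.stalk (f.asFiber x))
  change ringKrullDim (X.presheaf.stalk x) +
    (ringKrullDim ((f.fiber (f x)).presheaf.stalk (f.asFiber x)) + _) ≤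
    ringKrullDim (Y.presheaf.stalk (f x)) +
      ringKrullDim ((f.fiber (f x)).presheaf.stalk (f.asFiber x)) + _ at key
  rw [hn] at key
  apply le_of_natCast_add_le_natCast_add (a := n)
  calc (n : WithBot ℕ∞) + (ringKrullDim (X.presheaf.stalk x) + _)
      = ringKrullDim (X.presheaf.stalk x) + ((n : WithBot ℕ∞) + _) := by abel
    _ ≤ _ := key
    _ = _ := by abel

/-- Residue transcendence degrees in a commutative square with closed immersions as vertical
maps. -/
theorem resTrdeg_eq_of_closedImmersion_square {X Y X₁ Y₁ : Scheme.{u}} (f : X ⟶ Y) (iX : X₁ ⟶ X)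
    (iY : Y₁ ⟶ Y) (f₁ : X₁ ⟶ Y₁) [IsClosedImmersion iX] [IsClosedImmersion iY]
    (hsq : f₁ ≫ iY = iX ≫ f) (a : X₁) :
    Dual3.resTrdeg f₁ a = Dual3.resTrdeg f (iX a) := by
  have h1 := resTrdeg_comp f₁ iY a
  have h2 := resTrdeg_comp iX f a
  have h3 : Dual3.resTrdeg (f₁ ≫ iY) a = Dual3.resTrdeg (iX ≫ f) a :=
    congrArg (fun g => Dual3.resTrdeg g a) hsq
  rw [resTrdeg_eq_zero_of_lqf iY, resTrdeg_eq_zero_of_lqf iX] at *
  rw [h1, h2] at h3
  simpa using h3

/-- Dimension inequality along one generization: `ξ ⤳ x`. -/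
theorem coheight_closure_add_trdeg_le {X Y : Scheme.{u}} [IsLocallyNoetherian Y] (f : X ⟶ Y)
    [LocallyOfFiniteType f] (ξ x : X) (hx : x ∈ closure ({ξ} : Set X)) :
    ((coheight (⟨x, hx⟩ : ↥(closure ({ξ} : Set X))) : ℕ∞) : WithBot ℕ∞) +
        ((Cardinal.toENat (Dual3.resTrdeg f x) : ℕ∞) : WithBot ℕ∞) ≤
      ringKrullDim (Y.presheaf.stalk (f x)) +
        ((Cardinal.toENat (Dual3.resTrdeg f ξ) : ℕ∞) : WithBot ℕ∞) := by
  have hξ : IsGenericPoint ξ (closure ({ξ} : Set X)) := isGenericPoint_closure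
  obtain ⟨X₁, Y₁, iX, iY, f₁, hiX, hiY, hsq, hrX, hrY⟩ :=
    exists_square f (closure ({ξ} : Set X)) isClosed_closure
  rw [closure_image_eq_of_isGenericPoint f.base f.continuous _ ξ hξ] at hrY
  obtain ⟨a, rfl⟩ : x ∈ Set.range iX.base := hrX ▸ hx
  obtain ⟨aξ, rfl⟩ : ξ ∈ Set.range iX.base := hrX ▸ hξ.mem
  obtain ⟨hX₁, hclX⟩ := irreducibleSpace_of_isEmbedding iX.base iX.isEmbedding aξ
    (by rw [hrX])
  obtain ⟨hY₁, hclY⟩ := irreducibleSpace_of_isEmbedding iY.base iY.isEmbedding (f₁.base aξ)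
    (by rw [hrY, sq_apply f iX iY f₁ hsq])
  have hgenX : genericPoint X₁ = aξ := by
    have h1 : IsGenericPoint aξ (Set.univ : Set X₁) := hclX
    exact ((genericPoint_spec X₁).eq h1)
  have hdom : IsDominant f₁ := by
    constructor
    rw [DenseRange, dense_iff_closure_eq, Set.eq_univ_iff_forall]
    intro t
    have : closure {f₁.base aξ} ⊆ closure (Set.range f₁.base) :=
      closure_mono (Set.singleton_subset_iff.mpr ⟨aξ, rfl⟩)
    exact this (hclY ▸ Set.mem_univ t)
  have hYN : IsLocallyNoetherian Y₁ := LocallyOfFiniteType.isLocallyNoetherian iY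
  have hlft : LocallyOfFiniteType (f₁ ≫ iY) := by rw [hsq]; infer_instance
  have hlft₁ : LocallyOfFiniteType f₁ := locallyOfFiniteType_of_comp f₁ iY
  have key := stalk_dim_add_trdeg_le_of_irreducible f₁ a
  rw [hgenX, resTrdeg_eq_of_closedImmersion_square f iX iY f₁ hsq a,
    resTrdeg_eq_of_closedImmersion_square f iX iY f₁ hsq aξ, stalk_eq_coheight_range iX a] at key
  have hle : ringKrullDim (Y₁.presheaf.stalk (f₁ a)) ≤
      ringKrullDim (Y.presheaf.stalk (f (iX a))) := by
    have h1 := ringKrullDim_le_of_surjective (iY.stalkMap (f₁ a)).hom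
      (iY.stalkMap_surjective (f₁ a))
    have h2 : ringKrullDim (Y.presheaf.stalk (iY (f₁ a))) =
        ringKrullDim (Y.presheaf.stalk (f (iX a))) :=
      congrArg (fun y => ringKrullDim (Y.presheaf.stalk y)) (sq_apply f iX iY f₁ hsq a)
    exact h1.trans h2.le
  have e1 : coheight (⟨iX.base a, a, rfl⟩ : ↥(Set.range iX.base)) =
      coheight (⟨iX.base a, hx⟩ : ↥(closure ({iX.base aξ} : Set X))) :=
    coheight_subtype_congr hrX _ _ _
  rw [e1] at key
  exact key.trans (add_le_add hle le_rfl)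

/-- **Dimension inequality** (Stacks 02JU) with transcendence degrees: for `f : X ⟶ Y` locally
of finite type with `Y` locally Noetherian, and `E` bounding the transcendence degrees of the
points without proper generizations that specialize to `x`. -/
theorem stalk_dim_add_trdeg_le {X Y : Scheme.{u}} [IsLocallyNoetherian Y] (f : X ⟶ Y)
    [LocallyOfFiniteType f] (x : X) (E : Cardinal.{u})
    (hE : ∀ ξ : X, ξ ⤳ x → ringKrullDim (X.presheaf.stalk ξ) = 0 → Dual3.resTrdeg f ξ ≤ E) :
    ringKrullDim (X.presheaf.stalk x) +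
        ((Cardinal.toENat (Dual3.resTrdeg f x) : ℕ∞) : WithBot ℕ∞) ≤
      ringKrullDim (Y.presheaf.stalk (f x)) + ((Cardinal.toENat E : ℕ∞) : WithBot ℕ∞) := by
  haveI : IsLocallyNoetherian X := LocallyOfFiniteType.isLocallyNoetherian f
  obtain ⟨m, hm⟩ := exists_nat_eq_ringKrullDim (X.presheaf.stalk x)
  have hm' : coheight x = (m : ℕ∞) := by
    rw [ringKrullDim_stalk_eq_coheight] at hm
    exact_mod_cast hm
  obtain ⟨p, hp1, hp2⟩ := exists_series_of_coheight_eq_coe x hm'
  obtain ⟨ξ, hξ, hξp⟩ := Groth.Agent.H48.CycDim7.exists_isGen_specializes p.last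
  have hmem : ∀ i, p i ∈ closure ({ξ} : Set X) := fun i =>
    (hξp.trans (show p.last ⤳ p i from (p.monotone (Fin.le_last i)))).mem_closure
  let q : LTSeries ↥(closure ({ξ} : Set X)) :=
    ⟨p.length, fun i => ⟨p i, hmem i⟩, fun i => p.step i⟩
  have hx : x ∈ closure ({ξ} : Set X) := hp1 ▸ hmem 0
  have hq : (m : ℕ∞) ≤ coheight (⟨x, hx⟩ : ↥(closure ({ξ} : Set X))) := by
    have h1 := length_le_coheight_head (p := q)
    have h2 : q.head = ⟨x, hx⟩ := Subtype.ext hp1
    rw [h2] at h1
    rw [← hp2]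
    exact h1
  have hξmax : ringKrullDim (X.presheaf.stalk ξ) = 0 := by
    rw [ringKrullDim_stalk_eq_coheight]
    have : IsMax ξ := fun b hb => by
      have := hξ b hb
      rw [this]
    rw [coheight_eq_zero.mpr this]
    rfl
  have hξx : ξ ⤳ x := specializes_iff_mem_closure.mpr hx
  have key := coheight_closure_add_trdeg_le f ξ x hx
  rw [hm]
  refine le_trans (add_le_add ?_ le_rfl) (key.trans (add_le_add le_rfl ?_))
  · exact_mod_cast hq
  · have := hE ξ hξx hξmax
    exact_mod_cast Cardinal.toENat.monotone' this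

end Groth.Agent.H51
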