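import Groth.Agent.H51.SpQuotChart2
import Groth.Prelude.Def_Grpd

set_option autoImplicit false
universe u
open CategoryTheory CategoryTheory.Limits AlgebraicGeometry Opposite MorphismProperty

namespace Groth.Agent.H51
open AlgSp Groth.Agent.H50 Groth.Agent.H49
variable {S : Scheme.{u}}

/-- A scheme-level pre-equivalence relation is a pre-equivalence relation of sheaves. -/
theorem isPreEqvRelSp_of_equivalence {R U : Over S} {s t : R ⟶ U}
    (he : ∀ (T : Over S), Equivalence (fun a b : T ⟶ U => ∃ r : T ⟶ R, r ≫ t = a ∧ r ≫ s = b)) :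
    IsPreEqvRelSp ((yon S).map s) ((yon S).map t) := by
  intro T
  have he := he T
  have key : ∀ a b : T ⟶ U, (∃ r : (yon S).obj T ⟶ (yon S).obj R,
      r ≫ (yon S).map t = (yon S).map a ∧ r ≫ (yon S).map s = (yon S).map b) ↔
      ∃ r : T ⟶ R, r ≫ t = a ∧ r ≫ s = b := by
    intro a b
    constructor
    · rintro ⟨r, h1, h2⟩
      obtain ⟨r, rfl⟩ := (yon S).map_surjective r
      exact ⟨r, (yon S).map_injective (by rw [Functor.map_comp, h1]),
        (yon S).map_injective (by rw [Functor.map_comp, h2])⟩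
    · rintro ⟨r, rfl, rfl⟩
      exact ⟨(yon S).map r, by rw [Functor.map_comp], by rw [Functor.map_comp]⟩
  refine ⟨fun a => ?_, fun {a b} hab => ?_, fun {a b c} hab hbc => ?_⟩
  · obtain ⟨a, rfl⟩ := (yon S).map_surjective a
    exact (key a a).2 (he.refl a)
  · obtain ⟨a, rfl⟩ := (yon S).map_surjective a
    obtain ⟨b, rfl⟩ := (yon S).map_surjective b
    exact (key b a).2 (he.symm ((key a b).1 hab))
  · obtain ⟨a, rfl⟩ := (yon S).map_surjective a
    obtain ⟨b, rfl⟩ := (yon S).map_surjective b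
    obtain ⟨c, rfl⟩ := (yon S).map_surjective c
    exact (key a c).2 (he.trans ((key a b).1 hab) ((key b c).1 hbc))

/-- The source and target of a groupoid scheme form a pre-equivalence relation on points. -/
theorem groupoidScheme_equivalence (G : Grpd.GroupoidScheme S) (T : Over S) :
    Equivalence (fun a b : T ⟶ Over.mk G.pU => ∃ r : T ⟶ Over.mk G.pR,
      r ≫ (Over.homMk G.t G.t_over : Over.mk G.pR ⟶ Over.mk G.pU) = a ∧
      r ≫ (Over.homMk G.s G.s_over : Over.mk G.pR ⟶ Over.mk G.pU) = b) := by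
  have hepR : G.e ≫ G.pR = G.pU := by
    rw [← G.s_over, ← Category.assoc, G.e_s, Category.id_comp]
  have hipR : G.i ≫ G.pR = G.pR :=
    calc G.i ≫ G.pR = G.i ≫ G.s ≫ G.pU := by rw [G.s_over]
      _ = G.t ≫ G.pU := by rw [← Category.assoc, G.i_s]
      _ = G.pR := G.t_over
  refine ⟨fun a => ?_, fun {a b} hab => ?_, fun {a b c} hab hbc => ?_⟩
  · refine ⟨Over.homMk (a.left ≫ G.e) ?_, ?_, ?_⟩
    · change (a.left ≫ G.e) ≫ G.pR = T.hom
      rw [Category.assoc, hepR]
      exact Over.w a
    · ext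
      change (a.left ≫ G.e) ≫ G.t = a.left
      rw [Category.assoc, G.e_t]
      exact Category.comp_id _
    · ext
      change (a.left ≫ G.e) ≫ G.s = a.left
      rw [Category.assoc, G.e_s]
      exact Category.comp_id _
  · obtain ⟨r, rfl, rfl⟩ := hab
    refine ⟨Over.homMk (r.left ≫ G.i) ?_, ?_, ?_⟩
    · change (r.left ≫ G.i) ≫ G.pR = T.hom
      rw [Category.assoc, hipR]
      exact Over.w r
    · ext
      change (r.left ≫ G.i) ≫ G.t = r.left ≫ G.s
      rw [Category.assoc, G.i_t]
    · ext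
      change (r.left ≫ G.i) ≫ G.s = r.left ≫ G.t
      rw [Category.assoc, G.i_s]
  · obtain ⟨r1, rfl, h1⟩ := hab
    obtain ⟨r2, h2, rfl⟩ := hbc
    have h12 : r1.left ≫ G.s = r2.left ≫ G.t := by
      have := congr(($(h1.trans h2.symm)).left)
      exact this
    refine ⟨Over.homMk (pullback.lift r1.left r2.left h12 ≫ G.c) ?_, ?_, ?_⟩
    · change (pullback.lift r1.left r2.left h12 ≫ G.c) ≫ G.pR = T.hom
      have h3 : (pullback.lift r1.left r2.left h12 ≫ G.c) ≫ G.pR = r1.left ≫ G.pR :=
        calc (pullback.lift r1.left r2.left h12 ≫ G.c) ≫ G.pR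
            = ((pullback.lift r1.left r2.left h12 ≫ G.c) ≫ G.t) ≫ G.pU := by
              rw [Category.assoc _ G.t, G.t_over]
          _ = (r1.left ≫ G.t) ≫ G.pU := by rw [G.comp_t]
          _ = r1.left ≫ G.pR := by rw [Category.assoc, G.t_over]
      rw [h3]
      exact Over.w r1
    · ext
      exact G.comp_t _ _ h12
    · ext
      exact G.comp_s _ _ h12

end Groth.Agent.H51
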