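import Groth.Agent.H51.SpVC2
import Groth.Agent.H49.AlgSpSepDescent
import Groth.Agent.H49.AlgSpDiagProps2
import Mathlib.AlgebraicGeometry.ValuativeCriterion

set_option autoImplicit false
universe u
open CategoryTheory CategoryTheory.Limits AlgebraicGeometry Opposite MorphismProperty

namespace Groth.Agent.H51

open AlgSp Groth.Agent.H49

variable {S : Scheme.{u}}

/-- Uniqueness part of the valuative criterion for `f` gives the existence part for every base
change of the diagonal of `f` to a scheme. -/
theorem existence_snd_diagonal_of_uniqVC {X Y : Sp S} (f : X ⟶ Y) (hf : UniqVC f) {T Z : Over S}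
    (g : (yon S).obj T ⟶ pullback f f) (fst : (yon S).obj Z ⟶ X) (snd : Z ⟶ T)
    (sq : IsPullback fst ((yon S).map snd) (pullback.diagonal f) g) :
    ValuativeCriterion.Existence snd.left := by
  intro V
  -- the spectra over `S`
  let str : Spec (.of V.R) ⟶ S := V.i₂ ≫ T.hom
  let ptR : Over S := Over.mk str
  let ptK : Over S := Over.mk (Spec.map (CommRingCat.ofHom (algebraMap V.R V.K)) ≫ str)
  let j : ptK ⟶ ptR := Over.homMk (Spec.map (CommRingCat.ofHom (algebraMap V.R V.K))) rfl
  let i₂O : ptR ⟶ T := Over.homMk V.i₂ rfl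
  have hi₁ : V.i₁ ≫ Z.hom = ptK.hom := by
    change V.i₁ ≫ Z.hom = Spec.map _ ≫ V.i₂ ≫ T.hom
    rw [← CategoryTheory.Over.w snd, ← Category.assoc, V.commSq.w, Category.assoc]
  let i₁O : ptK ⟶ Z := Over.homMk V.i₁ hi₁
  have hji : j ≫ i₂O = i₁O ≫ snd := by
    ext
    exact V.commSq.w.symm
  let l : (yon S).obj ptR ⟶ X := (yon S).map i₂O ≫ g ≫ pullback.fst f f
  let l' : (yon S).obj ptR ⟶ X := (yon S).map i₂O ≫ g ≫ pullback.snd f f
  let top : (yon S).obj ptK ⟶ X := (yon S).map i₁O ≫ fst
  have hl : (yon S).map j ≫ l = top := by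
    change (yon S).map j ≫ (yon S).map i₂O ≫ g ≫ pullback.fst f f = (yon S).map i₁O ≫ fst
    rw [← Category.assoc, ← Functor.map_comp, hji, Functor.map_comp, Category.assoc,
      ← Category.assoc ((yon S).map snd), ← sq.w, Category.assoc, pullback.diagonal_fst,
      Category.comp_id]
  have hl' : (yon S).map j ≫ l' = top := by
    change (yon S).map j ≫ (yon S).map i₂O ≫ g ≫ pullback.snd f f = (yon S).map i₁O ≫ fst
    rw [← Category.assoc, ← Functor.map_comp, hji, Functor.map_comp, Category.assoc,
      ← Category.assoc ((yon S).map snd), ← sq.w, Category.assoc, pullback.diagonal_snd,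
      Category.comp_id]
  have hll' : l ≫ f = l' ≫ f := by
    change ((yon S).map i₂O ≫ g ≫ pullback.fst f f) ≫ f = ((yon S).map i₂O ≫ g ≫ pullback.snd f f) ≫ f
    simp only [Category.assoc, pullback.condition]
  let vsq : ValSq f :=
    { A := V.R, K := V.K, str := str, top := top, bot := l ≫ f
      comm := by
        have := congrArg (· ≫ f) hl
        simp only [Category.assoc] at this
        exact this.symm }
  have hEq : l = l' := hf vsq l l' hl rfl hl' hll'.symm
  have hw : l ≫ pullback.diagonal f = (yon S).map i₂O ≫ g := by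
    apply pullback.hom_ext
    · rw [Category.assoc, pullback.diagonal_fst, Category.comp_id, Category.assoc]
    · rw [Category.assoc, pullback.diagonal_snd, Category.comp_id, Category.assoc, hEq]
  obtain ⟨σ', hσ1, hσ2⟩ := sq.exists_lift l ((yon S).map i₂O) hw
  obtain ⟨σ, rfl⟩ := (yon S).map_surjective σ'
  rw [← Functor.map_comp] at hσ2
  have hσ2' : σ ≫ snd = i₂O := (yon S).map_injective hσ2
  have hjσ : j ≫ σ = i₁O := by
    apply (yon S).map_injective
    apply sq.hom_ext
    · rw [Functor.map_comp, Category.assoc, hσ1, hl]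
    · rw [← Functor.map_comp, ← Functor.map_comp, Category.assoc, hσ2', hji]
  refine ⟨⟨⟨σ.left, ?_, ?_⟩⟩⟩
  · exact congrArg (fun φ => φ.left) hjσ
  · exact congrArg (fun φ => φ.left) hσ2'

theorem isSeparatedMor_of_uniqVC {X Y : Sp S} (hX : IsAlgSpace X) (f : X ⟶ Y)
    (hqs : IsQuasiSeparatedMor f) (hu : UniqVC f) : IsSeparatedMor f := by
  have hD := diagProps_diagonal hX f
  have hUC : RepWith @UniversallyClosed (pullback.diagonal f) := by
    refine ⟨hD.1, fun T Z g fst snd sq => ?_⟩
    have hqc : QuasiCompact snd.left := hqs.property g fst snd sq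
    exact UniversallyClosed.of_valuativeCriterion snd.left
      (existence_snd_diagonal_of_uniqVC f hu g fst snd sq)
  exact repWith_isClosedImmersion_of_univClosed_lft_mono hUC hD.2.1 hD.2.2.2.2.1

end Groth.Agent.H51
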