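import Groth.Prelude.Def_AlgSpOX
import Groth.Prelude.Def_AlgSpSub
import Groth.Agent.H52.GeomRed

set_option autoImplicit false
universe u
open CategoryTheory CategoryTheory.Limits AlgebraicGeometry Opposite MorphismProperty
namespace Groth.Agent.H51
open AlgSp Groth.Agent.H52
variable {S : Scheme.{u}}

example (X : Sp S) : PreservesLimit (OEt X).obj (forget CommRingCat.{u + 1}) := inferInstance

/-- Every scheme étale over a reduced algebraic space is reduced. -/
theorem isReduced_of_isReducedSp {X : Sp S} (hX : IsReducedSp X) (E : EtOver X) :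
    AlgebraicGeometry.IsReduced E.obj.left.left := by
  obtain ⟨U, a, hae, has, hred⟩ := hX
  haveI : AlgebraicGeometry.IsReduced U.left := hred
  have hpb := hae.1.isPullback E.obj.hom
  have het : Etale (hae.1.snd E.obj.hom).left := hae.2 _ _ _ hpb
  have hsu : Surjective (hae.1.snd E.obj.hom).left := has.2 _ _ _ hpb
  have het' : Etale (hae.1.fst' E.obj.hom).left := by
    have hpb' : IsPullback ((yon S).map (hae.1.snd E.obj.hom)) ((yon S).map (hae.1.fst' E.obj.hom))
        E.obj.hom a := by
      have := hpb.flip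
      rwa [← Functor.relativelyRepresentable.map_fst'] at this
    exact E.property.2 _ _ _ hpb'
  haveI : AlgebraicGeometry.IsReduced (hae.1.pullback E.obj.hom).left :=
    isReduced_of_etale_scheme (hae.1.fst' E.obj.hom).left
  haveI : ∀ e : ↥E.obj.left.left, _root_.IsReduced (E.obj.left.left.presheaf.stalk e) := by
    intro e
    obtain ⟨w, hw⟩ := hsu.surj e
    have h2 := isReduced_stalk_of_flat (hae.1.snd E.obj.hom).left w inferInstance
    rw [hw] at h2
    exact h2
  exact isReduced_of_isReduced_stalk E.obj.left.left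


theorem gsectEt_reduced (X : AlgSp.Space S) (hX : IsReducedSp X.obj) :
    _root_.IsReduced ↥(gsectEt (OEt X.obj)) ∧
      ∀ f : ↥(gsectEt (OEt X.obj)),
        (∀ E : EtOver X.obj,
            E.obj.left.left.basicOpen ((limit.π (OEt X.obj).obj (op E)) f).down = ⊥) →
          f = 0 := by
  have hext : ∀ f : ↥(gsectEt (OEt X.obj)),
      (∀ E : EtOver X.obj, ((limit.π (OEt X.obj).obj (op E)) f).down = 0) → f = 0 := by
    intro f hf
    refine Concrete.limit_ext (OEt X.obj).obj f 0 fun j => ?_
    have h0 : (limit.π (OEt X.obj).obj j) (0 : ↥(gsectEt (OEt X.obj))) = 0 := map_zero _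
    rw [h0]
    exact ULift.ext _ _ (hf j.unop)
  constructor
  · refine ⟨fun f hf => hext f fun E => ?_⟩
    haveI := isReduced_of_isReducedSp hX E
    obtain ⟨n, hn⟩ := hf
    have h2 : ((limit.π (OEt X.obj).obj (op E)) f) ^ n = 0 := by
      rw [← map_pow, hn, map_zero]
    have h1 : ((limit.π (OEt X.obj).obj (op E)) f).down ^ n = 0 := congrArg ULift.down h2
    haveI : _root_.IsReduced ↑Γ(E.obj.left.left, ⊤) := IsReduced.component_reduced ⊤
    exact eq_zero_of_pow_eq_zero (R := ↑Γ(E.obj.left.left, ⊤)) h1
  · intro f hf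
    refine hext f fun E => ?_
    haveI := isReduced_of_isReducedSp hX E
    exact (AlgebraicGeometry.basicOpen_eq_bot_iff (X := E.obj.left.left) (U := ⊤) _).1 (hf E)

end Groth.Agent.H51
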