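import Groth.Agent.H51.SpOpen
import Groth.Prelude.Def_AlgSpCov
import Mathlib.AlgebraicGeometry.Limits

set_option autoImplicit false
universe u
open CategoryTheory CategoryTheory.Limits AlgebraicGeometry Opposite MorphismProperty

namespace Groth.Agent.H51

open AlgSp Groth.Agent.H50

variable {S : Scheme.{u}}

/-- Every point of a scheme over `S` has an affine open neighbourhood mapping into an affine open
of `S`. -/
theorem exists_affine_nhds_over (U : Over S) (u : ↥U.left) :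
    ∃ V : U.left.Opens, IsAffineOpen V ∧ u ∈ V ∧
      ∃ W : S.Opens, IsAffineOpen W ∧ ∀ v : ↥U.left, v ∈ V → U.hom v ∈ W := by
  obtain ⟨_, ⟨W, hW, rfl⟩, huW, -⟩ :=
    (S.isBasis_affineOpens).exists_subset_of_mem_open (Set.mem_univ (U.hom u)) isOpen_univ
  obtain ⟨_, ⟨V, hV, rfl⟩, huV, hVW⟩ :=
    (U.left.isBasis_affineOpens).exists_subset_of_mem_open (a := u)
      (show u ∈ ((U.hom ⁻¹ᵁ W : U.left.Opens) : Set U.left) from huW) (U.hom ⁻¹ᵁ W).isOpen
  exact ⟨V, hV, huV, W, hW, fun v hv => hVW hv⟩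

theorem exists_zarCover_affine_charts {F : Sp S} (hF : IsAlgSpace F) :
    ∃ (ι : Type u) (Fi : ι → Sp S) (j : ∀ i, Fi i ⟶ F), (∀ i, IsAlgSpace (Fi i)) ∧
      IsZarCover Fi j ∧
        ∀ i, ∃ (U : Over S) (p : (yon S).obj U ⟶ Fi i), IsAffine U.left ∧
          RepWith @Etale p ∧ RepWith @Surjective p ∧
          ∃ W : S.Opens, IsAffineOpen W ∧ ∀ v : ↥U.left, U.hom v ∈ W := by
  obtain ⟨U, p, hp, hps⟩ := hF.atlas
  let ι : Type u := {V : U.left.Opens // IsAffineOpen V ∧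
    ∃ W : S.Opens, IsAffineOpen W ∧ ∀ v : ↥U.left, v ∈ V → U.hom v ∈ W}
  have hopen : ∀ i : ι, IsOpen (Points.ofPt p '' (i.1 : Set U.left)) :=
    fun i => isOpenMap_ofPt_of_etale p hp _ i.1.isOpen
  refine ⟨ι, fun i => openSubSp F (Points.ofPt p '' (i.1 : Set U.left)),
    fun i => openSubι F _, fun i => isAlgSpace_openSubSp hF _ (hopen i),
    ⟨fun i => repWith_isOpenImmersion_openSubι _ (hopen i), fun x => ?_⟩, fun i => ?_⟩
  · obtain ⟨u, rfl⟩ := surjective_ofPt_of_surjective p hps x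
    obtain ⟨V, hV, huV, hW⟩ := exists_affine_nhds_over U u
    refine ⟨⟨V, hV, hW⟩, ?_⟩
    rw [range_map_openSubι]
    exact ⟨u, huV, rfl⟩
  · obtain ⟨V, hV, W, hW, hVW⟩ := i
    obtain ⟨a', -, he, hs, -⟩ := isPresentation_of_open_image
      ((yon S).map (overOpenι U V) ≫ p) (repWith_etale_restrict p hp V)
      (openSubι F (Points.ofPt p '' (V : Set U.left)))
      (repWith_isOpenImmersion_openSubι _ (hopen ⟨V, hV, W, hW, hVW⟩))
      (by rw [range_map_openSubι, range_ofPt_restrict])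
    refine ⟨overOpen U V, a', hV, he, hs, W, hW, fun v => ?_⟩
    change (V.ι ≫ U.hom) v ∈ W
    rw [Scheme.Hom.comp_apply]
    exact hVW _ v.2

theorem exists_sigma_affine_atlas {F : Sp S} (hF : IsAlgSpace F) :
    ∃ (ι : Type u) (V : ι → Scheme.{u}) (_ : ∀ i, IsAffine (V i)) (q : (∐ V) ⟶ S)
      (p : (yon S).obj (Over.mk q) ⟶ F),
      RepWith @Etale p ∧ RepWith @Surjective p ∧
        ∀ i, ∃ W : S.Opens, IsAffineOpen W ∧ ∀ v : ↥(V i), (Sigma.ι V i ≫ q) v ∈ W := by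
  obtain ⟨U, p, hp, hps⟩ := hF.atlas
  let ι : Type u := {V : U.left.Opens // IsAffineOpen V ∧
    ∃ W : S.Opens, IsAffineOpen W ∧ ∀ v : ↥U.left, v ∈ V → U.hom v ∈ W}
  let V : ι → Scheme.{u} := fun i => ↑i.1
  let c : (∐ V) ⟶ U.left := Sigma.desc fun i => i.1.ι
  have hc : Etale c := IsZariskiLocalAtSource.sigmaDesc (fun i => (inferInstance : Etale i.1.ι))
  have hcs : Function.Surjective c := by
    intro u
    obtain ⟨V₀, hV₀, huV₀, hW⟩ := exists_affine_nhds_over U u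
    refine ⟨Sigma.ι V ⟨V₀, hV₀, hW⟩ ⟨u, huV₀⟩, ?_⟩
    rw [← Scheme.Hom.comp_apply, Sigma.ι_desc]
    rfl
  let c' : Over.mk (c ≫ U.hom) ⟶ U := Over.homMk c rfl
  have he : RepWith @Etale ((yon S).map c' ≫ p) :=
    (RepWith @Etale).comp_mem _ _ ((repWith_yon_map_iff _ _).2 hc) hp
  refine ⟨ι, V, fun i => i.2.1, c ≫ U.hom, (yon S).map c' ≫ p, he, ?_, fun i => ?_⟩
  · refine repWith_surjective_of_surjective_ofPt _ he.rep ?_
    intro x
    obtain ⟨u, rfl⟩ := surjective_ofPt_of_surjective p hps x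
    obtain ⟨v, rfl⟩ := hcs u
    exact ⟨v, ofPt_map_comp c' p v⟩
  · obtain ⟨W, hW, hVW⟩ := i.2.2
    refine ⟨W, hW, fun v => ?_⟩
    rw [← Category.assoc, Sigma.ι_desc, Scheme.Hom.comp_apply]
    exact hVW _ v.2

theorem isQuasiCompactSp_iff_exists_affine_atlas {F : Sp S} :
    IsQuasiCompactSp F ↔
      ∃ (U : Over S) (p : (yon S).obj U ⟶ F),
        IsAffine U.left ∧ RepWith @Etale p ∧ RepWith @Surjective p := by
  constructor
  · rintro ⟨U, p, hp, hps, hU⟩
    have hU : CompactSpace ↥U.left := hU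
    have hcov : (Set.univ : Set U.left) ⊆ ⋃ V : U.left.affineOpens, (V.1 : Set U.left) := by
      intro u _
      obtain ⟨_, ⟨V, hV, rfl⟩, huV, -⟩ :=
        (U.left.isBasis_affineOpens).exists_subset_of_mem_open (Set.mem_univ u) isOpen_univ
      exact Set.mem_iUnion.2 ⟨⟨V, hV⟩, huV⟩
    obtain ⟨t, ht⟩ := isCompact_univ.elim_finite_subcover _ (fun V : U.left.affineOpens => V.1.isOpen) hcov
    let ι : Type u := {V : U.left.affineOpens // V ∈ t}
    let V : ι → Scheme.{u} := fun i => ↑i.1.1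
    have : ∀ i, IsAffine (V i) := fun i => i.1.2
    have : Finite ι := t.finite_toSet.to_subtype
    let c : (∐ V) ⟶ U.left := Sigma.desc fun i => i.1.1.ι
    have hc : Etale c := IsZariskiLocalAtSource.sigmaDesc (fun i => (inferInstance : Etale i.1.1.ι))
    have hcs : Function.Surjective c := by
      intro u
      obtain ⟨V₀, hV₀, hu⟩ := Set.mem_iUnion₂.1 (ht (Set.mem_univ u))
      refine ⟨Sigma.ι V ⟨V₀, hV₀⟩ ⟨u, hu⟩, ?_⟩
      rw [← Scheme.Hom.comp_apply, Sigma.ι_desc]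
      rfl
    let c' : Over.mk (c ≫ U.hom) ⟶ U := Over.homMk c rfl
    have he : RepWith @Etale ((yon S).map c' ≫ p) :=
      (RepWith @Etale).comp_mem _ _ ((repWith_yon_map_iff _ _).2 hc) hp
    refine ⟨Over.mk (c ≫ U.hom), (yon S).map c' ≫ p, (inferInstance : IsAffine (∐ V)), he, ?_⟩
    refine repWith_surjective_of_surjective_ofPt _ he.rep ?_
    intro x
    obtain ⟨u, rfl⟩ := surjective_ofPt_of_surjective p hps x
    obtain ⟨v, rfl⟩ := hcs u
    exact ⟨v, ofPt_map_comp c' p v⟩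
  · rintro ⟨U, p, hU, hp, hps⟩
    exact ⟨U, p, hp, hps, (inferInstance : CompactSpace ↥U.left)⟩

end Groth.Agent.H51
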