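import Groth.Agent.H51.SpUnram
import Groth.Agent.H52.Epi
import Groth.Agent.S9938

set_option autoImplicit false
universe u
open CategoryTheory CategoryTheory.Limits AlgebraicGeometry Opposite MorphismProperty

namespace Groth.Agent.H51

open AlgSp Groth.Agent.H50 Groth.Agent.H49

variable {S : Scheme.{u}}

/-- An etale monomorphism from an algebraic space to a scheme is (isomorphic to) the inclusion of an
open subscheme. -/
theorem exists_open_of_isEtaleMor_mono {X : Sp S} (hX : IsAlgSpace X) {T : Over S}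
    (f : X ⟶ (yon S).obj T) (hf : IsEtaleMor f) [Mono f] :
    ∃ (V : Over S) (ι : V ⟶ T) (φ : X ≅ (yon S).obj V),
      IsOpenImmersion ι.left ∧ φ.hom ≫ (yon S).map ι = f := by
  obtain ⟨U, a, ha, has⟩ := hX.atlas
  obtain ⟨h, hh⟩ := (yon S).map_surjective (a ≫ f)
  have hhE : Etale h.left := by
    have := hf a ha
    rw [← hh] at this
    exact (repWith_yon_map_iff _ _).1 this
  let V₀ : T.left.Opens := ⟨Set.range h.left, h.left.isOpenMap.isOpen_range⟩
  let V : Over S := Groth.Agent.H53.overOf T V₀.ι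
  let ι : V ⟶ T := Groth.Agent.H53.overHom T V₀.ι
  have hle : Set.range h.left ⊆ Set.range V₀.ι := by simp [V₀]
  let h₀ : U.left ⟶ V₀.toScheme := IsOpenImmersion.lift V₀.ι h.left hle
  have hh₀ : h₀ ≫ V₀.ι = h.left := IsOpenImmersion.lift_fac _ _ _
  have hh₀S : h₀ ≫ V.hom = U.hom := by
    change h₀ ≫ V₀.ι ≫ T.hom = U.hom
    rw [← Category.assoc, hh₀, CategoryTheory.Over.w]
  let h' : U ⟶ V := Over.homMk h₀ hh₀S
  have hh' : h' ≫ ι = h := by ext; exact hh₀
  have h1 : Etale h₀ := by
    have : Etale (h₀ ≫ V₀.ι) := by rw [hh₀]; exact hhE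
    exact MorphismProperty.of_postcomp (W := @Etale) (W' := @IsOpenImmersion) h₀ V₀.ι
      inferInstance this
  have h2 : Surjective h₀ := ⟨fun ⟨y, ⟨z, hz⟩⟩ ↦
    ⟨z, by apply V₀.ι.injective; simp [← Scheme.Hom.comp_apply, hh₀, hz]⟩⟩
  have hepi' : Epi ((yon S).map h') :=
    Groth.Agent.H52.epi_yon_map_of_fppf h' (inferInstanceAs (Flat h₀))
      (inferInstanceAs (LocallyOfFinitePresentation h₀)) h2
  have hepia : Epi a := Groth.Agent.H52.epi_of_repWith_etale_surjective a ha has
  have hιm : Mono ((yon S).map ι) := by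
    have : Mono ι.left := inferInstanceAs (Mono V₀.ι)
    exact mono_yon_map_of_mono_left ι
  have hk : IsKernelPair a (pullback.fst a a) (pullback.snd a a) := IsPullback.of_hasPullback a a
  have w : pullback.fst a a ≫ (yon S).map h' = pullback.snd a a ≫ (yon S).map h' := by
    rw [← cancel_mono ((yon S).map ι), Category.assoc, Category.assoc, ← Functor.map_comp, hh', hh,
      ← Category.assoc, ← Category.assoc, pullback.condition]
  obtain ⟨φ, hφ⟩ := Groth.Agent.H52.exists_desc_of_epi_of_isKernelPair a hk ((yon S).map h') w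
  have hφf : φ ≫ (yon S).map ι = f := by
    rw [← cancel_epi a, ← Category.assoc, hφ, ← Functor.map_comp, hh', hh]
  have hφm : Mono φ := by
    have : Mono (φ ≫ (yon S).map ι) := by rw [hφf]; infer_instance
    exact mono_of_mono φ ((yon S).map ι)
  have hφe : Epi φ := by
    have : Epi (a ≫ φ) := by rw [hφ]; exact hepi'
    exact epi_of_epi a φ
  have hφi : IsIso φ := isIso_of_mono_of_epi φ
  exact ⟨V, ι, asIso φ, inferInstanceAs (IsOpenImmersion V₀.ι), hφf⟩

/-- An etale monomorphism of algebraic spaces is an open immersion. -/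
theorem repWith_isOpenImmersion_of_isEtaleMor_mono {X Y : Sp S} (hX : IsAlgSpace X)
    (hY : IsAlgSpace Y) (f : X ⟶ Y) (het : IsEtaleMor f) [Mono f] :
    RepWith @IsOpenImmersion f := by
  refine MorphismProperty.relative.of_exists (fun T g => ?_)
  have sq : IsPullback (pullback.fst f g) (pullback.snd f g) f g := IsPullback.of_hasPullback _ _
  have hP : IsAlgSpace (pullback f g) :=
    isAlgSpace_of_isPullback sq hY.diag hX (IsAlgSpace.yon_obj T)
  have hEt : IsEtaleMor (pullback.snd f g) :=
    isEtaleMor_of_isPullback hX (IsAlgSpace.yon_obj T) sq.flip het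
  obtain ⟨V, ι, φ, hι, hφ⟩ := exists_open_of_isEtaleMor_mono hP (pullback.snd f g) hEt
  refine ⟨V, φ.inv ≫ pullback.fst f g, ι, ?_, hι⟩
  exact IsPullback.of_iso sq φ (Iso.refl _) (Iso.refl _) (Iso.refl _) (by simp) (by simp [hφ])
    (by simp) (by simp)

theorem s10261 {X Y : AlgSp.Space S}
    (f : X ⟶ Y) (het : AlgSp.IsEtaleMor f.hom) (hinj : AlgSp.IsUnivInjectiveMor f.hom) :
    AlgSp.RepWith @IsOpenImmersion f.hom := by
  have hLoc : LocP (@LocallyOfFiniteType ⊓ @FormallyUnramified) f.hom :=
    locP_of_isEtaleMor het _ (fun _ _ g hg => by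
      have : Etale g := hg
      exact ⟨inferInstance, inferInstance⟩)
  have hΔ : RepWith @IsOpenImmersion (pullback.diagonal f.hom) := s10262_part1 f hLoc
  have hΔs : IsSurjectiveMor (pullback.diagonal f.hom) := (Groth.Agent.S9938.result f).2.1 hinj
  have hΔS : RepWith @Surjective (pullback.diagonal f.hom) :=
    repWith_surjective_of_surjective_map _ hΔ.rep hΔs
  have hΔE : RepWith @Etale (pullback.diagonal f.hom) :=
    repWith_of_le (fun _ _ g hg => by
      have : IsOpenImmersion g := hg
      exact (inferInstance : Etale g)) hΔ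
  have : Epi (pullback.diagonal f.hom) :=
    Groth.Agent.H52.epi_of_repWith_etale_surjective _ hΔE hΔS
  have : IsIso (pullback.diagonal f.hom) := isIso_of_mono_of_epi _
  have : Mono f.hom := (pullback.isIso_diagonal_iff f.hom).1 this
  exact repWith_isOpenImmersion_of_isEtaleMor_mono X.property Y.property f.hom het

end Groth.Agent.H51
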