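import Groth.Agent.H49.AlgSpOpen
import Groth.Agent.H51.SpBasic
import Groth.Agent.H52.Points
import Groth.Agent.H53.Epi
import Groth.Prelude.Def_AlgSpSub

set_option autoImplicit false
universe u
open CategoryTheory CategoryTheory.Limits AlgebraicGeometry Opposite MorphismProperty

namespace Groth.Agent.H51

open AlgSp Groth.Agent.H50 Groth.Agent.H49

variable {S : Scheme.{u}}

/-- A representable closed immersion onto a reduced sheaf which is surjective on points is an
isomorphism. -/
theorem isIso_of_repWith_isClosedImmersion_of_surjective {Z' Y : Sp S} (j : Z' ⟶ Y)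
    (hj : RepWith @IsClosedImmersion j) (hY : IsReducedSp Y)
    (hs : Function.Surjective (Points.map j)) : IsIso j := by
  obtain ⟨V, q, hqe, hqs, hV⟩ := hY
  haveI : IsReduced V.left := hV
  have sq := hj.rep.isPullback q
  have hci : IsClosedImmersion (hj.rep.snd q).left := hj.property_snd q
  haveI : Surjective (hj.rep.snd q).left :=
    (repWith_surjective_of_surjective_map j hj.rep hs).property _ _ _ sq
  haveI : IsClosedImmersion (hj.rep.snd q).left := hci
  haveI : IsIso (hj.rep.snd q).left := isIso_of_isClosedImmersion_of_surjective _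
  haveI : IsIso ((Over.forget S).map (hj.rep.snd q)) := by
    change IsIso (hj.rep.snd q).left
    infer_instance
  haveI : IsIso (hj.rep.snd q) := isIso_of_reflects_iso _ (Over.forget S)
  haveI : Mono j := mono_of_repWith_mono (fun _ _ g (_ : IsClosedImmersion g) =>
    (inferInstance : Mono g)) j hj
  haveI : Epi q := Groth.Agent.H53.epi_of_repWith_etale_surjective q hqe hqs
  have e : q = ((yon S).map (inv (hj.rep.snd q)) ≫ hj.rep.fst q) ≫ j := by
    rw [Category.assoc, sq.w, ← Category.assoc, ← Functor.map_comp, IsIso.inv_hom_id]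
    exact ((congrArg (· ≫ q) ((yon S).map_id V)).trans (Category.id_comp _)).symm
  haveI : Epi j := by
    haveI : Epi (((yon S).map (inv (hj.rep.snd q)) ≫ hj.rep.fst q) ≫ j) := by rw [← e]; infer_instance
    exact epi_of_epi ((yon S).map (inv (hj.rep.snd q)) ≫ hj.rep.fst q) j
  exact Groth.Agent.H53.sp_isIso_of_mono_of_epi j

end Groth.Agent.H51

namespace Groth.Agent.H51
open AlgSp Groth.Agent.H50 Groth.Agent.H49
variable {S : Scheme.{u}}

theorem s10193 {X Y Z : Sp S} (i : Z ⟶ X) (hi : RepWith @IsClosedImmersion i)
    (hY : IsReducedSp Y) (f : Y ⟶ X) :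
    (∃ g : Y ⟶ Z, g ≫ i = f) ↔
      Set.range (Points.map f) ⊆ Set.range (Points.map i) := by
  constructor
  · rintro ⟨g, rfl⟩ _ ⟨y, rfl⟩
    exact ⟨Points.map g y, (Points.map_comp g i y).symm⟩
  · intro hsub
    have sq : IsPullback (pullback.fst i f) (pullback.snd i f) i f := IsPullback.of_hasPullback i f
    have hsnd : RepWith @IsClosedImmersion (pullback.snd i f) :=
      MorphismProperty.of_isPullback (P := RepWith @IsClosedImmersion) sq hi
    have hs : Function.Surjective (Points.map (pullback.snd i f)) := by
      intro y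
      obtain ⟨z, hz⟩ := hsub ⟨y, rfl⟩
      obtain ⟨w, -, hw⟩ := Groth.Agent.H52.exists_point_of_isPullback sq z y hz
      exact ⟨w, hw⟩
    haveI := isIso_of_repWith_isClosedImmersion_of_surjective _ hsnd hY hs
    refine ⟨inv (pullback.snd i f) ≫ pullback.fst i f, ?_⟩
    rw [Category.assoc, sq.w, IsIso.inv_hom_id_assoc]

end Groth.Agent.H51
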