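import Groth.Agent.H51.SpField2

set_option autoImplicit false
universe u
open CategoryTheory CategoryTheory.Limits AlgebraicGeometry Opposite MorphismProperty

namespace Groth.Agent.H51

open AlgSp Groth.Agent.H50 Groth.Agent.H49

variable {S : Scheme.{u}}

/-- The union of all representable open subfunctors, as a subset of the points. -/
def schematicLocus (X : Sp S) : Set (Points X) :=
  {x | ∃ (V : Over S) (j : (yon S).obj V ⟶ X), RepWith @IsOpenImmersion j ∧
    x ∈ Set.range (Points.map j)}

theorem isOpen_schematicLocus (X : Sp S) : IsOpen (schematicLocus X) := by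
  rw [isOpen_iff_forall_mem_open]
  rintro x ⟨V, j, hj, hx⟩
  exact ⟨Set.range (Points.map j), fun y hy => ⟨V, j, hj, hy⟩,
    isOpen_range_map_of_isOpenImmersion j hj, hx⟩

/-- The schematic locus is a scheme. -/
theorem exists_iso_yon_schematicLocus {X : Sp S} (hX : IsAlgSpace X) :
    ∃ G : Over S, Nonempty ((yon S).obj G ≅ openSubSp X (schematicLocus X)) := by
  have hW := isOpen_schematicLocus X
  have hX' := isAlgSpace_openSubSp hX _ hW
  have hj' := repWith_isOpenImmersion_openSubι _ hW
  haveI hm : Mono (openSubι X (schematicLocus X)) :=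
    Groth.Agent.H49.mono_of_repWith_mono isOpenImmersion_le_mono _ hj'
  obtain ⟨U, a, ha, has⟩ := hX'.atlas
  refine exists_iso_yon_of_forall_point a has (fun u => ?_)
  have hu : Points.map (openSubι X (schematicLocus X)) (Points.ofPt a u) ∈ schematicLocus X :=
    (range_map_openSubι (schematicLocus X)).subset ⟨_, rfl⟩
  obtain ⟨V, j, hj, hx⟩ := hu
  have hr : Set.range (Points.map j) ⊆ Set.range (Points.map (openSubι X (schematicLocus X))) := by
    intro y hy
    exact (range_map_openSubι (schematicLocus X)).symm.subset ⟨V, j, hj, hy⟩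
  obtain ⟨j₀, hj₀⟩ := (exists_factor_iff_of_isOpenImmersion' _ hj' j).2 hr
  have hj₀' : RepWith @IsOpenImmersion j₀ := by
    refine repWith_of_comp_mono j₀ (openSubι X (schematicLocus X)) ?_
    rw [hj₀]; exact hj
  refine ⟨V, j₀, hj₀', ?_⟩
  obtain ⟨y, hy⟩ := hx
  refine ⟨y, injective_map_of_mono (openSubι X (schematicLocus X)) ?_⟩
  rw [← Points.map_comp, hj₀, hy]

/-- **S10197**: the largest open subscheme of an algebraic space. -/
theorem s10197 (X : AlgSp.Space S) :
    ∃ (X' : AlgSp.Space S) (j : X' ⟶ X), AlgSp.RepWith @IsOpenImmersion j.hom ∧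
      X'.obj.obj.IsRepresentable ∧
      ∀ (X'' : AlgSp.Space S) (j'' : X'' ⟶ X), AlgSp.RepWith @IsOpenImmersion j''.hom →
        X''.obj.obj.IsRepresentable → ∃ k : X'' ⟶ X', k ≫ j = j'' := by
  have hW := isOpen_schematicLocus X.obj
  have hj' := repWith_isOpenImmersion_openSubι _ hW
  refine ⟨⟨openSubSp X.obj (schematicLocus X.obj), isAlgSpace_openSubSp X.property _ hW⟩,
    ObjectProperty.homMk (openSubι X.obj (schematicLocus X.obj)), hj', ?_, ?_⟩
  · obtain ⟨G, ⟨e⟩⟩ := exists_iso_yon_schematicLocus X.property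
    exact isRepresentable_of_iso e
  · intro X'' j'' hj'' hrep
    obtain ⟨G, ⟨e⟩⟩ := exists_iso_of_isRepresentable hrep
    have he : RepWith @IsOpenImmersion (e.hom ≫ j''.hom) :=
      (RepWith @IsOpenImmersion).comp_mem _ _ ((RepWith @IsOpenImmersion).of_isIso e.hom) hj''
    have hr : Set.range (Points.map j''.hom) ⊆
        Set.range (Points.map (openSubι X.obj (schematicLocus X.obj))) := by
      rintro _ ⟨y, rfl⟩
      refine (range_map_openSubι (schematicLocus X.obj)).symm.subset
        ⟨G, e.hom ≫ j''.hom, he, Points.map e.inv y, ?_⟩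
      rw [← Points.map_comp, Iso.inv_hom_id_assoc]
    obtain ⟨k, hk⟩ := (exists_factor_iff_of_isOpenImmersion' _ hj' j''.hom).2 hr
    refine ⟨ObjectProperty.homMk k, ?_⟩
    ext1
    exact hk

end Groth.Agent.H51
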