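import Groth.Agent.H51.SpBasic
import Groth.Agent.H52.QCPoint

set_option autoImplicit false
universe u
open CategoryTheory CategoryTheory.Limits AlgebraicGeometry Opposite MorphismProperty

namespace Groth.Agent.H51

open AlgSp

variable {S : Scheme.{u}}

/-- The comparison `N ×_P L ⟶ N ×_B L` is a base change of the diagonal of `P ⟶ B`. -/
theorem prop_of_repWith_diagonal {Q : MorphismProperty Scheme.{u}} {P B : Sp S} (i : P ⟶ B)
    (hi : RepWith Q (pullback.diagonal i)) {N L Z W : Over S}
    (a : (yon S).obj N ⟶ P) (b : (yon S).obj L ⟶ P)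
    (z₁ : Z ⟶ N) (z₂ : Z ⟶ L) (sqZ : IsPullback ((yon S).map z₁) ((yon S).map z₂) a b)
    (w₁ : W ⟶ N) (w₂ : W ⟶ L)
    (sqW : IsPullback ((yon S).map w₁) ((yon S).map w₂) (a ≫ i) (b ≫ i))
    (m : Z ⟶ W) (hm₁ : m ≫ w₁ = z₁) (hm₂ : m ≫ w₂ = z₂) : Q m.left := by
  have hw : ((yon S).map w₁ ≫ a) ≫ i = ((yon S).map w₂ ≫ b) ≫ i := by
    rw [Category.assoc, Category.assoc, sqW.w]
  let g : (yon S).obj W ⟶ pullback i i := pullback.lift _ _ hw
  have e₁ : (yon S).map m ≫ (yon S).map w₁ = (yon S).map z₁ := by rw [← Functor.map_comp, hm₁]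
  have e₂ : (yon S).map m ≫ (yon S).map w₂ = (yon S).map z₂ := by rw [← Functor.map_comp, hm₂]
  have comm : ((yon S).map z₁ ≫ a) ≫ pullback.diagonal i = (yon S).map m ≫ g := by
    apply pullback.hom_ext
    · simp only [Category.assoc, pullback.diagonal_fst, Category.comp_id, g, pullback.lift_fst]
      rw [reassoc_of% e₁]
    · simp only [Category.assoc, pullback.diagonal_snd, Category.comp_id, g, pullback.lift_snd]
      rw [reassoc_of% e₂, sqZ.w]
  have sq : IsPullback ((yon S).map z₁ ≫ a) ((yon S).map m) (pullback.diagonal i) g := by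
    refine ⟨⟨comm⟩, ⟨PullbackCone.IsLimit.mk _
      (fun s => sqZ.lift (s.snd ≫ (yon S).map w₁) (s.snd ≫ (yon S).map w₂) ?_)
      (fun s => ?_) (fun s => ?_) (fun s m' h1 h2 => ?_)⟩⟩
    · have c1 := s.condition =≫ pullback.fst i i
      have c2 := s.condition =≫ pullback.snd i i
      simp only [Category.assoc, pullback.diagonal_fst, pullback.diagonal_snd, Category.comp_id,
        g, pullback.lift_fst, pullback.lift_snd] at c1 c2
      rw [Category.assoc, Category.assoc, ← c1, ← c2]
    · have c1 := s.condition =≫ pullback.fst i i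
      simp only [Category.assoc, pullback.diagonal_fst, Category.comp_id,
        g, pullback.lift_fst] at c1
      rw [← Category.assoc, sqZ.lift_fst, Category.assoc, ← c1]
    · apply sqW.hom_ext
      · rw [Category.assoc, e₁, sqZ.lift_fst]
      · rw [Category.assoc, e₂, sqZ.lift_snd]
    · apply sqZ.hom_ext
      · rw [sqZ.lift_fst, ← h2, Category.assoc, e₁]
      · rw [sqZ.lift_snd, ← h2, Category.assoc, e₂]
  exact hi.property _ _ _ sq

end Groth.Agent.H51

namespace Groth.Agent.H51
open AlgSp
variable {S : Scheme.{u}}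

/-- Fibres of an affine etale chart over points are finite when the sheaf is quasi-separated over an
affine base. -/
theorem finite_fibre_of_relative_quasiSeparated {P : Sp S} {B N : Over S}
    (i : P ⟶ (yon S).obj B) (hi : RepWith @QuasiCompact (pullback.diagonal i))
    [IsAffine B.left] [IsAffine N.left] (a : (yon S).obj N ⟶ P) (ha : RepWith @Etale a)
    (x : Points P) : (Points.ofPt a ⁻¹' {x}).Finite := by
  induction x using Points.ind with
  | h q =>
  refine Groth.Agent.H52.finite_fibre_of_isFinite_fibre q a ha.rep ?_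
  intro Z z₁ z₂ sqZ
  haveI : Etale z₂.left := ha.property q.toHom _ z₂ sqZ
  obtain ⟨ψN, hψN⟩ := (yon S).map_surjective (a ≫ i)
  obtain ⟨ψL, hψL⟩ := (yon S).map_surjective (q.toHom ≫ i)
  have sqO : IsPullback (pullback.fst ψN ψL) (pullback.snd ψN ψL) ψN ψL :=
    IsPullback.of_hasPullback ψN ψL
  have sqW : IsPullback ((yon S).map (pullback.fst ψN ψL)) ((yon S).map (pullback.snd ψN ψL))
      (a ≫ i) (q.toHom ≫ i) := by
    rw [← hψN, ← hψL]; exact sqO.map (yon S)
  have hcond : z₁ ≫ ψN = z₂ ≫ ψL := by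
    apply (yon S).map_injective
    rw [Functor.map_comp, Functor.map_comp, hψN, hψL, ← Category.assoc, ← Category.assoc, sqZ.w]
  let m : Z ⟶ pullback ψN ψL := pullback.lift z₁ z₂ hcond
  have hm : QuasiCompact m.left :=
    prop_of_repWith_diagonal i hi a q.toHom z₁ z₂ sqZ _ _ sqW m (pullback.lift_fst _ _ _)
      (pullback.lift_snd _ _ _)
  have sql : IsPullback (pullback.fst ψN ψL).left (pullback.snd ψN ψL).left ψN.left ψL.left :=
    sqO.map (Over.forget S)
  haveI : IsAffine q.pt.left := by
    change IsAffine (Spec (CommRingCat.of q.K))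
    infer_instance
  haveI : IsAffine (pullback ψN ψL).left := IsAffine.of_isIso sql.isoPullback.hom
  haveI : CompactSpace ↥Z.left := QuasiCompact.compactSpace_of_compactSpace m.left
  haveI : QuasiCompact z₂.left :=
    (quasiCompact_iff_compactSpace (Y := Spec (CommRingCat.of q.K)) z₂.left).2 inferInstance
  exact Groth.Agent.H52.isFinite_of_etale_of_quasiCompact (K := q.K) z₂.left

end Groth.Agent.H51
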