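import Groth.Agent.H51.SpVC3
import Groth.Agent.H49.AlgSpClosed
import Groth.Agent.H51.SpBasic
import Mathlib.AlgebraicGeometry.Morphisms.QuasiCompact

set_option autoImplicit false
universe u
open CategoryTheory CategoryTheory.Limits AlgebraicGeometry Opposite MorphismProperty

namespace Groth.Agent.H51

open AlgSp Groth.Agent.H49

variable {S : Scheme.{u}}

/-- Image of a closed subset under a morphism from a quasi-compact scheme to an affine scheme is
closed as soon as it is stable under specialization. -/
theorem isClosed_image_of_stableUnderSpecialization {W T : Scheme.{u}} [CompactSpace W]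
    [IsAffine T] (ψ : W ⟶ T) (C : Set W) (hC : IsClosed C)
    (h : StableUnderSpecialization (ψ '' C)) : IsClosed (ψ '' C) := by
  obtain ⟨R', g, hg⟩ := compactSpace_iff_exists.mp (inferInstance : CompactSpace W)
  let e := T.isoSpec
  obtain ⟨φ, hφ⟩ := Spec.map_surjective (g ≫ ψ ≫ e.hom)
  have hC' : IsClosed (g ⁻¹' C) := hC.preimage g.continuous
  have himg : (e.hom : T → _) '' (ψ '' C) =
      PrimeSpectrum.comap φ.hom '' (g ⁻¹' C) := by
    have h1 : ∀ x, PrimeSpectrum.comap φ.hom x = e.hom (ψ (g x)) := by
      intro x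
      change (Spec.map φ) x = _
      rw [hφ]
      rfl
    ext y
    constructor
    · rintro ⟨_, ⟨c, hc, rfl⟩, rfl⟩
      obtain ⟨x, rfl⟩ := hg c
      exact ⟨x, hc, h1 x⟩
    · rintro ⟨x, hx, rfl⟩
      exact ⟨ψ (g x), ⟨g x, hx, rfl⟩, (h1 x).symm⟩
  have hhomeo : IsHomeomorph (e.hom : T → _) := (Scheme.homeoOfIso e).isHomeomorph
  have hst : StableUnderSpecialization (PrimeSpectrum.comap φ.hom '' (g ⁻¹' C)) := by
    rw [← himg]
    intro y' y hy ⟨t', ht', e1⟩
    obtain ⟨t, rfl⟩ := hhomeo.surjective y
    subst e1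
    have : t' ⤳ t := (hhomeo.isInducing.specializes_iff).1 hy
    exact ⟨t, h this ht', rfl⟩
  have hcl := PrimeSpectrum.isClosed_image_of_stableUnderSpecialization φ.hom _ hC' hst
  have hcl' : IsClosed ((e.hom : T → _) '' (ψ '' C)) := himg ▸ hcl
  have := hcl'.preimage hhomeo.continuous
  rwa [Set.preimage_image_eq _ hhomeo.injective] at this

open IsLocalRing in
set_option backward.isDefEq.respectTransparency.types false in
/-- The specialization step: existence part of the valuative criterion for `snd : P ⟶ h_Z` gives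
that images of closed subsets of `|P|` are stable under specialization. -/
theorem exists_point_of_specializes {P : Sp S} {Z U : Over S} (snd : P ⟶ (yon S).obj Z)
    (he : ExistVC snd) (a : (yon S).obj U ⟶ P) (φ : U ⟶ Z) (hφ : (yon S).map φ = a ≫ snd)
    (C : Set (Points P)) (hC : IsClosed C) (u' : ↥U.left) (hu' : Points.ofPt a u' ∈ C)
    (t : ↥Z.left) (hsp : φ.left u' ⤳ t) :
    ∃ x ∈ C, Points.map snd x = Points.schemeHomeo Z t := by
  let X := U.left
  let Y := Z.left
  let f : X ⟶ Y := φ.left
  let stalk_y_to_residue_x' : Y.presheaf.stalk t ⟶ X.residueField u' :=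
    Y.presheaf.stalkSpecializes hsp ≫ f.stalkMap u' ≫ X.residue u'
  obtain ⟨A, hA, hA_local⟩ := exists_factor_valuationRing stalk_y_to_residue_x'.hom
  let stalk_y_to_A : Y.presheaf.stalk t ⟶ .of A :=
    CommRingCat.ofHom (stalk_y_to_residue_x'.hom.codRestrict _ hA)
  have w : X.fromSpecResidueField u' ≫ f =
      Spec.map (CommRingCat.ofHom (algebraMap A (X.residueField u'))) ≫
        Spec.map stalk_y_to_A ≫ Y.fromSpecStalk t := by
    rw [Scheme.fromSpecResidueField, Category.assoc, ← Scheme.SpecMap_stalkMap_fromSpecStalk,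
      ← Scheme.SpecMap_stalkSpecializes_fromSpecStalk hsp]
    simp_rw [← Spec.map_comp_assoc]
    rfl
  -- the valuative square
  let botm : Spec (.of A) ⟶ Y := Spec.map stalk_y_to_A ≫ Y.fromSpecStalk t
  let str : Spec (.of A) ⟶ S := botm ≫ Z.hom
  have hK : X.fromSpecResidueField u' ≫ U.hom =
      Spec.map (CommRingCat.ofHom (algebraMap A (X.residueField u'))) ≫ str := by
    rw [← CategoryTheory.Over.w φ, ← Category.assoc, w]
    simp only [Category.assoc, str, botm]
  let vsq : ValSq snd :=
    { A := A, K := X.residueField u', str := str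
      top := (yon S).map (Over.homMk (X.fromSpecResidueField u') hK) ≫ a
      bot := (yon S).map (Over.homMk botm rfl)
      comm := by
        rw [Category.assoc, ← hφ, ← Functor.map_comp, ← Functor.map_comp]
        congr 1
        ext
        exact w }
  obtain ⟨e, l, hl1, hl2⟩ := he vsq
  refine ⟨Points.ofPt l (closedPoint e.A'), ?_, ?_⟩
  · -- the generic point maps into `C`, and specializes to the closed point
    have hgen : Points.ofPt l ((Spec.map (CommRingCat.ofHom (algebraMap e.A' e.K')))
        (closedPoint e.K')) = Points.ofPt a u' := by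
      have h1 := ofPt_map_comp (Over.homMk (Spec.map (CommRingCat.ofHom (algebraMap e.A' e.K')))
        rfl : e.ptK' ⟶ e.ptA') l (closedPoint e.K')
      rw [hl1, ofPt_map_comp, ofPt_map_comp] at h1
      refine h1.symm.trans ?_
      congr 1
      exact Scheme.fromSpecResidueField_apply u' _
    have hspec : (Spec.map (CommRingCat.ofHom (algebraMap e.A' e.K'))) (closedPoint e.K') ⤳
        closedPoint e.A' := specializes_closedPoint _
    have := hspec.map (Points.continuous_ofPt l)
    rw [hgen] at this
    exact hC.stableUnderSpecialization this hu'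
  · rw [Points.map_ofPt, hl2, ofPt_map_comp, ofPt_eq_map_schemeHomeo, Points.map_yon_map_apply]
    congr 1
    change botm ((Spec.map (CommRingCat.ofHom e.φ)) (closedPoint e.A')) = t
    have h1 : (Spec.map (CommRingCat.ofHom e.φ)) (closedPoint e.A') = closedPoint A :=
      haveI := e.isLocalHom
      comap_closedPoint e.φ
    have h2 : Spec.map stalk_y_to_A (closedPoint A) = closedPoint (Y.presheaf.stalk t) :=
      comap_closedPoint (S := A) (stalk_y_to_residue_x'.hom.codRestrict A.toSubring hA)
    rw [h1]
    change (Y.fromSpecStalk t) (Spec.map stalk_y_to_A (closedPoint A)) = t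
    rw [h2, Y.fromSpecStalk_closedPoint]

/-- A quasi-compact sheaf over an affine scheme satisfying the existence part of the valuative
criterion has a closed map on points. -/
theorem isClosedMap_points_of_existVC {P : Sp S} {Z : Over S} [IsAffine Z.left]
    (snd : P ⟶ (yon S).obj Z) (hqc : IsQuasiCompactSp P) (he : ExistVC snd) :
    IsClosedMap (Points.map snd) := by
  obtain ⟨U, a, hae, has, hU⟩ := hqc
  have hU : CompactSpace ↥U.left := hU
  obtain ⟨φ, hφ⟩ := (yon S).map_surjective (a ≫ snd)
  have hsurj := surjective_ofPt_of_surjective a has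
  have key : ∀ u, Points.map snd (Points.ofPt a u) = Points.schemeHomeo Z (φ.left u) := by
    intro u
    rw [Points.map_ofPt, ← hφ, ofPt_eq_map_schemeHomeo, Points.map_yon_map_apply]
  intro C hC
  have himg : Points.map snd '' C =
      Points.schemeHomeo Z '' (φ.left '' (Points.ofPt a ⁻¹' C)) := by
    ext y
    constructor
    · rintro ⟨x, hx, rfl⟩
      obtain ⟨u, rfl⟩ := hsurj x
      exact ⟨φ.left u, ⟨u, hx, rfl⟩, (key u).symm⟩
    · rintro ⟨_, ⟨u, hu, rfl⟩, rfl⟩
      exact ⟨Points.ofPt a u, hu, key u⟩
  rw [himg]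
  apply (Points.schemeHomeo Z).isClosedMap
  apply isClosed_image_of_stableUnderSpecialization φ.left _
    (hC.preimage (Points.continuous_ofPt a))
  intro t' t hsp ht'
  obtain ⟨u', hu', e1⟩ := ht'
  subst e1
  obtain ⟨x, hxC, hx⟩ := exists_point_of_specializes snd he a φ hφ C hC u' hu' t hsp
  obtain ⟨u, rfl⟩ := hsurj x
  refine ⟨u, hxC, ?_⟩
  rw [key] at hx
  exact (Points.schemeHomeo Z).injective hx

/-- **S10288**. -/
theorem s10288 {F G : Sp S} (f : F ⟶ G)
    (hq : IsQuasiCompactMor f) (he : ExistVC f) : IsUnivClosedMor f := by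
  refine isUnivClosedMor_of_affine f (fun Z hZ g P fst snd sq => ?_)
  haveI := hZ
  exact isClosedMap_points_of_existVC snd
    (hq (IsAlgSpace.yon_obj Z) (isQuasiCompactSp_yon Z) g fst snd sq)
    (existVC_of_isPullback sq he)

end Groth.Agent.H51
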