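import Groth.Agent.H51.TopGenLift
import Groth.Agent.H51.SpRelDiag
import Groth.Agent.H51.SpVC4
import Groth.Agent.H49.AlgSpRep
import Groth.Agent.H53.LocalBase
import Groth.Prelude.Def_AlgSpMor5
import Mathlib.AlgebraicGeometry.ValuativeCriterion
import Mathlib.RingTheory.Valuation.LocalSubring

set_option autoImplicit false
universe u
open CategoryTheory CategoryTheory.Limits AlgebraicGeometry Opposite MorphismProperty

namespace Groth.Agent.H51

open AlgSp Groth.Agent.H49

variable {S : Scheme.{u}}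

/-- Step 1: a specialization of the generic point lying over the closed point. -/
theorem exists_specialization_over_closedPoint {P : Sp S} {A : Type u} [CommRing A]
    [IsLocalRing A] {str : Spec (CommRingCat.of A) ⟶ S}
    (snd : P ⟶ (yon S).obj (Over.mk str)) (hcl : IsClosedMap (Points.map snd)) (x : Points P) :
    ∃ x' : Points P, x ⤳ x' ∧
      Points.map snd x' = Points.schemeHomeo (Over.mk str) (IsLocalRing.closedPoint A) := by
  let ptA : Over S := Over.mk str
  set y := (Points.schemeHomeo ptA).symm (Points.map snd x) with hy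
  have h1 : y ⤳ IsLocalRing.closedPoint A := IsLocalRing.specializes_closedPoint y
  have h2 : Points.map snd x ⤳ Points.schemeHomeo ptA (IsLocalRing.closedPoint A) := by
    have := h1.map (Points.schemeHomeo ptA).continuous
    rwa [hy, Homeomorph.apply_symm_apply] at this
  have h3 : Points.schemeHomeo ptA (IsLocalRing.closedPoint A) ∈
      Points.map snd '' closure {x} := by
    rw [← hcl.closure_image_eq_of_continuous (Points.continuous_map snd), Set.image_singleton]
    exact specializes_iff_mem_closure.1 h2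
  obtain ⟨x', hx', hx'2⟩ := h3
  exact ⟨x', specializes_iff_mem_closure.2 hx', hx'2⟩

end Groth.Agent.H51

namespace Groth.Agent.H51

open IsLocalRing in
/-- A field-valued point over `n` together with a specialization `n ⤳ n'` extends to a valuation
ring of the field centred at `n'`. -/
theorem exists_valuationSubring_of_specializes {N : Scheme.{u}} {n n' : N} (h : n ⤳ n')
    {Ω : Type u} [Field Ω] (c : N.residueField n ⟶ CommRingCat.of Ω) :
    ∃ (V : ValuationSubring Ω) (m : Spec (CommRingCat.of V) ⟶ N),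
      m (closedPoint V) = n' ∧
      Spec.map (CommRingCat.ofHom (algebraMap V Ω)) ≫ m = Spec.map c ≫ N.fromSpecResidueField n := by
  let R : CommRingCat.{u} := N.presheaf.stalk n'
  let fR : R ⟶ CommRingCat.of Ω := N.presheaf.stalkSpecializes h ≫ N.residue n ≫ c
  obtain ⟨V, hV, hloc⟩ := IsLocalRing.exists_factor_valuationRing fR.hom
  let r : R ⟶ CommRingCat.of V := CommRingCat.ofHom (fR.hom.codRestrict V.toSubring hV)
  haveI : IsLocalHom r.hom := hloc
  refine ⟨V, Spec.map r ≫ N.fromSpecStalk n', ?_, ?_⟩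
  · rw [Scheme.Hom.comp_apply, Spec_closedPoint, Scheme.fromSpecStalk_closedPoint]
  · have e : r ≫ CommRingCat.ofHom (algebraMap V Ω) = fR := by
      ext x; rfl
    rw [← Category.assoc, ← Spec.map_comp, e]
    simp only [fR, Spec.map_comp, Category.assoc, Scheme.SpecMap_stalkSpecializes_fromSpecStalk]
    rfl

end Groth.Agent.H51

namespace Groth.Agent.H51
open AlgSp Groth.Agent.H49
variable {S : Scheme.{u}}

open IsLocalRing in
theorem s10289 {X Y : AlgSp.Space S} (f : X ⟶ Y)
    (hqs : AlgSp.IsQuasiSeparatedMor f.hom) (hc : AlgSp.IsUnivClosedMor f.hom) :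
    AlgSp.ExistVC f.hom := by
  intro sq
  -- base change to `Spec A`
  have pb : IsPullback (pullback.fst f.hom sq.bot) (pullback.snd f.hom sq.bot) f.hom sq.bot :=
    IsPullback.of_hasPullback _ _
  set P := pullback f.hom sq.bot with hPdef
  set fst := pullback.fst f.hom sq.bot with hfst
  set snd := pullback.snd f.hom sq.bot with hsnd
  have hP : IsAlgSpace P :=
    isAlgSpace_of_isPullback pb Y.property.diag X.property (IsAlgSpace.yon_obj sq.ptA)
  have hcl : IsClosedMap (Points.map snd) := hc (IsAlgSpace.yon_obj sq.ptA) sq.bot fst snd pb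
  have hqs' : RepWith @QuasiCompact (pullback.diagonal snd) :=
    MorphismProperty.of_isPullback (P := RepWith @QuasiCompact)
      (Groth.Agent.H53.isPullback_diagonal_of_isPullback pb) hqs
  let topP : (yon S).obj sq.ptK ⟶ P := pb.lift sq.top ((yon S).map sq.j) sq.comm
  have htopP1 : topP ≫ fst = sq.top := pb.lift_fst _ _ _
  have htopP2 : topP ≫ snd = (yon S).map sq.j := pb.lift_snd _ _ _
  let x : Points P := Points.mk (Groth.Agent.H52.fieldPtOfHom _ topP)
  obtain ⟨x', hxx', hx'⟩ := exists_specialization_over_closedPoint snd hcl x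
  -- an affine etale chart through `x'`
  obtain ⟨N, a, hae, has⟩ := hP.atlas
  obtain ⟨n'₁, hn'₁⟩ := surjective_ofPt_of_surjective a has x'
  obtain ⟨_, ⟨N₀', hN₀', rfl⟩, hn'N₀, -⟩ :=
    (N.left.isBasis_affineOpens).exists_subset_of_mem_open (Set.mem_univ n'₁) isOpen_univ
  let N₀o : N.left.Opens := N₀'
  have hN₀o : IsAffineOpen N₀o := hN₀'
  let N₀ : Over S := Over.mk (N₀o.ι ≫ N.hom)
  let ι₀ : N₀ ⟶ N := Over.homMk N₀o.ι rfl
  haveI : IsAffine N₀.left := hN₀o
  let a₀ : (yon S).obj N₀ ⟶ P := (yon S).map ι₀ ≫ a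
  have ha₀ : RepWith @Etale a₀ := by
    refine MorphismProperty.comp_mem (RepWith (S := S) @Etale) _ _ ?_ hae
    rw [repWith_yon_map_iff]
    change Etale N₀o.ι
    infer_instance
  let n' : ↥N₀.left := (⟨n'₁, hn'N₀⟩ : ↥N₀o)
  have hn' : Points.ofPt a₀ n' = x' := by
    rw [Groth.Agent.H52.ofPt_yon_map_comp]
    exact hn'₁
  -- lifting the generalization
  haveI : IsAffine sq.ptA.left := by
    change IsAffine (Spec (CommRingCat.of sq.A))
    infer_instance
  have hfin : (Points.ofPt a₀ ⁻¹' {x}).Finite :=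
    finite_fibre_of_relative_quasiSeparated snd hqs' a₀ ha₀ x
  obtain ⟨n, hn, hnn'⟩ := exists_specializes_of_isOpenMap_of_finite (Points.ofPt a₀)
    (isOpenMap_ofPt_of_etale a₀ ha₀) x hfin n' (by rw [hn']; exact hxx')
  -- the common field extension
  have hrel : Points.mk (FieldPt.ofPt a₀ n) = Points.mk (Groth.Agent.H52.fieldPtOfHom _ topP) := hn
  rw [Points.mk_eq_mk_iff, Groth.Agent.H52.rel_iff_toHom] at hrel
  obtain ⟨Ω, _, w, α, β, hαβ⟩ := hrel
  rw [FieldPt.toHom_ofPt, Groth.Agent.H52.toHom_fieldPtOfHom] at hαβ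
  let resn : (FieldPt.ofPt a₀ n).pt ⟶ N₀ := Over.homMk (N₀.left.fromSpecResidueField n) rfl
  let β' : Over.mk w ⟶ sq.ptK := β
  have hαβ' : (yon S).map (α ≫ resn) ≫ a₀ = (yon S).map β' ≫ topP := by
    rw [Functor.map_comp, Category.assoc]; exact hαβ
  let c : N₀.left.residueField n ⟶ CommRingCat.of Ω := Spec.preimage α.left
  have hc' : Spec.map c = α.left := Spec.map_preimage _
  obtain ⟨V, m, hmcl, hm⟩ := exists_valuationSubring_of_specializes hnn' c
  rw [hc'] at hm
  -- the structure morphism of the chart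
  obtain ⟨ψN, hψN⟩ := (yon S).map_surjective (a₀ ≫ snd)
  have hψNcl : ψN.left n' = closedPoint sq.A := by
    apply (Points.schemeHomeo sq.ptA).injective
    rw [← hx', ← hn', Points.map_ofPt, ← hψN, ofPt_eq_map_schemeHomeo, Points.map_yon_map_apply]
  let φ : sq.A →+* V := (Spec.preimage (m ≫ ψN.left)).hom
  have hφ : Spec.map (CommRingCat.ofHom φ) = m ≫ ψN.left := Spec.map_preimage _
  let ψK : sq.K →+* Ω := (Spec.preimage β.left).hom
  have hψK : Spec.map (CommRingCat.ofHom ψK) = β.left := Spec.map_preimage _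
  have hloc : IsLocalHom φ := by
    refine ((IsLocalRing.local_hom_TFAE φ).out 0 4).2 ?_
    have h1 : (Spec.map (CommRingCat.ofHom φ)) (closedPoint V) = closedPoint sq.A := by
      rw [hφ, Scheme.Hom.comp_apply, hmcl, hψNcl]
    exact congrArg PrimeSpectrum.asIdeal h1
  -- compatibility over `Spec A`
  have hcompat : (α ≫ resn) ≫ ψN = β' ≫ sq.j := by
    apply (yon S).map_injective
    have e1 : (yon S).map ((α ≫ resn) ≫ ψN) = ((yon S).map (α ≫ resn) ≫ a₀) ≫ snd := by
      rw [Functor.map_comp, hψN]; exact (Category.assoc _ _ _).symm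
    have e2 : (yon S).map (β' ≫ sq.j) = ((yon S).map β' ≫ topP) ≫ snd := by
      rw [Functor.map_comp, Category.assoc, htopP2]
    rw [e1, e2, hαβ']
  have hcompat' : (α.left ≫ N₀.left.fromSpecResidueField n) ≫ ψN.left =
      β.left ≫ Spec.map (CommRingCat.ofHom (algebraMap sq.A sq.K)) :=
    congrArg (fun k => k.left) hcompat
  have hcomm : (algebraMap V Ω).comp φ = ψK.comp (algebraMap sq.A sq.K) := by
    have : CommRingCat.ofHom φ ≫ CommRingCat.ofHom (algebraMap V Ω) =
        CommRingCat.ofHom (algebraMap sq.A sq.K) ≫ CommRingCat.ofHom ψK := by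
      apply Spec.map_injective
      rw [Spec.map_comp, Spec.map_comp, hφ, hψK, ← Category.assoc, hm]
      exact hcompat'
    exact congrArg (fun k => k.hom) this
  let e : sq.DomExt :=
    { A' := V
      K' := Ω
      φ := φ
      ψ := ψK
      comm := hcomm
      isLocalHom := hloc }
  refine ⟨e, ?_⟩
  have hmO : m ≫ N₀.hom = Spec.map (CommRingCat.ofHom φ) ≫ sq.str := by
    rw [hφ, Category.assoc]
    congr 1
    exact (Over.w ψN).symm
  let mO : e.ptA' ⟶ N₀ := Over.homMk m hmO
  let jK' : e.ptK' ⟶ e.ptA' := Over.homMk (Spec.map (CommRingCat.ofHom (algebraMap V Ω))) rfl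
  let ιA : e.ptA' ⟶ sq.ptA := Over.homMk (Spec.map (CommRingCat.ofHom φ)) rfl
  have hw : w = Spec.map (CommRingCat.ofHom (algebraMap V Ω)) ≫
      Spec.map (CommRingCat.ofHom φ) ≫ sq.str := by
    have h1 : w = β.left ≫ Spec.map (CommRingCat.ofHom (algebraMap sq.A sq.K)) ≫ sq.str :=
      (Over.w β').symm
    have h2 : β.left ≫ Spec.map (CommRingCat.ofHom (algebraMap sq.A sq.K)) ≫ sq.str =
        ((α.left ≫ N₀.left.fromSpecResidueField n) ≫ ψN.left) ≫ sq.str := by
      rw [hcompat', Category.assoc]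
    have h3 : ((α.left ≫ N₀.left.fromSpecResidueField n) ≫ ψN.left) ≫ sq.str =
        ((Spec.map (CommRingCat.ofHom (algebraMap V Ω)) ≫ m) ≫ ψN.left) ≫ sq.str :=
      congrArg (fun k => (k ≫ ψN.left) ≫ sq.str) hm.symm
    rw [h1, h2, h3, hφ]
    simp only [Category.assoc]
  let θ : e.ptK' ⟶ Over.mk w := Over.homMk (𝟙 _) (by
    change 𝟙 _ ≫ w = Spec.map _ ≫ Spec.map _ ≫ sq.str
    rw [Category.id_comp, hw])
  have hθ1 : jK' ≫ mO = θ ≫ α ≫ resn := by
    ext1
    change Spec.map (CommRingCat.ofHom (algebraMap V Ω)) ≫ m =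
      𝟙 _ ≫ α.left ≫ N₀.left.fromSpecResidueField n
    rw [Category.id_comp]; exact hm
  refine ⟨(yon S).map mO ≫ a₀ ≫ fst, ?_, ?_⟩
  · have hθ2 : (Over.homMk (Spec.map (CommRingCat.ofHom e.ψ)) (by
          change Spec.map _ ≫ Spec.map _ ≫ _ = Spec.map _ ≫ Spec.map _ ≫ _
          rw [← Spec.map_comp_assoc, ← Spec.map_comp_assoc, ← CommRingCat.ofHom_comp,
            ← CommRingCat.ofHom_comp, e.comm]) : e.ptK' ⟶ sq.ptK) = θ ≫ β' := by
      ext1
      change Spec.map (CommRingCat.ofHom ψK) = 𝟙 _ ≫ β.left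
      rw [Category.id_comp, hψK]
    rw [hθ2]
    change (yon S).map jK' ≫ (yon S).map mO ≫ a₀ ≫ fst = _
    rw [← Category.assoc, ← Functor.map_comp, hθ1, Functor.map_comp, Category.assoc,
      ← Category.assoc ((yon S).map (α ≫ resn)), hαβ', Category.assoc, htopP1, Functor.map_comp,
      Category.assoc]
  · change ((yon S).map mO ≫ a₀ ≫ fst) ≫ f.hom = (yon S).map ιA ≫ sq.bot
    have h1 : mO ≫ ψN = ιA := by
      ext1
      exact hφ.symm
    rw [Category.assoc, Category.assoc, pb.w, ← Category.assoc a₀, ← hψN, ← Category.assoc,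
      ← Functor.map_comp, h1]

end Groth.Agent.H51
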