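import Groth.Agent.H51.SpVC
import Mathlib.AlgebraicGeometry.Morphisms.ClosedImmersion

set_option autoImplicit false
universe u
open CategoryTheory CategoryTheory.Limits AlgebraicGeometry Opposite MorphismProperty

namespace Groth.Agent.H51

open AlgSp

variable {S : Scheme.{u}}

/-- A closed immersion into the spectrum of a domain through which the spectrum of the fraction
field factors is an isomorphism. -/
theorem isIso_of_isClosedImmersion_of_fractionField {A K : Type u} [CommRing A] [IsDomain A]
    [Field K] [Algebra A K] [IsFractionRing A K] {Z : Scheme.{u}} (i : Z ⟶ Spec (.of A))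
    [IsClosedImmersion i] (σ : Spec (.of K) ⟶ Z)
    (hσ : σ ≫ i = Spec.map (CommRingCat.ofHom (algebraMap A K))) : IsIso i := by
  have hsurj : Surjective i := by
    constructor
    have hcl : IsClosed (Set.range i) := i.isClosedEmbedding.isClosed_range
    have hη : (⟨⊥, Ideal.isPrime_bot⟩ : PrimeSpectrum A) ∈ Set.range i := by
      refine ⟨σ (IsLocalRing.closedPoint K), ?_⟩
      rw [← Scheme.Hom.comp_apply, hσ]
      change PrimeSpectrum.comap (algebraMap A K) (IsLocalRing.closedPoint K) = _
      ext x
      simp [IsLocalRing.closedPoint, PrimeSpectrum.comap_asIdeal, Ideal.mem_comap,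
        IsLocalRing.maximalIdeal_eq_bot]
    intro y
    have hy : ∀ y : PrimeSpectrum A,
        y ∈ closure ({⟨⊥, Ideal.isPrime_bot⟩} : Set (PrimeSpectrum A)) := by
      intro y
      rw [PrimeSpectrum.closure_singleton, PrimeSpectrum.mem_zeroLocus]
      simp
    exact hcl.closure_subset_iff.2 (Set.singleton_subset_iff.2 hη) (hy y)
  exact isIso_of_isClosedImmersion_of_surjective i

theorem uniqVC_of_isSeparatedMor {X Y : Sp S} (f : X ⟶ Y) (hf : IsSeparatedMor f) : UniqVC f := by
  intro sq l l' h1 h2 h1' h2'
  let m : (yon S).obj sq.ptA ⟶ pullback f f := pullback.lift l l' (by rw [h2, h2'])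
  have hm1 : m ≫ pullback.fst f f = l := pullback.lift_fst _ _ _
  have hm2 : m ≫ pullback.snd f f = l' := pullback.lift_snd _ _ _
  have hrep : Representable (pullback.diagonal f) := hf.rep
  have sqZ := hrep.isPullback m
  have hcl : IsClosedImmersion (hrep.snd m).left := hf.property_snd m
  have hw : ((yon S).map sq.j ≫ l) ≫ pullback.diagonal f = (yon S).map sq.j ≫ m := by
    apply pullback.hom_ext
    · rw [Category.assoc, pullback.diagonal_fst, Category.comp_id, Category.assoc, hm1]
    · rw [Category.assoc, pullback.diagonal_snd, Category.comp_id, Category.assoc, hm2, h1, h1']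
  let σ : sq.ptK ⟶ hrep.pullback m := hrep.lift _ sq.j hw
  have hσ : σ ≫ hrep.snd m = sq.j := hrep.lift_snd _ _ hw
  have hiso : IsIso (hrep.snd m).left :=
    isIso_of_isClosedImmersion_of_fractionField (A := sq.A) (K := sq.K) (hrep.snd m).left σ.left
      (by rw [← Over.comp_left, hσ]; rfl)
  have hisoO : IsIso (hrep.snd m) := by
    have : IsIso ((Over.forget S).map (hrep.snd m)) := hiso
    exact isIso_of_reflects_iso _ (Over.forget S)
  have hm : m = (yon S).map (inv (hrep.snd m)) ≫ hrep.fst m ≫ pullback.diagonal f := by
    rw [sqZ.w, ← Category.assoc, ← Functor.map_comp, IsIso.inv_hom_id,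
      CategoryTheory.Functor.map_id, Category.id_comp]
  rw [← hm1, ← hm2, hm]
  simp only [Category.assoc, pullback.diagonal_fst, pullback.diagonal_snd]

end Groth.Agent.H51
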