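import Mathlib.Topology.Inseparable
import Mathlib.Topology.Closure

set_option autoImplicit false
open Topology

namespace Groth.Agent.H51

/-- Generalizations lift along open maps with finite fibres. -/
theorem exists_specializes_of_isOpenMap_of_finite {N P : Type*} [TopologicalSpace N]
    [TopologicalSpace P] (q : N → P) (hq : IsOpenMap q) (x : P) (hfin : (q ⁻¹' {x}).Finite)
    (n' : N) (h : x ⤳ q n') : ∃ n, q n = x ∧ n ⤳ n' := by
  have h1 : n' ∈ closure (q ⁻¹' {x}) := by
    rw [mem_closure_iff]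
    intro O hO hn'
    have h2 : x ∈ q '' O := h.mem_open (hq O hO) ⟨n', hn', rfl⟩
    obtain ⟨o, ho, hox⟩ := h2
    exact ⟨o, ho, hox⟩
  have h2 : closure (q ⁻¹' {x}) = ⋃ n ∈ q ⁻¹' {x}, closure {n} := by
    conv_lhs => rw [← Set.biUnion_of_singleton (q ⁻¹' {x})]
    exact hfin.closure_biUnion _
  rw [h2, Set.mem_iUnion₂] at h1
  obtain ⟨n, hn, hn'⟩ := h1
  exact ⟨n, hn, specializes_iff_mem_closure.2 hn'⟩

end Groth.Agent.H51
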