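import Groth.Agent.H51.SpProper2
import Groth.Agent.S9952
import Groth.Agent.S10277

set_option autoImplicit false
universe u
open CategoryTheory CategoryTheory.Limits AlgebraicGeometry Opposite MorphismProperty

namespace Groth.Agent.H51

open AlgSp Groth.Agent.H50 Groth.Agent.H49

variable {S : Scheme.{u}}

theorem s10280 {X Y : AlgSp.Space S} (f : X ⟶ Y) :
    (AlgSp.IsSeparatedMor f.hom ↔ AlgSp.IsUnivClosedMor (pullback.diagonal f.hom)) ∧
    (AlgSp.IsSeparatedMor f.hom ↔ AlgSp.IsProperMor (pullback.diagonal f.hom)) := by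
  have hPP : IsAlgSpace (pullback f.hom f.hom) :=
    isAlgSpace_of_isPullback (IsPullback.of_hasPullback _ _) Y.property.diag X.property X.property
  have hD := diagProps_diagonal X.property f.hom
  have h1 : AlgSp.IsSeparatedMor f.hom → AlgSp.IsProperMor (pullback.diagonal f.hom) := fun hs =>
    Groth.Agent.S10277.result (X := X) (Y := ⟨pullback f.hom f.hom, hPP⟩)
      (ObjectProperty.homMk (pullback.diagonal f.hom)) hs
  have h2 : AlgSp.IsUnivClosedMor (pullback.diagonal f.hom) → AlgSp.IsSeparatedMor f.hom :=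
    fun huc => repWith_isClosedImmersion_of_univClosed_lft_mono
      (repWith_universallyClosed_of_isUnivClosedMor hD.1 huc) hD.2.1 hD.2.2.2.2.1
  exact ⟨⟨fun hs => (h1 hs).2.2, h2⟩, ⟨h1, fun hp => h2 hp.2.2⟩⟩

/-- Graph factorisation: if `q` is separated and `f ≫ q` is universally closed then so is `f`. -/
theorem isUnivClosedMor_of_comp_of_isSeparatedMor {X Y B : Sp S} (hX : IsAlgSpace X)
    (hY : IsAlgSpace Y) (hB : IsAlgSpace B) (f : X ⟶ Y) (q : Y ⟶ B) (hq : IsSeparatedMor q)
    (hp : IsUnivClosedMor (f ≫ q)) : IsUnivClosedMor f := by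
  have sqΓ := pullback_lift_diagonal_isPullback f q
  have hΓ : RepWith @IsClosedImmersion (pullback.lift (𝟙 X) f (by simp) : X ⟶ pullback (f ≫ q) q) :=
    MorphismProperty.of_isPullback (P := RepWith @IsClosedImmersion) sqΓ hq
  have hΓ' : IsUnivClosedMor (pullback.lift (𝟙 X) f (by simp) : X ⟶ pullback (f ≫ q) q) :=
    isUnivClosedMor_of_repWith (repWith_of_le (fun _ _ g hg => by
      have : IsClosedImmersion g := hg
      exact (inferInstance : UniversallyClosed g)) hΓ)
  have sqP : IsPullback (pullback.fst (f ≫ q) q) (pullback.snd (f ≫ q) q) (f ≫ q) q :=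
    .of_hasPullback _ _
  have hpr : IsUnivClosedMor (pullback.snd (f ≫ q) q) := isUnivClosedMor_of_isPullback sqP hp
  have hP : IsAlgSpace (pullback (f ≫ q) q) := isAlgSpace_of_isPullback sqP hB.diag hX hY
  have := isUnivClosedMor_comp hP hY.diag hΓ' hpr
  rwa [pullback.lift_snd] at this

/-- If `f ≫ q` is separated then `f` is separated. -/
theorem isSeparatedMor_of_comp {X Y B : Sp S} (f : X ⟶ Y) (q : Y ⟶ B)
    (hp : IsSeparatedMor (f ≫ q)) : IsSeparatedMor f := by
  change RepWith @IsClosedImmersion (pullback.diagonal (f ≫ q)) at hp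
  rw [pullback.diagonal_comp] at hp
  exact (RepWith @IsClosedImmersion).of_postcomp (W' := MorphismProperty.monomorphisms _) _ _
    (MorphismProperty.monomorphisms.infer_property _) hp

theorem s10278 {X Y B : AlgSp.Space S} (f : X ⟶ Y) (p : X ⟶ B)
    (q : Y ⟶ B) (comm : f ≫ q = p) (hq : AlgSp.IsSeparatedMor q.hom) :
    (AlgSp.IsUnivClosedMor p.hom →
      AlgSp.IsUnivClosedMor f.hom ∧ IsClosed (Set.range (AlgSp.Points.map f.hom))) ∧
    (AlgSp.IsProperMor p.hom → AlgSp.IsProperMor f.hom) := by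
  subst comm
  have key : AlgSp.IsUnivClosedMor (f ≫ q).hom → AlgSp.IsUnivClosedMor f.hom := fun hp =>
    isUnivClosedMor_of_comp_of_isSeparatedMor X.property Y.property B.property f.hom q.hom hq hp
  refine ⟨fun hp => ⟨key hp, ?_⟩, fun hp => ⟨?_, ⟨?_, ?_⟩, key hp.2.2⟩⟩
  · have hcl : IsClosedMap (Points.map f.hom) :=
      key hp Y.property (𝟙 _) (𝟙 _) f.hom (isPullback_id_of_snd f.hom)
    rw [← Set.image_univ]
    exact hcl _ isClosed_univ
  · exact isSeparatedMor_of_comp f.hom q.hom hp.1
  · exact Groth.Agent.S9952.result f q hp.2.1.1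
  · exact isQuasiCompactMor_of_comp_of_isQuasiSeparatedMor X.property Y.property B.property
      f.hom q.hom hp.2.1.2 (repWith_of_le (fun _ _ g hg => by
        have : IsClosedImmersion g := hg
        exact (inferInstance : QuasiCompact g)) hq)

end Groth.Agent.H51
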