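import Groth.Agent.H51.SpEtSrc2
import Groth.Agent.H49.AlgSpSep
import Groth.Agent.H49.AlgSpSepDescent
import Groth.Agent.H49.AlgSpDiagProps2
import Groth.Agent.H49.FppfLocal2

set_option autoImplicit false
universe u
open CategoryTheory CategoryTheory.Limits AlgebraicGeometry Opposite MorphismProperty

namespace Groth.Agent.H51

open AlgSp Groth.Agent.H50 Groth.Agent.H49

variable {S : Scheme.{u}}

set_option backward.isDefEq.respectTransparency false in
/-- `a ×_B a : F ×_B F ⟶ X ×_B X` has `P` (representably) when `a` has. -/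
theorem repWith_pullback_map_self {F X B : Sp S} (P : MorphismProperty Scheme.{u})
    [P.IsStableUnderBaseChange] [P.IsMultiplicative]
    (a : F ⟶ X) (g : X ⟶ B) (ha : RepWith P a) :
    RepWith P (pullback.map (a ≫ g) (a ≫ g) g g a a (𝟙 B) (by simp) (by simp)) := by
  have sq1 := isPullback_map_fst a g (a ≫ g)
  have sq2 := isPullback_map_snd a g g
  have h1 := (RepWith P).of_isPullback sq1 ha
  have h2 := (RepWith P).of_isPullback sq2 ha
  have h3 := (RepWith P).comp_mem _ _ h1 h2
  convert h3 using 1
  apply pullback.hom_ext <;> simp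

/-- The underlying morphism of schemes of the diagonal of `h` in `Over S` is the diagonal of
`h.left` up to an isomorphism. -/
theorem exists_iso_diagonal_left {U V : Over S} (h : U ⟶ V) :
    ∃ e : (pullback h h).left ≅ pullback h.left h.left,
      (pullback.diagonal h).left ≫ e.hom = pullback.diagonal h.left := by
  have sq : IsPullback (pullback.fst h h).left (pullback.snd h h).left h.left h.left :=
    (IsPullback.of_hasPullback h h).map (Over.forget S)
  refine ⟨sq.isoPullback, ?_⟩
  apply pullback.hom_ext
  · rw [Category.assoc, sq.isoPullback_hom_fst, ← Over.comp_left, pullback.diagonal_fst,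
      pullback.diagonal_fst]; rfl
  · rw [Category.assoc, sq.isoPullback_hom_snd, ← Over.comp_left, pullback.diagonal_snd,
      pullback.diagonal_snd]; rfl

theorem isOpenImmersion_diagonal_left {U V : Over S} (h : U ⟶ V)
    [IsOpenImmersion (pullback.diagonal h.left)] : IsOpenImmersion (pullback.diagonal h).left := by
  obtain ⟨e, he⟩ := exists_iso_diagonal_left h
  have : (pullback.diagonal h).left = pullback.diagonal h.left ≫ e.inv := by
    rw [← he, Category.assoc, Iso.hom_inv_id, Category.comp_id]
  rw [this]
  infer_instance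

theorem isOpenImmersion_diagonal_of_left {U V : Over S} (h : U ⟶ V)
    [IsOpenImmersion (pullback.diagonal h).left] : IsOpenImmersion (pullback.diagonal h.left) := by
  obtain ⟨e, he⟩ := exists_iso_diagonal_left h
  rw [← he]
  infer_instance

theorem isEtaleMor_of_repWith_etale {F G : Sp S} {f : F ⟶ G} (hf : RepWith @Etale f) :
    IsEtaleMor f := fun _ _ hφ => (RepWith @Etale).comp_mem _ _ hφ hf

set_option backward.isDefEq.respectTransparency false in
/-- The chart of `X ×_{h_V} X` induced by an etale chart `a` of `X`. -/
theorem exists_chart_pullback_self {X : Sp S} {U V : Over S} (a : (yon S).obj U ⟶ X)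
    (g : X ⟶ (yon S).obj V) (h : U ⟶ V) (hh : a ≫ g = (yon S).map h) :
    ∃ c : (yon S).obj (pullback h h) ⟶ pullback g g,
      (RepWith @Etale a → RepWith @Etale c) ∧ (RepWith @Surjective a → RepWith @Surjective c) ∧
      a ≫ pullback.diagonal g = (yon S).map (pullback.diagonal h) ≫ c := by
  have sq' : IsPullback ((yon S).map (pullback.fst h h)) ((yon S).map (pullback.snd h h))
      (a ≫ g) (a ≫ g) := by
    rw [hh]; exact (IsPullback.of_hasPullback h h).map (yon S)
  refine ⟨sq'.isoPullback.hom ≫ pullback.map (a ≫ g) (a ≫ g) g g a a (𝟙 _) (by simp) (by simp),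
    fun ha => ?_, fun ha => ?_, ?_⟩
  · exact (MorphismProperty.cancel_left_of_respectsIso (RepWith @Etale) _ _).2
      (repWith_pullback_map_self @Etale a g ha)
  · exact (MorphismProperty.cancel_left_of_respectsIso (RepWith @Surjective) _ _).2
      (repWith_pullback_map_self @Surjective a g ha)
  · apply pullback.hom_ext
    · simp only [Category.assoc, pullback.diagonal_fst, Category.comp_id, pullback.lift_fst,
        sq'.isoPullback_hom_fst_assoc]
      rw [← Category.assoc, ← Functor.map_comp, pullback.diagonal_fst,
        CategoryTheory.Functor.map_id, Category.id_comp]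
    · simp only [Category.assoc, pullback.diagonal_snd, Category.comp_id, pullback.lift_snd,
        sq'.isoPullback_hom_snd_assoc]
      rw [← Category.assoc, ← Functor.map_comp, pullback.diagonal_snd,
        CategoryTheory.Functor.map_id, Category.id_comp]

/-- An unramified morphism from an algebraic space to a scheme has an open immersion as
diagonal. -/
theorem repWith_isOpenImmersion_diagonal_to_yon {P : Sp S} (hP : IsAlgSpace P) {V : Over S}
    (g : P ⟶ (yon S).obj V) (hg : LocP (@LocallyOfFiniteType ⊓ @FormallyUnramified) g) :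
    RepWith @IsOpenImmersion (pullback.diagonal g) := by
  obtain ⟨U, a, ha, has⟩ := hP.atlas
  obtain ⟨h, hh⟩ := (yon S).map_surjective (a ≫ g)
  have hPh : (@LocallyOfFiniteType ⊓ @FormallyUnramified) h.left :=
    hg a (𝟙 _) h ha (repWith_id _ V) (by rw [hh, Category.comp_id])
  have : LocallyOfFiniteType h.left := hPh.1
  have : FormallyUnramified h.left := hPh.2
  have hδ : IsOpenImmersion (pullback.diagonal h).left := isOpenImmersion_diagonal_left h
  obtain ⟨c, hc1, hc2, hc3⟩ := exists_chart_pullback_self a g h hh.symm
  have hPP : IsAlgSpace (pullback g g) :=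
    isAlgSpace_of_isPullback (IsPullback.of_hasPullback g g) (IsAlgSpace.yon_obj V).diag hP hP
  have hEt : IsEtaleMor (pullback.diagonal g) :=
    isEtaleMor_of_chart hPP _ a ha has c (hc1 ha) (pullback.diagonal h) inferInstance hc3
  have hD := diagProps_diagonal hP g
  exact repWith_isOpenImmersion_of_etale_of_mono (repWith_etale_of_isEtaleMor hP hD.1 hEt)
    hD.2.2.2.2.1

/-- `LocP P` passes to the base change along an etale chart of the target. -/
theorem locP_snd_of_isPullback_chart (Q : MorphismProperty Scheme.{u}) {X Y P : Sp S} {f : X ⟶ Y}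
    {V : Over S} {b : (yon S).obj V ⟶ Y} (hb : RepWith @Etale b) {fst : P ⟶ X}
    {snd : P ⟶ (yon S).obj V} (sq : IsPullback fst snd f b) (hf : LocP Q f) : LocP Q snd := by
  intro U' V' a' b' h' ha' hb' hcomm
  have hfst : RepWith @Etale fst := (RepWith @Etale).of_isPullback sq.flip hb
  refine hf (a' ≫ fst) (b' ≫ b) h' ((RepWith @Etale).comp_mem _ _ ha' hfst)
    ((RepWith @Etale).comp_mem _ _ hb' hb) ?_
  rw [Category.assoc, sq.w, ← Category.assoc, hcomm, Category.assoc]

theorem s10262_part1 {X Y : AlgSp.Space S} (f : X ⟶ Y)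
    (hf : AlgSp.LocP (@LocallyOfFiniteType ⊓ @FormallyUnramified) f.hom) :
    AlgSp.RepWith @IsOpenImmersion (pullback.diagonal f.hom) := by
  obtain ⟨V, b, hb, hbs⟩ := Y.property.atlas
  have sq : IsPullback (pullback.fst f.hom b) (pullback.snd f.hom b) f.hom b :=
    IsPullback.of_hasPullback _ _
  have hP : IsAlgSpace (pullback f.hom b) :=
    isAlgSpace_of_isPullback sq Y.property.diag X.property (IsAlgSpace.yon_obj V)
  exact repWith_diagonal_of_etale_cover @IsOpenImmersion f.hom X.property.diag b hb hbs _ _ sq
    (repWith_isOpenImmersion_diagonal_to_yon hP _ (locP_snd_of_isPullback_chart _ hb sq hf))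

theorem s10262_part2 {X Y : AlgSp.Space S} (f : X ⟶ Y)
    (hlft : AlgSp.LocP @LocallyOfFiniteType f.hom)
    (hΔ : AlgSp.RepWith @IsOpenImmersion (pullback.diagonal f.hom)) :
    AlgSp.LocP (@LocallyOfFiniteType ⊓ @FormallyUnramified) f.hom := by
  intro U V a b h ha hb hcomm
  refine ⟨hlft a b h ha hb hcomm, ?_⟩
  have sq : IsPullback (pullback.fst f.hom b) (pullback.snd f.hom b) f.hom b :=
    IsPullback.of_hasPullback _ _
  have hP : IsAlgSpace (pullback f.hom b) :=
    isAlgSpace_of_isPullback sq Y.property.diag X.property (IsAlgSpace.yon_obj V)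
  have hfst : RepWith @Etale (pullback.fst f.hom b) := (RepWith @Etale).of_isPullback sq.flip hb
  let a' : (yon S).obj U ⟶ pullback f.hom b := sq.lift a ((yon S).map h) hcomm
  have ha'1 : a' ≫ pullback.fst f.hom b = a := sq.lift_fst _ _ hcomm
  have ha'2 : a' ≫ pullback.snd f.hom b = (yon S).map h := sq.lift_snd _ _ hcomm
  have ha'E : IsEtaleMor a' := by
    refine isEtaleMor_of_comp (h := pullback.fst f.hom b) hP ?_ (isEtaleMor_of_repWith_etale hfst)
    rw [ha'1]
    exact isEtaleMor_of_repWith_etale ha
  have ha' : RepWith @Etale a' := by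
    have := ha'E (𝟙 _) (repWith_id _ U)
    rwa [Category.id_comp] at this
  have hΔg : RepWith @IsOpenImmersion (pullback.diagonal (pullback.snd f.hom b)) :=
    MorphismProperty.of_isPullback (P := (RepWith @IsOpenImmersion).diagonal) sq hΔ
  have hΔgE : RepWith @Etale (pullback.diagonal (pullback.snd f.hom b)) :=
    repWith_of_le (fun _ _ g hg => by
      have : IsOpenImmersion g := hg
      exact (inferInstance : Etale g)) hΔg
  obtain ⟨c, hc1, -, hc3⟩ := exists_chart_pullback_self a' (pullback.snd f.hom b) h ha'2
  have h1 : RepWith @Etale (a' ≫ pullback.diagonal (pullback.snd f.hom b)) :=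
    (RepWith @Etale).comp_mem _ _ ha' hΔgE
  have hδ : Etale (pullback.diagonal h).left :=
    etale_of_chart_hom _ c h1 (hc1 ha') (pullback.diagonal h) hc3.symm
  have hδm : Mono (pullback.diagonal h).left := by
    have : (pullback.diagonal h).left ≫ (pullback.fst h h).left = 𝟙 _ := by
      rw [← Over.comp_left, pullback.diagonal_fst]; rfl
    exact mono_of_mono_fac this
  have : IsOpenImmersion (pullback.diagonal h).left := IsOpenImmersion.of_flat_of_mono _
  have : IsOpenImmersion (pullback.diagonal h.left) := isOpenImmersion_diagonal_of_left h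
  infer_instance

end Groth.Agent.H51
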