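import Groth.Agent.H51.TopChart
import Groth.Agent.H49.AlgSpOpen
import Groth.Agent.H51.SpBasic
import Groth.Agent.H52.MonoPoint
import Mathlib.AlgebraicGeometry.Morphisms.Immersion

set_option autoImplicit false
universe u
open CategoryTheory CategoryTheory.Limits AlgebraicGeometry Opposite MorphismProperty Topology

namespace Groth.Agent.H51

open AlgSp Groth.Agent.H50 Groth.Agent.H49

variable {S : Scheme.{u}}

/-- A monomorphism of sheaves is injective on points. -/
theorem injective_map_of_mono {Z X : Sp S} (i : Z ⟶ X) [Mono i] :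
    Function.Injective (Points.map i) := by
  intro z₁ z₂ h
  induction z₁ using Points.ind with
  | h p₁ =>
  induction z₂ using Points.ind with
  | h p₂ =>
  rw [Points.map_mk, Points.map_mk, Points.mk_eq_mk_iff, Groth.Agent.H52.rel_iff_toHom] at h
  obtain ⟨Ω, _, w, α, β, hαβ⟩ := h
  rw [FieldPt.toHom_map, FieldPt.toHom_map] at hαβ
  have hαβ' : ((yon S).map (show Over.mk w ⟶ p₁.pt from α) ≫ p₁.toHom) ≫ i =
      ((yon S).map (show Over.mk w ⟶ p₂.pt from β) ≫ p₂.toHom) ≫ i := by
    rw [Category.assoc, Category.assoc]; exact hαβ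
  have := (cancel_mono i).1 hαβ'
  rw [Points.mk_eq_mk_iff, Groth.Agent.H52.rel_iff_toHom]
  exact ⟨Ω, inferInstance, w, α, β, this⟩

theorem s10191 {Z X : Sp S} (hX : IsAlgSpace X) (i : Z ⟶ X)
    (hi : RepWith @IsImmersion i) :
    IsEmbedding (Points.map i) ∧ IsLocallyClosed (Set.range (Points.map i)) := by
  obtain ⟨U, a, hae, has⟩ := hX.atlas
  have sq := hi.rep.isPullback a
  set ZU := hi.rep.pullback a with hZU
  set a' := hi.rep.fst a with ha'
  set snd := hi.rep.snd a with hsnd
  haveI himm : IsImmersion snd.left := hi.property_snd a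
  have ha's : RepWith @Surjective a' :=
    MorphismProperty.of_isPullback (P := RepWith @Surjective) sq.flip has
  haveI : Mono i := mono_of_repWith_mono (fun _ _ g (_ : IsImmersion g) =>
    (inferInstance : Mono g)) i hi
  have comm : ∀ z', Points.ofPt a (snd.left z') = Points.map i (Points.ofPt a' z') := by
    intro z'
    rw [Points.map_ofPt, sq.w, Groth.Agent.H52.ofPt_yon_map_comp]
  have cart : ∀ u z, Points.ofPt a u = Points.map i z →
      ∃ z', snd.left z' = u ∧ Points.ofPt a' z' = z := by
    intro u z huz
    obtain ⟨w, hw1, hw2⟩ := Groth.Agent.H52.exists_point_of_isPullback sq z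
      (Points.ofScheme U u) (by rw [← huz, Points.ofPt_eq_map_ofScheme])
    obtain ⟨z', rfl⟩ := (Points.schemeEquiv ZU).surjective w
    refine ⟨z', ?_, ?_⟩
    · have := congrArg (Points.toScheme U) hw2
      rw [Points.toScheme_ofScheme] at this
      rw [← this]
      change _ = Points.toScheme U (Points.map _ (Points.ofScheme _ z'))
      rw [← Points.ofPt_eq_map_ofScheme, Points.toScheme_ofPt]
    · rw [Points.ofPt_eq_map_ofScheme]; exact hw1
  have hqs := Groth.Agent.H52.ofPt_surjective_of_repWith_surjective a has
  constructor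
  · exact isEmbedding_of_chart (Points.ofPt a) (Points.ofPt a') snd.left (Points.map i)
      (Points.continuous_ofPt a) (isOpenMap_ofPt_of_etale a hae) (Points.continuous_ofPt a')
      (Groth.Agent.H52.ofPt_surjective_of_repWith_surjective a' ha's)
      snd.left.isEmbedding (Points.continuous_map i) (injective_map_of_mono i) comm cart
  · apply isLocallyClosed_of_preimage (Points.ofPt a) (Points.continuous_ofPt a)
      (isOpenMap_ofPt_of_etale a hae) hqs
    have : Points.ofPt a ⁻¹' Set.range (Points.map i) = Set.range snd.left := by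
      ext u
      constructor
      · rintro ⟨z, hz⟩
        obtain ⟨z', hz', -⟩ := cart u z hz.symm
        exact ⟨z', hz'⟩
      · rintro ⟨z', rfl⟩
        exact ⟨_, (comm z').symm⟩
    rw [this]
    exact snd.left.isLocallyClosed_range

end Groth.Agent.H51
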