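import Mathlib.CategoryTheory.Sites.LocallyBijective
import Mathlib.CategoryTheory.Sites.Sheafification
import Mathlib.CategoryTheory.Sites.Continuous
import Mathlib.CategoryTheory.Sites.Types
import Groth.Prelude.Def_BigSite

set_option autoImplicit false
open CategoryTheory CategoryTheory.Limits Opposite
universe w v₁ v₂ u₁ u₂

namespace Groth.Agent.H51.ACocU

variable {C : Type u₁} [Category.{v₁} C] {D : Type u₂} [Category.{v₂} D]
  (J : GrothendieckTopology C) (K : GrothendieckTopology D) (u : C ⥤ D)
  [HasSheafify J (Type w)] [HasSheafify K (Type w)]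
  [J.WEqualsLocallyBijective (Type w)] [K.WEqualsLocallyBijective (Type w)]

/-- restriction along an almost cocontinuous functor preserves locally bijective maps between
presheaves which are singletons on sheaf-theoretically empty objects -/
theorem W_whiskerLeft (hu : BigSite.IsAlmostCocontinuous u J K) {G H : Dᵒᵖ ⥤ Type w} (θ : G ⟶ H)
    (hθ : K.W θ)
    (hG : ∀ V : D, (⊥ : Sieve V) ∈ K V → Nonempty (Unique (G.obj (op V))))
    (hH : ∀ V : D, (⊥ : Sieve V) ∈ K V → Subsingleton (H.obj (op V))) :
    J.W (Functor.whiskerLeft u.op θ) := by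
  rw [K.W_iff_isLocallyBijective] at hθ
  obtain ⟨hinj, hsurj⟩ := hθ
  rw [J.W_iff_isLocallyBijective]
  constructor
  · constructor
    intro X x y h
    have h1 : Presheaf.equalizerSieve (F := G) (X := op (u.obj X.unop)) x y ∈ K (u.obj X.unop) :=
      Presheaf.equalizerSieve_mem K θ x y h
    obtain ⟨R', hR', hR⟩ := hu X.unop _ h1
    refine J.superset_covering ?_ hR'
    intro W g hg
    rcases hR g hg with h2 | h2
    · obtain ⟨hU⟩ := hG _ h2
      exact hU.instSubsingleton.elim _ _
    · exact h2
  · constructor
    intro U s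
    have h1 : Presheaf.imageSieve θ (U := u.obj U) s ∈ K (u.obj U) :=
      Presheaf.imageSieve_mem K θ s
    obtain ⟨R', hR', hR⟩ := hu U _ h1
    refine J.superset_covering ?_ hR'
    intro W g hg
    rcases hR g hg with h2 | h2
    · obtain ⟨hU⟩ := hG _ h2
      have := hH _ h2
      exact ⟨hU.default, Subsingleton.elim _ _⟩
    · exact h2

lemma subsingleton_of_bot_mem (F : Sheaf K (Type w)) (V : D) (hV : (⊥ : Sieve V) ∈ K V) :
    Subsingleton (F.obj.obj (op V)) :=
  ⟨fun _ _ => (((isSheaf_iff_isSheaf_of_type K _).1 F.2) _ hV).isSeparatedFor.ext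
    (fun _ _ h => h.elim)⟩

/-- sheafification commutes with restriction along a continuous almost cocontinuous functor, on
presheaves which are singletons on empty objects -/
theorem isIso_comparison [u.IsContinuous J K] (hu : BigSite.IsAlmostCocontinuous u J K)
    (G : Dᵒᵖ ⥤ Type w)
    (hG : ∀ V : D, (⊥ : Sieve V) ∈ K V → Nonempty (Unique (G.obj (op V)))) :
    IsIso (((sheafificationAdjunction J (Type w)).homEquiv (u.op ⋙ G)
      ((u.sheafPushforwardContinuous (Type w) J K).obj ((presheafToSheaf K (Type w)).obj G))).symm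
        (Functor.whiskerLeft u.op (toSheafify K G))) := by
  rw [Adjunction.homEquiv_counit]
  have h1 : J.W (Functor.whiskerLeft u.op (toSheafify K G)) :=
    W_whiskerLeft J K u hu (toSheafify K G) (K.W_toSheafify G) hG
      (fun V hV => subsingleton_of_bot_mem K _ V hV)
  have h2 : IsIso ((presheafToSheaf J (Type w)).map (Functor.whiskerLeft u.op (toSheafify K G))) :=
    (J.W_iff _).1 h1
  have h3 : IsIso ((sheafificationAdjunction J (Type w)).counit.app
      ((u.sheafPushforwardContinuous (Type w) J K).obj ((presheafToSheaf K (Type w)).obj G))) :=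
    inferInstance
  refine @IsIso.comp_isIso _ _ _ _ _ _ _ ?_ h3
  exact h2

end Groth.Agent.H51.ACocU
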