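import Groth.Agent.H51.ACocU
import Mathlib.CategoryTheory.Limits.Types.Colimits
import Mathlib.CategoryTheory.IsConnected

set_option autoImplicit false
open CategoryTheory CategoryTheory.Limits Opposite
universe w v₁ v₂ u₁ u₂

namespace Groth.Agent.H51.ACocU

/-- a connected colimit of singletons is a singleton -/
lemma unique_of_isColimit_of_isConnected {I : Type} [SmallCategory I] [IsConnected I]
    {F : I ⥤ Type w} (c : Cocone F) (hc : IsColimit c) (hF : ∀ i, Nonempty (Unique (F.obj i))) :
    Nonempty (Unique c.pt) := by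
  have hsub : ∀ i, Subsingleton (F.obj i) := fun i => (hF i).some.instSubsingleton
  have hne : ∀ i, Nonempty (F.obj i) := fun i => ⟨(hF i).some.default⟩
  obtain ⟨i₀⟩ : Nonempty I := IsConnected.is_nonempty
  obtain ⟨x₀⟩ := hne i₀
  refine ⟨{ default := c.ι.app i₀ x₀, uniq := fun a => ?_ }⟩
  obtain ⟨i, x, rfl⟩ := Types.jointly_surjective_of_isColimit hc a
  have key : ∀ k, k ∈ {k : I | ∀ z : F.obj k, c.ι.app k z = c.ι.app i₀ x₀} := by
    intro k
    refine induct_on_objects {k : I | ∀ z : F.obj k, c.ι.app k z = c.ι.app i₀ x₀} (j₀ := i₀) ?_ ?_ k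
    · intro z
      rw [Subsingleton.elim z x₀]
    · intro j₁ j₂ f
      constructor
      · intro h z
        obtain ⟨w⟩ := hne j₁
        have e : F.map f w = z := Subsingleton.elim _ _
        rw [← e, ← h w]
        exact ConcreteCategory.congr_hom (c.w f) w
      · intro h w
        rw [← h (F.map f w)]
        exact (ConcreteCategory.congr_hom (c.w f) w).symm
  exact key i x

variable {C : Type u₁} [Category.{v₁} C] {D : Type u₂} [Category.{v₂} D]
  (J : GrothendieckTopology C) (K : GrothendieckTopology D) (u : C ⥤ D)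
  [HasSheafify J (Type w)] [HasSheafify K (Type w)]
  [J.WEqualsLocallyBijective (Type w)] [K.WEqualsLocallyBijective (Type w)]

lemma unique_of_bot_mem (F : Sheaf K (Type w)) (V : D) (hV : (⊥ : Sieve V) ∈ K V) :
    Nonempty (Unique (F.obj.obj (op V))) := by
  have hsh := ((isSheaf_iff_isSheaf_of_type K _).1 F.2) _ hV
  have := subsingleton_of_bot_mem K F V hV
  let x : Presieve.FamilyOfElements F.obj (⊥ : Sieve V).arrows := fun _ _ h => h.elim
  have hx : x.Compatible := fun _ _ _ _ _ _ _ h => h.elim
  exact ⟨{ default := hsh.amalgamate x hx, uniq := fun _ => Subsingleton.elim _ _ }⟩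

/-- `u^p` followed by sheafification -/
noncomputable abbrev Φ : (Dᵒᵖ ⥤ Type w) ⥤ Sheaf J (Type w) :=
  (Functor.whiskeringLeft Cᵒᵖ Dᵒᵖ (Type w)).obj u.op ⋙ presheafToSheaf J (Type w)

/-- on sheaves, `u^p` followed by sheafification is `u^s` -/
noncomputable def Φiso [u.IsContinuous J K] :
    sheafToPresheaf K (Type w) ⋙ Φ J u ≅ u.sheafPushforwardContinuous (Type w) J K :=
  Functor.isoWhiskerLeft (u.sheafPushforwardContinuous (Type w) J K)
    (asIso (sheafificationAdjunction J (Type w)).counit) ≪≫ Functor.rightUnitor _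

theorem preservesColimitsOfShape [u.IsContinuous J K] (hu : BigSite.IsAlmostCocontinuous u J K)
    (I : Type) [SmallCategory I] [IsConnected I] :
    PreservesColimitsOfShape I (u.sheafPushforwardContinuous (Type w) J K) := by
  refine ⟨fun {D'} => ?_⟩
  suffices h : PreservesColimit D' (sheafToPresheaf K (Type w) ⋙ Φ J u) from
    preservesColimit_of_natIso D' (Φiso J K u)
  refine ⟨fun {c} hc => ⟨?_⟩⟩
  let c₀ := colimit.cocone (D' ⋙ sheafToPresheaf K (Type w))
  have hc₀ : IsColimit c₀ := colimit.isColimit _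
  let f₀ : c₀ ⟶ (sheafToPresheaf K (Type w)).mapCocone c := hc₀.descCoconeMorphism _
  -- sheafification of the comparison is invertible
  have hW : K.W f₀.hom := by
    rw [K.W_iff]
    have h1 : IsColimit ((presheafToSheaf K (Type w)).mapCocone c₀) :=
      isColimitOfPreserves _ hc₀
    have : PreservesColimit D' (sheafToPresheaf K (Type w) ⋙ presheafToSheaf K (Type w)) :=
      preservesColimit_of_natIso D' (asIso (sheafificationAdjunction K (Type w)).counit).symm
    have h2 : IsColimit ((sheafToPresheaf K (Type w) ⋙ presheafToSheaf K (Type w)).mapCocone c) :=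
      isColimitOfPreserves _ hc
    have hf : IsIso ((Cocone.functoriality _ (presheafToSheaf K (Type w))).map f₀) :=
      IsColimit.hom_isIso h1 h2 _
    have : IsIso ((Cocone.forget _).map
      ((Cocone.functoriality _ (presheafToSheaf K (Type w))).map f₀)) := inferInstance
    exact this
  have hgood : ∀ V : D, (⊥ : Sieve V) ∈ K V → Nonempty (Unique (c₀.pt.obj (op V))) := by
    intro V hV
    have h1 : IsColimit (((evaluation Dᵒᵖ (Type w)).obj (op V)).mapCocone c₀) :=
      isColimitOfPreserves _ hc₀
    exact unique_of_isColimit_of_isConnected _ h1 (fun i => unique_of_bot_mem K (D'.obj i) V hV)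
  have hW' : J.W (Functor.whiskerLeft u.op f₀.hom) :=
    W_whiskerLeft J K u hu f₀.hom hW hgood (fun V hV => subsingleton_of_bot_mem K c.pt V hV)
  have hiso : IsIso ((Φ J u).map f₀.hom) := (J.W_iff _).1 hW'
  have h3 : IsColimit ((Φ J u).mapCocone c₀) := isColimitOfPreserves _ hc₀
  have : IsIso ((Cocone.functoriality _ (Φ J u)).map f₀).hom := hiso
  have : IsIso ((Cocone.functoriality _ (Φ J u)).map f₀) := Cocone.cocone_iso_of_hom_iso _
  exact IsColimit.ofIsoColimit h3 (asIso ((Cocone.functoriality _ (Φ J u)).map f₀))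

end Groth.Agent.H51.ACocU
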