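import Groth.Agent.H51.ACocU2
import Mathlib.CategoryTheory.Sites.EpiMono
import Mathlib.CategoryTheory.Sites.Whiskering
import Mathlib.Algebra.Category.Grp.Limits
import Mathlib.Algebra.Homology.ShortComplex.ExactFunctor

/-!
# Pushforward along an almost cocontinuous functor preserves locally surjective maps
of abelian sheaves
-/

set_option autoImplicit false
open CategoryTheory CategoryTheory.Limits Opposite
universe w v₁ v₂ u₁ u₂

namespace Groth.Agent.H51.ACocU

variable {C : Type u₁} [Category.{v₁} C] {D : Type u₂} [Category.{v₂} D]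
  (J : GrothendieckTopology C) (K : GrothendieckTopology D) (u : C ⥤ D)

theorem subsingleton_ab_of_bot_mem [K.HasSheafCompose (forget AddCommGrpCat.{w})]
    (G : Sheaf K AddCommGrpCat.{w}) (V : D) (hV : (⊥ : Sieve V) ∈ K V) :
    Subsingleton (G.obj.obj (op V)) :=
  ⟨fun x y => (Presheaf.IsSheaf.isSeparated G.property) V ⊥ hV x y (fun _ _ h => h.elim)⟩

theorem isLocallySurjective_pushforward_ab [K.HasSheafCompose (forget AddCommGrpCat.{w})]
    [u.IsContinuous J K] (hu : BigSite.IsAlmostCocontinuous u J K)
    {F G : Sheaf K AddCommGrpCat.{w}} (φ : F ⟶ G) [Sheaf.IsLocallySurjective φ] :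
    Sheaf.IsLocallySurjective ((u.sheafPushforwardContinuous AddCommGrpCat.{w} J K).map φ) := by
  constructor
  intro U s
  have h1 : Presheaf.imageSieve φ.hom (U := u.obj U) s ∈ K (u.obj U) :=
    Presheaf.imageSieve_mem K φ.hom s
  obtain ⟨R', hR', hR⟩ := hu U _ h1
  refine J.superset_covering ?_ hR'
  intro W g hg
  rcases hR g hg with h2 | h2
  · have := subsingleton_ab_of_bot_mem K G _ h2
    exact ⟨(0 : F.obj.obj (op (u.obj W))), this.elim _ _⟩
  · exact h2

end Groth.Agent.H51.ACocU
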