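import Groth.Agent.H51.EtLiftSmoothSch
import Groth.Prelude.Def_BigSite

/-!
# Base change along a closed immersion is almost cocontinuous on big sites
-/

set_option autoImplicit false
universe u
open CategoryTheory CategoryTheory.Limits AlgebraicGeometry

namespace Groth.Agent.H51.BigAlmostCoc

/-- The lifting hypothesis for a class of morphisms along closed immersions. -/
def LiftsAlongClosed (P : MorphismProperty Scheme.{u}) : Prop :=
  ∀ {W Z₀ V' : Scheme.{u}} (j : Z₀ ⟶ W) [IsClosedImmersion j] (e : V' ⟶ Z₀), P e → ∀ v' : V',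
    ∃ (U₀ : Scheme.{u}) (g : U₀ ⟶ W) (_ : P g) (Q : Scheme.{u}) (p₁ : Q ⟶ U₀) (p₂ : Q ⟶ Z₀)
      (_ : IsPullback p₁ p₂ g j) (o : Q ⟶ V'), o ≫ e = p₂ ∧ v' ∈ Set.range o

theorem liftsAlongClosed_etale : LiftsAlongClosed @Etale := by
  intro W Z₀ V' j _ e he v'
  haveI := he
  exact EtLift.exists_etale_lift_sch j e v'

theorem liftsAlongClosed_smooth : LiftsAlongClosed @Smooth := by
  intro W Z₀ V' j _ e he v'
  haveI := he
  exact EtLift.exists_smooth_lift_sch j e v'

variable (P : MorphismProperty Scheme.{u}) [P.IsStableUnderComposition]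
  [P.IsStableUnderBaseChange] [P.ContainsIdentities] [P.RespectsIso]
  [Scheme.IsJointlySurjectivePreserving P]

theorem bot_mem_J_of_isEmpty {X : Scheme.{u}} (W : Over X) [IsEmpty W.left] :
    (⊥ : Sieve W) ∈ QuotSh.J (Scheme.precoverage P) X W := by
  rw [GrothendieckTopology.mem_over_iff, map_bot]
  have := Precoverage.generate_mem_toGrothendieck (Scheme.bot_mem_precoverage P W.left)
  rwa [Sieve.generate_bot] at this

theorem isAlmostCocontinuous_of_lifts
    (hopen : ∀ {U V : Scheme.{u}} (g : U ⟶ V) [IsOpenImmersion g], P g)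
    (hlift : LiftsAlongClosed P) {X Y : Scheme.{u}} (f : X ⟶ Y) [IsClosedImmersion f] :
    BigSite.IsAlmostCocontinuous (Over.pullback f) (QuotSh.J (Scheme.precoverage P) Y)
      (QuotSh.J (Scheme.precoverage P) X) := by
  intro V R hR
  rw [GrothendieckTopology.mem_over_iff,
    Precoverage.mem_toGrothendieck_iff_of_isStableUnderComposition] at hR
  obtain ⟨R₀, hR₀, hle⟩ := hR
  rw [Precoverage.mem_iff_exists_zeroHypercover] at hR₀
  obtain ⟨E, rfl⟩ := hR₀
  -- notation
  let T : Scheme.{u} := pullback V.hom f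
  let j : T ⟶ V.left := pullback.fst V.hom f
  haveI : IsClosedImmersion j := inferInstance
  have hmem := E.mem₀
  rw [Scheme.ofArrows_mem_precoverage_iff] at hmem
  obtain ⟨hcov, hP⟩ := hmem
  choose i w hw using hcov
  choose U₀ g hg Q p₁ p₂ hpb o ho hwo using fun t : T => hlift j (E.f (i t)) (hP (i t)) (w t)
  -- the open complement
  let Oc : V.left.Opens := ⟨(Set.range j)ᶜ, j.isClosedEmbedding.isClosed_range.isOpen_compl⟩
  let Xfam : Option T → Scheme.{u} := fun k => k.elim Oc.toScheme U₀
  let gfam : ∀ k, Xfam k ⟶ V.left := fun k => match k with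
    | none => Oc.ι
    | some t => g t
  let Vfam : Option T → Over Y := fun k => Over.mk (gfam k ≫ V.hom)
  let mfam : ∀ k, Vfam k ⟶ V := fun k => Over.homMk (gfam k) rfl
  refine ⟨Sieve.ofArrows Vfam mfam, ?_, ?_⟩
  · rw [GrothendieckTopology.mem_over_iff, Sieve.overEquiv_ofArrows]
    refine Precoverage.generate_mem_toGrothendieck ?_
    rw [Scheme.ofArrows_mem_precoverage_iff]
    refine ⟨fun v => ?_, fun k => ?_⟩
    · by_cases hv : v ∈ Set.range j
      · obtain ⟨t, rfl⟩ := hv
        obtain ⟨c, hc⟩ := hwo t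
        refine ⟨some t, p₁ t c, ?_⟩
        change (g t) (p₁ t c) = j t
        rw [← Scheme.Hom.comp_apply, (hpb t).w, Scheme.Hom.comp_apply, ← ho t,
          Scheme.Hom.comp_apply, hc, hw t]
      · exact ⟨none, ⟨v, hv⟩, rfl⟩
    · match k with
      | none => exact hopen Oc.ι
      | some t => exact hg t
  · rintro V' g' ⟨_, a, _, ⟨k⟩, rfl⟩
    rcases k with _ | t
    · left
      -- `X ×_Y V'` is empty
      haveI : IsEmpty ((Over.pullback f).obj V').left := by
        constructor
        intro x
        let x' : ↥(pullback (Vfam none).hom f) := ((Over.pullback f).map a).left x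
        let y : Oc.toScheme := (pullback.fst (Vfam none).hom f) x'
        let z : X := (pullback.snd (Vfam none).hom f) x'
        have hyz : V.hom (Oc.ι y) = f z := by
          have := congr($(pullback.condition (f := (Vfam none).hom) (g := f)) x')
          exact this
        obtain ⟨t, ht, -⟩ := Scheme.Pullback.exists_preimage_pullback (f := V.hom) (g := f)
          (Oc.ι y) z hyz
        exact y.2 ⟨t, ht⟩
      exact bot_mem_J_of_isEmpty P _
    · right
      rw [Functor.map_comp]
      refine R.downward_closed ?_ _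
      have hE : (Sieve.overEquiv _ R) (E.f (i t)) := hle _ (E.f (i t)) (Presieve.ofArrows.mk (i t))
      rw [Sieve.overEquiv_iff] at hE
      -- factor through `E.f (i t)`
      let m : pullback (Vfam (some t)).hom f ⟶ T := ((Over.pullback f).map (mfam (some t))).left
      have hm₁ : m ≫ j = pullback.fst (Vfam (some t)).hom f ≫ g t := pullback.lift_fst _ _ _
      let ℓ : pullback (Vfam (some t)).hom f ⟶ Q t :=
        (hpb t).lift (pullback.fst (Vfam (some t)).hom f) m hm₁.symm
      have hℓ₂ : ℓ ≫ p₂ t = m := (hpb t).lift_snd _ _ _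
      have hk : (ℓ ≫ o t) ≫ E.f (i t) = m := by rw [Category.assoc, ho t, hℓ₂]
      have hw' : (ℓ ≫ o t) ≫ (E.f (i t) ≫ ((Over.pullback f).obj V).hom) =
          ((Over.pullback f).obj (Vfam (some t))).hom := by
        rw [← Category.assoc, hk]
        exact Over.w ((Over.pullback f).map (mfam (some t)))
      let κ : (Over.pullback f).obj (Vfam (some t)) ⟶
          Over.mk (E.f (i t) ≫ ((Over.pullback f).obj V).hom) := Over.homMk (ℓ ≫ o t) hw'
      have hκ : κ ≫ (Over.homMk (E.f (i t)) : Over.mk (E.f (i t) ≫ ((Over.pullback f).obj V).hom) ⟶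
          (Over.pullback f).obj V) = (Over.pullback f).map (mfam (some t)) :=
        Over.OverMorphism.ext hk
      rw [← hκ]
      exact R.downward_closed hE κ

end Groth.Agent.H51.BigAlmostCoc
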