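import Groth.Agent.H49.CMMor
import Groth.Agent.H49.CMChart
import Groth.Agent.S9768
import Groth.Agent.H22.FibreRank

/-!
# Cohen–Macaulay morphisms to the spectrum of a field, and in etale charts (helper51)
-/

set_option autoImplicit false
set_option linter.style.haveILetI false
universe u
open CategoryTheory CategoryTheory.Limits AlgebraicGeometry IsLocalRing

namespace Groth.Agent.H51

open Groth.Agent.H49.FibreStalk

/-- Flatness cancels on the right against etale morphisms. -/
theorem flat_of_comp_etale {A B C : Scheme.{u}} (f : A ⟶ B) (g : B ⟶ C) [Etale g]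
    [Flat (f ≫ g)] : Flat f := by
  have : MorphismProperty.HasOfPostcompProperty @Flat @Etale := by
    rw [MorphismProperty.hasOfPostcompProperty_iff_le_diagonal]
    intro X Y f hf
    haveI : Etale f := hf
    exact inferInstanceAs <| Flat (pullback.diagonal f)
  exact MorphismProperty.of_postcomp (W := @Flat) (W' := @Etale) f g ‹_› ‹_›

/-- The stalks of the spectrum of a field have zero maximal ideal. -/
theorem maximalIdeal_stalk_spec_field (k : Type u) [Field k] (y : Spec (CommRingCat.of k)) :
    maximalIdeal ((Spec (CommRingCat.of k)).presheaf.stalk y) = ⊥ := by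
  letI : Algebra k ↑((Spec (CommRingCat.of k)).presheaf.stalk y) :=
    StructureSheaf.stalkAlgebra k y
  haveI : IsLocalization.AtPrime (↑((Spec (CommRingCat.of k)).presheaf.stalk y)) y.asIdeal :=
    StructureSheaf.IsLocalization.to_stalk k y
  rw [← IsLocalization.AtPrime.map_eq_maximalIdeal y.asIdeal
    ((Spec (CommRingCat.of k)).presheaf.stalk y)]
  have : y.asIdeal = ⊥ := Ideal.eq_bot_of_prime y.asIdeal
  rw [this, Ideal.map_bot]

theorem isCM_stalk_spec_field (k : Type u) [Field k] (y : Spec (CommRingCat.of k)) :
    LocCoh.IsCohenMacaulayLocalRing ((Spec (CommRingCat.of k)).presheaf.stalk y) := by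
  have hF : IsField ((Spec (CommRingCat.of k)).presheaf.stalk y) :=
    IsLocalRing.isField_iff_maximalIdeal_eq.mpr (maximalIdeal_stalk_spec_field k y)
  exact Groth.Agent.H72.FlatCM.isCohenMacaulayLocalRing_of_ringKrullDim_eq_zero _
    (ringKrullDim_eq_zero_of_isField hF)

end Groth.Agent.H51
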