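import Groth.Agent.H51.CMField
import Groth.Prelude.Def_AlgSpMor6

/-!
# The Cohen–Macaulay locus of a scheme over a field, in etale chart diagrams (helper51)
-/

set_option autoImplicit false
set_option linter.style.haveILetI false
universe u
open CategoryTheory CategoryTheory.Limits AlgebraicGeometry IsLocalRing

namespace Groth.Agent.H51

open AlgSp Groth.Agent.H49.FibreStalk

theorem locP_isCMAt_yon_map_iff (S : Scheme.{u}) (k : Type u) [Field k]
    (t : Spec (CommRingCat.of k) ⟶ S) (X : Scheme.{u}) (p : X ⟶ Spec (CommRingCat.of k))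
    [LocallyOfFiniteType p] :
    AlgSp.LocP (fun _ _ g => ∀ x, MoreMor.IsCMAt g x)
        ((AlgSp.yon S).map (Over.homMk p rfl : Over.mk (p ≫ t) ⟶ Over.mk t)) ↔
      ∀ x : ↥X, LocCoh.IsCohenMacaulayLocalRing (X.presheaf.stalk x) := by
  haveI : IsLocallyNoetherian X := LocallyOfFiniteType.isLocallyNoetherian p
  haveI : Flat p := Groth.Agent.H22.FibreRank.flat_of_field p
  constructor
  · intro hLoc x
    have h : ∀ x, MoreMor.IsCMAt p x := AlgSp.locP_yon_map hLoc
    obtain ⟨hfl, hcm⟩ := (Groth.Agent.H49.CMMor.isCMAt_iff p x).1 (h x)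
    exact (Groth.Agent.H49.CMMor.cm_stalk_iff_of_flat p x hfl).2
      ⟨isCM_stalk_spec_field k (p x), hcm⟩
  · intro hX U V a b h ha hb w
    obtain ⟨a₀, rfl⟩ := (yon S).map_surjective a
    obtain ⟨b₀, rfl⟩ := (yon S).map_surjective b
    haveI ha₀ : Etale a₀.left := (repWith_yon_map_iff @Etale a₀).1 ha
    haveI hb₀ : Etale b₀.left := (repWith_yon_map_iff @Etale b₀).1 hb
    have w' : a₀ ≫ (Over.homMk p rfl : Over.mk (p ≫ t) ⟶ Over.mk t) = h ≫ b₀ := by
      apply (yon S).map_injective
      rw [Functor.map_comp, Functor.map_comp]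
      exact w
    have w'' : a₀.left ≫ p = h.left ≫ b₀.left := by
      have := congrArg CommaMorphism.left w'
      simpa using this
    haveI : IsLocallyNoetherian (Over.mk (p ≫ t)).left := (inferInstance : IsLocallyNoetherian X)
    haveI : IsLocallyNoetherian (Over.mk t).left :=
      (inferInstance : IsLocallyNoetherian (Spec (CommRingCat.of k)))
    haveI : IsLocallyNoetherian U.left := LocallyOfFiniteType.isLocallyNoetherian a₀.left
    haveI : IsLocallyNoetherian V.left := LocallyOfFiniteType.isLocallyNoetherian b₀.left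
    haveI : Flat (h.left ≫ b₀.left) := by
      rw [← w'']; infer_instance
    haveI : Flat h.left := flat_of_comp_etale h.left b₀.left
    have hU : ∀ u : U.left, LocCoh.IsCohenMacaulayLocalRing (U.left.presheaf.stalk u) := fun u =>
      (Groth.Agent.H49.CMMor.cm_stalk_iff_of_flat a₀.left u (Flat.stalkMap _ u)).2
        ⟨hX (a₀.left u), ((Groth.Agent.H49.CMMor.isCMAt_iff a₀.left u).1
          (Groth.Agent.H49.CMChart.isCMAt_of_smooth a₀.left u)).2⟩
    intro u
    exact (Groth.Agent.S9768.result h.left hU u).1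

end Groth.Agent.H51
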