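import Groth.Agent.H8.CartierComplAffine

/-!
# A radical ideal sheaf whose support is the complement of a dense open with affine inclusion and
factorial local rings outside is effective Cartier (variant of `H8.exists_isEffCartier_support_eq_compl`
for a given radical ideal sheaf, on a locally Noetherian scheme).
-/

set_option autoImplicit false
universe u
open CategoryTheory CategoryTheory.Limits AlgebraicGeometry TopologicalSpace Opposite

namespace Groth.Agent.H51

open Groth.Agent.H8

theorem isEffCartier_of_radical_support_compl {X : Scheme.{u}} [IsLocallyNoetherian X]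
    (U : X.Opens) [IsAffineHom U.ι] (hdense : Dense (U : Set X))
    (hufd : ∀ x : X, x ∉ U →
      IsDomain (X.presheaf.stalk x) ∧ UniqueFactorizationMonoid (X.presheaf.stalk x))
    (𝓘 : X.IdealSheafData) (hrad : ∀ V : X.affineOpens, (𝓘.ideal V).IsRadical)
    (hsupp : (𝓘.support : Set X) = (U : Set X)ᶜ) : BlowUp.IsEffCartierIdeal 𝓘 := by
  have hmem : ∀ z : 𝓘.subscheme, 𝓘.subschemeι z ∉ U := by
    intro z
    have h1 : 𝓘.subschemeι z ∈ (𝓘.support : Set X) := by
      rw [← 𝓘.range_subschemeι]; exact ⟨z, rfl⟩
    rw [hsupp] at h1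
    exact h1
  apply isEffCartier_of_noEmbedded_codim_one_ufd 𝓘
  · intro z hz z' hz'
    exact eq_of_specializes_of_isAssociatedPrime 𝓘 hrad z hz z' hz'
  · intro z hz
    refine (Groth.Agent.S1573.result X U (𝓘.subschemeι z) (hmem z) ?_).2 hdense
    intro y hy hyz
    have hy' : y ∈ (𝓘.support : Set X) := by rw [hsupp]; exact hy
    rw [← 𝓘.range_subschemeι] at hy'
    obtain ⟨z', rfl⟩ := hy'
    have : z' ⤳ z := 𝓘.subschemeι.isEmbedding.isInducing.specializes_iff.mp hyz
    rw [hz z' this]
  · intro x hx
    apply hufd x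
    have : x ∈ (𝓘.support : Set X) := hx
    rw [hsupp] at this
    exact this

/-- The kernel ideal sheaf of a morphism from a reduced scheme is radical on every affine open. -/
theorem isRadical_ker_ideal_of_isReduced {Z X : Scheme.{u}} (f : Z ⟶ X) [QuasiCompact f]
    [IsReduced Z] (V : X.affineOpens) : (f.ker.ideal V).IsRadical := by
  rw [Scheme.Hom.ker_apply]
  intro a ha
  obtain ⟨n, hn⟩ := ha
  rw [RingHom.mem_ker] at hn ⊢
  rw [map_pow] at hn
  exact IsReduced.eq_zero _ ⟨n, hn⟩

end Groth.Agent.H51
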