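import Mathlib
import Groth.Agent.H68.CartierDescent

set_option autoImplicit false
universe u

namespace Groth.Agent.H51

open scoped nonZeroDivisors

/-- Descent of "principal generated by a nonzerodivisor" along a faithfully flat ring map, in
spread-out form around a prime (no finiteness hypotheses). -/
theorem exists_spread_of_faithfullyFlat {A B : Type*} [CommRing A] [CommRing B] [Algebra A B]
    [Module.FaithfullyFlat A B] (I : Ideal A) (g : B) (hg : g ∈ nonZeroDivisors B)
    (hIg : I.map (algebraMap A B) = Ideal.span {g}) (p : Ideal A) [p.IsPrime] :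
    ∃ s ∉ p, ∃ a₀ ∈ I, (∀ b ∈ I, s * b ∈ Ideal.span {a₀}) ∧ ∀ r : A, r * a₀ = 0 → s * r = 0 := by
  classical
  obtain ⟨q, hq, hqp⟩ := Ideal.exists_isPrime_liesOver_of_faithfullyFlat (B := B) p
  have hqp' : ∀ a : A, algebraMap A B a ∈ q ↔ a ∈ p := by
    intro a
    rw [hqp.over]
    rfl
  -- a finite family in `I` generating `g`
  have hgI : g ∈ Submodule.span B ((algebraMap A B) '' (I : Set A)) := by
    have : g ∈ I.map (algebraMap A B) := hIg ▸ Ideal.mem_span_singleton_self g
    exact this
  obtain ⟨t, htI, f, hf⟩ := (Submodule.mem_span_image_iff_exists_fun B).1 hgI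
  have hc : ∀ i : t, ∃ c : B, c * g = algebraMap A B i := by
    intro i
    have : algebraMap A B i ∈ Ideal.span {g} := hIg ▸ Ideal.mem_map_of_mem _ (htI i.2)
    exact Ideal.mem_span_singleton'.1 this
  choose c hc using hc
  have hsum : ∑ i, f i * c i = 1 := by
    have h1 : (∑ i, f i * c i) * g = 1 * g := by
      rw [Finset.sum_mul, one_mul]
      refine Eq.trans ?_ hf
      refine Finset.sum_congr rfl fun i _ => ?_
      rw [mul_assoc, hc i, smul_eq_mul]
    exact (mul_cancel_right_mem_nonZeroDivisors hg).1 h1
  obtain ⟨j, hj⟩ : ∃ j : t, c j ∉ q := by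
    by_contra hcon
    push Not at hcon
    have : (1 : B) ∈ q := by
      rw [← hsum]
      exact Ideal.sum_mem _ fun i _ => Ideal.mul_mem_left _ _ (hcon i)
    exact hq.ne_top ((Ideal.eq_top_iff_one _).2 this)
  -- `I` is generated by the family
  have hIspan : I = Ideal.span (t : Set A) := by
    have hle : Ideal.span (t : Set A) ≤ I := Ideal.span_le.2 htI
    have hmap : (Ideal.span (t : Set A)).map (algebraMap A B) = I.map (algebraMap A B) := by
      apply le_antisymm (Ideal.map_mono hle)
      rw [hIg, Ideal.span_le, Set.singleton_subset_iff, ← hf]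
      exact Ideal.sum_mem _ fun i _ =>
        Ideal.mul_mem_left _ _ (Ideal.mem_map_of_mem _ (Ideal.subset_span i.2))
    rw [← Ideal.comap_map_eq_self_of_faithfullyFlat (B := B) I, ← hmap,
      Ideal.comap_map_eq_self_of_faithfullyFlat]
  -- for every member of the family, a multiplier outside `p`
  have hs : ∀ i : t, ∃ s : A, s ∉ p ∧ ∃ z : A, s * (i : A) = z * (j : A) := by
    intro i
    obtain ⟨k, α, y, hy, hα⟩ := Module.Flat.isTrivialRelation_of_sum_smul_eq_zero (R := A) (M := B)
      (f := ![(i : A), (j : A)]) (x := ![c j, - c i]) (by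
        rw [Fin.sum_univ_two]
        simp only [Matrix.cons_val_zero, Matrix.cons_val_one, Algebra.smul_def]
        rw [← hc i, ← hc j]
        ring)
    have h0 := hy 0
    simp only [Matrix.cons_val_zero] at h0
    obtain ⟨l, hl⟩ : ∃ l : Fin k, α 0 l ∉ p := by
      by_contra hcon
      push Not at hcon
      apply hj
      rw [h0]
      refine Ideal.sum_mem _ fun l _ => ?_
      rw [Algebra.smul_def]
      exact Ideal.mul_mem_right _ _ ((hqp' _).2 (hcon l))
    refine ⟨α 0 l, hl, - α 1 l, ?_⟩
    have h1 := hα l
    rw [Fin.sum_univ_two] at h1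
    simp only [Matrix.cons_val_zero, Matrix.cons_val_one] at h1
    linear_combination h1
  choose s hsp z hz using hs
  refine ⟨∏ i, s i, ?_, (j : A), htI j.2, ?_, ?_⟩
  · intro hmem
    obtain ⟨i, -, hi⟩ := (Ideal.IsPrime.prod_mem_iff).1 hmem
    exact hsp i hi
  · have key : ∀ i : t, (∏ i, s i) * (i : A) ∈ Ideal.span {(j : A)} := by
      intro i
      rw [← Finset.mul_prod_erase Finset.univ s (Finset.mem_univ i), mul_right_comm, hz i,
        mul_right_comm]
      exact Ideal.mul_mem_left _ _ (Ideal.mem_span_singleton_self _)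
    intro b hb
    rw [hIspan] at hb
    induction hb using Submodule.span_induction with
    | mem x hx => exact key ⟨x, hx⟩
    | zero => rw [mul_zero]; exact Ideal.zero_mem _
    | add x y _ _ hx hy => rw [mul_add]; exact Ideal.add_mem _ hx hy
    | smul a x _ hx => rw [smul_eq_mul, mul_left_comm]; exact Ideal.mul_mem_left _ _ hx
  · intro r hr
    -- `φ(∏ s) = b' * c j`
    have key : ∀ i : t, ∃ w : A, (∏ i, s i) * (i : A) = w * (j : A) := by
      intro i
      refine ⟨(∏ k ∈ Finset.univ.erase i, s k) * z i, ?_⟩
      rw [← Finset.mul_prod_erase Finset.univ s (Finset.mem_univ i), mul_right_comm, hz i]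
      ring
    choose w hw using key
    have h1 : algebraMap A B (∏ i, s i) * g =
        (∑ i, f i * algebraMap A B (w i)) * c j * g := by
      rw [mul_assoc _ (c j) g, hc j, Finset.sum_mul, ← hf, Finset.mul_sum]
      refine Finset.sum_congr rfl fun i _ => ?_
      rw [smul_eq_mul, mul_left_comm, ← map_mul, hw i, map_mul]
      ring
    have h2 : algebraMap A B (∏ i, s i) = (∑ i, f i * algebraMap A B (w i)) * c j :=
      (mul_cancel_right_mem_nonZeroDivisors hg).1 h1
    have h3 : algebraMap A B r * c j = 0 := by
      have : algebraMap A B r * c j * g = 0 := by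
        rw [mul_assoc, hc j, ← map_mul, hr, map_zero]
      exact (mem_nonZeroDivisors_iff_right.1 hg) _ this
    apply FaithfulSMul.algebraMap_injective A B
    rw [map_mul, map_zero, h2, mul_comm, ← mul_assoc, mul_comm (algebraMap A B r), mul_assoc, h3,
      mul_zero]

end Groth.Agent.H51
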