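import Groth.Agent.H51.CartierDescentSch

set_option autoImplicit false
set_option backward.isDefEq.respectTransparency false
universe u
open CategoryTheory CategoryTheory.Limits AlgebraicGeometry

namespace Groth.Agent.H51
open AlgSp

open Scheme.IdealSheafData in
/-- Pointwise descent of effective Cartier ideals along a flat open morphism: the ideal is
principal, generated by a nonzerodivisor, near every point of the image. -/
theorem exists_generator_of_comap_of_flat {W U : Scheme.{u}} (q : W ⟶ U) [Flat q]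
    (hopen : IsOpenMap q) (I : U.IdealSheafData)
    (h : BlowUp.IsEffCartierIdeal (I.comap q)) (y : W) :
    ∃ U' : U.affineOpens, q y ∈ U'.1 ∧
      ∃ f : Γ(U, U'.1), f ∈ nonZeroDivisors Γ(U, U'.1) ∧ I.ideal U' = Ideal.span {f} := by
  let Ω : U.Opens := ⟨Set.range q, hopen.isOpen_range⟩
  have hsub : Set.range q ⊆ Set.range Ω.ι := by
    rw [Scheme.Opens.range_ι]
    exact subset_rfl
  let q' : W ⟶ Ω.toScheme := IsOpenImmersion.lift Ω.ι q hsub
  have hq' : q' ≫ Ω.ι = q := IsOpenImmersion.lift_fac _ _ _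
  haveI : Flat q' := by
    have h2 : Flat (q' ≫ Ω.ι) := by rw [hq']; infer_instance
    exact MorphismProperty.of_postcomp (W := @Flat)
      (W' := MorphismProperty.monomorphisms Scheme.{u}) _ Ω.ι
      (MorphismProperty.monomorphisms.infer_property _) h2
  have happ : ∀ w : W, (q' w).1 = q w := by
    intro w
    have e : (q' ≫ Ω.ι) w = q w := by rw [hq']
    rw [Scheme.Hom.comp_apply] at e
    exact e
  haveI : Surjective q' := by
    refine ⟨fun ω => ?_⟩
    obtain ⟨w, hw⟩ := ω.2
    exact ⟨w, Subtype.ext ((happ w).trans hw)⟩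
  have hopen' : IsOpenMap q' := by
    intro O hO
    have : (q' '' O) = Ω.ι ⁻¹' (q '' O) := by
      ext ω
      constructor
      · rintro ⟨w, hw, rfl⟩
        exact ⟨w, hw, (happ w).symm⟩
      · rintro ⟨w, hw, hwω⟩
        exact ⟨w, hw, Subtype.ext ((happ w).trans hwω)⟩
    rw [this]
    exact (hopen O hO).preimage Ω.ι.continuous
  have hcomap : (I.comap Ω.ι).comap q' = I.comap q := by
    rw [← comap_comp, hq']
  have hΩ : BlowUp.IsEffCartierIdeal (I.comap Ω.ι) :=
    isEffCartierIdeal_of_comap_of_flat_surjective q' hopen' (I.comap Ω.ι) (hcomap ▸ h)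
  obtain ⟨V₀, hxV₀, t₀, ht₀, hI₀⟩ := hΩ (q' y)
  obtain ⟨h1, h2⟩ := Groth.Agent.H50.ideal_image_of_comap_span Ω.ι I V₀ t₀ ht₀ hI₀
  refine ⟨⟨Ω.ι ''ᵁ V₀.1, V₀.2.image_of_isOpenImmersion Ω.ι⟩, ⟨q' y, hxV₀, happ y⟩, _, h1, h2⟩

end Groth.Agent.H51
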