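import Groth.Prelude.Def_AlgSpOX
import Groth.Prelude.Def_ModSite

set_option autoImplicit false
universe u
open CategoryTheory CategoryTheory.Limits AlgebraicGeometry Opposite MorphismProperty
namespace Groth.Agent.H51
open AlgSp
variable {S : Scheme.{u}}

/-- An open subscheme of an object of the small étale site, as an object of the site. -/
noncomputable def EtOver.ofOpen {X : Sp S} (U : EtOver X) (W : U.obj.left.left.Opens) : EtOver X :=
  EtOver.mk (U := Over.mk (W.ι ≫ U.obj.left.hom))
    ((yon S).map (Over.homMk (U := Over.mk (W.ι ≫ U.obj.left.hom)) (V := U.obj.left) W.ι rfl) ≫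
      U.obj.hom)
    ((repWith_isMultiplicative (S := S) @Etale).comp_mem _ _
      ((repWith_yon_map_iff _ _).2 (show Etale W.ι from inferInstance)) U.property)

noncomputable def EtOver.ofOpenι {X : Sp S} (U : EtOver X) (W : U.obj.left.left.Opens) :
    EtOver.ofOpen U W ⟶ U :=
  EtOver.homMk (Over.homMk (U := Over.mk (W.ι ≫ U.obj.left.hom)) (V := U.obj.left) W.ι rfl) rfl

@[simp] theorem EtOver.ofOpenι_left {X : Sp S} (U : EtOver X) (W : U.obj.left.left.Opens) :
    (EtOver.ofOpenι U W).hom.left.left = W.ι := rfl


theorem isUnit_ulift_up {R : Type u} [CommRing R] {r : R} (h : IsUnit r) :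
    IsUnit (ULift.up.{u + 1} r) :=
  h.map (ULift.ringEquiv (R := R)).symm.toRingHom

theorem isUnit_appTop_of_range_subset {V U : Scheme.{u}} (g : V ⟶ U) (f : Γ(U, ⊤))
    (h : Set.range g ⊆ (U.basicOpen f : Set U)) : IsUnit (g.appTop f) := by
  refine V.toRingedSpace.isUnit_of_isUnit_germ ⊤ (g.appTop f) fun x hx => ?_
  refine (Scheme.mem_basicOpen_top V (g.appTop f) x).1 ?_
  rw [← Scheme.preimage_basicOpen_top]
  exact h ⟨x, rfl⟩

theorem isLocallyRinged_OEt (X : Sp S) : ModSite.IsLocallyRinged (etTop X) (OEt X) := by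
  constructor
  · intro U f
    let f0 : Γ(U.obj.left.left, ⊤) := f.down
    let W : Bool → U.obj.left.left.Opens := fun b =>
      if b then U.obj.left.left.basicOpen f0 else U.obj.left.left.basicOpen (1 - f0)
    refine ⟨Sieve.ofArrows (fun b => EtOver.ofOpen U (W b)) (fun b => EtOver.ofOpenι U (W b)),
      ofArrows_mem_etTop _ _ fun x => ?_, ?_⟩
    · have hx : IsUnit (U.obj.left.left.presheaf.germ ⊤ x trivial f0) ∨
          IsUnit (U.obj.left.left.presheaf.germ ⊤ x trivial (1 - f0)) := by
        apply IsLocalRing.isUnit_or_isUnit_of_add_one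
        rw [← map_add, add_sub_cancel, map_one]
      rcases hx with hx | hx
      · refine ⟨true, ?_⟩
        refine (Set.ext_iff.1 (Scheme.Opens.range_ι (W true)) x).2 ?_
        exact (Scheme.mem_basicOpen_top _ _ x).2 hx
      · refine ⟨false, ?_⟩
        refine (Set.ext_iff.1 (Scheme.Opens.range_ι (W false)) x).2 ?_
        exact (Scheme.mem_basicOpen_top _ _ x).2 hx
    · rintro V g ⟨Y, h, _, ⟨b⟩, rfl⟩
      have hrange : Set.range (h ≫ EtOver.ofOpenι U (W b)).hom.left.left ⊆ (W b : Set _) := by
        rintro _ ⟨v, rfl⟩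
        change (h.hom.left.left ≫ (W b).ι) v ∈ _
        rw [Scheme.Hom.comp_apply]
        have := Set.mem_range_self (f := (W b).ι) (h.hom.left.left v)
        rwa [Scheme.Opens.range_ι] at this
      cases b with
      | true =>
        left
        change IsUnit (ULift.up.{u + 1} ((h ≫ EtOver.ofOpenι U (W true)).hom.left.left.appTop.hom f0))
        exact isUnit_ulift_up (isUnit_appTop_of_range_subset _ f0 hrange)
      | false =>
        right
        change IsUnit (ULift.up.{u + 1}
          ((h ≫ EtOver.ofOpenι U (W false)).hom.left.left.appTop.hom (1 - f0)))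
        exact isUnit_ulift_up (isUnit_appTop_of_range_subset _ (1 - f0) hrange)
  · intro U h01
    have h01' : (0 : Γ(U.obj.left.left, ⊤)) = 1 := congrArg ULift.down h01
    have hempty : IsEmpty ↥U.obj.left.left := by
      refine ⟨fun x => ?_⟩
      have := (Scheme.mem_basicOpen_top U.obj.left.left (1 : Γ(U.obj.left.left, ⊤)) x).2
        (by rw [map_one]; exact isUnit_one)
      rw [← h01', Scheme.basicOpen_zero] at this
      exact this
    have hcov := ofArrows_mem_etTop (E := U) (fun i : PEmpty.{1} => i.elim) (fun i => i.elim)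
      fun x => hempty.elim x
    refine (etTop X).superset_covering ?_ hcov
    rw [Sieve.generate_le_iff]
    rintro _ _ ⟨i⟩
    exact i.elim

end Groth.Agent.H51
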