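import Groth.Prelude.Def_AlgSpModX

set_option autoImplicit false
universe u
open CategoryTheory CategoryTheory.Limits AlgebraicGeometry Opposite

namespace Groth.Agent.H51
open AlgSp
variable {S : Scheme.{u}}

section Algebra

variable {A R : Type*} [CommRing A] [Ring R] (φ : A →+* R)

/-- The annihilator in `A` of an element of an `R`-module, along `φ : A →+* R`. -/
noncomputable def annVia {M : Type*} [AddCommGroup M] [Module R M] (s : M) : Ideal A :=
  Ideal.comap φ (LinearMap.ker (LinearMap.toSpanSingleton R M s))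

theorem mem_annVia_iff {M : Type*} [AddCommGroup M] [Module R M] (s : M) (a : A) :
    a ∈ annVia φ s ↔ φ a • s = 0 := Iff.rfl

variable {M₁ M₂ M₃ : Type*} [AddCommGroup M₁] [AddCommGroup M₂] [AddCommGroup M₃]
  [Module R M₁] [Module R M₂] [Module R M₃]

theorem annVia_map_of_injective (f : M₁ →ₗ[R] M₂) (hf : Function.Injective f) (t : M₁) :
    annVia φ (f t) = annVia φ t := by
  ext a
  rw [mem_annVia_iff, mem_annVia_iff, ← map_smul]
  constructor
  · intro h
    exact hf (h.trans (map_zero f).symm)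
  · intro h
    rw [h, map_zero]

theorem annVia_le_map (g : M₂ →ₗ[R] M₃) (s : M₂) : annVia φ s ≤ annVia φ (g s) := by
  intro a ha
  rw [mem_annVia_iff] at ha ⊢
  rw [← map_smul, ha, map_zero]

/-- Weakly associated primes and a left exact sequence. -/
theorem minimalPrimes_annVia_exact (f : M₁ →ₗ[R] M₂) (g : M₂ →ₗ[R] M₃)
    (hf : Function.Injective f) (hfg : ∀ s, g s = 0 → ∃ t, f t = s) (s : M₂) (p : Ideal A)
    (hp : p ∈ (annVia φ s).minimalPrimes) :
    (∃ t : M₁, p ∈ (annVia φ t).minimalPrimes) ∨ p ∈ (annVia φ (g s)).minimalPrimes := by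
  haveI : p.IsPrime := hp.1.1
  by_cases hJ : ∃ a : A, a ∉ p ∧ ∃ t, f t = φ a • s
  · left
    obtain ⟨a, hap, t, ht⟩ := hJ
    refine ⟨t, ⟨inferInstance, ?_⟩, ?_⟩
    · intro b hb
      rw [← annVia_map_of_injective φ f hf, ht, mem_annVia_iff, smul_smul, ← map_mul] at hb
      have : b * a ∈ p := hp.1.2 hb
      exact (Ideal.IsPrime.mem_or_mem inferInstance this).resolve_right hap
    · rintro q ⟨hq, hq1⟩ hqp
      refine hp.2 ⟨hq, ?_⟩ hqp
      intro c hc
      apply hq1
      rw [← annVia_map_of_injective φ f hf, ht, mem_annVia_iff, smul_smul, ← map_mul, mul_comm,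
        map_mul, ← smul_smul]
      rw [mem_annVia_iff] at hc
      rw [hc, smul_zero]
  · right
    push Not at hJ
    refine ⟨⟨inferInstance, ?_⟩, ?_⟩
    · intro b hb
      rw [mem_annVia_iff, ← map_smul] at hb
      obtain ⟨t, ht⟩ := hfg _ hb
      by_contra hbp
      exact hJ b hbp t ht
    · rintro q ⟨hq, hq1⟩ hqp
      exact hp.2 ⟨hq, (annVia_le_map φ g s).trans hq1⟩ hqp

end Algebra

theorem annSect_eq_annVia {X : Sp S} {M : ModEt X} {E : EtOver X} (s : sectModEt M E) :
    annSect s = annVia (upΓ E) s := rfl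

/-- Sections of a short exact sequence of modules over an object of the small etale site. -/
theorem sections_leftExact {X : Sp S} (C : ShortComplex (ModEt X)) (hC : C.ShortExact)
    (E : EtOver X) :
    Function.Injective (C.f.val.app (op E)).hom ∧
      ∀ s : sectModEt C.X₂ E, (C.g.val.app (op E)).hom s = 0 →
        ∃ t : sectModEt C.X₁ E, (C.f.val.app (op E)).hom t = s := by
  let G := SheafOfModules.evaluation (OEtRing X) (op E)
  haveI : G.Additive := by
    change (SheafOfModules.forget (OEtRing X) ⋙ PresheafOfModules.evaluation _ (op E)).Additive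
    infer_instance
  haveI := hC.mono_f
  have hex : (C.map G).Exact :=
    hC.exact.map_of_mono_of_preservesKernel G hC.mono_f inferInstance
  haveI : Mono (G.map C.f) := inferInstance
  constructor
  · exact (ModuleCat.mono_iff_injective (G.map C.f)).1 inferInstance
  · intro s hs
    exact (ShortComplex.moduleCat_exact_iff (C.map G)).1 hex s hs

theorem weakAssEt_exact {X : Sp S} (C : ShortComplex (ModEt X)) (hC : C.ShortExact) :
    WeakAssEt C.X₂ ⊆ WeakAssEt C.X₁ ∪ WeakAssEt C.X₃ ∧ WeakAssEt C.X₁ ⊆ WeakAssEt C.X₂ := by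
  constructor
  · rintro x ⟨E, hE, u, hu, s, hs⟩
    obtain ⟨hf, hfg⟩ := sections_leftExact C hC E
    rw [annSect_eq_annVia] at hs
    rcases minimalPrimes_annVia_exact (upΓ E) (C.f.val.app (op E)).hom (C.g.val.app (op E)).hom
      hf hfg s _ hs with ⟨t, ht⟩ | h
    · exact Or.inl ⟨E, hE, u, hu, t, ht⟩
    · exact Or.inr ⟨E, hE, u, hu, _, h⟩
  · rintro x ⟨E, hE, u, hu, t, ht⟩
    obtain ⟨hf, -⟩ := sections_leftExact C hC E
    refine ⟨E, hE, u, hu, (C.f.val.app (op E)).hom t, ?_⟩
    rw [annSect_eq_annVia, annVia_map_of_injective (upΓ E) _ hf]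
    exact ht

end Groth.Agent.H51
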