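import Groth.Prelude.Def_AlgSpModX
import Groth.Agent.H51.SpEtReduced
import Groth.Agent.H52.CodimZeroQF
import Groth.Agent.H53.Charts
import Groth.Agent.H50.QCKer2

set_option autoImplicit false
universe u
open CategoryTheory CategoryTheory.Limits AlgebraicGeometry Opposite MorphismProperty

namespace Groth.Agent.H51
open AlgSp
variable {S : Scheme.{u}}

/-- In a reduced ring, for a prime `p` such that no element outside `p` kills `b`, some minimal
prime contained in `p` does not contain `b`. -/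
theorem exists_minimalPrime_le_notMem {A : Type*} [CommRing A] [_root_.IsReduced A] (p : Ideal A)
    [p.IsPrime] (b : A) (hb : ∀ t, t ∉ p → t * b ≠ 0) :
    ∃ q ∈ minimalPrimes A, q ≤ p ∧ b ∉ q := by
  let T : Submonoid A := p.primeCompl ⊔ Submonoid.powers b
  have h0 : (0 : A) ∉ T := by
    intro h
    obtain ⟨t, ht, z, ⟨n, rfl⟩, hz'⟩ := Submonoid.mem_sup.1 h
    have hz : t * b ^ n = 0 := hz'
    have htp : t ∉ p := ht
    rcases Nat.eq_zero_or_pos n with rfl | hn
    · rw [pow_zero, mul_one] at hz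
      exact htp (hz ▸ p.zero_mem)
    · have h1 : (t * b) ^ n = 0 := by
        rw [mul_pow]
        obtain ⟨m, rfl⟩ := Nat.exists_eq_succ_of_ne_zero hn.ne'
        rw [pow_succ t m, mul_assoc, hz, mul_zero]
      exact hb t htp (eq_zero_of_pow_eq_zero h1)
  have hdisj : Disjoint ((⊥ : Ideal A) : Set A) (T : Set A) := by
    rw [Set.disjoint_left]
    intro x hx hxT
    have : x = 0 := hx
    exact h0 (this ▸ hxT)
  obtain ⟨q₀, hq₀, -, hq₀T⟩ := Ideal.exists_le_prime_disjoint ⊥ T hdisj
  have hq₀p : q₀ ≤ p := by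
    intro x hx
    by_contra hxp
    exact Set.disjoint_left.1 hq₀T hx (Submonoid.mem_sup_left (show x ∈ p.primeCompl from hxp))
  have hbq₀ : b ∉ q₀ := fun hbq =>
    Set.disjoint_left.1 hq₀T hbq (Submonoid.mem_sup_right (Submonoid.mem_powers b))
  obtain ⟨q, hq, hqq₀⟩ := Ideal.exists_minimalPrimes_le (I := (⊥ : Ideal A)) (J := q₀) bot_le
  exact ⟨q, hq, hqq₀.trans hq₀p, fun h => hbq₀ (hqq₀ h)⟩

/-- In a reduced ring a prime minimal over the annihilator of an element is a minimal prime. -/
theorem mem_minimalPrimes_of_mem_minimalPrimes_ann {A : Type*} [CommRing A] [_root_.IsReduced A]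
    (b : A) (I : Ideal A) (hI : ∀ a, a ∈ I ↔ a * b = 0) (p : Ideal A) (hp : p ∈ I.minimalPrimes) :
    p ∈ minimalPrimes A := by
  haveI : p.IsPrime := hp.1.1
  have hb : ∀ t, t ∉ p → t * b ≠ 0 := fun t ht h => ht (hp.1.2 ((hI t).2 h))
  obtain ⟨q, hq, hqp, hbq⟩ := exists_minimalPrime_le_notMem p b hb
  haveI : q.IsPrime := hq.1.1
  have hIq : I ≤ q := by
    intro a ha
    have : a * b ∈ q := by rw [(hI a).1 ha]; exact q.zero_mem
    exact (Ideal.IsPrime.mem_or_mem inferInstance this).resolve_right hbq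
  have hpq : p ≤ q := hp.2 ⟨inferInstance, hIq⟩ hqp
  have : p = q := le_antisymm hpq hqp
  rw [this]
  exact hq

/-- On an affine scheme the local ring at `u` has dimension `0` iff the prime of `u` is a
minimal prime of the ring of global functions. -/
theorem ringKrullDim_stalk_eq_zero_iff_primeAtPt (U : Scheme.{u}) [IsAffine U] (u : U) :
    ringKrullDim (U.presheaf.stalk u) = 0 ↔ primeAtPt U u ∈ minimalPrimes Γ(U, ⊤) := by
  have hU : IsAffineOpen (⊤ : U.Opens) := isAffineOpen_top U
  have e : primeAtPt U u = (hU.primeIdealOf ⟨u, trivial⟩).asIdeal := by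
    rw [hU.primeIdealOf_eq_map_closedPoint]
    rfl
  letI : Algebra Γ(U, ⊤) (U.presheaf.stalk u) :=
    TopCat.Presheaf.algebra_section_stalk U.presheaf (⟨u, trivial⟩ : (⊤ : U.Opens))
  haveI : IsLocalization.AtPrime (U.presheaf.stalk u) (hU.primeIdealOf ⟨u, trivial⟩).asIdeal :=
    hU.isLocalization_stalk ⟨u, trivial⟩
  rw [IsLocalization.AtPrime.ringKrullDim_eq_height (hU.primeIdealOf ⟨u, trivial⟩).asIdeal
    (U.presheaf.stalk u), e]
  rw [show ((0 : WithBot ℕ∞)) = ((0 : ℕ∞) : WithBot ℕ∞) from rfl, WithBot.coe_inj,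
    Ideal.height_eq_zero_iff]

theorem mem_annSect_unit_iff {X : Sp S} (E : EtOver X) (s : sectModEt (unitModEt X) E)
    (a : Γ(E.obj.left.left, ⊤)) :
    a ∈ annSect s ↔ a * (show ULift.{u + 1} Γ(E.obj.left.left, ⊤) from s).down = 0 := by
  rw [mem_annSect_iff]
  constructor
  · intro h
    exact congrArg ULift.down h
  · intro h
    exact ULift.ext _ _ h

/-- The weakly associated points of a reduced algebraic space are its points of codimension `0`. -/
theorem mem_weakAssEt_unit_iff_codimZero {X : Sp S} (hX : IsReducedSp X) (x : Points X) :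
    x ∈ WeakAssEt (unitModEt X) ↔
      HasAt (fun U u => ringKrullDim ↥(U.presheaf.stalk u) = 0) X x := by
  constructor
  · rintro ⟨E, hE, u, hu, s, hs⟩
    haveI := hE
    haveI : AlgebraicGeometry.IsReduced E.obj.left.left := isReduced_of_isReducedSp hX E
    haveI : _root_.IsReduced Γ(E.obj.left.left, ⊤) := IsReduced.component_reduced ⊤
    refine ⟨E.obj.left, E.obj.hom, u, E.property, hu, ?_⟩
    change ringKrullDim ↥(E.obj.left.left.presheaf.stalk u) = 0
    rw [ringKrullDim_stalk_eq_zero_iff_primeAtPt]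
    exact mem_minimalPrimes_of_mem_minimalPrimes_ann
      (show ULift.{u + 1} Γ(E.obj.left.left, ⊤) from s).down (annSect s)
      (mem_annSect_unit_iff E s) _ hs
  · rintro ⟨U, a, u, ha, hu, hdim⟩
    obtain ⟨D, hD, huD⟩ : ∃ D : U.left.Opens, IsAffineOpen D ∧ u ∈ D := by
      obtain ⟨_, ⟨D, hD, rfl⟩, huD, -⟩ := U.left.isBasis_affineOpens.exists_subset_of_mem_open
        (Set.mem_univ u) isOpen_univ
      exact ⟨D, hD, huD⟩
    have hb : RepWith @Etale ((yon S).map (Groth.Agent.H50.opensOvι U D) ≫ a) :=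
      Groth.Agent.H53.repWith_etale_map_comp (Groth.Agent.H50.opensOvι U D)
        (inferInstance : Etale D.ι) a ha
    let E : EtOver X := EtOver.mk ((yon S).map (Groth.Agent.H50.opensOvι U D) ≫ a) hb
    haveI hE : IsAffine E.obj.left.left := hD
    let u' : ↥E.obj.left.left := ⟨u, huD⟩
    have hdim0 := (Groth.Agent.H52.CZ.stalk_dim_zero_iff u).1 hdim
    have hdim' : ringKrullDim (E.obj.left.left.presheaf.stalk u') = 0 := by
      rw [Groth.Agent.H52.CZ.stalk_dim_zero_iff]
      intro z hz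
      have h1 : D.ι z ⤳ D.ι u' := hz.map D.ι.continuous
      have h2 : D.ι z = u := hdim0 _ h1
      exact Subtype.ext h2
    refine ⟨E, hE, u', ?_, ?_⟩
    · change Points.ofPt ((yon S).map (Groth.Agent.H50.opensOvι U D) ≫ a) u' = x
      rw [Groth.Agent.H53.ofPt_yon_map_comp]
      exact hu
    · refine ⟨(ULift.up 1 : ULift.{u + 1} Γ(E.obj.left.left, ⊤)), ?_⟩
      have hbot : annSect (M := unitModEt X) (E := E)
          (ULift.up 1 : ULift.{u + 1} Γ(E.obj.left.left, ⊤)) = ⊥ := by
        ext a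
        rw [mem_annSect_unit_iff, Ideal.mem_bot]
        change a * 1 = 0 ↔ a = 0
        rw [mul_one]
      rw [hbot]
      exact (ringKrullDim_stalk_eq_zero_iff_primeAtPt E.obj.left.left u').1 hdim'

end Groth.Agent.H51
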