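import Groth.Prelude.Def_AlgSpModX
import Groth.Agent.H51.SpWeakAssRed
import Groth.Agent.H51.SpWeakAssExact
import Groth.Agent.H51.SpEtLocRinged

set_option autoImplicit false
universe u
open CategoryTheory CategoryTheory.Limits AlgebraicGeometry Opposite MorphismProperty

namespace Groth.Agent.H51
open AlgSp
variable {S : Scheme.{u}}

/-- On an affine scheme every prime of the ring of global functions is the prime of a point. -/
theorem exists_primeAtPt_eq (U : Scheme.{u}) [IsAffine U] (p : Ideal Γ(U, ⊤)) [hp : p.IsPrime] :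
    ∃ u : U, primeAtPt U u = p := by
  have hU : IsAffineOpen (⊤ : U.Opens) := isAffineOpen_top U
  obtain ⟨x, hx⟩ : ∃ x : (⊤ : U.Opens), hU.primeIdealOf x = ⟨p, hp⟩ := by
    have hs : Function.Surjective hU.isoSpec.hom :=
      (ConcreteCategory.bijective_of_isIso (C := TopCat) hU.isoSpec.hom.base).2
    obtain ⟨x, hx⟩ := hs ⟨p, hp⟩
    exact ⟨x, hx⟩
  refine ⟨x.1, ?_⟩
  have e : primeAtPt U x.1 = (hU.primeIdealOf ⟨x.1, trivial⟩).asIdeal := by
    rw [hU.primeIdealOf_eq_map_closedPoint]
    rfl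
  rw [e]
  have : (⟨x.1, trivial⟩ : (⊤ : U.Opens)) = x := rfl
  rw [this, hx]

/-- If a module has no weakly associated points then its sections over affine objects vanish. -/
theorem sect_eq_zero_of_weakAssEt_eq_empty_of_isAffine {X : Sp S} (M : ModEt X)
    (h : WeakAssEt M = ∅) (E : EtOver X) [IsAffine E.obj.left.left] (s : sectModEt M E) :
    s = 0 := by
  by_contra hs
  have hne : annSect s ≠ ⊤ := by
    intro htop
    have h1 : (1 : Γ(E.obj.left.left, ⊤)) ∈ annSect s := htop ▸ Submodule.mem_top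
    rw [mem_annSect_iff, map_one, one_smul] at h1
    exact hs h1
  obtain ⟨p, hp⟩ := Ideal.nonempty_minimalPrimes hne
  haveI : p.IsPrime := hp.1.1
  obtain ⟨u, hu⟩ := exists_primeAtPt_eq E.obj.left.left p
  have : Points.ofPt E.obj.hom u ∈ WeakAssEt M :=
    ⟨E, inferInstance, u, rfl, s, hu ▸ hp⟩
  rw [h] at this
  exact this

/-- If a module has no weakly associated points then all its sections vanish. -/
theorem sect_eq_zero_of_weakAssEt_eq_empty {X : Sp S} (M : ModEt X)
    (h : WeakAssEt M = ∅) (E : EtOver X) (s : sectModEt M E) : s = 0 := by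
  have hsep : Presieve.IsSeparated (etTop X) (M.val.presheaf ⋙ forget AddCommGrpCat.{u + 1}) :=
    Presieve.IsSheaf.isSeparated ((isSheaf_iff_isSheaf_of_type _ _).1
      ((Presheaf.isSheaf_iff_isSheaf_forget (etTop X) M.val.presheaf (forget _)).1 M.isSheaf))
  let ι := E.obj.left.left.affineOpens
  have hcov : Sieve.ofArrows (fun i : ι => EtOver.ofOpen E i.1) (fun i => EtOver.ofOpenι E i.1) ∈
      etTop X E := by
    refine ofArrows_mem_etTop _ _ fun x => ?_
    obtain ⟨_, ⟨D, hD, rfl⟩, huD, -⟩ :=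
      E.obj.left.left.isBasis_affineOpens.exists_subset_of_mem_open (Set.mem_univ x) isOpen_univ
    refine ⟨⟨D, hD⟩, ?_⟩
    exact (Set.ext_iff.1 (Scheme.Opens.range_ι D) x).2 huD
  refine (hsep _ hcov).ext ?_
  rintro V g ⟨Y, k, _, ⟨i⟩, rfl⟩
  haveI : IsAffine (EtOver.ofOpen E i.1).obj.left.left := i.2
  have h0 : (M.val.presheaf.map (EtOver.ofOpenι E i.1).op).hom s = 0 :=
    sect_eq_zero_of_weakAssEt_eq_empty_of_isAffine M h (EtOver.ofOpen E i.1) _
  change (M.val.presheaf.map (k ≫ EtOver.ofOpenι E i.1).op).hom s =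
    (M.val.presheaf.map (k ≫ EtOver.ofOpenι E i.1).op).hom 0
  rw [map_zero, op_comp, Functor.map_comp]
  change (M.val.presheaf.map k.op).hom ((M.val.presheaf.map (EtOver.ofOpenι E i.1).op).hom s) = 0
  rw [h0, map_zero]

theorem isZero_of_weakAssEt_eq_empty {X : Sp S} (M : ModEt X) (h : WeakAssEt M = ∅) :
    IsZero M := by
  rw [IsZero.iff_id_eq_zero]
  apply SheafOfModules.hom_ext
  apply PresheafOfModules.hom_ext
  intro E
  apply ModuleCat.hom_ext
  apply LinearMap.ext
  intro s
  exact (sect_eq_zero_of_weakAssEt_eq_empty M h E.unop s).trans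
    (sect_eq_zero_of_weakAssEt_eq_empty M h E.unop _).symm

theorem weakAssEt_eq_empty_of_isZero {X : Sp S} (M : ModEt X) (h : IsZero M) :
    WeakAssEt M = ∅ := by
  rw [Set.eq_empty_iff_forall_notMem]
  rintro x ⟨E, hE, u, hu, s, hs⟩
  let G := SheafOfModules.evaluation (OEtRing X) (op E)
  haveI : G.Additive := by
    change (SheafOfModules.forget (OEtRing X) ⋙ PresheafOfModules.evaluation _ (op E)).Additive
    infer_instance
  have hz : IsZero (G.obj M) := G.map_isZero h
  haveI : Subsingleton (G.obj M) := ModuleCat.subsingleton_of_isZero hz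
  have hs0 : s = 0 := Subsingleton.elim (α := G.obj M) s 0
  have htop : annSect s = ⊤ := by
    rw [eq_top_iff]
    intro a _
    rw [mem_annSect_iff, hs0, smul_zero]
  rw [htop, Ideal.minimalPrimes_top] at hs
  exact hs

end Groth.Agent.H51
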