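import Groth.Agent.H50.CartierBC
import Groth.Prelude.Def_AlgSpModX
import Groth.Agent.H51.SpWeakAssZero

set_option autoImplicit false
set_option backward.isDefEq.respectTransparency false
universe u
open CategoryTheory CategoryTheory.Limits AlgebraicGeometry

namespace Groth.Agent.H51
open AlgSp

/-- On an affine scheme, a global function lies in the prime of a point iff the point is not in
its basic open. -/
theorem mem_primeAtPt_iff (U : Scheme.{u}) (u : U) (a : Γ(U, ⊤)) :
    a ∈ primeAtPt U u ↔ u ∉ U.basicOpen a := by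
  rw [Scheme.mem_basicOpen_top]
  change (U.presheaf.germ ⊤ u trivial).hom a ∈ IsLocalRing.maximalIdeal _ ↔ _
  rw [IsLocalRing.mem_maximalIdeal, mem_nonunits_iff]

open Scheme.IdealSheafData in
/-- Pullback of an effective Cartier ideal along a morphism of schemes such that no "weakly
associated point on an affine open" of the source is mapped into the support of the ideal. -/
theorem isEffCartierIdeal_comap_of_weakAss {U V : Scheme.{u}} (h : U ⟶ V) (I : V.IdealSheafData)
    (hI : BlowUp.IsEffCartierIdeal I)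
    (H : ∀ (O : U.Opens), IsAffineOpen O → ∀ (s : Γ(O.toScheme, ⊤)) (J : Ideal Γ(O.toScheme, ⊤)),
      (∀ a, a ∈ J ↔ a * s = 0) → ∀ u : O.toScheme, primeAtPt O.toScheme u ∈ J.minimalPrimes →
        h (O.ι u) ∉ I.support) :
    BlowUp.IsEffCartierIdeal (I.comap h) := by
  intro x
  obtain ⟨V', hxV', -, t, ht, hIV'⟩ := Groth.Agent.H50.exists_small_generator I hI (h x) ⊤ trivial
  obtain ⟨O, hO, hxO, hOV'⟩ := exists_isAffineOpen_mem_and_subset (x := x) (U := h ⁻¹ᵁ V'.1) hxV'
  haveI : IsAffine V'.1.toScheme := V'.2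
  haveI : IsAffine O.toScheme := hO
  obtain ⟨t₁, ht₁, hD₁⟩ := Groth.Agent.H50.comap_ι_ideal_top_of_span I V' t ht hIV'
  let h' : O.toScheme ⟶ V'.1.toScheme := h.resLE V'.1 O hOV'
  have hcomap : (I.comap V'.1.ι).comap h' = (I.comap h).comap O.ι := by
    rw [← comap_comp, ← comap_comp, Scheme.Hom.resLE_comp_ι]
  have hideal : ((I.comap h).comap O.ι).ideal ⟨⊤, isAffineOpen_top _⟩ =
      Ideal.span {h'.appTop.hom t₁} := by
    rw [← hcomap, Groth.Agent.H54.comap_ideal_top_of_isAffine h' (I.comap V'.1.ι), hD₁,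
      Ideal.map_span, Set.image_singleton]
  have hnzd : h'.appTop.hom t₁ ∈ nonZeroDivisors Γ(O.toScheme, ⊤) := by
    rw [mem_nonZeroDivisors_iff_right]
    intro s hs
    by_contra hs0
    let J : Ideal Γ(O.toScheme, ⊤) := (Ideal.span {s}).annihilator
    have hJ : ∀ a, a ∈ J ↔ a * s = 0 := fun a => Submodule.mem_annihilator_span_singleton _ _
    have hne : J ≠ ⊤ := by
      intro htop
      have h1 : (1 : Γ(O.toScheme, ⊤)) ∈ J := htop ▸ Submodule.mem_top
      rw [hJ, one_mul] at h1
      exact hs0 h1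
    obtain ⟨p, hp⟩ := Ideal.nonempty_minimalPrimes hne
    haveI : p.IsPrime := hp.1.1
    obtain ⟨u, hu⟩ := exists_primeAtPt_eq O.toScheme p
    have hnot := H O hO s J hJ u (hu ▸ hp)
    apply hnot
    have hmem : u ∈ ((I.comap h).comap O.ι).support := by
      rw [mem_support_iff_of_mem (U := ⟨⊤, isAffineOpen_top _⟩) (show u ∈ (⊤ : O.toScheme.Opens) from trivial),
        hideal, Scheme.zeroLocus_span, Scheme.mem_zeroLocus_iff]
      intro f hf
      rw [Set.mem_singleton_iff] at hf
      rw [hf, ← mem_primeAtPt_iff, hu]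
      apply hp.1.2
      rw [hJ, mul_comm]
      exact hs
    rw [support_comap, support_comap] at hmem
    exact hmem
  obtain ⟨hs', hJ'⟩ := Groth.Agent.H50.ideal_image_of_comap_span O.ι (I.comap h)
    ⟨⊤, isAffineOpen_top _⟩ _ hnzd hideal
  refine ⟨⟨O.ι ''ᵁ ⊤, (isAffineOpen_top _).image_of_isOpenImmersion O.ι⟩, ?_, _, hs', hJ'⟩
  exact ⟨⟨x, hxO⟩, trivial, rfl⟩

end Groth.Agent.H51
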