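import Groth.Agent.H51.CartierDescentFlat
import Groth.Agent.H51.CartierNzd

set_option autoImplicit false
set_option backward.isDefEq.respectTransparency false
universe u
open CategoryTheory CategoryTheory.Limits AlgebraicGeometry

namespace Groth.Agent.H51
open AlgSp

open Scheme.IdealSheafData in
/-- Descent of effective Cartier ideals along a flat, surjective, open morphism of schemes. -/
theorem isEffCartierIdeal_of_comap_of_flat_surjective {W U : Scheme.{u}} (q : W ⟶ U) [Flat q]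
    [Surjective q] (hopen : IsOpenMap q) (I : U.IdealSheafData)
    (h : BlowUp.IsEffCartierIdeal (I.comap q)) : BlowUp.IsEffCartierIdeal I := by
  intro x
  obtain ⟨y, rfl⟩ := q.surjective x
  obtain ⟨_, ⟨U₀, hU₀ : IsAffineOpen U₀, rfl⟩, hxU₀, -⟩ :=
    U.isBasis_affineOpens.exists_subset_of_mem_open (Set.mem_univ (q y)) isOpen_univ
  obtain ⟨W', hyW', hW'U₀, g, hg, hIW'⟩ :=
    Groth.Agent.H50.exists_small_generator (I.comap q) h y (q ⁻¹ᵁ U₀) hxU₀
  let Ω : U.Opens := ⟨q '' (W'.1 : Set W), hopen _ W'.1.2⟩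
  have hqyΩ : q y ∈ Ω := ⟨y, hyW', rfl⟩
  obtain ⟨r, hrΩ, hyr⟩ := hU₀.exists_basicOpen_le (V := Ω) ⟨q y, hqyΩ⟩ hxU₀
  have hD : IsAffineOpen (U.basicOpen r) := hU₀.basicOpen r
  let c : Γ(W, W'.1) := q.appLE U₀ W'.1 hW'U₀ r
  have hc : W.basicOpen c = W'.1 ⊓ q ⁻¹ᵁ (U.basicOpen r) := Scheme.basicOpen_appLE q _ _ hW'U₀ r
  have hCaff : IsAffineOpen (W.basicOpen c) := W'.2.basicOpen c
  have hyc : y ∈ W.basicOpen c := by rw [hc]; exact ⟨hyW', hyr⟩
  have hloc := W'.2.isLocalization_basicOpen c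
  have hW'' : (I.comap q).ideal ⟨W.basicOpen c, hCaff⟩ =
      Ideal.span {algebraMap Γ(W, W'.1) Γ(W, W.basicOpen c) g} := by
    have h1 := (I.comap q).map_ideal_basicOpen W' c
    rw [hIW', Ideal.map_span, Set.image_singleton] at h1
    exact h1.symm
  have hg' : algebraMap Γ(W, W'.1) Γ(W, W.basicOpen c) g ∈
      nonZeroDivisors Γ(W, W.basicOpen c) :=
    IsLocalization.map_nonZeroDivisors_le (Submonoid.powers c) _ (Submonoid.mem_map_of_mem _ hg)
  obtain ⟨t₁, ht₁, hD₁⟩ := Groth.Agent.H50.comap_ι_ideal_top_of_span (I.comap q)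
    ⟨W.basicOpen c, hCaff⟩ _ hg' hW''
  have hle : W.basicOpen c ≤ q ⁻¹ᵁ (U.basicOpen r) := by rw [hc]; exact inf_le_right
  haveI : IsAffine (W.basicOpen c).toScheme := hCaff
  haveI : IsAffine (U.basicOpen r).toScheme := hD
  let q' : (W.basicOpen c).toScheme ⟶ (U.basicOpen r).toScheme := q.resLE _ _ hle
  have hq'ι : q' ≫ (U.basicOpen r).ι = (W.basicOpen c).ι ≫ q := Scheme.Hom.resLE_comp_ι _ _
  haveI : Surjective q' := by
    refine ⟨fun d => ?_⟩
    obtain ⟨w, hwW', hw⟩ := hrΩ d.2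
    have hwc : w ∈ W.basicOpen c := by
      rw [hc]
      refine ⟨hwW', ?_⟩
      change q w ∈ U.basicOpen r
      rw [hw]
      exact d.2
    refine ⟨⟨w, hwc⟩, ?_⟩
    apply Subtype.ext
    have e : (q' ≫ (U.basicOpen r).ι) ⟨w, hwc⟩ = ((W.basicOpen c).ι ≫ q) ⟨w, hwc⟩ := by rw [hq'ι]
    rw [Scheme.Hom.comp_apply, Scheme.Hom.comp_apply] at e
    exact e.trans hw
  have hff : q'.appTop.hom.FaithfullyFlat :=
    (Flat.flat_and_surjective_iff_faithfullyFlat_of_isAffine q').1 ⟨inferInstance, inferInstance⟩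
  have hcomap : (I.comap (U.basicOpen r).ι).comap q' = (I.comap q).comap (W.basicOpen c).ι := by
    rw [← comap_comp, ← comap_comp, hq'ι]
  have hideal : ((I.comap (U.basicOpen r).ι).ideal ⟨⊤, isAffineOpen_top _⟩).map q'.appTop.hom =
      Ideal.span {t₁} := by
    rw [← Groth.Agent.H54.comap_ideal_top_of_isAffine q' (I.comap (U.basicOpen r).ι), hcomap]
    exact hD₁
  algebraize [q'.appTop.hom]
  let x₀ : (U.basicOpen r).toScheme := ⟨q y, hyr⟩
  obtain ⟨s, hs, a₀, ha₀, h1, h2⟩ := exists_spread_of_faithfullyFlat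
    ((I.comap (U.basicOpen r).ι).ideal ⟨⊤, isAffineOpen_top _⟩) t₁ ht₁ hideal
    (primeAtPt (U.basicOpen r).toScheme x₀)
  have hlocs := (isAffineOpen_top (U.basicOpen r).toScheme).isLocalization_basicOpen s
  obtain ⟨hnzd, hmap⟩ := Groth.Agent.H68.CD.principal_of_spread
    ((I.comap (U.basicOpen r).ι).ideal ⟨⊤, isAffineOpen_top _⟩) s a₀ ha₀ h1 h2
    Γ((U.basicOpen r).toScheme, (U.basicOpen r).toScheme.basicOpen s)
  have hsaff : IsAffineOpen ((U.basicOpen r).toScheme.basicOpen s) :=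
    (isAffineOpen_top (U.basicOpen r).toScheme).basicOpen s
  have h3 := (I.comap (U.basicOpen r).ι).map_ideal_basicOpen ⟨⊤, isAffineOpen_top _⟩ s
  have hIs : (I.comap (U.basicOpen r).ι).ideal ⟨(U.basicOpen r).toScheme.basicOpen s, hsaff⟩ =
      Ideal.span {algebraMap Γ((U.basicOpen r).toScheme, ⊤)
        Γ((U.basicOpen r).toScheme, (U.basicOpen r).toScheme.basicOpen s) a₀} := by
    rw [← hmap]
    exact h3.symm
  obtain ⟨hs', hJ'⟩ := Groth.Agent.H50.ideal_image_of_comap_span (U.basicOpen r).ι I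
    ⟨(U.basicOpen r).toScheme.basicOpen s, hsaff⟩ _ hnzd hIs
  refine ⟨⟨(U.basicOpen r).ι ''ᵁ (U.basicOpen r).toScheme.basicOpen s,
    hsaff.image_of_isOpenImmersion (U.basicOpen r).ι⟩, ?_, _, hs', hJ'⟩
  refine ⟨x₀, ?_, rfl⟩
  by_contra hx₀
  exact hs ((mem_primeAtPt_iff _ x₀ s).2 hx₀)

end Groth.Agent.H51
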