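import Groth.Agent.H51.ComplModule

set_option autoImplicit false
set_option linter.unusedSectionVars false
universe u v w

namespace Groth.Agent.H51

open Topology Filter UniformSpace

section Main

variable {R : Type u} [CommRing R]
variable {M : Type v} [AddCommGroup M] [Module R M] [UniformSpace M] [IsUniformAddGroup M]
  [UniformContinuousConstSMul R M]

theorem completion_of_isOpen_adic_submodule (I : Ideal R) (hI : I.FG)
    (M' : Submodule R M) (hopen : ∀ n : ℕ, IsOpen ((I ^ n • M' : Submodule R M) : Set M))
    (hbasis : ∀ U ∈ 𝓝 (0 : M), ∃ n : ℕ, ((I ^ n • M' : Submodule R M) : Set M) ⊆ U) :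
    (∃ M'' : Submodule R (Completion M),
        (∀ n : ℕ, IsOpen ((I ^ n • M'' : Submodule R (Completion M)) : Set (Completion M))) ∧
        ∀ U ∈ 𝓝 (0 : Completion M), ∃ n : ℕ,
          ((I ^ n • M'' : Submodule R (Completion M)) : Set (Completion M)) ⊆ U) ∧
      ∀ n : ℕ, 0 < n →
        Function.Surjective ((QuotientAddGroup.mk'
            (I ^ n • ⊤ : Submodule R (Completion M)).toAddSubgroup).comp
          (Completion.toCompl : M →+ Completion M)) ∧
        ((QuotientAddGroup.mk' (I ^ n • ⊤ : Submodule R (Completion M)).toAddSubgroup).comp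
          (Completion.toCompl : M →+ Completion M)).ker =
            (I ^ n • ⊤ : Submodule R M).toAddSubgroup := by
  let ιL : M →ₗ[R] Completion M := toComplLin (R := R)
  let P : ℕ → Submodule R (Completion M) := fun k => complClosure (I ^ k • M')
  have hPanti : Antitone P := fun k l hkl =>
    complClosure_mono (Submodule.smul_mono_left (Ideal.pow_le_pow_right hkl))
  have hPnhds : ∀ k, (P k : Set (Completion M)) ∈ 𝓝 (0 : Completion M) := by
    intro k
    rw [coe_complClosure]
    exact closure_image_mem_nhds_zero _ ((hopen k).mem_nhds (Submodule.zero_mem _))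
  have hPopen : ∀ k, IsOpen (P k : Set (Completion M)) := fun k =>
    (P k).toAddSubgroup.isOpen_of_mem_nhds (g := 0) (hPnhds k)
  have hPsub : ∀ U ∈ 𝓝 (0 : Completion M), ∃ k, (P k : Set (Completion M)) ⊆ U := by
    intro U hU
    obtain ⟨V, hV, hVU⟩ := exists_closure_image_subset_of_mem_nhds_zero U hU
    obtain ⟨k, hk⟩ := hbasis V hV
    refine ⟨k, subset_trans ?_ hVU⟩
    rw [coe_complClosure]
    exact closure_mono (Set.image_mono hk)
  have hPbasis : (𝓝 (0 : Completion M)).HasBasis (fun _ => True)
      (fun k => (P k : Set (Completion M))) := by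
    refine ⟨fun U => ⟨fun hU => ?_, fun ⟨k, _, hk⟩ => mem_of_superset (hPnhds k) hk⟩⟩
    obtain ⟨k, hk⟩ := hPsub U hU
    exact ⟨k, trivial, hk⟩
  -- Lemma E
  have hE : ∀ n k, (I ^ (n + k) • M').map ιL ≤ I ^ n • P k := by
    intro n k
    rw [pow_add, Submodule.mul_smul, Submodule.map_smul'']
    exact Submodule.smul_mono le_rfl (map_toComplLin_le_complClosure _)
  have hPle : ∀ n k, P (n + k) ≤ (I ^ n • P k).topologicalClosure := fun n k =>
    Submodule.topologicalClosure_mono (hE n k)
  -- C1
  have hC1 : ∀ n, I ^ n • P 0 = P n := by
    intro n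
    apply le_antisymm
    · refine le_trans (smul_complClosure_le _ _) (complClosure_mono ?_)
      rw [pow_zero, Ideal.one_eq_top, Submodule.top_smul]
    · have hcl : ∀ k, closure ((I ^ n • P k : Submodule R (Completion M)) : Set (Completion M)) ∈
          𝓝 (0 : Completion M) := fun k =>
        mem_of_superset (hPnhds (n + k)) (hPle n k)
      have key := closure_smul_subset_smul_of_fg (I ^ n) hI.pow P hPanti hPbasis hcl
      intro x hx
      apply key
      have := hPle n 0 (by simpa using hx)
      exact this
  refine ⟨⟨P 0, fun n => ?_, fun U hU => ?_⟩, ?_⟩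
  · rw [hC1]; exact hPopen n
  · obtain ⟨k, hk⟩ := hPsub U hU
    exact ⟨k, by rw [hC1]; exact hk⟩
  · intro n _
    -- density
    have hdense : ∀ (x : Completion M) (k : ℕ), ∃ m : M, (m : Completion M) - x ∈ P k := by
      intro x k
      have hnb : {y : Completion M | y - x ∈ P k} ∈ 𝓝 x := by
        have hc : Continuous fun y : Completion M => y - x := continuous_id.sub continuous_const
        have : (fun y : Completion M => y - x) ⁻¹' (P k : Set (Completion M)) ∈ 𝓝 x := by
          apply hc.continuousAt.preimage_mem_nhds
          simpa using hPnhds k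
        exact this
      exact (Completion.denseRange_coe (α := M)).mem_nhds hnb
    have hPn_le : P n ≤ (I ^ n • ⊤ : Submodule R (Completion M)) := by
      rw [← hC1]
      exact Submodule.smul_mono le_rfl le_top
    constructor
    · intro q
      obtain ⟨x, rfl⟩ := QuotientAddGroup.mk_surjective q
      obtain ⟨m, hm⟩ := hdense x n
      refine ⟨m, ?_⟩
      show (QuotientAddGroup.mk (m : Completion M) :
          Completion M ⧸ (I ^ n • ⊤ : Submodule R (Completion M)).toAddSubgroup) =
        QuotientAddGroup.mk x
      rw [QuotientAddGroup.eq]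
      have : -(m : Completion M) + x = -((m : Completion M) - x) := by abel
      rw [this]
      exact (Submodule.neg_mem _ (hPn_le hm))
    · ext m
      rw [AddMonoidHom.mem_ker]
      show (QuotientAddGroup.mk (m : Completion M) :
          Completion M ⧸ (I ^ n • ⊤ : Submodule R (Completion M)).toAddSubgroup) = 0 ↔
        m ∈ (I ^ n • ⊤ : Submodule R M)
      rw [QuotientAddGroup.eq_zero_iff]
      show (m : Completion M) ∈ (I ^ n • ⊤ : Submodule R (Completion M)) ↔ _
      constructor
      · intro hm
        have htop : (⊤ : Submodule R (Completion M)) ≤ LinearMap.range ιL ⊔ P 0 := by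
          intro x _
          obtain ⟨m', hm'⟩ := hdense x 0
          have : x = (m' : Completion M) + -((m' : Completion M) - x) := by abel
          rw [this]
          exact Submodule.add_mem _ (Submodule.mem_sup_left ⟨m', rfl⟩)
            (Submodule.mem_sup_right (Submodule.neg_mem _ hm'))
        have h1 : (I ^ n • ⊤ : Submodule R (Completion M)) ≤
            (I ^ n • ⊤ : Submodule R M).map ιL ⊔ P n := by
          refine le_trans (Submodule.smul_mono le_rfl htop) ?_
          rw [Submodule.smul_sup, hC1, Submodule.map_smul'', Submodule.map_top]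
        obtain ⟨_, ⟨y, hy, rfl⟩, z, hz, hyz⟩ := Submodule.mem_sup.mp (h1 hm)
        have hz' : ((m - y : M) : Completion M) ∈ P n := by
          have : ((m - y : M) : Completion M) = z := by
            rw [Completion.coe_sub, ← hyz]
            show _ = z
            simp [ιL]
          rw [this]; exact hz
        rw [← SetLike.mem_coe, coe_complClosure] at hz'
        have hcl : IsClosed ((I ^ n • M' : Submodule R M) : Set M) :=
          (I ^ n • M').toAddSubgroup.isClosed_of_isOpen (hopen n)
        have hind := (Completion.isUniformInducing_coe M).isInducing.closure_eq_preimage_closure_image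
          ((I ^ n • M' : Submodule R M) : Set M)
        rw [hcl.closure_eq] at hind
        have hmy : m - y ∈ (I ^ n • M' : Submodule R M) := by
          rw [← SetLike.mem_coe, hind]; exact hz'
        have : m = y + (m - y) := by abel
        rw [this]
        exact Submodule.add_mem _ hy (Submodule.smul_mono le_rfl le_top hmy)
      · intro hm
        have h1 : (m : Completion M) ∈ (I ^ n • ⊤ : Submodule R M).map ιL := ⟨m, hm, rfl⟩
        rw [Submodule.map_smul''] at h1
        exact Submodule.smul_mono le_rfl le_top h1

end Main

end Groth.Agent.H51
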