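import Groth.Agent.H51.ComplQuot
import Mathlib.RingTheory.Ideal.Operations
import Mathlib.RingTheory.Finiteness.Ideal
import Mathlib.Topology.Algebra.UniformMulAction
import Mathlib.Topology.Algebra.Module.Basic
import Mathlib.Topology.Algebra.IsUniformGroup.Constructions

set_option autoImplicit false
set_option linter.unusedSectionVars false
universe u v w

namespace Groth.Agent.H51

open Topology Filter UniformSpace

section Dec

variable {R : Type u} [CommRing R] {N : Type v} [AddCommGroup N] [Module R N]

theorem exists_sum_smul_of_mem_span_range_smul {s : ℕ} (g : Fin s → R) (P : Submodule R N)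
    (x : N) (hx : x ∈ Ideal.span (Set.range g) • P) :
    ∃ y : Fin s → N, (∀ j, y j ∈ P) ∧ x = ∑ j, g j • y j := by
  refine Submodule.smul_induction_on hx ?_ ?_
  · intro r hr n hn
    obtain ⟨c, rfl⟩ := (Ideal.mem_span_range_iff_exists_fun (R := R)).mp hr
    refine ⟨fun j => c j • n, fun j => P.smul_mem _ hn, ?_⟩
    rw [Finset.sum_smul]
    refine Finset.sum_congr rfl fun j _ => ?_
    rw [smul_smul, mul_comm]
  · rintro x y ⟨a, ha, rfl⟩ ⟨b, hb, rfl⟩
    refine ⟨fun j => a j + b j, fun j => P.add_mem (ha j) (hb j), ?_⟩
    simp [smul_add, Finset.sum_add_distrib]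

end Dec

section Mod

variable {R : Type u} [CommRing R]
variable {N : Type v} [AddCommGroup N] [Module R N] [UniformSpace N] [IsUniformAddGroup N]
  [ContinuousConstSMul R N] [T2Space N] [CompleteSpace N]

/-- Module version of the closedness of finitely generated multiples in a complete module. -/
theorem closure_smul_subset_smul_of_fg (a : Ideal R) (hfg : a.FG) (P : ℕ → Submodule R N)
    (hPanti : Antitone P)
    (hPbasis : (𝓝 (0 : N)).HasBasis (fun _ => True) (fun k => (P k : Set N)))
    (hcl : ∀ k, closure ((a • P k : Submodule R N) : Set N) ∈ 𝓝 (0 : N)) :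
    closure ((a • P 0 : Submodule R N) : Set N) ⊆ (a • P 0 : Submodule R N) := by
  obtain ⟨s, g, hg⟩ := Submodule.fg_iff_exists_fin_generating_family.mp hfg
  have hg' : Ideal.span (Set.range g) = a := hg
  let G : (Fin s → N) →+ N :=
    { toFun := fun x => ∑ j, g j • x j
      map_zero' := by simp
      map_add' := fun x y => by simp [smul_add, Finset.sum_add_distrib] }
  have hGc : Continuous G := by
    show Continuous fun x : Fin s → N => ∑ j, g j • x j
    exact continuous_finsetSum _ fun j _ => (continuous_apply j).const_smul (g j)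
  let W : ℕ → AddSubgroup (Fin s → N) := fun k =>
    AddSubgroup.pi Set.univ (fun _ => (P k).toAddSubgroup)
  have hWmem : ∀ k (x : Fin s → N), x ∈ W k ↔ ∀ j, x j ∈ P k := by
    intro k x
    simp only [W, AddSubgroup.mem_pi, Set.mem_univ, true_imp_iff]
    rfl
  have hWanti : Antitone W := by
    intro k l hkl x hx
    rw [hWmem] at hx ⊢
    exact fun j => hPanti hkl (hx j)
  have hWbasis : (𝓝 (0 : Fin s → N)).HasBasis (fun _ => True)
      (fun i => (W i : Set (Fin s → N))) := by
    refine ⟨fun U => ⟨fun hU => ?_, fun ⟨k, _, hk⟩ => ?_⟩⟩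
    · rw [nhds_pi, Filter.mem_pi] at hU
      obtain ⟨F, _, t, ht, htU⟩ := hU
      have : ∀ j, ∃ k : ℕ, (P k : Set N) ⊆ t j := fun j => by
        obtain ⟨k, _, hk⟩ := hPbasis.mem_iff.mp (ht j)
        exact ⟨k, hk⟩
      choose kf hkf using this
      refine ⟨Finset.univ.sup kf, trivial, subset_trans ?_ htU⟩
      intro x hx j _
      have hx' := (hWmem _ x).mp hx j
      exact hkf j (hPanti (Finset.le_sup (Finset.mem_univ j)) hx')
    · refine mem_of_superset ?_ hk
      have : (W k : Set (Fin s → N)) = Set.pi Set.univ (fun _ => (P k : Set N)) := by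
        ext x
        simp only [SetLike.mem_coe, hWmem, Set.mem_pi, Set.mem_univ, true_imp_iff]
      rw [this]
      exact set_pi_mem_nhds Set.finite_univ (fun j _ => hPbasis.mem_of_mem trivial)
  have himg : ∀ k, ((a • P k : Submodule R N) : Set N) ⊆ G '' (W k : Set (Fin s → N)) := by
    intro k x hx
    rw [← hg'] at hx
    obtain ⟨y, hy, rfl⟩ := exists_sum_smul_of_mem_span_range_smul g (P k) x hx
    exact ⟨y, (hWmem k y).mpr hy, rfl⟩
  have hcl' : ∀ k, closure (G '' (W k : Set (Fin s → N))) ∈ 𝓝 (0 : N) := fun k =>
    mem_of_superset (hcl k) (closure_mono (himg k))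
  have key := closure_image_subset_image_zero G hGc W hWanti hWbasis hcl'
  intro x hx
  obtain ⟨y, hy, rfl⟩ := key (closure_mono (himg 0) hx)
  show ∑ j, g j • y j ∈ a • P 0
  refine sum_mem fun j _ => ?_
  refine Submodule.smul_mem_smul ?_ ((hWmem 0 y).mp hy j)
  rw [← hg']
  exact Ideal.subset_span (Set.mem_range_self j)

end Mod

section Compl

variable {R : Type u} [CommRing R]
variable {M : Type v} [AddCommGroup M] [Module R M] [UniformSpace M] [IsUniformAddGroup M]
  [UniformContinuousConstSMul R M]

/-- The canonical map to the completion as a linear map. -/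
noncomputable def toComplLin : M →ₗ[R] Completion M where
  toFun := fun m => (m : Completion M)
  map_add' := Completion.coe_add
  map_smul' := fun c x => Completion.coe_smul c x

@[simp] theorem toComplLin_apply (m : M) : (toComplLin (R := R) m) = (m : Completion M) := rfl

/-- The closure in the completion of the image of a submodule. -/
noncomputable def complClosure (S : Submodule R M) : Submodule R (Completion M) :=
  (S.map (toComplLin (R := R))).topologicalClosure

theorem coe_complClosure (S : Submodule R M) :
    ((complClosure S : Submodule R (Completion M)) : Set (Completion M)) =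
      closure (((↑) : M → Completion M) '' (S : Set M)) := by
  simp only [complClosure, Submodule.topologicalClosure_coe, Submodule.map_coe]
  rfl

theorem complClosure_mono {S T : Submodule R M} (h : S ≤ T) : complClosure S ≤ complClosure T := by
  intro x hx
  rw [← SetLike.mem_coe, coe_complClosure] at hx ⊢
  exact closure_mono (Set.image_mono h) hx

theorem smul_complClosure_le (a : Ideal R) (S : Submodule R M) :
    a • complClosure S ≤ complClosure (a • S) := by
  rw [Submodule.smul_le]
  intro r hr x hx
  rw [← SetLike.mem_coe, coe_complClosure] at hx ⊢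
  refine map_mem_closure (continuous_const_smul r) hx ?_
  rintro _ ⟨m, hm, rfl⟩
  exact ⟨r • m, Submodule.smul_mem_smul hr hm, Completion.coe_smul r m⟩

theorem map_toComplLin_le_complClosure (S : Submodule R M) :
    S.map (toComplLin (R := R)) ≤ complClosure S :=
  Submodule.le_topologicalClosure _

end Compl

end Groth.Agent.H51
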