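import Groth.Agent.H51.OpenMapping
import Mathlib.Topology.Algebra.GroupCompletion
import Mathlib.Topology.Algebra.LinearTopology
import Mathlib.Topology.Algebra.Group.Quotient
import Mathlib.Topology.Algebra.IsUniformGroup.Defs
import Mathlib.LinearAlgebra.Quotient.Defs

set_option autoImplicit false
set_option linter.unusedSectionVars false
universe u v w

namespace Groth.Agent.H51

open Topology Filter UniformSpace

section CB

variable {G : Type u} [AddCommGroup G] [UniformSpace G] [IsUniformAddGroup G]

/-- Closures of images of neighbourhoods of zero form a basis of neighbourhoods of zero in the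
completion. -/
theorem exists_closure_image_subset_of_mem_nhds_zero (U : Set (Completion G))
    (hU : U ∈ 𝓝 (0 : Completion G)) :
    ∃ V ∈ 𝓝 (0 : G), closure ((↑) '' V : Set (Completion G)) ⊆ U := by
  obtain ⟨C, ⟨hC, hCc⟩, hCU⟩ := (closed_nhds_basis (0 : Completion G)).mem_iff.mp hU
  have hpre : ((↑) : G → Completion G) ⁻¹' C ∈ 𝓝 (0 : G) := by
    apply (Completion.continuous_coe G).continuousAt.preimage_mem_nhds
    rwa [Completion.coe_zero]
  refine ⟨_, hpre, subset_trans (closure_minimal ?_ hCc) hCU⟩
  rintro _ ⟨x, hx, rfl⟩
  exact hx

theorem closure_image_mem_nhds_zero (V : Set G) (hV : V ∈ 𝓝 (0 : G)) :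
    closure ((↑) '' V : Set (Completion G)) ∈ 𝓝 (0 : Completion G) := by
  have := (Completion.isDenseInducing_coe (α := G)).closure_image_mem_nhds hV
  rwa [Completion.coe_zero] at this

end CB

section Quot

variable {G : Type u} [AddCommGroup G] [UniformSpace G] [IsUniformAddGroup G]
variable {H : Type v} [AddCommGroup H] [UniformSpace H] [IsUniformAddGroup H]

/-- The kernel of the completion of an open surjection is the closure of the image of the
kernel, for groups having a basis of open subgroups. -/
theorem preimage_zero_completion_map
    (hbasis : ∀ U ∈ 𝓝 (0 : G), ∃ S : AddSubgroup G, IsOpen (S : Set G) ∧ (S : Set G) ⊆ U)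
    (f : G →+ H) (hf : Continuous f) (hopen : IsOpenMap f) :
    (Completion.map f) ⁻¹' {0} = closure (((↑) : G → Completion G) '' (f.ker : Set G)) := by
  have huc : UniformContinuous f := uniformContinuous_addMonoidHom_of_continuous hf
  let fc : Completion G →+ Completion H := f.completion hf
  have hfc : (fc : Completion G → Completion H) = Completion.map f := rfl
  have hfcc : Continuous fc := f.continuous_completion hf
  apply subset_antisymm
  · intro x hx
    have hx0 : fc x = 0 := hx
    rw [mem_closure_iff_nhds_zero]
    intro U hU
    obtain ⟨V, hV, hVU⟩ := exists_closure_image_subset_of_mem_nhds_zero U hU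
    obtain ⟨S, hSo, hSV⟩ := hbasis V hV
    -- the open subgroup `Ŝ` of the completion
    let Sc : AddSubgroup (Completion G) := (S.map Completion.toCompl).topologicalClosure
    have hSc : (Sc : Set (Completion G)) = closure ((↑) '' (S : Set G)) := by
      simp only [Sc, AddSubgroup.topologicalClosure_coe, AddSubgroup.coe_map]
      rfl
    have hScn : (Sc : Set (Completion G)) ∈ 𝓝 (0 : Completion G) := by
      rw [hSc]; exact closure_image_mem_nhds_zero _ (hSo.mem_nhds S.zero_mem)
    have hScU : (Sc : Set (Completion G)) ⊆ U := by
      rw [hSc]; exact subset_trans (closure_mono (Set.image_mono hSV)) hVU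
    -- approximate `x` by an element of `G`
    have hnb : {y : Completion G | y - x ∈ Sc} ∈ 𝓝 x := by
      have hc : Continuous fun y : Completion G => y - x := continuous_id.sub continuous_const
      have : (fun y : Completion G => y - x) ⁻¹' (Sc : Set (Completion G)) ∈ 𝓝 x := by
        apply hc.continuousAt.preimage_mem_nhds
        simpa using hScn
      exact this
    obtain ⟨m, hm1⟩ := (Completion.denseRange_coe (α := G)).mem_nhds hnb
    have hm1 : (m : Completion G) - x ∈ Sc := hm1
    -- `f m` lies in `f '' S`
    have h1 : fc ((m : Completion G) - x) ∈ closure (((↑) : H → Completion H) '' (f '' (S : Set G))) := by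
      have : fc '' (Sc : Set (Completion G)) ⊆
          closure (((↑) : H → Completion H) '' (f '' (S : Set G))) := by
        rw [hSc]
        refine subset_trans (image_closure_subset_closure_image hfcc) (closure_mono ?_)
        rintro _ ⟨_, ⟨s, hs, rfl⟩, rfl⟩
        refine ⟨f s, ⟨s, hs, rfl⟩, ?_⟩
        rw [hfc, Completion.map_coe huc]
      exact this ⟨_, hm1, rfl⟩
    rw [map_sub, hx0, sub_zero, hfc, Completion.map_coe huc] at h1
    have hfSo : IsOpen (f '' (S : Set G)) := hopen _ hSo
    have hfSc : IsClosed (f '' (S : Set G)) := by
      have : (f '' (S : Set G)) = ((S.map f : AddSubgroup H) : Set H) := by simp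
      rw [this] at hfSo ⊢
      exact (S.map f).isClosed_of_isOpen hfSo
    have h2 : f m ∈ f '' (S : Set G) := by
      have := (Completion.isUniformInducing_coe H).isInducing.closure_eq_preimage_closure_image
        (f '' (S : Set G))
      rw [hfSc.closure_eq] at this
      rw [this]
      exact h1
    obtain ⟨s, hs, hsm⟩ := h2
    refine ⟨((m - s : G) : Completion G), ⟨m - s, ?_, rfl⟩, hScU ?_⟩
    · show f (m - s) = 0
      rw [map_sub, hsm, sub_self]
    · have e : ((m - s : G) : Completion G) - x = ((m : Completion G) - x) - (s : Completion G) := by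
        rw [Completion.coe_sub]; abel
      rw [e]
      refine Sc.sub_mem hm1 ?_
      rw [← SetLike.mem_coe, hSc]
      exact subset_closure ⟨s, hs, rfl⟩
  · have hcl : IsClosed ((Completion.map f) ⁻¹' ({0} : Set (Completion H))) :=
      isClosed_singleton.preimage Completion.continuous_map
    refine closure_minimal ?_ hcl
    rintro _ ⟨n, hn, rfl⟩
    show Completion.map f (n : Completion G) = 0
    rw [Completion.map_coe huc]
    have : f n = 0 := hn
    rw [this, Completion.coe_zero]

/-- The completion of an open surjection of first countable groups with a basis of open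
subgroups is surjective and open. -/
theorem surjective_isOpenMap_completion_map
    (hbasis : ∀ U ∈ 𝓝 (0 : G), ∃ S : AddSubgroup G, IsOpen (S : Set G) ∧ (S : Set G) ⊆ U)
    (hc : (𝓝 (0 : G)).IsCountablyGenerated)
    (f : G →+ H) (hf : Continuous f) (hopen : IsOpenMap f) (hsurj : Function.Surjective f) :
    Function.Surjective (Completion.map f) ∧ IsOpenMap (Completion.map f) := by
  have huc : UniformContinuous f := uniformContinuous_addMonoidHom_of_continuous hf
  let fc : Completion G →+ Completion H := f.completion hf
  have hfc : (fc : Completion G → Completion H) = Completion.map f := rfl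
  have hfcc : Continuous fc := f.continuous_completion hf
  -- a countable antitone basis of open subgroups
  have hb : (𝓝 (0 : G)).HasBasis (fun S : AddSubgroup G => IsOpen (S : Set G))
      (fun S => (S : Set G)) := by
    refine ⟨fun U => ⟨fun hU => ?_, fun ⟨S, hS, hSU⟩ => ?_⟩⟩
    · exact hbasis U hU
    · exact mem_of_superset (hS.mem_nhds S.zero_mem) hSU
  obtain ⟨x, hxo, hx⟩ := hb.exists_antitone_subbasis
  let W : ℕ → AddSubgroup (Completion G) := fun i =>
    ((x i).map Completion.toCompl).topologicalClosure
  have hWcoe : ∀ i, (W i : Set (Completion G)) = closure ((↑) '' (x i : Set G)) := by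
    intro i
    simp only [W, AddSubgroup.topologicalClosure_coe, AddSubgroup.coe_map]
    rfl
  have hWanti : Antitone W := by
    intro i j hij a ha
    rw [← SetLike.mem_coe, hWcoe] at ha ⊢
    exact closure_mono (Set.image_mono (hx.antitone hij)) ha
  have hWbasis : (𝓝 (0 : Completion G)).HasBasis (fun _ => True)
      (fun i => (W i : Set (Completion G))) := by
    refine ⟨fun U => ⟨fun hU => ?_, fun ⟨i, _, hi⟩ => ?_⟩⟩
    · obtain ⟨V, hV, hVU⟩ := exists_closure_image_subset_of_mem_nhds_zero U hU
      obtain ⟨i, _, hi⟩ := hx.toHasBasis.mem_iff.mp hV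
      refine ⟨i, trivial, subset_trans ?_ hVU⟩
      rw [hWcoe]
      exact closure_mono (Set.image_mono hi)
    · refine mem_of_superset ?_ hi
      rw [hWcoe]
      exact closure_image_mem_nhds_zero _ ((hxo i).mem_nhds (x i).zero_mem)
  have hcl : ∀ i, closure (fc '' (W i : Set (Completion G))) ∈ 𝓝 (0 : Completion H) := by
    intro i
    have h1 : closure (((↑) : H → Completion H) '' (f '' (x i : Set G))) ∈
        𝓝 (0 : Completion H) := by
      apply closure_image_mem_nhds_zero
      exact (hopen _ (hxo i)).mem_nhds ⟨0, (x i).zero_mem, map_zero f⟩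
    refine mem_of_superset h1 (closure_mono ?_)
    rintro _ ⟨_, ⟨s, hs, rfl⟩, rfl⟩
    refine ⟨(s : Completion G), ?_, ?_⟩
    · rw [hWcoe]; exact subset_closure ⟨s, hs, rfl⟩
    · rw [hfc, Completion.map_coe huc]
  have key := fun k => closure_image_subset_image fc hfcc W hWanti hWbasis hcl k
  have himg : ∀ k, fc '' (W k : Set (Completion G)) ∈ 𝓝 (0 : Completion H) := fun k =>
    mem_of_superset (hcl k) (key k)
  have hopen' : IsOpenMap fc := by
    rw [IsTopologicalAddGroup.isOpenMap_iff_nhds_zero]
    intro U hU
    rw [Filter.mem_map] at hU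
    obtain ⟨k, _, hk⟩ := hWbasis.mem_iff.mp hU
    refine mem_of_superset (himg k) ?_
    rintro _ ⟨a, ha, rfl⟩
    exact hk ha
  have hro : IsOpen (fc.range : Set (Completion H)) := by
    have : (fc.range : Set (Completion H)) = Set.range fc := rfl
    rw [this]
    exact hopen'.isOpen_range
  have hrc : IsClosed (Set.range fc) := fc.range.isClosed_of_isOpen hro
  have hd : DenseRange fc := by
    have h1 : DenseRange (fun g : G => ((f g : H) : Completion H)) :=
      (Completion.denseRange_coe (α := H)).comp hsurj.denseRange (Completion.continuous_coe H)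
    refine h1.mono ?_
    rintro _ ⟨g, rfl⟩
    refine ⟨(g : Completion G), ?_⟩
    rw [hfc, Completion.map_coe huc]
  have hsurj' : Function.Surjective fc := by
    have : Set.range fc = Set.univ := by
      rw [← hrc.closure_eq]
      exact hd.closure_eq
    exact Set.range_eq_univ.mp this
  exact ⟨hsurj', hopen'⟩

end Quot

end Groth.Agent.H51
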