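import Groth.Agent.H51.DimIneq
import Groth.Agent.H51.RelDimIff
import Groth.Agent.H53.QfLocus
import Groth.Agent.H17.Chev.LocMax
import Groth.Agent.H17.Chev.CompDim
import Groth.Agent.H17.Chev.MaxPt

/-! Quasi-finiteness over points of codimension at most one (Stacks 0BAI-type statement):
a consequence of the dimension inequality. -/

set_option autoImplicit false
universe u
open CategoryTheory CategoryTheory.Limits AlgebraicGeometry Opposite TopologicalSpace Order

namespace Groth.Agent.H51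
open Groth.Agent.H17.Chev

/-- The fibre local ring at a point without proper generizations inside its fibre is
zero-dimensional. -/
theorem ringKrullDim_stalk_fiber_eq_zero_of_isMax_fiber {X Y : Scheme.{u}} (f : X ⟶ Y) (ξ : X)
    (hξ : ∀ x' : X, f x' = f ξ → x' ⤳ ξ → ξ ⤳ x') :
    ringKrullDim ((f.fiber (f ξ)).presheaf.stalk (f.asFiber ξ)) = 0 := by
  rw [ringKrullDim_stalk_eq_coheight]
  have hmax : IsMax (f.asFiber ξ) := by
    intro w' hw'
    have h1 : w' ⤳ f.asFiber ξ := hw'
    have h2 : (f.fiberι (f ξ)) w' ⤳ (f.fiberι (f ξ)) (f.asFiber ξ) :=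
      h1.map (f.fiberι (f ξ)).continuous
    rw [Scheme.Hom.fiberι_asFiber] at h2
    have h4 : ξ ⤳ (f.fiberι (f ξ)) w' := hξ _ (map_fiberι' f (f ξ) w') h2
    have h5 : (f.fiberι (f ξ)) (f.asFiber ξ) ⤳ (f.fiberι (f ξ)) w' := by
      rw [Scheme.Hom.fiberι_asFiber]; exact h4
    exact ((f.fiberι (f ξ)).isEmbedding.isInducing.specializes_iff.mp h5)
  rw [coheight_eq_zero.mpr hmax]
  rfl

/-- Over a point of codimension at most one of a locally Noetherian scheme, a morphism locally of
finite type is quasi-finite at `u` as soon as the maximal points specializing to `u` have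
residue fields algebraic over their images. -/
theorem quasiFiniteAt_of_codim_le_one {U V : Scheme.{u}} [IsLocallyNoetherian V] (h : U ⟶ V)
    [LocallyOfFiniteType h] (u : U) (hv : ringKrullDim (V.presheaf.stalk (h u)) ≤ 1)
    (H : ∀ ξ : U, ξ ⤳ u → ringKrullDim (U.presheaf.stalk ξ) = 0 → Dual3.resTrdeg h ξ = 0) :
    h.QuasiFiniteAt u := by
  rw [Groth.Agent.H53.quasiFiniteAt_iff_fibreDimAt_eq_zero]
  refine le_antisymm ?_ (Groth.Agent.H52.localDim_nonneg _)
  have : LocallyOfFiniteType (h.fiberToSpecResidueField (h u)) :=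
    inferInstanceAs (LocallyOfFiniteType (pullback.snd h (V.fromSpecResidueField (h u))))
  have : IsLocallyNoetherian (h.fiber (h u)) :=
    LocallyOfFiniteType.isLocallyNoetherian (h.fiberToSpecResidueField (h u))
  rw [fibreDimAt_eq_localDim_fiber h (h u) u rfl (h.asFiber u) (Scheme.Hom.fiberι_asFiber h u)]
  refine localDim_le_of_forall_irreducibleComponents (h.fiber (h u)) (h.asFiber u) 0 ?_
  intro Z hZ hu'Z
  obtain ⟨w, hw⟩ := QuasiSober.sober hZ.1 (isClosed_of_mem_irreducibleComponents Z hZ)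
  rw [dim_irreducibleComponent_eq_localDim (V.residueField (h u))
    (h.fiberToSpecResidueField (h u)) Z hZ w hw]
  set τ := h.fiberι (h u) w with hτ
  have hτv : h τ = h u := map_fiberι' h (h u) w
  rw [← fibreDimAt_eq_localDim_fiber h (h u) τ hτv w rfl, fibreDimAt_eq_dim_stalk_add_trdeg h τ]
  have hwmax : IsMax w := isMax_of_isGenericPoint_irreducibleComponent _ Z hZ w hw
  -- points of the fibre generizing `τ` are specializations of `τ`
  have hτmax : ∀ x' : U, h x' = h τ → x' ⤳ τ → τ ⤳ x' := by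
    intro x' hx' hsp
    obtain ⟨w'', rfl⟩ : x' ∈ Set.range (h.fiberι (h u)) := by
      rw [Scheme.Hom.range_fiberι]; exact hx'.trans hτv
    have h1 : w'' ⤳ w := (h.fiberι (h u)).isEmbedding.isInducing.specializes_iff.mp hsp
    have h2 : w ⤳ w'' := hwmax h1
    exact h2.map (h.fiberι (h u)).continuous
  rw [ringKrullDim_stalk_fiber_eq_zero_of_isMax_fiber h τ hτmax, zero_add]
  have hτu : τ ⤳ u := by
    have h1 : w ⤳ h.asFiber u := by
      rw [specializes_iff_mem_closure, hw.def]; exact hu'Z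
    have h2 := h1.map (h.fiberι (h u)).continuous
    rwa [Scheme.Hom.fiberι_asFiber] at h2
  obtain ⟨ξ, hξgen, hξτ⟩ := Groth.Agent.H48.CycDim7.exists_isGen_specializes τ
  have hξ0 : ringKrullDim (U.presheaf.stalk ξ) = 0 := by
    rw [ringKrullDim_stalk_eq_coheight]
    have : IsMax ξ := fun b hb => by
      have := hξgen b hb
      rw [this]
    rw [coheight_eq_zero.mpr this]
    rfl
  have hξtr : Dual3.resTrdeg h ξ = 0 := H ξ (hξτ.trans hτu) hξ0
  by_cases hcase : h ξ = h u
  · have hξeq : ξ = τ := (hξτ.antisymm (hτmax ξ (hcase.trans hτv.symm) hξτ)).eq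
    rw [← hξeq, hξtr]
    simp
  · have hx : τ ∈ closure ({ξ} : Set U) := hξτ.mem_closure
    have key := coheight_closure_add_trdeg_le h ξ τ hx
    rw [hξtr] at key
    have hne : ξ ≠ τ := fun e => hcase (e ▸ hτv)
    have hco : (1 : ℕ∞) ≤ coheight (⟨τ, hx⟩ : ↥(closure ({ξ} : Set U))) := by
      rw [Order.one_le_iff_ne_zero, Ne, coheight_eq_zero]
      intro hmax
      have h1 : (⟨τ, hx⟩ : ↥(closure ({ξ} : Set U))) ≤ ⟨ξ, subset_closure rfl⟩ := hξτ
      have h2 : τ ⤳ ξ := hmax h1
      exact hne ((hξτ.antisymm h2).eq)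
    have hv' : ringKrullDim (V.presheaf.stalk (h τ)) ≤ 1 := by rw [hτv]; exact hv
    have h3 : ((1 : ℕ) : WithBot ℕ∞) +
        ((Cardinal.toENat (Dual3.resTrdeg h τ) : ℕ∞) : WithBot ℕ∞) ≤ ((1 : ℕ) : WithBot ℕ∞) + 0 := by
      refine le_trans (add_le_add ?_ le_rfl) (key.trans ?_)
      · exact_mod_cast hco
      · simp only [map_zero]
        have e0 : (((0 : ℕ∞) : WithBot ℕ∞)) = 0 := rfl
        rw [e0, add_zero]
        exact_mod_cast hv'
    exact le_of_natCast_add_le_natCast_add h3

end Groth.Agent.H51
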