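import Groth.Agent.H51.GeomFibField
import Groth.Agent.H22.FibreRank

/-!
# Geometric reducedness tested on algebraically closed fields (helper51)
-/

set_option autoImplicit false
set_option linter.style.haveILetI false
universe u
open CategoryTheory CategoryTheory.Limits AlgebraicGeometry

namespace Groth.Agent.H51

theorem surjective_specMap_field {K L : Type u} [Field K] [Field L]
    (f : Spec (CommRingCat.of L) ⟶ Spec (CommRingCat.of K)) : Surjective f :=
  ⟨fun _ => ⟨IsLocalRing.closedPoint L, Subsingleton.elim _ _⟩⟩

/-- A morphism is geometrically reduced as soon as its base changes to algebraically closed fields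
are reduced. -/
theorem geometricallyReduced_iff_algClosed {X Y : Scheme.{u}} (p : X ⟶ Y) :
    (∀ (Ω : Type u) [Field Ω] [IsAlgClosed Ω] (t' : Spec (CommRingCat.of Ω) ⟶ Y)
      (X' : Scheme.{u}) (q : X' ⟶ Spec (CommRingCat.of Ω)) (i₀ : X' ⟶ X),
      IsPullback i₀ q p t' → IsReduced X') ↔ GeometricallyReduced p := by
  constructor
  · intro h
    refine ⟨fun K _ y Z fst snd hpb => ?_⟩
    let e : Spec (CommRingCat.of (AlgebraicClosure K)) ⟶ Spec (CommRingCat.of K) :=
      Spec.map (CommRingCat.ofHom (algebraMap K (AlgebraicClosure K)))
    haveI : Flat e := Groth.Agent.H22.FibreRank.flat_of_field e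
    haveI : Surjective e := surjective_specMap_field e
    have hpb' := (IsPullback.of_hasPullback snd e).paste_horiz hpb
    have hred : IsReduced (pullback snd e) :=
      h (AlgebraicClosure K) (e ≫ y) (pullback snd e) (pullback.snd snd e)
        (pullback.fst snd e ≫ fst) hpb'
    have hs : Surjective (pullback.fst snd e) := MorphismProperty.pullback_fst _ _ inferInstance
    exact Groth.Agent.H23.isReduced_of_flat_of_surjective (pullback.fst snd e) inferInstance hs hred
  · intro h Ω _ _ t' X' q i₀ hpb
    exact h.geometrically_isReduced t' i₀ q hpb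

end Groth.Agent.H51
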