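import Groth.Agent.H20.DVRReduced
import Groth.Agent.H63.EtaEtA
import Groth.Agent.H22.FibreRank
import Groth.Agent.H23.Geometrically
import Groth.Agent.H51.GeomRedField

/-! Scheme-level lemmas for reducedness over a discrete valuation ring. -/

set_option autoImplicit false
universe u

open CategoryTheory CategoryTheory.Limits AlgebraicGeometry IsLocalRing

namespace Groth.Agent.H51

/-- Reducedness of local rings passes to generizations. -/
theorem isReduced_stalk_of_specializes {X : Scheme.{u}} {x x₀ : X} (hspec : x ⤳ x₀)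
    (h₀ : _root_.IsReduced (X.presheaf.stalk x₀)) : _root_.IsReduced (X.presheaf.stalk x) := by
  obtain ⟨U, hU, hx₀U, -⟩ := exists_isAffineOpen_mem_and_subset (x := x₀) (U := ⊤) trivial
  have hxU : x ∈ U := hspec.mem_open U.2 hx₀U
  let := X.presheaf.algebra_section_stalk ⟨x, hxU⟩
  have := hU.isLocalization_stalk ⟨x, hxU⟩
  let := X.presheaf.algebra_section_stalk ⟨x₀, hx₀U⟩
  have := hU.isLocalization_stalk ⟨x₀, hx₀U⟩
  have hle : (hU.primeIdealOf ⟨x, hxU⟩).asIdeal ≤ (hU.primeIdealOf ⟨x₀, hx₀U⟩).asIdeal := by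
    change hU.primeIdealOf ⟨x, hxU⟩ ≤ hU.primeIdealOf ⟨x₀, hx₀U⟩
    rw [PrimeSpectrum.le_iff_specializes]
    have h1 : (⟨x, hxU⟩ : U) ⤳ ⟨x₀, hx₀U⟩ := (subtype_specializes_iff _ _).mpr hspec
    exact h1.map hU.isoSpec.hom.continuous
  exact Groth.Agent.H20.isReduced_of_isLocalization_atPrime_le (C := Γ(X, U))
    (A₀ := X.presheaf.stalk x₀) (A := X.presheaf.stalk x)
    (hU.primeIdealOf ⟨x₀, hx₀U⟩).asIdeal (hU.primeIdealOf ⟨x, hxU⟩).asIdeal hle

/-- If a base change of `f` to a field point is reduced, the fibre over the image point is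
reduced. -/
theorem isReduced_fiber_of_isPullback_field {X B P : Scheme.{u}} (f : X ⟶ B) {K : Type u}
    [Field K] (g : Spec (CommRingCat.of K) ⟶ B) (fst : P ⟶ X)
    (snd : P ⟶ Spec (CommRingCat.of K)) (sq : IsPullback fst snd f g)
    (hP : AlgebraicGeometry.IsReduced P) :
    AlgebraicGeometry.IsReduced (f.fiber (g (closedPoint K))) := by
  set y := g (closedPoint K) with hy
  set d := Spec.map (Scheme.descResidueField (Scheme.stalkClosedPointTo g)) with hd
  have hdg : d ≫ B.fromSpecResidueField y = g :=
    Scheme.descResidueField_stalkClosedPointTo_fromSpecResidueField K B g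
  have hw : fst ≫ f = (snd ≫ d) ≫ B.fromSpecResidueField y := by
    rw [Category.assoc, hdg, sq.w]
  let e : P ⟶ f.fiber y := pullback.lift fst (snd ≫ d) hw
  have he1 : e ≫ f.fiberι y = fst := pullback.lift_fst _ _ _
  have he2 : e ≫ f.fiberToSpecResidueField y = snd ≫ d := pullback.lift_snd _ _ _
  have sqR : IsPullback (f.fiberι y) (f.fiberToSpecResidueField y) f
      (B.fromSpecResidueField y) := IsPullback.of_hasPullback _ _
  have sqL : IsPullback e snd (f.fiberToSpecResidueField y) d := by
    refine IsPullback.of_right ?_ he2 sqR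
    rw [he1, hdg]
    exact sq
  have hdfl : Flat d := Groth.Agent.H22.FibreRank.flat_of_field d
  have hds : Surjective d := surjective_specMap_field d
  have hefl : Flat e := MorphismProperty.of_isPullback sqL.flip hdfl
  have hes : Surjective e := MorphismProperty.of_isPullback sqL.flip hds
  exact Groth.Agent.H23.isReduced_of_flat_of_surjective e hefl hes hP

end Groth.Agent.H51
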