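import Groth.Agent.H51.SpDim2
import Groth.Agent.H17.Chev.TopLocalDim
import Groth.Agent.H17.Chev.DimTotal
import Groth.Agent.H17.Chev.RedSub
import Groth.Agent.H52.DimZero
import Mathlib.RingTheory.Ideal.MinimalPrime.Localization

/-! An effective Cartier divisor has smaller local dimension (S10794). -/

set_option autoImplicit false
universe u
open CategoryTheory CategoryTheory.Limits AlgebraicGeometry Opposite TopologicalSpace Order

namespace Groth.Agent.H51
open Groth.Agent.H17.Chev

/-- If `g` is strictly monotone and none of its values is maximal, coheights go up by at least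
one. -/
theorem coheight_add_one_le_of_strictMono_of_not_isMax {α β : Type*} [Preorder α] [Preorder β]
    (g : α → β) (hg : StrictMono g) (ht : ∀ a, ¬ IsMax (g a)) (a : α) :
    coheight a + 1 ≤ coheight (g a) := by
  have key : ∀ p : LTSeries α, p.head = a → ((p.length + 1 : ℕ) : ℕ∞) ≤ coheight (g a) := by
    intro p hp
    obtain ⟨t, htl⟩ := not_isMax_iff.1 (ht p.last)
    let p' : LTSeries β := (p.map g hg).snoc t (by simpa using htl)
    have h1 : p'.head = g a := by simp [p', hp]
    have h2 : (p'.length : ℕ∞) ≤ coheight (g a) := length_le_coheight h1.ge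
    have h3 : p'.length = p.length + 1 := by simp [p']
    rwa [h3] at h2
  cases h : coheight (g a) with
  | top => exact le_top
  | coe m =>
    rw [h] at key
    have hm : 1 ≤ m := by
      have := key (RelSeries.singleton _ a) rfl
      norm_cast at this
    have h4 : coheight a ≤ ((m - 1 : ℕ) : ℕ∞) := by
      refine coheight_le fun p hp => ?_
      have := key p hp
      norm_cast at this ⊢
      omega
    calc coheight a + 1 ≤ ((m - 1 : ℕ) : ℕ∞) + 1 := by gcongr
      _ = m := by norm_cast; omega

/-- Points of an effective Cartier divisor are not maximal points of the ambient scheme. -/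
theorem not_isMax_of_mem_support_of_isEffCartierIdeal {V : Scheme.{u}} (I : V.IdealSheafData)
    (hI : BlowUp.IsEffCartierIdeal I) (v : V) (hv : v ∈ I.support) : ¬ IsMax v := by
  intro hmax
  obtain ⟨U, hvU, f, hf, hIf⟩ := hI v
  have h1 : v ∈ V.zeroLocus (U := U.1) (I.ideal U) ∩ U.1 :=
    ⟨(Scheme.IdealSheafData.mem_support_iff_of_mem hvU).1 hv, hvU⟩
  rw [← U.2.fromSpec_image_zeroLocus] at h1
  obtain ⟨q, hq, rfl⟩ := h1
  have hfq : f ∈ q.asIdeal := by
    have : (I.ideal U : Set Γ(V, U.1)) ⊆ q.asIdeal := hq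
    exact this (hIf ▸ Ideal.subset_span rfl)
  have hmin : q.asIdeal ∈ minimalPrimes Γ(V, U.1) := by
    refine ⟨⟨q.isPrime, bot_le⟩, ?_⟩
    rintro q' ⟨hq'p, -⟩ hq'q
    let Q' : PrimeSpectrum Γ(V, U.1) := ⟨q', hq'p⟩
    have h2 : Q' ⤳ q := (PrimeSpectrum.le_iff_specializes Q' q).1 hq'q
    have h3 : U.2.fromSpec Q' ⤳ U.2.fromSpec q := h2.map U.2.fromSpec.continuous
    have h4 : U.2.fromSpec q ⤳ U.2.fromSpec Q' := hmax h3
    have h5 : q ⤳ Q' := U.2.fromSpec.isOpenEmbedding.isInducing.specializes_iff.1 h4
    exact (PrimeSpectrum.le_iff_specializes q Q').2 h5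
  exact Set.disjoint_left.1 (Ideal.disjoint_nonZeroDivisors_of_mem_minimalPrimes hmin) hfq hf

/-- The Krull dimension of an open subset of a scheme is the supremum of the coheights of its
points. -/
theorem topologicalKrullDim_opens_eq_iSup_coheight {X : Scheme.{u}} (O : X.Opens) :
    topologicalKrullDim ↥(O : Set X) = ⨆ w : ↥(O : Set X), (coheight (w : X) : WithBot ℕ∞) := by
  have h1 := topologicalKrullDim_eq_iSup_coheight (O : Scheme.{u})
  change topologicalKrullDim ↥(O : Set X) = _ at h1
  rw [h1]
  refine iSup_congr fun w => ?_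
  have := coheight_eq_of_etale O.ι w
  rw [this]
  rfl

/-- **Scheme version of S10794.** -/
theorem localDim_subscheme_add_one_le {V : Scheme.{u}} (I : V.IdealSheafData)
    (hI : BlowUp.IsEffCartierIdeal I) (z : I.subscheme) :
    FlatMor.localDim I.subscheme z + 1 ≤ FlatMor.localDim V (I.subschemeι z) := by
  obtain ⟨W₀, hvW₀, hdim⟩ := exists_open_dim_eq_localDim (I.subschemeι z)
  rw [← hdim]
  have hmono : StrictMono (I.subschemeι : I.subscheme → V) := by
    intro a b hab
    rw [lt_iff_le_not_ge] at hab ⊢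
    rw [le_iff_of_isEmbedding _ I.subschemeι.isEmbedding, le_iff_of_isEmbedding _ I.subschemeι.isEmbedding]
    exact hab
  have hnm : ∀ a : I.subscheme, ¬ IsMax (I.subschemeι a) := fun a =>
    not_isMax_of_mem_support_of_isEffCartierIdeal I hI _ (by
      have h0 : I.subschemeι a ∈ Set.range I.subschemeι := Set.mem_range_self a
      rw [I.range_subschemeι] at h0
      exact h0)
  refine le_trans (add_le_add (localDim_le_dim_of_mem z (I.subschemeι ⁻¹ᵁ W₀) hvW₀) le_rfl) ?_
  rw [topologicalKrullDim_opens_eq_iSup_coheight, topologicalKrullDim_opens_eq_iSup_coheight]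
  have h1 : ((1 : ℕ) : WithBot ℕ∞) = 1 := rfl
  rw [← h1]
  refine iSup_add_natCast_le _ 1 _ fun w => ?_
  have h2 := coheight_add_one_le_of_strictMono_of_not_isMax _ hmono hnm (w : I.subscheme)
  refine le_trans ?_ (le_iSup (fun w' : ↥(W₀ : Set V) => (coheight (w' : V) : WithBot ℕ∞))
    ⟨I.subschemeι (w : I.subscheme), w.2⟩)
  exact_mod_cast h2

end Groth.Agent.H51
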