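import Mathlib.RingTheory.Unramified.LocalStructure
import Mathlib.RingTheory.Etale.StandardEtale

/-!
# Lifting étale algebras along a surjection, locally

For a surjection `A → Ā`, an étale `Ā`-algebra `B̄` and a prime `𝔮` of `B̄`, some localization
`B̄[1/ḡ]` with `ḡ ∉ 𝔮` is the base change of an étale `A`-algebra.
-/

set_option autoImplicit false
universe u
open Polynomial TensorProduct

namespace Groth.Agent.H51.EtLift

variable {A Abar : Type u} [CommRing A] [CommRing Abar] [Algebra A Abar]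

/-- Lifting a standard étale pair along a surjection; the lifted pair maps to `(f, g ^ (n + 1))`. -/
theorem exists_lift_pair (hs : Function.Surjective (algebraMap A Abar))
    (Q : StandardEtalePair Abar) :
    ∃ (P : StandardEtalePair A) (n : ℕ), P.f.map (algebraMap A Abar) = Q.f ∧
      P.g.map (algebraMap A Abar) = Q.g ^ (n + 1) := by
  obtain ⟨p₁, p₂, n, hc⟩ := Q.cond
  obtain ⟨f, hf, -, hfm⟩ := Polynomial.lifts_and_natDegree_eq_and_monic
    (f := algebraMap A Abar) (p := Q.f)
    ((Polynomial.mem_lifts _).2 (Polynomial.map_surjective _ hs Q.f)) Q.monic_f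
  obtain ⟨P₁, hP₁⟩ := Polynomial.map_surjective _ hs p₁
  obtain ⟨P₂, hP₂⟩ := Polynomial.map_surjective _ hs p₂
  obtain ⟨G₀, hG₀⟩ := Polynomial.map_surjective _ hs Q.g
  refine ⟨⟨f, hfm, (derivative f * P₁ + f * P₂) * G₀, ⟨P₁ * G₀, P₂ * G₀, 1, by ring⟩⟩, n, hf, ?_⟩
  change Polynomial.map (algebraMap A Abar) ((derivative f * P₁ + f * P₂) * G₀) = _
  rw [Polynomial.map_mul, Polynomial.map_add, Polynomial.map_mul, Polynomial.map_mul,
    ← Polynomial.derivative_map, hf, hP₁, hP₂, hG₀, hc, pow_succ]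

/-- Two standard étale pairs with the same `f` and `g' = g ^ (n + 1)` give isomorphic algebras. -/
theorem nonempty_equiv_of_pow {R : Type u} [CommRing R] (P' Q : StandardEtalePair R) (n : ℕ)
    (hf : P'.f = Q.f) (hg : P'.g = Q.g ^ (n + 1)) : Nonempty (P'.Ring ≃ₐ[R] Q.Ring) := by
  have h1 : P'.HasMap Q.X := by
    refine ⟨hf ▸ Q.hasMap_X.1, ?_⟩
    rw [hg, map_pow]
    exact Q.hasMap_X.2.pow _
  have h2 : Q.HasMap P'.X := by
    refine ⟨hf ▸ P'.hasMap_X.1, ?_⟩
    have := P'.hasMap_X.2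
    rw [hg, map_pow] at this
    exact (isUnit_pow_iff (Nat.succ_ne_zero n)).1 this
  refine ⟨AlgEquiv.ofAlgHom (P'.lift Q.X h1) (Q.lift P'.X h2) ?_ ?_⟩
  · apply Q.hom_ext
    simp
  · apply P'.hom_ext
    simp

/-- **Local lifting of étale algebras along a surjection.** -/
theorem exists_etale_lift (hs : Function.Surjective (algebraMap A Abar))
    (Bbar : Type u) [CommRing Bbar] [Algebra Abar Bbar] [Algebra.Etale Abar Bbar]
    (q : Ideal Bbar) [q.IsPrime] :
    ∃ (gbar : Bbar) (_ : gbar ∉ q) (B : Type u) (_ : CommRing B) (_ : Algebra A B)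
      (_ : Algebra.Etale A B), Nonempty (Abar ⊗[A] B ≃ₐ[Abar] Localization.Away gbar) := by
  haveI : Algebra.FormallyEtale Abar (Localization.AtPrime q) :=
    Algebra.FormallyEtale.comp Abar Bbar (Localization.AtPrime q)
  haveI : Algebra.IsEtaleAt Abar q := this
  obtain ⟨gbar, hg, hstd⟩ := Algebra.IsEtaleAt.exists_isStandardEtale (R := Abar) q
  let Q : StandardEtalePresentation Abar (Localization.Away gbar) :=
    hstd.nonempty_standardEtalePresentation.some
  obtain ⟨P, n, hPf, hPg⟩ := exists_lift_pair hs Q.P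
  let P₀ : StandardEtalePresentation A P.Ring :=
    ⟨P, P.X, P.hasMap_X, by simpa [StandardEtalePair.lift_X_left] using Function.bijective_id⟩
  refine ⟨gbar, hg, P.Ring, inferInstance, inferInstance, inferInstance, ?_⟩
  let bc := P₀.baseChange (T := Abar)
  have hPbc : bc.P = P₀.P.map (algebraMap A Abar) := rfl
  have hP₀ : P₀.P = P := rfl
  have h1 : bc.P.f = Q.P.f := by
    rw [hPbc, hP₀]
    exact hPf
  have h2 : bc.P.g = Q.P.g ^ (n + 1) := by
    rw [hPbc, hP₀]
    exact hPg
  obtain ⟨e⟩ := nonempty_equiv_of_pow bc.P Q.P n h1 h2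
  exact ⟨(bc.equivRing.trans e).trans Q.equivRing.symm⟩

end Groth.Agent.H51.EtLift
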