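import Groth.Agent.H51.EtLiftEq
import Mathlib.CategoryTheory.Sites.DenseSubsite.Basic
import Mathlib.CategoryTheory.Sites.LocallyFullyFaithful

/-!
# Base change along a closed immersion is cover dense and locally full
-/

set_option autoImplicit false
set_option backward.isDefEq.respectTransparency false
universe u
open CategoryTheory CategoryTheory.Limits AlgebraicGeometry Opposite MorphismProperty

namespace Groth.Agent.H51
open AlgSp

variable {S : Scheme.{u}} {Z X : AlgSp.Space S} (i : Z ⟶ X)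
  (hi : AlgSp.RepWith @IsClosedImmersion i.hom)

/-- Base change along a closed immersion is cover dense. -/
theorem isCoverDense_bc : (EtOver.bc hi.1).IsCoverDense (etTop Z.obj) where
  is_cover V := by
    choose U ψ hψ using exists_bc_hom i hi V
    refine (etTop Z.obj).superset_covering ?_
      (ofArrows_mem_etTop (fun v => (EtOver.bc hi.1).obj (U v)) ψ (fun v => ⟨v, hψ v⟩))
    rw [Sieve.ofArrows, Sieve.generate_le_iff]
    rintro _ _ ⟨v⟩
    exact Presieve.in_coverByImage _ _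

/-- The graph section `bc U' ⟶ bc (U' × U)` of a morphism `bc U' ⟶ bc U`. -/
theorem exists_bc_prod_section (U' U : EtOver X.obj)
    (h : (EtOver.bc hi.1).obj U' ⟶ (EtOver.bc hi.1).obj U) :
    ∃ γ : (EtOver.bc hi.1).obj U' ⟶ (EtOver.bc hi.1).obj (EtOver.prodObj U' U),
      γ ≫ (EtOver.bc hi.1).map (EtOver.prodFst U' U) = 𝟙 _ ∧
      γ ≫ (EtOver.bc hi.1).map (EtOver.prodSnd U' U) = h := by
  let W : Over S := ((EtOver.bc hi.1).obj U').obj.left
  let t₁ : W ⟶ U'.obj.left := hi.1.snd U'.obj.hom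
  let t₂ : W ⟶ U.obj.left := h.hom.left ≫ hi.1.snd U.obj.hom
  have comm : (yon S).map t₂ ≫ U.obj.hom = (yon S).map t₁ ≫ U'.obj.hom := by
    change (yon S).map (h.hom.left ≫ hi.1.snd U.obj.hom) ≫ U.obj.hom = _
    rw [Functor.map_comp, Category.assoc, ← hi.1.w, ← Category.assoc]
    have := EtOver.w h
    change (yon S).map h.hom.left ≫ hi.1.fst U.obj.hom = hi.1.fst U'.obj.hom at this
    rw [this]
    exact hi.1.w U'.obj.hom
  let b : W ⟶ (EtOver.prodObj U' U).obj.left := U.property.1.lift' t₂ t₁ comm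
  have hb₁ : b ≫ U.property.1.fst' U'.obj.hom = t₂ := U.property.1.lift'_fst _ _ _
  have hb₂ : b ≫ U.property.1.snd U'.obj.hom = t₁ := U.property.1.lift'_snd _ _ _
  have comm2 : hi.1.fst U'.obj.hom ≫ i.hom = (yon S).map b ≫ (EtOver.prodObj U' U).obj.hom := by
    change _ = (yon S).map b ≫ (yon S).map (U.property.1.snd U'.obj.hom) ≫ U'.obj.hom
    rw [← Category.assoc, ← Functor.map_comp, hb₂]
    exact hi.1.w U'.obj.hom
  let γ₀ : W ⟶ ((EtOver.bc hi.1).obj (EtOver.prodObj U' U)).obj.left :=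
    hi.1.lift (hi.1.fst U'.obj.hom) b comm2
  have hγ₁ : (yon S).map γ₀ ≫ hi.1.fst (EtOver.prodObj U' U).obj.hom = hi.1.fst U'.obj.hom :=
    hi.1.lift_fst _ _ _
  have hγ₂ : γ₀ ≫ hi.1.snd (EtOver.prodObj U' U).obj.hom = b := hi.1.lift_snd _ _ _
  refine ⟨EtOver.homMk γ₀ hγ₁, ?_, ?_⟩
  · apply EtOver.hom_ext
    apply hi.1.hom_ext
    · change (yon S).map (γ₀ ≫ (EtOver.bcMap hi.1 (EtOver.prodFst U' U)).hom.left) ≫ _ =
        (yon S).map (𝟙 _) ≫ _
      rw [Functor.map_comp, Category.assoc, EtOver.map_bcMap_fst, hγ₁,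
        CategoryTheory.Functor.map_id, Category.id_comp]
    · change (γ₀ ≫ (EtOver.bcMap hi.1 (EtOver.prodFst U' U)).hom.left) ≫ _ = 𝟙 _ ≫ _
      rw [Category.assoc, EtOver.bcMap_snd, ← Category.assoc, hγ₂, Category.id_comp]
      exact hb₂
  · apply EtOver.hom_ext
    apply hi.1.hom_ext
    · change (yon S).map (γ₀ ≫ (EtOver.bcMap hi.1 (EtOver.prodSnd U' U)).hom.left) ≫ _ =
        (yon S).map h.hom.left ≫ _
      rw [Functor.map_comp, Category.assoc, EtOver.map_bcMap_fst, hγ₁]
      exact (EtOver.w h).symm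
    · change (γ₀ ≫ (EtOver.bcMap hi.1 (EtOver.prodSnd U' U)).hom.left) ≫ _ = h.hom.left ≫ _
      rw [Category.assoc, EtOver.bcMap_snd, ← Category.assoc, hγ₂]
      exact hb₁

/-- Base change along a closed immersion is locally full. -/
theorem isLocallyFull_bc : (EtOver.bc hi.1).IsLocallyFull (etTop Z.obj) where
  functorPushforward_imageSieve_mem {U' U} h := by
    let T : EtOver X.obj := EtOver.prodObj U' U
    obtain ⟨O, hO₁, hO₂⟩ := exists_open_equalizer i hi T ((EtOver.bc hi.1).obj U)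
      ((EtOver.bc hi.1).map (EtOver.prodSnd U' U)) ((EtOver.bc hi.1).map (EtOver.prodFst U' U) ≫ h)
    obtain ⟨γ, hγ₁, hγ₂⟩ := exists_bc_prod_section i hi U' U h
    let j : EtOver.ofOpen T O ⟶ U' := EtOver.ofOpenι T O ≫ EtOver.prodFst U' U
    have hj : (EtOver.bc hi.1).imageSieve h j := by
      refine ⟨EtOver.ofOpenι T O ≫ EtOver.prodSnd U' U, ?_⟩
      rw [Functor.map_comp, Functor.map_comp, Category.assoc]
      exact hO₁
    refine (etTop Z.obj).superset_covering ?_
      (ofArrows_mem_etTop (fun _ : Unit => (EtOver.bc hi.1).obj (EtOver.ofOpen T O))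
        (fun _ => (EtOver.bc hi.1).map j) ?_)
    · rw [Sieve.ofArrows, Sieve.generate_le_iff]
      rintro _ _ ⟨_⟩
      exact ⟨_, j, 𝟙 _, hj, (Category.id_comp _).symm⟩
    · intro z'
      refine ⟨(), ?_⟩
      have hmem := hO₂ _ γ.hom.left.left (by
        have e : γ ≫ (EtOver.bc hi.1).map (EtOver.prodSnd U' U) =
            γ ≫ (EtOver.bc hi.1).map (EtOver.prodFst U' U) ≫ h := by
          rw [hγ₂, ← Category.assoc, hγ₁, Category.id_comp]
        exact congrArg (fun k => k.hom.left.left) e) z'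
      obtain ⟨t, ht⟩ := mem_range_bc_ofOpenι i hi T O _ hmem
      refine ⟨t, ?_⟩
      have e1 : ((EtOver.bc hi.1).map j).hom.left.left =
          ((EtOver.bc hi.1).map (EtOver.ofOpenι T O)).hom.left.left ≫
            ((EtOver.bc hi.1).map (EtOver.prodFst U' U)).hom.left.left := by
        rw [Functor.map_comp]; rfl
      have e2 : γ.hom.left.left ≫ ((EtOver.bc hi.1).map (EtOver.prodFst U' U)).hom.left.left =
          𝟙 _ := congrArg (fun k => k.hom.left.left) hγ₁
      rw [e1, Scheme.Hom.comp_apply, ht, ← Scheme.Hom.comp_apply, e2]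
      rfl

end Groth.Agent.H51
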