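import Groth.Agent.H51.SpEtStalk3
import Mathlib.AlgebraicGeometry.PullbackCarrier

set_option autoImplicit false
universe u
open CategoryTheory CategoryTheory.Limits AlgebraicGeometry Opposite MorphismProperty
namespace Groth.Agent.H51
open AlgSp Groth.Agent.H52
variable {S : Scheme.{u}}

/-- A lift of a geometric point lifts further through an étale morphism of the site hitting its image. -/
theorem exists_lift_through {X : Sp S} (p : FieldPt X) (hp : p.IsGeometric) {V U : EtOver X}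
    (φ : V ⟶ U) (l : (FieldPt.liftsTo p).obj U)
    (h : l.1.left (default : Spec (CommRingCat.of p.K)) ∈ Set.range φ.hom.left.left) :
    ∃ l' : (FieldPt.liftsTo p).obj V, (FieldPt.liftsTo p).map φ l' = l := by
  haveI : IsAlgClosed p.K := hp
  haveI : IsSepClosed p.K := IsSepClosed.of_isAlgClosed p.K
  let s : Spec (CommRingCat.of p.K) ⟶ U.obj.left.left := l.1.left
  obtain ⟨y, hy⟩ := h
  haveI : Etale φ.hom.left.left := EtOver.etale_left φ
  obtain ⟨m, hm, -⟩ := Scheme.exists_fac_of_etale_of_isSepClosed φ.hom.left.left s y hy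
  have hw : m ≫ V.obj.left.hom = p.str := by
    have h1 : φ.hom.left.left ≫ U.obj.left.hom = V.obj.left.hom := Over.w φ.hom.left
    have h2 : s ≫ U.obj.left.hom = p.str := Over.w l.1
    rw [← h1, ← Category.assoc, hm, h2]
  let m0 : p.pt ⟶ V.obj.left := Over.homMk m hw
  have hcomp : m0 ≫ φ.hom.left = l.1 := Over.OverMorphism.ext hm
  have hm0 : (yon S).map m0 ≫ V.obj.hom = p.toHom := by
    rw [← EtOver.w φ, ← Category.assoc, ← Functor.map_comp, hcomp]
    exact l.2
  exact ⟨⟨m0, hm0⟩, Subtype.ext hcomp⟩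

/-- The image in `U` of a lift composed with a morphism of the site. -/
theorem lift_map_apply {X : Sp S} (p : FieldPt X) {V U : EtOver X} (φ : V ⟶ U)
    (l' : (FieldPt.liftsTo p).obj V) (z : Spec (CommRingCat.of p.K)) :
    ((FieldPt.liftsTo p).map φ l').1.left z = φ.hom.left.left (l'.1.left z) := rfl

theorem stalkEtι_eq_zero_iff (X : AlgSp.Space S) (F : AbEt X.obj) (p : FieldPt X.obj)
    (hp : p.IsGeometric) (U : EtOver X.obj) (l : (FieldPt.liftsTo p).obj U)
    (σ : ↥(F.obj.obj (op U))) :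
    (stalkEtι p F ⟨U, l⟩).hom σ = 0 ↔
      ∃ (V : EtOver X.obj) (φ : V ⟶ U) (l' : (FieldPt.liftsTo p).obj V),
        (FieldPt.liftsTo p).map φ l' = l ∧ (F.obj.map φ.op).hom σ = 0 := by
  haveI := preservesFilteredColimits_forget_ab.{u}
  let Φ := geomPoint X p hp
  have h0 : (stalkEtι p F ⟨U, l⟩).hom σ = 0 ↔
      Φ.toPresheafFiber U l F.obj σ = Φ.toPresheafFiber U l F.obj 0 := by
    have : Φ.toPresheafFiber U l F.obj (0 : ↥(F.obj.obj (op U))) = 0 := map_zero _
    rw [this]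
    exact Iff.rfl
  rw [h0, Φ.toPresheafFiber_eq_iff' U l σ 0]
  constructor
  · rintro ⟨Y, f, y, hy, hf⟩
    refine ⟨Y, f, y, hy, hf.trans ?_⟩
    exact map_zero _
  · rintro ⟨Y, f, y, hy, hf⟩
    refine ⟨Y, f, y, hy, Eq.trans hf ?_⟩
    exact (map_zero _).symm


theorem exists_of_isPullback_scheme' {A X Y Z : Scheme.{u}} {fst : A ⟶ X} {snd : A ⟶ Y} {f : X ⟶ Z}
    {g : Y ⟶ Z} (sq : IsPullback fst snd f g) (x : X) (y : Y) (h : f x = g y) :
    ∃ a : A, fst a = x ∧ snd a = y := by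
  obtain ⟨z, hz1, hz2⟩ := Scheme.Pullback.exists_preimage_pullback x y h
  refine ⟨sq.isoPullback.inv z, ?_, ?_⟩
  · rw [← Scheme.Hom.comp_apply, sq.isoPullback_inv_fst, hz1]
  · rw [← Scheme.Hom.comp_apply, sq.isoPullback_inv_snd, hz2]

/-- Points of a fibre product in the small étale site. -/
theorem exists_point_pullbackObj {X : Sp S} {E₁ E₂ E₀ : EtOver X} (g₁ : E₁ ⟶ E₀) (g₂ : E₂ ⟶ E₀)
    (x : E₁.obj.left.left) (y : E₂.obj.left.left) (h : g₁.hom.left.left x = g₂.hom.left.left y) :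
    ∃ a : (EtOver.pullbackObj g₁ g₂).obj.left.left,
      (EtOver.pullbackFst g₁ g₂).hom.left.left a = x ∧ (EtOver.pullbackSnd g₁ g₂).hom.left.left a = y :=
  exists_of_isPullback_scheme'
    ((IsPullback.of_hasPullback g₁.hom.left g₂.hom.left).map (Over.forget S)) x y h

/-- Vanishing of a section is local: the vanishing locus. -/
theorem vanishing_locus (X : AlgSp.Space S) (F : AbEt X.obj) (U : EtOver X.obj)
    (σ : ↥(F.obj.obj (op U))) :
    ∃ W : TopologicalSpace.Opens ↥U.obj.left.left,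
      (∀ (V : EtOver X.obj) (φ : V ⟶ U),
          (F.obj.map φ.op).hom σ = 0 ↔
            Set.range (fun v => φ.hom.left.left v) ⊆ (W : Set ↥U.obj.left.left)) ∧
      (∀ p : FieldPt X.obj, p.IsGeometric → ∀ l : (FieldPt.liftsTo p).obj U,
          (stalkEtι p F ⟨U, l⟩).hom σ = 0 ↔ l.1.left (IsLocalRing.closedPoint p.K) ∈ W) := by
  let Wset : Set ↥U.obj.left.left :=
    {u | ∃ (V : EtOver X.obj) (φ : V ⟶ U), (F.obj.map φ.op).hom σ = 0 ∧
      u ∈ Set.range φ.hom.left.left}
  have hWo : IsOpen Wset := by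
    rw [isOpen_iff_forall_mem_open]
    rintro u ⟨V, φ, hφ, hu⟩
    haveI : Etale φ.hom.left.left := EtOver.etale_left φ
    exact ⟨Set.range φ.hom.left.left, fun u' hu' => ⟨V, φ, hφ, hu'⟩,
      φ.hom.left.left.isOpenMap.isOpen_range, hu⟩
  have hsep : Presieve.IsSeparated (etTop X.obj) (F.obj ⋙ forget AddCommGrpCat.{u + 1}) :=
    Presieve.IsSheaf.isSeparated ((isSheaf_iff_isSheaf_of_type _ _).1
      ((Presheaf.isSheaf_iff_isSheaf_forget (etTop X.obj) F.obj (forget _)).1 F.property))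
  have part1 : ∀ (V : EtOver X.obj) (φ : V ⟶ U),
      (F.obj.map φ.op).hom σ = 0 ↔ Set.range (fun v => φ.hom.left.left v) ⊆ Wset := by
    intro V φ
    constructor
    · rintro hφ _ ⟨v, rfl⟩
      exact ⟨V, φ, hφ, v, rfl⟩
    · intro hsub
      refine (hsep _ (mem_etTop_of_forall_geometric
        (Presheaf.equalizerSieve (F := F.obj) ((F.obj.map φ.op).hom σ) 0) fun p hp e => ?_)).ext
          fun Y f hf => hf
      obtain ⟨V', φ', hφ', v', hv'⟩ := hsub ⟨e.1.left (default : Spec (CommRingCat.of p.K)), rfl⟩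
      obtain ⟨a, ha1, -⟩ := exists_point_pullbackObj φ φ' _ v' hv'.symm
      obtain ⟨l', hl'⟩ := exists_lift_through p hp (EtOver.pullbackFst φ φ') e ⟨a, ha1⟩
      refine ⟨_, EtOver.pullbackFst φ φ', ?_, l', hl'⟩
      change (F.obj.map (EtOver.pullbackFst φ φ').op).hom ((F.obj.map φ.op).hom σ) =
        (F.obj.map (EtOver.pullbackFst φ φ').op).hom 0
      rw [map_zero]
      have e1 : (F.obj.map (EtOver.pullbackFst φ φ').op).hom ((F.obj.map φ.op).hom σ) =
          (F.obj.map (EtOver.pullbackFst φ φ' ≫ φ).op).hom σ := by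
        rw [op_comp, Functor.map_comp]; rfl
      have e2 : (F.obj.map (EtOver.pullbackSnd φ φ').op).hom ((F.obj.map φ'.op).hom σ) =
          (F.obj.map (EtOver.pullbackSnd φ φ' ≫ φ').op).hom σ := by
        rw [op_comp, Functor.map_comp]; rfl
      rw [e1, EtOver.pullback_condition, ← e2, hφ', map_zero]
  refine ⟨⟨Wset, hWo⟩, part1, fun p hp l => ?_⟩
  rw [stalkEtι_eq_zero_iff X F p hp U l σ]
  constructor
  · rintro ⟨V, φ, l', hl', hφ⟩
    refine ⟨V, φ, hφ, l'.1.left (IsLocalRing.closedPoint p.K), ?_⟩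
    rw [← hl']
    rfl
  · rintro ⟨V, φ, hφ, hv⟩
    have hv' : l.1.left (default : Spec (CommRingCat.of p.K)) ∈ Set.range φ.hom.left.left := by
      rwa [Subsingleton.elim (default : Spec (CommRingCat.of p.K)) (IsLocalRing.closedPoint p.K)]
    obtain ⟨l', hl'⟩ := exists_lift_through p hp φ l hv'
    exact ⟨V, φ, l', hl', hφ⟩

end Groth.Agent.H51
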