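import Groth.Agent.H51.EtLiftSp
import Groth.Agent.H51.SpEtGerm
import Groth.Agent.H51.SpEtLocRinged
import Groth.Agent.H53.ElemDist

/-!
# Equalizers of morphisms out of base changes along a closed immersion come from opens
-/

set_option autoImplicit false
set_option backward.isDefEq.respectTransparency false
universe u
open CategoryTheory CategoryTheory.Limits AlgebraicGeometry Opposite MorphismProperty

namespace Groth.Agent.H51
open AlgSp

variable {S : Scheme.{u}} {Z X : AlgSp.Space S} (i : Z ⟶ X)
  (hi : AlgSp.RepWith @IsClosedImmersion i.hom)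

/-- The closed immersion `U ×_X Z ⟶ U`. -/
theorem isClosedImmersion_bcπ (U : EtOver X.obj) :
    IsClosedImmersion (hi.1.snd U.obj.hom).left :=
  hi.2 _ _ _ (hi.1.isPullback U.obj.hom)

/-- The base change of an open of `U` is the preimage of the open. -/
theorem mem_range_bc_ofOpenι (U : EtOver X.obj) (O : U.obj.left.left.Opens)
    (t : ((EtOver.bc hi.1).obj U).obj.left.left) (ht : (hi.1.snd U.obj.hom).left t ∈ O) :
    t ∈ Set.range ((EtOver.bc hi.1).map (EtOver.ofOpenι U O)).hom.left.left := by
  have sq := EtOver.isPullback_bcMap_left hi.1 (EtOver.ofOpenι U O)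
  obtain ⟨a, ha, -⟩ := exists_of_isPullback_scheme' sq t (⟨_, ht⟩ : O.toScheme) rfl
  exact ⟨a, ha⟩

theorem bcπ_bc_ofOpenι_mem (U : EtOver X.obj) (O : U.obj.left.left.Opens)
    (y : ((EtOver.bc hi.1).obj (EtOver.ofOpen U O)).obj.left.left) :
    (hi.1.snd U.obj.hom).left
      (((EtOver.bc hi.1).map (EtOver.ofOpenι U O)).hom.left.left y) ∈ O := by
  have sq := EtOver.isPullback_bcMap_left hi.1 (EtOver.ofOpenι U O)
  have hw := congr($(sq.w) y)
  rw [Scheme.Hom.comp_apply, Scheme.Hom.comp_apply] at hw
  exact Set.mem_of_eq_of_mem hw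
    (((hi.1.snd (EtOver.ofOpen U O).obj.hom).left y : O.toScheme)).2

/-- **Equalizers come from opens.** -/
theorem exists_open_equalizer (U : EtOver X.obj) (V : EtOver Z.obj)
    (s s' : (EtOver.bc hi.1).obj U ⟶ V) :
    ∃ O : U.obj.left.left.Opens,
      (EtOver.bc hi.1).map (EtOver.ofOpenι U O) ≫ s =
        (EtOver.bc hi.1).map (EtOver.ofOpenι U O) ≫ s' ∧
      ∀ (Y : Scheme.{u}) (τ : Y ⟶ ((EtOver.bc hi.1).obj U).obj.left.left),
        τ ≫ s.hom.left.left = τ ≫ s'.hom.left.left →
          ∀ y : Y, (hi.1.snd U.obj.hom).left (τ y) ∈ O := by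
  let Q : Over S := ((EtOver.bc hi.1).obj U).obj.left
  let V₀ : Over S := V.obj.left
  have hV₀ : IsAlgSpace ((yon S).obj V₀) := IsAlgSpace.yon_obj V₀
  have hΔ : RepWith @IsOpenImmersion (pullback.diagonal V.obj.hom) :=
    Groth.Agent.H53.repWith_isOpenImmersion_diagonal hV₀ V.obj.hom
      (isEtaleMor_of_repWith _ V.property)
  let pair : (yon S).obj Q ⟶ pullback V.obj.hom V.obj.hom :=
    pullback.lift ((yon S).map s.hom.left) ((yon S).map s'.hom.left)
      (by rw [EtOver.w s, EtOver.w s'])
  let E : Over S := hΔ.rep.pullback pair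
  let ε : E ⟶ Q := hΔ.rep.snd pair
  let φ : (yon S).obj E ⟶ (yon S).obj V₀ := hΔ.rep.fst pair
  have sqE : IsPullback φ ((yon S).map ε) (pullback.diagonal V.obj.hom) pair :=
    hΔ.rep.isPullback pair
  haveI hε : IsOpenImmersion ε.left := hΔ.property _ _ _ sqE
  have heq : ε ≫ s.hom.left = ε ≫ s'.hom.left := by
    apply (yon S).map_injective
    rw [Functor.map_comp, Functor.map_comp]
    have h1 : (yon S).map ε ≫ (yon S).map s.hom.left = φ := by
      have := congrArg (· ≫ pullback.fst V.obj.hom V.obj.hom) sqE.w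
      simp only [Category.assoc, pullback.diagonal_fst, pullback.lift_fst, pair,
        Category.comp_id] at this
      exact this.symm
    have h2 : (yon S).map ε ≫ (yon S).map s'.hom.left = φ := by
      have := congrArg (· ≫ pullback.snd V.obj.hom V.obj.hom) sqE.w
      simp only [Category.assoc, pullback.diagonal_snd, pullback.lift_snd, pair,
        Category.comp_id] at this
      exact this.symm
    rw [h1, h2]
  -- universal property of `E`
  have huniv : ∀ (Y : Scheme.{u}) (τ : Y ⟶ Q.left),
      τ ≫ s.hom.left.left = τ ≫ s'.hom.left.left → ∀ y : Y, τ y ∈ Set.range ε.left := by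
    intro Y τ hτ y
    let Y' : Over S := Over.mk (τ ≫ Q.hom)
    let τ' : Y' ⟶ Q := Over.homMk τ rfl
    have hτ' : τ' ≫ s.hom.left = τ' ≫ s'.hom.left := Over.OverMorphism.ext hτ
    have hcomm : (yon S).map (τ' ≫ s.hom.left) ≫ pullback.diagonal V.obj.hom =
        (yon S).map τ' ≫ pair := by
      apply pullback.hom_ext
      · simp only [Category.assoc, pullback.diagonal_fst, pullback.lift_fst, pair,
          Category.comp_id, Functor.map_comp]
      · simp only [Category.assoc, pullback.diagonal_snd, pullback.lift_snd, pair,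
          Category.comp_id]
        rw [hτ', Functor.map_comp]
    obtain ⟨k, hk⟩ := (yon S).map_surjective (sqE.lift _ _ hcomm)
    have hkε : k ≫ ε = τ' := by
      apply (yon S).map_injective
      rw [Functor.map_comp, hk, sqE.lift_snd]
    refine ⟨k.left y, ?_⟩
    have : (k ≫ ε).left y = τ'.left y := by rw [hkε]
    exact this
  -- the open
  haveI hc : IsClosedImmersion (hi.1.snd U.obj.hom).left := isClosedImmersion_bcπ i hi U
  let c : Q.left ⟶ U.obj.left.left := (hi.1.snd U.obj.hom).left
  have hopen : IsOpen (Set.range ε.left) := ε.left.isOpenEmbedding.isOpen_range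
  have hclosed : IsClosed (c '' (Set.range ε.left)ᶜ) :=
    c.isClosedEmbedding.isClosedMap _ hopen.isClosed_compl
  let O : U.obj.left.left.Opens := ⟨(c '' (Set.range ε.left)ᶜ)ᶜ, hclosed.isOpen_compl⟩
  have hO : ∀ t : Q.left, c t ∈ O ↔ t ∈ Set.range ε.left := by
    intro t
    constructor
    · intro h
      by_contra hn
      exact h ⟨t, hn, rfl⟩
    · rintro h ⟨t', ht', htt'⟩
      have : t' = t := c.isClosedEmbedding.injective htt'
      exact ht' (this ▸ h)
  refine ⟨O, ?_, fun Y τ hτ y => (hO _).2 (huniv Y τ hτ y)⟩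
  let b : ((EtOver.bc hi.1).obj (EtOver.ofOpen U O)).obj.left.left ⟶ Q.left :=
    ((EtOver.bc hi.1).map (EtOver.ofOpenι U O)).hom.left.left
  have hb : Set.range b ⊆ Set.range ε.left := by
    rintro _ ⟨y, rfl⟩
    exact (hO _).1 (bcπ_bc_ofOpenι_mem i hi U O y)
  have hfac : IsOpenImmersion.lift ε.left b hb ≫ ε.left = b := IsOpenImmersion.lift_fac _ _ _
  have heq' : ε.left ≫ s.hom.left.left = ε.left ≫ s'.hom.left.left :=
    congrArg (fun k => k.left) heq
  apply EtOver.hom_ext
  apply Over.OverMorphism.ext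
  change b ≫ s.hom.left.left = b ≫ s'.hom.left.left
  rw [← hfac, Category.assoc, Category.assoc, heq']

end Groth.Agent.H51
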