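import Groth.Agent.H51.EtLiftAlg
import Mathlib.Algebra.Category.Ring.Constructions
import Mathlib.RingTheory.Smooth.Locus
import Mathlib.RingTheory.Unramified.LocalStructure
import Mathlib.RingTheory.TensorProduct.MvPolynomial

/-!
# Lifting smooth algebras along a surjection, locally (pushout form)
-/

set_option autoImplicit false
universe u
open Polynomial TensorProduct CategoryTheory CategoryTheory.Limits

namespace Groth.Agent.H51.EtLift

variable {A Abar : Type u} [CommRing A] [CommRing Abar] [Algebra A Abar]

/-- Pushout form of `exists_etale_lift`. -/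
theorem exists_etale_lift_pushout (hs : Function.Surjective (algebraMap A Abar))
    (Bbar : Type u) [CommRing Bbar] [Algebra Abar Bbar] [Algebra.Etale Abar Bbar]
    (q : Ideal Bbar) [q.IsPrime] :
    ∃ (gbar : Bbar) (_ : gbar ∉ q) (B : Type u) (_ : CommRing B) (_ : Algebra A B)
      (_ : Algebra.Etale A B) (ψ : B →+* Localization.Away gbar),
      IsPushout (CommRingCat.ofHom (algebraMap A Abar)) (CommRingCat.ofHom (algebraMap A B))
        (CommRingCat.ofHom (algebraMap Abar (Localization.Away gbar))) (CommRingCat.ofHom ψ) := by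
  obtain ⟨gbar, hg, B, i1, i2, i3, ⟨eq⟩⟩ := exists_etale_lift hs Bbar q
  let C : Type u := Localization.Away gbar
  let ψ : B →+* C := (eq : Abar ⊗[A] B →+* C).comp
    (Algebra.TensorProduct.includeRight (R := A) (A := Abar) (B := B)).toRingHom
  refine ⟨gbar, hg, B, i1, i2, i3, ψ, ?_⟩
  refine (CommRingCat.isPushout_tensorProduct A Abar B).of_iso (Iso.refl _)
    (Iso.refl _) (Iso.refl _) eq.toRingEquiv.toCommRingCatIso (by simp) (by simp) ?_ ?_
  · ext x
    change eq (x ⊗ₜ 1) = algebraMap Abar C x
    have h := eq.commutes x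
    rw [Algebra.TensorProduct.algebraMap_apply] at h
    exact h
  · ext x
    rfl


/-- Polynomial rings are compatible with base change (pushout form). -/
theorem isPushout_mvPolynomial (σ : Type) :
    IsPushout (CommRingCat.ofHom (algebraMap A Abar))
      (CommRingCat.ofHom (MvPolynomial.C : A →+* MvPolynomial σ A))
      (CommRingCat.ofHom (MvPolynomial.C : Abar →+* MvPolynomial σ Abar))
      (CommRingCat.ofHom (MvPolynomial.map (σ := σ) (algebraMap A Abar))) := by
  refine (CommRingCat.isPushout_tensorProduct A Abar (MvPolynomial σ A)).of_iso (Iso.refl _)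
    (Iso.refl _) (Iso.refl _)
    (MvPolynomial.algebraTensorAlgEquiv (σ := σ) A Abar).toRingEquiv.toCommRingCatIso
    (by simp) (by ext; simp [MvPolynomial.algebraMap_eq]) ?_ ?_
  · apply CommRingCat.hom_ext
    apply RingHom.ext
    intro x
    change MvPolynomial.algebraTensorAlgEquiv A Abar (x ⊗ₜ 1) = MvPolynomial.C x
    rw [MvPolynomial.algebraTensorAlgEquiv_tmul]
    simp [MvPolynomial.smul_eq_C_mul]
  · apply CommRingCat.hom_ext
    apply RingHom.ext
    intro x
    change MvPolynomial.algebraTensorAlgEquiv A Abar (1 ⊗ₜ x) = MvPolynomial.map _ x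
    rw [MvPolynomial.algebraTensorAlgEquiv_tmul, one_smul]


/-- **Local lifting of smooth algebras along a surjection** (pushout form). -/
theorem exists_smooth_lift_pushout (hs : Function.Surjective (algebraMap A Abar))
    (Bbar : Type u) [CommRing Bbar] [Algebra Abar Bbar] [Algebra.Smooth Abar Bbar]
    (q : Ideal Bbar) [q.IsPrime] :
    ∃ (gbar : Bbar) (_ : gbar ∉ q) (B : Type u) (_ : CommRing B) (_ : Algebra A B)
      (_ : Algebra.Smooth A B) (C : Type u) (_ : CommRing C) (_ : Algebra Bbar C)
      (_ : IsLocalization.Away gbar C) (ψ : B →+* C),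
      IsPushout (CommRingCat.ofHom (algebraMap A Abar)) (CommRingCat.ofHom (algebraMap A B))
        (CommRingCat.ofHom ((algebraMap Bbar C).comp (algebraMap Abar Bbar)))
        (CommRingCat.ofHom ψ) := by
  haveI : Algebra.IsSmoothAt Abar q :=
    (inferInstance : Algebra.FormallySmooth Abar (Localization q.primeCompl))
  obtain ⟨f, hfq, n, alg, tower, hstd⟩ :=
    Algebra.IsSmoothAt.exists_isStandardEtale_mvPolynomial (R := Abar) (p := q)
  letI algA' : Algebra (MvPolynomial (Fin n) A) (MvPolynomial (Fin n) Abar) :=
    (MvPolynomial.map (algebraMap A Abar)).toAlgebra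
  have hs' : Function.Surjective
      (algebraMap (MvPolynomial (Fin n) A) (MvPolynomial (Fin n) Abar)) :=
    MvPolynomial.map_surjective _ hs
  haveI hq' : (q.map (algebraMap Bbar (Localization.Away f))).IsPrime :=
    IsLocalization.isPrime_of_isPrime_disjoint (.powers f) _ _ ‹_›
      ((Ideal.disjoint_powers_iff_notMem_of_isPrime _).mpr hfq)
  obtain ⟨g₀, hg₀, B, iB1, iB2, iB3, ψ, hpo⟩ :=
    exists_etale_lift_pushout (A := MvPolynomial (Fin n) A) (Abar := MvPolynomial (Fin n) Abar)
      hs' (Localization.Away f) (q.map (algebraMap Bbar (Localization.Away f)))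
  obtain ⟨g, ⟨_, m, rfl⟩, hg⟩ := IsLocalization.exists_mk'_eq (.powers f) g₀
  have hgq : g ∉ q := by
    simpa [Submonoid.mem_powers_iff, Ideal.IsPrime.mul_mem_iff_mem_or_mem,
      IsLocalization.mk'_mem_map_algebraMap_iff, mt (‹q.IsPrime›.mem_of_pow_mem _) hfq,
      ← hg] using hg₀
  haveI hloc : IsLocalization.Away (f * g) (Localization.Away g₀) := by
    suffices IsLocalization.Away (algebraMap _ (Localization.Away f) g) (Localization.Away g₀) from
      .mul' (Localization.Away f) _ _ _
    refine IsLocalization.Away.of_associated (r := g₀)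
      ⟨(IsLocalization.Away.algebraMap_pow_isUnit f m).unit, ?_⟩
    simp only [← hg, IsUnit.unit_spec, ← map_pow, mul_comm, IsLocalization.mk'_spec'_mk]
  letI algAB : Algebra A B :=
    ((algebraMap (MvPolynomial (Fin n) A) B).comp MvPolynomial.C).toAlgebra
  haveI : IsScalarTower A (MvPolynomial (Fin n) A) B := IsScalarTower.of_algebraMap_eq' rfl
  haveI : Algebra.Smooth A (MvPolynomial (Fin n) A) := ⟨inferInstance, inferInstance⟩
  haveI : Algebra.Smooth (MvPolynomial (Fin n) A) B := inferInstance
  have hsm : Algebra.Smooth A B := Algebra.Smooth.comp A (MvPolynomial (Fin n) A) B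
  refine ⟨f * g, ‹q.IsPrime›.mul_notMem hfq hgq, B, iB1, algAB, hsm, Localization.Away g₀,
    inferInstance, inferInstance, hloc, ψ, ?_⟩
  have hpaste := (isPushout_mvPolynomial (A := A) (Abar := Abar) (Fin n)).paste_vert hpo
  have e1 : CommRingCat.ofHom (algebraMap A B) =
      CommRingCat.ofHom (MvPolynomial.C : A →+* MvPolynomial (Fin n) A) ≫
        CommRingCat.ofHom (algebraMap (MvPolynomial (Fin n) A) B) := rfl
  have e2 : CommRingCat.ofHom ((algebraMap Bbar (Localization.Away g₀)).comp
        (algebraMap Abar Bbar)) =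
      CommRingCat.ofHom (MvPolynomial.C : Abar →+* MvPolynomial (Fin n) Abar) ≫
        CommRingCat.ofHom (algebraMap (MvPolynomial (Fin n) Abar) (Localization.Away g₀)) := by
    apply CommRingCat.hom_ext
    apply RingHom.ext
    intro a
    change algebraMap Bbar (Localization.Away g₀) (algebraMap Abar Bbar a) =
      algebraMap (MvPolynomial (Fin n) Abar) (Localization.Away g₀) (MvPolynomial.C a)
    rw [IsScalarTower.algebraMap_apply Bbar (Localization.Away f) (Localization.Away g₀),
      ← IsScalarTower.algebraMap_apply Abar Bbar (Localization.Away f),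
      IsScalarTower.algebraMap_apply (MvPolynomial (Fin n) Abar) (Localization.Away f)
        (Localization.Away g₀),
      IsScalarTower.algebraMap_apply Abar (MvPolynomial (Fin n) Abar) (Localization.Away f)]
    rfl
  rw [e1, e2]
  exact hpaste

end Groth.Agent.H51.EtLift
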