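import Groth.Agent.H51.EtLiftSmoothAlg
import Groth.Agent.H51.EtLiftSch
import Mathlib.AlgebraicGeometry.Morphisms.Smooth

/-!
# Smooth neighbourhoods lift along closed immersions (schemes)
-/

set_option autoImplicit false
universe u
open CategoryTheory CategoryTheory.Limits AlgebraicGeometry TensorProduct

namespace Groth.Agent.H51.EtLift

/-- Affine case. -/
theorem exists_smooth_lift_affine {W Z₀ V' : Scheme.{u}} [IsAffine W] [IsAffine Z₀]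
    (j : Z₀ ⟶ W) [IsClosedImmersion j] (e : V' ⟶ Z₀) [Smooth e] (v' : V') :
    ∃ (U₀ : Scheme.{u}) (g : U₀ ⟶ W) (_ : Smooth g) (P : Scheme.{u}) (p₁ : P ⟶ U₀) (p₂ : P ⟶ Z₀)
      (_ : IsPullback p₁ p₂ g j) (o : P ⟶ V'), o ≫ e = p₂ ∧ v' ∈ Set.range o := by
  obtain ⟨V₁, hV₁, hv'V₁, -⟩ := exists_isAffineOpen_mem_and_subset (x := v') (U := ⊤) trivial
  have hle : V₁ ≤ e ⁻¹ᵁ ⊤ := fun _ _ => trivial
  -- the rings
  let φ : Γ(W, ⊤) ⟶ Γ(Z₀, ⊤) := j.appTop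
  let χ : Γ(Z₀, ⊤) ⟶ Γ(V', V₁) := e.appLE ⊤ V₁ hle
  have hφ : Function.Surjective φ.hom :=
    (IsClosedImmersion.isAffine_surjective_of_isAffine (f := j)).2
  have hχ : χ.hom.Smooth :=
    HasRingHomProperty.appLE (P := @Smooth) e inferInstance ⟨⊤, isAffineOpen_top Z₀⟩ ⟨V₁, hV₁⟩ hle
  letI algφ : Algebra Γ(W, ⊤) Γ(Z₀, ⊤) := φ.hom.toAlgebra
  letI algχ : Algebra Γ(Z₀, ⊤) Γ(V', V₁) := χ.hom.toAlgebra
  haveI : Algebra.Smooth Γ(Z₀, ⊤) Γ(V', V₁) := hχ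
  let q : PrimeSpectrum Γ(V', V₁) := hV₁.primeIdealOf ⟨v', hv'V₁⟩
  obtain ⟨gbar, hg, B, i1, i2, i3, C, i4, i5, i6, ψ, hpush⟩ :=
    exists_smooth_lift_pushout (A := Γ(W, ⊤)) (Abar := Γ(Z₀, ⊤)) hφ Γ(V', V₁) q.asIdeal
  have hpb := (isPullback_SpecMap_of_isPushout _ _ _ _ hpush).flip
  have hφeq : CommRingCat.ofHom (algebraMap Γ(W, ⊤) Γ(Z₀, ⊤)) = φ := rfl
  rw [hφeq] at hpb
  -- the bottom square of isomorphisms
  have hbot : IsPullback (Spec.map φ) Z₀.isoSpec.inv W.isoSpec.inv j :=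
    IsPullback.of_vert_isIso ⟨Scheme.isoSpec_inv_naturality j⟩
  have hbig := hpb.paste_vert hbot
  have hg_sm : Smooth (Spec.map (CommRingCat.ofHom (algebraMap Γ(W, ⊤) B)) ≫ W.isoSpec.inv) := by
    haveI : Smooth (Spec.map (CommRingCat.ofHom (algebraMap Γ(W, ⊤) B))) :=
      (HasRingHomProperty.Spec_iff (P := @Smooth)).2 (RingHom.smooth_algebraMap.2 i3)
    infer_instance
  refine ⟨Spec (CommRingCat.of B), _, hg_sm, Spec (CommRingCat.of C), _, _, hbig,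
    Spec.map (CommRingCat.ofHom (algebraMap Γ(V', V₁) C)) ≫ hV₁.fromSpec, ?_, ?_⟩
  · rw [Category.assoc, ← IsAffineOpen.SpecMap_appLE_fromSpec e (isAffineOpen_top Z₀) hV₁ hle,
      IsAffineOpen.fromSpec_top, ← Category.assoc, ← Spec.map_comp]
    congr 2
  · have h1 : q ∈ Set.range (PrimeSpectrum.comap (algebraMap Γ(V', V₁) C)) := by
      rw [PrimeSpectrum.localization_away_comap_range C gbar]
      exact hg
    obtain ⟨c, hc⟩ := h1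
    refine ⟨c, ?_⟩
    rw [Scheme.Hom.comp_apply]
    have h2 : (Spec.map (CommRingCat.ofHom (algebraMap Γ(V', V₁) C))) c = q := hc
    rw [h2]
    exact hV₁.fromSpec_primeIdealOf ⟨v', hv'V₁⟩

/-- **Smooth neighbourhoods lift along closed immersions of schemes.** -/
theorem exists_smooth_lift_sch {W Z₀ V' : Scheme.{u}}
    (j : Z₀ ⟶ W) [IsClosedImmersion j] (e : V' ⟶ Z₀) [Smooth e] (v' : V') :
    ∃ (U₀ : Scheme.{u}) (g : U₀ ⟶ W) (_ : Smooth g) (P : Scheme.{u}) (p₁ : P ⟶ U₀) (p₂ : P ⟶ Z₀)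
      (_ : IsPullback p₁ p₂ g j) (o : P ⟶ V'), o ≫ e = p₂ ∧ v' ∈ Set.range o := by
  obtain ⟨W₁, hW₁, hwW₁, -⟩ := exists_isAffineOpen_mem_and_subset (x := j (e v')) (U := ⊤) trivial
  haveI : IsAffine W₁.toScheme := hW₁
  haveI : IsAffine (j ⁻¹ᵁ W₁).toScheme := hW₁.preimage j
  have hv'₁ : v' ∈ e ⁻¹ᵁ (j ⁻¹ᵁ W₁) := hwW₁
  haveI : Smooth (e ∣_ (j ⁻¹ᵁ W₁)) := inferInstance
  obtain ⟨U₀, g₁, hg₁, P, p₁, p₂, hpb, o₁, ho₁, hv₁⟩ :=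
    exists_smooth_lift_affine (j ∣_ W₁) (e ∣_ (j ⁻¹ᵁ W₁)) ⟨v', hv'₁⟩
  refine ⟨U₀, g₁ ≫ W₁.ι, inferInstance, P, p₁, p₂ ≫ (j ⁻¹ᵁ W₁).ι,
    hpb.paste_vert (isPullback_morphismRestrict j W₁), o₁ ≫ (e ⁻¹ᵁ (j ⁻¹ᵁ W₁)).ι, ?_, ?_⟩
  · rw [Category.assoc, ← morphismRestrict_ι, ← Category.assoc, ho₁]
  · obtain ⟨c, hc⟩ := hv₁
    refine ⟨c, ?_⟩
    rw [Scheme.Hom.comp_apply, hc]
    rfl

end Groth.Agent.H51.EtLift
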