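import Groth.Agent.H51.EtLiftSch
import Groth.Agent.H51.SpBasic
import Groth.Prelude.Def_AlgSpOX2

/-!
# Étale neighbourhoods lift along closed immersions (algebraic spaces)

For a closed immersion `i : Z ⟶ X`, every object `V` of the small étale site of `Z` is covered
by base changes of objects of the small étale site of `X`.
-/

set_option autoImplicit false
set_option backward.isDefEq.respectTransparency false
universe u
open CategoryTheory CategoryTheory.Limits AlgebraicGeometry Opposite MorphismProperty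

namespace Groth.Agent.H51
open AlgSp

variable {S : Scheme.{u}} {Z X : AlgSp.Space S} (i : Z ⟶ X)
  (hi : AlgSp.RepWith @IsClosedImmersion i.hom)

/-- **Key lemma**: every point of an étale `Z`-scheme lies in the image of a morphism from the
base change of an étale `X`-scheme. -/
theorem exists_bc_hom (V : EtOver Z.obj) (v : V.obj.left.left) :
    ∃ (U : EtOver X.obj) (ψ : (EtOver.bc hi.1).obj U ⟶ V), v ∈ Set.range ψ.hom.left.left := by
  obtain ⟨W, a, hae, has⟩ := X.property.atlas
  -- the induced chart of `Z`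
  let WZ : Over S := hi.1.pullback a
  let q : (yon S).obj WZ ⟶ Z.obj := hi.1.fst a
  let j : WZ ⟶ W := hi.1.snd a
  have sq₁ : IsPullback q ((yon S).map j) i.hom a := hi.1.isPullback a
  have hq : RepWith @Etale q := (RepWith @Etale).of_isPullback sq₁.flip hae
  have hqs : RepWith @Surjective q := (RepWith @Surjective).of_isPullback sq₁.flip has
  haveI hj : IsClosedImmersion j.left := hi.2 _ _ _ sq₁
  -- `V' = V ×_Z WZ`
  let V' : Over S := V.property.rep.pullback q
  let r : V' ⟶ V.obj.left := V.property.rep.fst' q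
  let e : V' ⟶ WZ := V.property.rep.snd q
  have sq₂ : IsPullback ((yon S).map r) ((yon S).map e) V.obj.hom q := V.property.rep.isPullback' q
  haveI he : Etale e.left := V.property.property _ _ _ sq₂
  have hr : Surjective r.left := hqs.property _ _ _ sq₂.flip
  obtain ⟨v', hv'⟩ := hr.surj v
  obtain ⟨U₀, g, hg, P, p₁, p₂, hpb, o, ho, hv⟩ := EtLift.exists_etale_lift_sch j.left e.left v'
  -- the étale `X`-scheme
  let U₀' : Over S := Over.mk (g ≫ W.hom)
  let g' : U₀' ⟶ W := Over.homMk g rfl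
  have hg' : RepWith @Etale ((yon S).map g') := (repWith_yon_map_iff _ _).2 hg
  let U : EtOver X.obj := EtOver.mk ((yon S).map g' ≫ a)
    ((repWith_isMultiplicative (S := S) @Etale).comp_mem _ _ hg' hae)
  let Wobj : EtOver X.obj := EtOver.mk a hae
  let g'' : U ⟶ Wobj := EtOver.homMk g' rfl
  let Q : Over S := ((EtOver.bc hi.1).obj U).obj.left
  let β : Q ⟶ WZ := (EtOver.bcMap hi.1 g'').hom.left
  let σ : Q ⟶ U₀' := hi.1.snd U.obj.hom
  have sqQ : IsPullback β.left σ.left j.left g := EtOver.isPullback_bcMap_left hi.1 g''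
  let ℓ : Q.left ⟶ P := hpb.lift σ.left β.left sqQ.w.symm
  have hℓ₁ : ℓ ≫ p₁ = σ.left := hpb.lift_fst _ _ _
  have hℓ₂ : ℓ ≫ p₂ = β.left := hpb.lift_snd _ _ _
  -- the morphism `Q ⟶ V'`
  have hw : (ℓ ≫ o) ≫ V'.hom = Q.hom := by
    have h1 : e.left ≫ WZ.hom = V'.hom := Over.w e
    have h2 : β.left ≫ WZ.hom = Q.hom := Over.w β
    rw [← h1, ← h2, ← hℓ₂, Category.assoc, Category.assoc, ← ho, Category.assoc]
  let t : Q ⟶ V' := Over.homMk (ℓ ≫ o) hw
  have hte : t ≫ e = β := by
    apply Over.OverMorphism.ext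
    change (ℓ ≫ o) ≫ e.left = β.left
    rw [Category.assoc, ho, hℓ₂]
  have hZ : (yon S).map (t ≫ r) ≫ V.obj.hom = ((EtOver.bc hi.1).obj U).obj.hom := by
    rw [Functor.map_comp, Category.assoc, sq₂.w, ← Category.assoc, ← Functor.map_comp, hte]
    exact EtOver.map_bcMap_fst hi.1 g''
  refine ⟨U, EtOver.homMk (t ≫ r) hZ, ?_⟩
  -- surjectivity onto `v`
  obtain ⟨p₀, hp₀⟩ := hv
  let κ : P ⟶ Q.left := sqQ.lift p₂ p₁ hpb.w.symm
  have hκ : κ ≫ ℓ = 𝟙 P := by
    apply hpb.hom_ext
    · rw [Category.assoc, hℓ₁, Category.id_comp]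
      exact sqQ.lift_snd _ _ _
    · rw [Category.assoc, hℓ₂, Category.id_comp]
      exact sqQ.lift_fst _ _ _
  refine ⟨κ p₀, ?_⟩
  change (ℓ ≫ o ≫ r.left) (κ p₀) = v
  rw [← Scheme.Hom.comp_apply, ← Category.assoc, ← Category.assoc, hκ, Category.id_comp,
    Scheme.Hom.comp_apply, hp₀, hv']

end Groth.Agent.H51
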