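import Groth.Agent.H51.SpEtSupport2
import Groth.Agent.H51.SpEtLocRinged
import Groth.Prelude.Def_EtBase
import Mathlib.RingTheory.Etale.StandardEtale

set_option autoImplicit false
universe u
open CategoryTheory CategoryTheory.Limits AlgebraicGeometry Opposite MorphismProperty

namespace Groth.Agent.H51
open AlgSp Groth.Agent.H52

variable {S : Scheme.{u}} (X : AlgSp.Space S) (p : FieldPt X.obj)

/-- Evaluation of functions on an étale neighbourhood at the lifted point. -/
noncomputable def evRing (U : EtOver X.obj) (l : (FieldPt.liftsTo p).obj U) :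
    Γ(U.obj.left.left, ⊤) →+* p.K :=
  (Scheme.ΓSpecIso (CommRingCat.of p.K)).hom.hom.comp l.1.left.appTop.hom

theorem evRing_map {U' U : EtOver X.obj} (f : U' ⟶ U) (l' : (FieldPt.liftsTo p).obj U')
    (s : Γ(U.obj.left.left, ⊤)) :
    evRing X p U' l' (f.hom.left.left.appTop.hom s) =
      evRing X p U ((FieldPt.liftsTo p).map f l') s := by
  change (Scheme.ΓSpecIso (CommRingCat.of p.K)).hom.hom
      (l'.1.left.appTop.hom (f.hom.left.left.appTop.hom s)) =
    (Scheme.ΓSpecIso (CommRingCat.of p.K)).hom.hom ((l'.1 ≫ f.hom.left).left.appTop.hom s)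
  rw [Over.comp_left, Scheme.Hom.comp_appTop]
  rfl

/-- Evaluation on sections of the structure sheaf. -/
noncomputable def evAt (U : EtOver X.obj) (l : (FieldPt.liftsTo p).obj U) :
    (OEt X.obj).obj.obj (op U) ⟶ CommRingCat.of (ULift.{u + 1} p.K) :=
  CommRingCat.ofHom ((ULift.ringEquiv.{u, u + 1} (R := p.K)).symm.toRingHom.comp
    ((evRing X p U l).comp (ULift.ringEquiv.{u, u + 1} (R := Γ(U.obj.left.left, ⊤))).toRingHom))

theorem evAt_apply (U : EtOver X.obj) (l : (FieldPt.liftsTo p).obj U)
    (s : (OEt X.obj).obj.obj (op U)) :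
    (evAt X p U l).hom s = ULift.up (evRing X p U l s.down) := rfl

theorem evAt_naturality {U' U : EtOver X.obj} (f : U' ⟶ U) (l' : (FieldPt.liftsTo p).obj U') :
    (OEt X.obj).obj.map f.op ≫ evAt X p U' l' = evAt X p U ((FieldPt.liftsTo p).map f l') := by
  ext s
  change evRing X p U' l' (f.hom.left.left.appTop.hom s.down) = evRing X p U _ s.down
  rw [evRing_map]

end Groth.Agent.H51

namespace Groth.Agent.H51
open AlgSp Groth.Agent.H52
variable {S : Scheme.{u}} (X : AlgSp.Space S) (p : FieldPt X.obj) (hp : p.IsGeometric)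

/-- The map from the étale local ring to the field of the geometric point. -/
noncomputable def evStalk : OEtStalk p ⟶ CommRingCat.of (ULift.{u + 1} p.K) :=
  haveI := hasColimitsOfSize_commRing.{u}
  (geomPoint X p hp).presheafFiberDesc (P := (OEt X.obj).obj) (fun U l => evAt X p U l)
    (fun _ _ f l' => evAt_naturality X p f l')

/-- The canonical map from sections on a neighbourhood to the stalk. -/
noncomputable def germEt (U : EtOver X.obj) (l : (FieldPt.liftsTo p).obj U) :
    (OEt X.obj).obj.obj (op U) ⟶ OEtStalk p :=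
  haveI := hasColimitsOfSize_commRing.{u}
  (geomPoint X p hp).toPresheafFiber U l (OEt X.obj).obj

theorem germEt_evStalk (U : EtOver X.obj) (l : (FieldPt.liftsTo p).obj U) :
    germEt X p hp U l ≫ evStalk X p hp = evAt X p U l := by
  haveI := hasColimitsOfSize_commRing.{u}
  exact (geomPoint X p hp).toPresheafFiber_presheafFiberDesc _ _ U l

theorem evStalk_germEt_apply (U : EtOver X.obj) (l : (FieldPt.liftsTo p).obj U)
    (s : (OEt X.obj).obj.obj (op U)) :
    (evStalk X p hp).hom ((germEt X p hp U l).hom s) = ULift.up (evRing X p U l s.down) := by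
  have := congrArg (fun φ => φ.hom s) (germEt_evStalk X p hp U l)
  exact this

theorem germEt_w {U' U : EtOver X.obj} (f : U' ⟶ U) (l' : (FieldPt.liftsTo p).obj U') :
    (OEt X.obj).obj.map f.op ≫ germEt X p hp U' l' =
      germEt X p hp U ((FieldPt.liftsTo p).map f l') := by
  haveI := hasColimitsOfSize_commRing.{u}
  exact (geomPoint X p hp).toPresheafFiber_w f l' (OEt X.obj).obj

theorem germEt_jointly_surjective (a : OEtStalk p) :
    ∃ (U : EtOver X.obj) (l : (FieldPt.liftsTo p).obj U) (s : (OEt X.obj).obj.obj (op U)),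
      (germEt X p hp U l).hom s = a := by
  haveI := hasColimitsOfSize_commRing.{u}
  haveI := preservesFilteredColimits_forget_commRing.{u}
  exact (geomPoint X p hp).toPresheafFiber_jointly_surjective (P := (OEt X.obj).obj) a

end Groth.Agent.H51

namespace Groth.Agent.H51
open AlgSp Groth.Agent.H52
variable {S : Scheme.{u}} (X : AlgSp.Space S) (p : FieldPt X.obj) (hp : p.IsGeometric)

/-- A lift of the point to `U` whose image lies in the open `W` lifts to `W`. -/
theorem exists_lift_ofOpen (U : EtOver X.obj) (l : (FieldPt.liftsTo p).obj U)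
    (W : U.obj.left.left.Opens) (hW : Set.range l.1.left ⊆ (W : Set _)) :
    ∃ l' : (FieldPt.liftsTo p).obj (EtOver.ofOpen U W),
      (FieldPt.liftsTo p).map (EtOver.ofOpenι U W) l' = l := by
  have hrange : Set.range l.1.left ⊆ Set.range W.ι := by rwa [Scheme.Opens.range_ι]
  let y : Spec (CommRingCat.of p.K) ⟶ W.toScheme := IsOpenImmersion.lift W.ι l.1.left hrange
  have hy : y ≫ W.ι = l.1.left := IsOpenImmersion.lift_fac _ _ _
  let y' : p.pt ⟶ (EtOver.ofOpen U W).obj.left := Over.homMk y (by
    change y ≫ W.ι ≫ U.obj.left.hom = p.str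
    rw [← Category.assoc, hy]
    exact Over.w l.1)
  have hy' : y' ≫ (EtOver.ofOpenι U W).hom.left = l.1 := Over.OverMorphism.ext hy
  refine ⟨⟨y', ?_⟩, Subtype.ext hy'⟩
  rw [← EtOver.w (EtOver.ofOpenι U W), ← Category.assoc, ← Functor.map_comp, hy']
  exact l.2

theorem isUnit_germEt_of_evRing_ne_zero (U : EtOver X.obj) (l : (FieldPt.liftsTo p).obj U)
    (s : (OEt X.obj).obj.obj (op U)) (h : evRing X p U l s.down ≠ 0) :
    IsUnit ((germEt X p hp U l).hom s) := by
  let f0 : Γ(U.obj.left.left, ⊤) := s.down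
  let W : U.obj.left.left.Opens := U.obj.left.left.basicOpen f0
  have hunit : IsUnit (l.1.left.appTop.hom f0) := by
    have h1 : IsUnit (evRing X p U l f0) := isUnit_iff_ne_zero.2 h
    have h2 := h1.map (Scheme.ΓSpecIso (CommRingCat.of p.K)).inv.hom
    have h3 : (Scheme.ΓSpecIso (CommRingCat.of p.K)).inv.hom (evRing X p U l f0) =
        l.1.left.appTop.hom f0 := by
      change ((Scheme.ΓSpecIso (CommRingCat.of p.K)).hom ≫
        (Scheme.ΓSpecIso (CommRingCat.of p.K)).inv).hom (l.1.left.appTop.hom f0) = _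
      rw [Iso.hom_inv_id]
      rfl
    rwa [h3] at h2
  have hW : Set.range l.1.left ⊆ (W : Set _) := by
    rintro _ ⟨y, rfl⟩
    change y ∈ l.1.left ⁻¹ᵁ (U.obj.left.left.basicOpen f0)
    rw [Scheme.preimage_basicOpen_top, Scheme.basicOpen_of_isUnit _ hunit]
    trivial
  obtain ⟨l', hl'⟩ := exists_lift_ofOpen X p U l W hW
  have hw := germEt_w X p hp (EtOver.ofOpenι U W) l'
  rw [hl'] at hw
  rw [← hw]
  change IsUnit ((germEt X p hp _ l').hom (((OEt X.obj).obj.map (EtOver.ofOpenι U W).op).hom s))
  refine IsUnit.map (germEt X p hp _ l').hom ?_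
  change IsUnit (ULift.up.{u + 1} ((EtOver.ofOpenι U W).hom.left.left.appTop.hom f0))
  refine isUnit_ulift_up (isUnit_appTop_of_range_subset _ f0 ?_)
  exact (Scheme.Opens.range_ι W).le

end Groth.Agent.H51

namespace Groth.Agent.H51
open AlgSp Groth.Agent.H52
variable {S : Scheme.{u}} (X : AlgSp.Space S) (p : FieldPt X.obj) (hp : p.IsGeometric)

theorem isUnit_iff_evStalk_ne_zero (a : OEtStalk p) :
    IsUnit a ↔ (evStalk X p hp).hom a ≠ 0 := by
  constructor
  · intro h
    exact (h.map (evStalk X p hp).hom).ne_zero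
  · intro h
    obtain ⟨U, l, s, rfl⟩ := germEt_jointly_surjective X p hp a
    rw [evStalk_germEt_apply] at h
    refine isUnit_germEt_of_evRing_ne_zero X p hp U l s ?_
    intro h0
    exact h (by rw [h0]; rfl)

include hp in
theorem isLocalRing_OEtStalk : IsLocalRing (OEtStalk p) := by
  haveI : Nontrivial (OEtStalk p) := (evStalk X p hp).hom.domain_nontrivial
  refine IsLocalRing.of_nonunits_add fun a b ha hb => ?_
  rw [mem_nonunits_iff, isUnit_iff_evStalk_ne_zero X p hp, not_not] at ha hb ⊢
  rw [map_add, ha, hb, add_zero]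

theorem mem_maximalIdeal_iff (a : OEtStalk p) :
    haveI := isLocalRing_OEtStalk X p hp
    a ∈ IsLocalRing.maximalIdeal (OEtStalk p) ↔ (evStalk X p hp).hom a = 0 := by
  haveI := isLocalRing_OEtStalk X p hp
  rw [IsLocalRing.mem_maximalIdeal, mem_nonunits_iff, isUnit_iff_evStalk_ne_zero X p hp, not_not]

end Groth.Agent.H51
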