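import Groth.Prelude.Def_AlgSpOX3
import Mathlib.AlgebraicGeometry.Sites.EtalePoint

set_option autoImplicit false
universe u
open CategoryTheory CategoryTheory.Limits AlgebraicGeometry Opposite MorphismProperty
namespace Groth.Agent.H51
open AlgSp
variable {S : Scheme.{u}}

/-- Nonemptiness: a geometric point of an algebraic space lifts to any étale surjective chart. -/
theorem exists_lift_of_chart {X : Sp S} (p : FieldPt X) (hp : p.IsGeometric) {U : Over S}
    (a : (yon S).obj U ⟶ X) (hae : RepWith @Etale a) (has : RepWith @Surjective a) :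
    ∃ u : p.pt ⟶ U, (yon S).map u ≫ a = p.toHom := by
  haveI : IsAlgClosed p.K := hp
  haveI : IsSepClosed p.K := IsSepClosed.of_isAlgClosed p.K
  have hpb := hae.1.isPullback p.toHom
  have het : Etale (hae.1.snd p.toHom).left := hae.2 _ _ _ hpb
  have hsu : Surjective (hae.1.snd p.toHom).left := has.2 _ _ _ hpb
  obtain ⟨x, -⟩ := hsu.surj (default : Spec (CommRingCat.of p.K))
  obtain ⟨l, hl, -⟩ := Scheme.exists_fac_of_etale_of_isSepClosed (hae.1.snd p.toHom).left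
    (𝟙 (Spec (CommRingCat.of p.K))) x (Subsingleton.elim (α := ↥(Spec (CommRingCat.of p.K))) _ _)
  have hw : l ≫ (hae.1.pullback p.toHom).hom = p.str := by
    have h1 : (hae.1.snd p.toHom).left ≫ p.str = (hae.1.pullback p.toHom).hom :=
      Over.w (hae.1.snd p.toHom)
    rw [← h1, ← Category.assoc, hl, Category.id_comp]
  let l' : p.pt ⟶ hae.1.pullback p.toHom := Over.homMk l hw
  have hl' : l' ≫ hae.1.snd p.toHom = 𝟙 p.pt := Over.OverMorphism.ext hl
  refine ⟨l' ≫ hae.1.fst' p.toHom, ?_⟩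
  rw [Functor.map_comp, Category.assoc, Functor.relativelyRepresentable.map_fst', hpb.w,
    ← Category.assoc, ← Functor.map_comp, hl']
  exact ((congrArg (· ≫ p.toHom) ((yon S).map_id p.pt)).trans (Category.id_comp _))


theorem etNbhd_cone_objs {X : Sp S} (p : FieldPt X) (N₁ N₂ : EtNbhd p) :
    ∃ (W : EtNbhd p) (_ : W ⟶ N₁) (_ : W ⟶ N₂), True := by
  obtain ⟨U, u⟩ := N₁
  obtain ⟨V, v⟩ := N₂
  let w0 : p.pt ⟶ (EtOver.prodObj U V).obj.left :=
    V.property.1.lift' v.1 u.1 (by rw [u.2, v.2])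
  have h1 : w0 ≫ (EtOver.prodFst U V).hom.left = u.1 :=
    Functor.relativelyRepresentable.lift'_snd _ _ _ _
  have h2 : w0 ≫ (EtOver.prodSnd U V).hom.left = v.1 :=
    Functor.relativelyRepresentable.lift'_fst _ _ _ _
  have hw : (yon S).map w0 ≫ (EtOver.prodObj U V).obj.hom = p.toHom := by
    rw [← EtOver.w (EtOver.prodFst U V), ← Category.assoc, ← Functor.map_comp, h1]
    exact u.2
  refine ⟨⟨EtOver.prodObj U V, ⟨w0, hw⟩⟩, ⟨EtOver.prodFst U V, Subtype.ext h1⟩,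
    ⟨EtOver.prodSnd U V, Subtype.ext h2⟩, trivial⟩

theorem etNbhd_cone_maps {X : Sp S} (p : FieldPt X) {N₁ N₂ : EtNbhd p} (f g : N₁ ⟶ N₂) :
    ∃ (W : EtNbhd p) (h : W ⟶ N₁), h ≫ f = h ≫ g := by
  obtain ⟨U, u⟩ := N₁
  obtain ⟨V, v⟩ := N₂
  obtain ⟨f, hf⟩ := f
  obtain ⟨g, hg⟩ := g
  dsimp at f g hf hg
  have hf' : u.1 ≫ f.hom.left = v.1 := congrArg Subtype.val hf
  have hg' : u.1 ≫ g.hom.left = v.1 := congrArg Subtype.val hg
  -- the maps (f,g) and the diagonal to V ×_X V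
  let fg : U ⟶ EtOver.prodObj V V := (EtOver.prodIsLimit V V).lift (BinaryFan.mk f g)
  let Δ : V ⟶ EtOver.prodObj V V := (EtOver.prodIsLimit V V).lift (BinaryFan.mk (𝟙 V) (𝟙 V))
  have fg1 : fg ≫ EtOver.prodFst V V = f :=
    (EtOver.prodIsLimit V V).fac (BinaryFan.mk f g) ⟨WalkingPair.left⟩
  have fg2 : fg ≫ EtOver.prodSnd V V = g :=
    (EtOver.prodIsLimit V V).fac (BinaryFan.mk f g) ⟨WalkingPair.right⟩
  have Δ1 : Δ ≫ EtOver.prodFst V V = 𝟙 V :=
    (EtOver.prodIsLimit V V).fac (BinaryFan.mk (𝟙 V) (𝟙 V)) ⟨WalkingPair.left⟩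
  have Δ2 : Δ ≫ EtOver.prodSnd V V = 𝟙 V :=
    (EtOver.prodIsLimit V V).fac (BinaryFan.mk (𝟙 V) (𝟙 V)) ⟨WalkingPair.right⟩
  have key : u.1 ≫ fg.hom.left = v.1 ≫ Δ.hom.left := by
    refine Functor.relativelyRepresentable.hom_ext' V.property.1 ?_ ?_
    · -- fst' = prodSnd
      have e1 : fg.hom.left ≫ V.property.1.fst' V.obj.hom = g.hom.left :=
        congrArg (fun k => k.hom.left) fg2
      have e2 : Δ.hom.left ≫ V.property.1.fst' V.obj.hom = 𝟙 _ :=
        congrArg (fun k => k.hom.left) Δ2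
      exact ((Category.assoc _ _ _).trans ((congrArg (u.1 ≫ ·) e1).trans hg')).trans
        ((Category.assoc _ _ _).trans ((congrArg (v.1 ≫ ·) e2).trans (Category.comp_id _))).symm
    · have e1 : fg.hom.left ≫ V.property.1.snd V.obj.hom = f.hom.left :=
        congrArg (fun k => k.hom.left) fg1
      have e2 : Δ.hom.left ≫ V.property.1.snd V.obj.hom = 𝟙 _ :=
        congrArg (fun k => k.hom.left) Δ1
      exact ((Category.assoc _ _ _).trans ((congrArg (u.1 ≫ ·) e1).trans hf')).trans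
        ((Category.assoc _ _ _).trans ((congrArg (v.1 ≫ ·) e2).trans (Category.comp_id _))).symm
  let w0 : p.pt ⟶ (EtOver.pullbackObj fg Δ).obj.left := pullback.lift u.1 v.1 key
  have h1 : w0 ≫ (EtOver.pullbackFst fg Δ).hom.left = u.1 := pullback.lift_fst _ _ _
  have hw : (yon S).map w0 ≫ (EtOver.pullbackObj fg Δ).obj.hom = p.toHom := by
    rw [← EtOver.w (EtOver.pullbackFst fg Δ), ← Category.assoc, ← Functor.map_comp, h1]
    exact u.2
  refine ⟨⟨EtOver.pullbackObj fg Δ, ⟨w0, hw⟩⟩, ⟨EtOver.pullbackFst fg Δ, Subtype.ext h1⟩, ?_⟩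
  apply Subtype.ext
  change EtOver.pullbackFst fg Δ ≫ f = EtOver.pullbackFst fg Δ ≫ g
  have c := EtOver.pullback_condition fg Δ
  calc EtOver.pullbackFst fg Δ ≫ f = (EtOver.pullbackFst fg Δ ≫ fg) ≫ EtOver.prodFst V V := by
        rw [Category.assoc, fg1]
    _ = (EtOver.pullbackFst fg Δ ≫ fg) ≫ EtOver.prodSnd V V := by
        rw [c, Category.assoc, Category.assoc, Δ1, Δ2]
    _ = EtOver.pullbackFst fg Δ ≫ g := by rw [Category.assoc, fg2]

theorem etNbhd_isCofiltered (X : AlgSp.Space S) (p : FieldPt X.obj) (hp : p.IsGeometric) :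
    IsCofiltered (EtNbhd p) := by
  obtain ⟨U, a, hae, has⟩ := X.property.atlas
  obtain ⟨u, hu⟩ := exists_lift_of_chart p hp a hae has
  exact
    { cone_objs := fun N₁ N₂ => etNbhd_cone_objs p N₁ N₂
      cone_maps := fun _ _ f g => etNbhd_cone_maps p f g
      nonempty := ⟨⟨EtOver.mk a hae, ⟨u, hu⟩⟩⟩ }

end Groth.Agent.H51
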