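import Groth.Agent.H51.EtLiftDense
import Groth.Agent.H51.SpEtNbhd
import Groth.Agent.H51.SpEtHensel1
import Groth.Agent.H51.SpEtGerm
import Mathlib.CategoryTheory.Filtered.Final

/-!
# Stalks of `i_*` for a closed immersion
-/

set_option autoImplicit false
set_option backward.isDefEq.respectTransparency false
universe u
open CategoryTheory CategoryTheory.Limits AlgebraicGeometry Opposite MorphismProperty

namespace Groth.Agent.H51
open AlgSp

variable {S : Scheme.{u}} {Z X : AlgSp.Space S} (i : Z ⟶ X)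
  (hi : AlgSp.RepWith @IsClosedImmersion i.hom) (z : AlgSp.FieldPt Z.obj)

/-- Base change of an étale neighbourhood of the image point. -/
noncomputable def bcNbhdObj (N : AlgSp.EtNbhd (z.map i.hom)) : AlgSp.EtNbhd z :=
  ⟨(AlgSp.EtOver.bc hi.1).obj N.1,
    ⟨hi.1.lift z.toHom N.2.1 ((N.2.2.trans (AlgSp.FieldPt.toHom_map i.hom z)).symm),
      hi.1.lift_fst _ _ _⟩⟩

theorem bcNbhdObj_snd_snd (N : AlgSp.EtNbhd (z.map i.hom)) :
    (bcNbhdObj i hi z N).2.1 ≫ hi.1.snd N.1.obj.hom = N.2.1 :=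
  hi.1.lift_snd _ _ _

theorem bcNbhdObj_snd_fst (N : AlgSp.EtNbhd (z.map i.hom)) :
    (yon S).map (bcNbhdObj i hi z N).2.1 ≫ hi.1.fst N.1.obj.hom = z.toHom :=
  hi.1.lift_fst _ _ _

/-- Base change of étale neighbourhoods as a functor. -/
noncomputable def bcNbhd : AlgSp.EtNbhd (z.map i.hom) ⥤ AlgSp.EtNbhd z where
  obj := bcNbhdObj i hi z
  map {N N'} g := ⟨(AlgSp.EtOver.bc hi.1).map g.1, by
    apply Subtype.ext
    apply hi.1.hom_ext
    · change (yon S).map ((bcNbhdObj i hi z N).2.1 ≫ (EtOver.bcMap hi.1 g.1).hom.left) ≫ _ =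
        (yon S).map (bcNbhdObj i hi z N').2.1 ≫ _
      rw [Functor.map_comp, Category.assoc, EtOver.map_bcMap_fst, bcNbhdObj_snd_fst,
        bcNbhdObj_snd_fst]
    · change ((bcNbhdObj i hi z N).2.1 ≫ (EtOver.bcMap hi.1 g.1).hom.left) ≫ _ =
        (bcNbhdObj i hi z N').2.1 ≫ _
      rw [Category.assoc, EtOver.bcMap_snd, ← Category.assoc, bcNbhdObj_snd_snd,
        bcNbhdObj_snd_snd]
      exact congrArg Subtype.val g.2⟩
  map_id N := by
    apply CategoryOfElements.ext
    exact (AlgSp.EtOver.bc hi.1).map_id _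
  map_comp g g' := by
    apply CategoryOfElements.ext
    exact (AlgSp.EtOver.bc hi.1).map_comp _ _

end Groth.Agent.H51

namespace Groth.Agent.H51
open AlgSp

variable {S : Scheme.{u}} {Z X : AlgSp.Space S} (i : Z ⟶ X)
  (hi : AlgSp.RepWith @IsClosedImmersion i.hom) (z : AlgSp.FieldPt Z.obj)

/-- Base change of étale neighbourhoods along a closed immersion is initial. -/
theorem bcNbhd_initial (hz : z.IsGeometric) : (bcNbhd i hi z).Initial := by
  have hp : (z.map i.hom).IsGeometric := hz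
  haveI := etNbhd_isCofiltered X (z.map i.hom) hp
  refine Functor.initial_of_exists_of_isCofiltered _ ?_ ?_
  · rintro ⟨V, v⟩
    obtain ⟨U, ψ, hψ⟩ := exists_bc_hom i hi V (v.1.left (default : Spec (CommRingCat.of z.K)))
    obtain ⟨w, hw⟩ := exists_lift_through z hz ψ v hψ
    let u : z.pt ⟶ U.obj.left := w.1 ≫ hi.1.snd U.obj.hom
    have hu : (yon S).map u ≫ U.obj.hom = (z.map i.hom).toHom := by
      rw [FieldPt.toHom_map, Functor.map_comp, Category.assoc, ← hi.1.w, ← Category.assoc]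
      congr 1
      exact w.2
    let N : EtNbhd (z.map i.hom) := ⟨U, ⟨u, hu⟩⟩
    have hN : (bcNbhdObj i hi z N).2 = w := by
      apply Subtype.ext
      apply hi.1.hom_ext
      · rw [bcNbhdObj_snd_fst]; exact w.2.symm
      · rw [bcNbhdObj_snd_snd]
    refine ⟨N, ⟨⟨ψ, ?_⟩⟩⟩
    change (FieldPt.liftsTo z).map ψ (bcNbhdObj i hi z N).2 = v
    rw [hN, hw]
  · rintro ⟨V, v⟩ N s s'
    obtain ⟨O, hO₁, hO₂⟩ := exists_open_equalizer i hi N.1 V s.1 s'.1
    have hmem : ∀ y, (hi.1.snd N.1.obj.hom).left ((bcNbhdObj i hi z N).2.1.left y) ∈ O :=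
      hO₂ _ (bcNbhdObj i hi z N).2.1.left (by
        have e1 := congrArg (fun k => k.1.left) s.2
        have e2 := congrArg (fun k => k.1.left) s'.2
        exact e1.trans e2.symm)
    have hrange : Set.range N.2.1.left ⊆ (O : Set _) := by
      rintro _ ⟨y, rfl⟩
      have e : (bcNbhdObj i hi z N).2.1.left ≫ (hi.1.snd N.1.obj.hom).left = N.2.1.left :=
        congrArg (fun k => k.left) (bcNbhdObj_snd_snd i hi z N)
      have e' : (hi.1.snd N.1.obj.hom).left ((bcNbhdObj i hi z N).2.1.left y) = N.2.1.left y := by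
        rw [← e]; rfl
      exact Set.mem_of_eq_of_mem e'.symm (hmem y)
    obtain ⟨l', hl'⟩ := exists_lift_ofOpen X (z.map i.hom) N.1 N.2 O hrange
    refine ⟨⟨EtOver.ofOpen N.1 O, l'⟩, ⟨EtOver.ofOpenι N.1 O, hl'⟩, ?_⟩
    apply CategoryOfElements.ext
    exact hO₁

end Groth.Agent.H51
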