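import Groth.Agent.H51.SpEtLocRinged
import Mathlib.CategoryTheory.Sites.Whiskering

/-!
# Abelian sheaves on the small étale site turn disjoint open covers into products
-/

set_option autoImplicit false
set_option backward.isDefEq.respectTransparency false
universe u
open CategoryTheory CategoryTheory.Limits AlgebraicGeometry Opposite

namespace Groth.Agent.H51
open AlgSp

variable {S : Scheme.{u}} {X : Sp S}

/-- The empty sieve covers an object with empty underlying scheme. -/
theorem bot_mem_etTop_of_isEmpty (Z : EtOver X) [IsEmpty Z.obj.left.left] :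
    (⊥ : Sieve Z) ∈ etTop X Z := by
  have := ofArrows_mem_etTop (E := Z) (fun e : PEmpty.{1} => e.elim) (fun e => e.elim)
    (fun x => (IsEmpty.false x).elim)
  refine (etTop X).superset_covering ?_ this
  rw [Sieve.ofArrows, Sieve.generate_le_iff]
  rintro _ _ ⟨e⟩
  exact e.elim

theorem ofOpenι_mono_aux (E : EtOver X) (W : E.obj.left.left.Opens) {Z : EtOver X}
    (g g' : Z ⟶ EtOver.ofOpen E W) (h : g ≫ EtOver.ofOpenι E W = g' ≫ EtOver.ofOpenι E W) :
    g = g' := by
  apply EtOver.hom_ext
  apply Over.OverMorphism.ext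
  have h' : g.hom.left.left ≫ W.ι = g'.hom.left.left ≫ W.ι :=
    congrArg (fun k => k.hom.left.left) h
  exact (cancel_mono W.ι).1 h'

theorem bijective_restrict_of_disjoint_cover (E : EtOver X) {ι : Type u}
    (W : ι → E.obj.left.left.Opens) (hdisj : ∀ a b, a ≠ b → Disjoint (W a) (W b))
    (hcov : (⨆ a, W a) = ⊤) (G : Sheaf (etTop X) AddCommGrpCat.{u + 1}) :
    Function.Bijective (fun (s : G.obj.obj (op E)) (a : ι) =>
      (G.obj.map (EtOver.ofOpenι E (W a)).op s : G.obj.obj (op (EtOver.ofOpen E (W a))))) := by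
  let P : (EtOver X)ᵒᵖ ⥤ Type (u + 1) := G.obj ⋙ forget AddCommGrpCat.{u + 1}
  have hP : Presieve.IsSheaf (etTop X) P :=
    (isSheaf_iff_isSheaf_of_type _ _).1 ((sheafCompose (etTop X) (forget AddCommGrpCat.{u + 1})).obj G).2
  have hcovS : Sieve.ofArrows (fun a => EtOver.ofOpen E (W a)) (fun a => EtOver.ofOpenι E (W a)) ∈
      etTop X E := by
    refine ofArrows_mem_etTop _ _ fun x => ?_
    have hx : x ∈ (⨆ a, W a) := by rw [hcov]; trivial
    obtain ⟨a, ha⟩ := TopologicalSpace.Opens.mem_iSup.mp hx
    exact ⟨a, ⟨x, ha⟩, rfl⟩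
  have hSF : (Presieve.ofArrows (fun a => EtOver.ofOpen E (W a))
      (fun a => EtOver.ofOpenι E (W a))).IsSheafFor P := by
    rw [Presieve.isSheafFor_iff_generate]
    exact hP _ hcovS
  rw [Presieve.isSheafFor_arrows_iff] at hSF
  have hcompat : ∀ x : (a : ι) → P.obj (op (EtOver.ofOpen E (W a))),
      Presieve.Arrows.Compatible P (fun a => EtOver.ofOpenι E (W a)) x := by
    intro x a b Z ga gb hab
    by_cases hne : a = b
    · subst hne
      rw [ofOpenι_mono_aux E (W a) ga gb hab]
    · haveI : IsEmpty Z.obj.left.left := by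
        constructor
        intro z
        have h1 : (W a).ι (ga.hom.left.left z) = (W b).ι (gb.hom.left.left z) := by
          have := congrArg (fun k => k.hom.left.left) hab
          exact congr($this z)
        exact (hdisj a b hne).le_bot
          ⟨(ga.hom.left.left z).2, Set.mem_of_eq_of_mem h1 (gb.hom.left.left z).2⟩
      exact ((hP.isSeparated) _ (bot_mem_etTop_of_isEmpty Z)).ext (fun _ _ h => h.elim)
  constructor
  · intro s s' hss'
    obtain ⟨t, -, ht⟩ := hSF (fun a => P.map (EtOver.ofOpenι E (W a)).op s) (hcompat _)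
    have e1 : s = t := ht s (fun a => rfl)
    have e2 : s' = t := ht s' (fun a => (congrFun hss' a).symm)
    rw [e1, e2]
  · intro x
    obtain ⟨t, ht, -⟩ := hSF x (hcompat x)
    exact ⟨t, funext ht⟩

end Groth.Agent.H51
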