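import Groth.Agent.H49.DiagPullback
import Mathlib.AlgebraicGeometry.Morphisms.FlatDescent
import Mathlib.AlgebraicGeometry.Morphisms.FlatMono
import Mathlib.AlgebraicGeometry.Morphisms.Etale
import Mathlib.RingTheory.Smooth.NoetherianDescent
import Mathlib.RingTheory.Smooth.Flat

set_option autoImplicit false
universe u
open CategoryTheory CategoryTheory.Limits AlgebraicGeometry Opposite MorphismProperty TensorProduct

namespace Groth.Agent.H51

/-- If the base change of `f : X ⟶ Y` along a flat, locally finitely presented `g : Z ⟶ Y` whose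
image contains the image of `f` is an open immersion, then `f` is an open immersion. -/
theorem isOpenImmersion_of_isPullback {X Y Z T : Scheme.{u}} {f : X ⟶ Y} {g : Z ⟶ Y}
    {fst : T ⟶ X} {snd : T ⟶ Z} (sq : IsPullback fst snd f g)
    [Flat g] [LocallyOfFinitePresentation g]
    (hrange : Set.range f ⊆ Set.range g) [IsOpenImmersion snd] : IsOpenImmersion f := by
  let U : Y.Opens := ⟨Set.range g, g.isOpenMap.isOpen_range⟩
  have hU : IsOpenImmersion U.ι := U.instIsOpenImmersionι
  let g' := hU.lift U.ι g (by simp [U])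
  let f' := hU.lift U.ι f (by simpa [U] using hrange)
  have hg : g = g' ≫ U.ι := by simp [g']
  have hf : f = f' ≫ U.ι := by simp [f']
  have hflat : Flat g' := of_postcomp (W := @Flat) g' U.ι hU (by rwa [← hg])
  have hfp : LocallyOfFinitePresentation g' :=
    of_postcomp (W := @LocallyOfFinitePresentation) g' U.ι hU (by rwa [← hg])
  have hsurj : Surjective g' := ⟨fun ⟨x, ⟨y, hy⟩⟩ ↦
    ⟨y, by apply U.ι.injective; simp [← Scheme.Hom.comp_apply, g', hy]⟩⟩
  have sq' : IsPullback fst snd f' g' := by
    rw [hf, hg] at sq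
    exact Groth.Agent.H49.isPullback_of_comp_mono U.ι sq
  have : IsOpenImmersion f' :=
    of_isPullback_of_descendsAlong (P := @IsOpenImmersion)
      (Q := @Surjective ⊓ @Flat ⊓ @LocallyOfFinitePresentation) sq'.flip
      ⟨⟨hsurj, hflat⟩, hfp⟩ ‹IsOpenImmersion snd›
  rw [hf]
  infer_instance

theorem finitePresentation_of_bijective_includeRight {A₁ A B₁ : Type u} [CommRing A₁] [CommRing A]
    [CommRing B₁] [Algebra A₁ A] [Algebra A₁ B₁] [Module.Flat A₁ B₁]
    [Algebra.FinitePresentation A₁ B₁]
    (hbij : Function.Bijective (Algebra.TensorProduct.includeRight : B₁ →ₐ[A₁] A ⊗[A₁] B₁))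
    (hsurj : Function.Surjective (PrimeSpectrum.comap (algebraMap A (A ⊗[A₁] B₁)))) :
    (algebraMap A₁ A).FinitePresentation := by
  have sq := isPullback_SpecMap_of_isPushout _ _ _ _ (CommRingCat.isPushout_tensorProduct A₁ A B₁)
  have hflat : Flat (Spec.map (CommRingCat.ofHom (algebraMap A₁ B₁))) := by
    rw [Flat.SpecMap_iff]
    exact (RingHom.flat_algebraMap_iff).2 inferInstance
  have hfp : LocallyOfFinitePresentation (Spec.map (CommRingCat.ofHom (algebraMap A₁ B₁))) := by
    rw [HasRingHomProperty.Spec_iff (P := @LocallyOfFinitePresentation)]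
    exact (RingHom.finitePresentation_algebraMap).2 inferInstance
  have hiso : IsIso (CommRingCat.ofHom (S := A ⊗[A₁] B₁)
      (Algebra.TensorProduct.includeRight (R := A₁) (A := A) (B := B₁)).toRingHom) := by
    rw [ConcreteCategory.isIso_iff_bijective]
    exact hbij
  have : IsOpenImmersion (Spec.map (CommRingCat.ofHom (S := A ⊗[A₁] B₁)
      (Algebra.TensorProduct.includeRight (R := A₁) (A := A) (B := B₁)).toRingHom)) :=
    inferInstance
  have hrange : Set.range (Spec.map (CommRingCat.ofHom (algebraMap A₁ A))) ⊆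
      Set.range (Spec.map (CommRingCat.ofHom (algebraMap A₁ B₁))) := by
    rintro _ ⟨x, rfl⟩
    obtain ⟨z, rfl⟩ := hsurj x
    refine ⟨Spec.map (CommRingCat.ofHom (S := A ⊗[A₁] B₁)
      (Algebra.TensorProduct.includeRight (R := A₁) (A := A) (B := B₁)).toRingHom) z, ?_⟩
    rw [← Scheme.Hom.comp_apply, ← sq.w]
    rfl
  have := isOpenImmersion_of_isPullback sq hrange
  have h : LocallyOfFinitePresentation (Spec.map (CommRingCat.ofHom (algebraMap A₁ A))) :=
    inferInstance
  rwa [HasRingHomProperty.Spec_iff (P := @LocallyOfFinitePresentation)] at h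

/-- Variant with an arbitrary model of the tensor product. -/
theorem finitePresentation_of_algEquiv {A₁ A B₁ B : Type u} [CommRing A₁] [CommRing A]
    [CommRing B₁] [CommRing B] [Algebra A₁ A] [Algebra A₁ B₁] [Algebra A B] [Module.Flat A₁ B₁]
    [Algebra.FinitePresentation A₁ B₁] (Φ : A ⊗[A₁] B₁ ≃ₐ[A] B)
    (hbij : Function.Bijective fun b : B₁ => Φ (1 ⊗ₜ b))
    (hsurj : Function.Surjective (PrimeSpectrum.comap (algebraMap A B))) :
    (algebraMap A₁ A).FinitePresentation := by
  refine finitePresentation_of_bijective_includeRight (B₁ := B₁) ?_ ?_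
  · have : (fun b : B₁ => Φ (1 ⊗ₜ b)) = Φ ∘ (Algebra.TensorProduct.includeRight :
        B₁ →ₐ[A₁] A ⊗[A₁] B₁) := rfl
    rw [this] at hbij
    exact (Function.Bijective.of_comp_iff' Φ.bijective _).1 hbij
  · intro x
    obtain ⟨y, rfl⟩ := hsurj x
    refine ⟨PrimeSpectrum.comap Φ.toAlgHom.toRingHom y, ?_⟩
    rw [← PrimeSpectrum.comap_comp_apply]
    congr 1
    ext a
    simp only [AlgEquiv.toAlgHom_eq_coe, AlgHom.toRingHom_eq_coe, RingHom.coe_comp,
      RingHom.coe_coe, AlgHom.coe_coe, Function.comp_apply, Algebra.TensorProduct.algebraMap_apply,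
      Algebra.algebraMap_self, RingHom.id_apply]
    exact (Φ.commutes a)

/-- Finite type descends along an etale, `Spec`-surjective ring map on the source. -/
theorem finiteType_of_etale_of_finiteType {R A B : Type u} [CommRing R] [CommRing A] [CommRing B]
    [Algebra R A] [Algebra A B] [Algebra R B] [IsScalarTower R A B] [Algebra.Etale A B]
    (hsurj : Function.Surjective (PrimeSpectrum.comap (algebraMap A B)))
    [Algebra.FiniteType R B] : Algebra.FiniteType R A := by
  have hss : Algebra.IsStandardSmoothOfRelativeDimension 0 A B :=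
    Algebra.Etale.iff_isStandardSmoothOfRelativeDimension_zero.1 inferInstance
  obtain ⟨ι, σ, _, _, P, hP⟩ := hss.out
  obtain ⟨s, hs⟩ := (Algebra.FiniteType.out : (⊤ : Subalgebra R B).FG)
  choose p hp using P.aeval_val_surjective
  let T : Set A := P.coeffs ∪ ⋃ b ∈ s, ((p b).coeffs : Set A)
  have hT : T.Finite := P.finite_coeffs.union
    (Set.Finite.biUnion s.finite_toSet (fun b _ => (p b).coeffs.finite_toSet))
  let A₁ : Subalgebra R A := Algebra.adjoin R T
  have hA₁ : A₁.FG := ⟨hT.toFinset, by simp [A₁]⟩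
  have hcoeffs : P.HasCoeffs A₁ :=
    ⟨fun x hx => ⟨⟨x, Algebra.subset_adjoin (Or.inl hx)⟩, rfl⟩⟩
  have hss₁ : Algebra.IsStandardSmoothOfRelativeDimension 0 A₁ (P.ModelOfHasCoeffs A₁) :=
    ⟨_, _, _, inferInstance, P.ofHasCoeffs A₁, hP⟩
  have het₁ : Algebra.Etale A₁ (P.ModelOfHasCoeffs A₁) :=
    Algebra.Etale.iff_isStandardSmoothOfRelativeDimension_zero.2 hss₁
  let e := P.tensorModelOfHasCoeffsEquiv A₁
  have hfp : (algebraMap A₁ A).FinitePresentation := by
    refine finitePresentation_of_algEquiv (B₁ := P.ModelOfHasCoeffs A₁) e ⟨?_, ?_⟩ hsurj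
    · exact e.injective.comp (Algebra.TensorProduct.includeRight_injective
        (R := A₁) (A := A) (B := P.ModelOfHasCoeffs A₁) Subtype.val_injective)
    · -- the image is an `R`-subalgebra containing the generators
      let ψ : P.ModelOfHasCoeffs A₁ →ₐ[A₁] B :=
        (e.toAlgHom.restrictScalars A₁).comp Algebra.TensorProduct.includeRight
      have hψ : ∀ q : MvPolynomial ι A₁, ψ (Ideal.Quotient.mk _ q) = MvPolynomial.aeval P.val q := by
        intro q
        change e (1 ⊗ₜ (Ideal.Quotient.mk _ q)) = _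
        rw [Algebra.Presentation.tensorModelOfHasCoeffsEquiv_tmul, map_one, one_mul]
      have hle : Algebra.adjoin R (s : Set B) ≤ ψ.range.restrictScalars R := by
        refine Algebra.adjoin_le ?_
        intro b hb
        have hsub : ((p b).coeffs : Set A) ⊆ Set.range (algebraMap A₁ A) := by
          intro x hx
          refine ⟨⟨x, Algebra.subset_adjoin (Or.inr ?_)⟩, rfl⟩
          exact Set.mem_biUnion hb hx
        obtain ⟨q, hq⟩ := MvPolynomial.mem_range_map_iff_coeffs_subset.2 hsub
        refine ⟨Ideal.Quotient.mk _ q, ?_⟩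
        change ψ (Ideal.Quotient.mk _ q) = b
        rw [hψ, ← MvPolynomial.aeval_map_algebraMap A, hq, hp]
      rw [hs] at hle
      intro b
      obtain ⟨y, hy⟩ := hle (Algebra.mem_top (x := b))
      exact ⟨y, hy⟩
  have hfp' : Algebra.FinitePresentation A₁ A := (RingHom.finitePresentation_algebraMap).1 hfp
  have h1 : Algebra.FiniteType A₁ A := inferInstance
  have h2 : Algebra.FiniteType R A₁ := (Subalgebra.fg_iff_finiteType A₁).1 hA₁
  exact Algebra.FiniteType.trans h2 h1

end Groth.Agent.H51
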