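import Groth.Agent.H51.EtSourceRing
import Mathlib.RingTheory.TensorProduct.Quotient

set_option autoImplicit false
universe u
open CategoryTheory CategoryTheory.Limits AlgebraicGeometry Opposite MorphismProperty TensorProduct

namespace Groth.Agent.H51

theorem exists_fg_le_of_map_fg {P B : Type*} [CommRing P] [CommRing B] (f : P →+* B) (I : Ideal P)
    (h : (I.map f).FG) : ∃ I₀ : Ideal P, I₀.FG ∧ I₀ ≤ I ∧ I₀.map f = I.map f := by
  classical
  unfold Ideal.map at h
  obtain ⟨s', hs', hspan⟩ := (Submodule.fg_span_iff_fg_span_finset_subset _).1 h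
  have hs'' : ∀ y, y ∈ s' → ∃ x, x ∈ I ∧ f x = y := fun y hy => hs' hy
  choose! g hg using hs''
  refine ⟨Ideal.span (s'.image g : Set P), ⟨s'.image g, rfl⟩, ?_, ?_⟩
  · rw [Ideal.span_le]
    intro x hx
    simp only [Finset.coe_image, Set.mem_image] at hx
    obtain ⟨y, hy, rfl⟩ := hx
    exact (hg y hy).1
  · rw [Ideal.map_span]
    unfold Ideal.map
    change _ = Submodule.span B (f '' (I : Set P))
    rw [hspan]
    congr 1
    ext y
    simp only [Finset.coe_image, Set.mem_image, Finset.mem_coe]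
    constructor
    · rintro ⟨_, ⟨z, hz, rfl⟩, rfl⟩
      rw [(hg z hz).2]; exact hz
    · intro hy
      exact ⟨g y, ⟨y, hy, rfl⟩, (hg y hy).2⟩

theorem finitePresentation_quotient_of_tensor {P' A B M : Type u} [CommRing P'] [CommRing A]
    [CommRing B] [CommRing M] [Algebra P' A] [Algebra A B] [Algebra P' M]
    (e₀ : A ⊗[P'] M ≃ₐ[A] B) (I₀ : Ideal P') [Algebra (P' ⧸ I₀) A] [IsScalarTower P' (P' ⧸ I₀) A]
    [Module.Flat (P' ⧸ I₀) ((P' ⧸ I₀) ⊗[P'] M)]
    [Algebra.FinitePresentation (P' ⧸ I₀) ((P' ⧸ I₀) ⊗[P'] M)]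
    (θ : (P' ⧸ I₀) ⊗[P'] M ≃+* B) (hθ : ∀ x : M, θ (1 ⊗ₜ x) = e₀ (1 ⊗ₜ x))
    (hspec : Function.Surjective (PrimeSpectrum.comap (algebraMap A B))) :
    (algebraMap (P' ⧸ I₀) A).FinitePresentation := by
  let Φ : A ⊗[P' ⧸ I₀] ((P' ⧸ I₀) ⊗[P'] M) ≃ₐ[A] B :=
    (Algebra.TensorProduct.cancelBaseChange P' (P' ⧸ I₀) A A M).trans e₀
  have hΦ : ∀ x, Φ (1 ⊗ₜ x) = θ x := by
    intro x
    induction x using TensorProduct.induction_on with
    | zero => rw [TensorProduct.tmul_zero, map_zero, map_zero]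
    | tmul a m =>
      obtain ⟨p, rfl⟩ := Ideal.Quotient.mk_surjective a
      have h1 : (Ideal.Quotient.mk I₀ p) ⊗ₜ[P'] m = (1 : P' ⧸ I₀) ⊗ₜ[P'] (p • m) := by
        rw [TensorProduct.tmul_smul, TensorProduct.smul_tmul', Algebra.smul_def, mul_one]
        rfl
      rw [h1, hθ]
      change e₀ (Algebra.TensorProduct.cancelBaseChange P' (P' ⧸ I₀) A A M
        (1 ⊗ₜ (1 ⊗ₜ (p • m)))) = _
      rw [Algebra.TensorProduct.cancelBaseChange_tmul, one_smul]
    | add x y hx hy =>
      rw [TensorProduct.tmul_add, map_add, map_add, hx, hy]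
  refine finitePresentation_of_algEquiv Φ ?_ hspec
  have : (fun b => Φ (1 ⊗ₜ b)) = θ := funext hΦ
  rw [this]
  exact θ.bijective

section
variable {R P' A B : Type u} [CommRing R] [CommRing P'] [CommRing A] [CommRing B]
  [Algebra P' A] [Algebra A B] [Algebra P' B] [IsScalarTower P' A B]
  [Algebra R P'] [Algebra R B] [IsScalarTower R P' B]

theorem ker_fg_of_etale_of_finitePresentation
    (hPA : Function.Surjective (algebraMap P' A)) [Algebra.Etale A B]
    (hspec : Function.Surjective (PrimeSpectrum.comap (algebraMap A B)))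
    [Algebra.FinitePresentation R P'] [Algebra.FinitePresentation R B] :
    (RingHom.ker (algebraMap P' A)).FG := by
  have hss : Algebra.IsStandardSmoothOfRelativeDimension 0 A B :=
    Algebra.Etale.iff_isStandardSmoothOfRelativeDimension_zero.1 inferInstance
  obtain ⟨ι, σ, _, _, Pres, hP⟩ := hss.out
  have hcoeffs : Pres.HasCoeffs P' :=
    ⟨fun x _ => by obtain ⟨p, rfl⟩ := hPA x; exact ⟨p, rfl⟩⟩
  -- the naive model over `P'`
  let e₀ := Pres.tensorModelOfHasCoeffsEquiv P'
  let ψ : Pres.ModelOfHasCoeffs P' →ₐ[P'] B :=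
    (e₀.toAlgHom.restrictScalars P').comp Algebra.TensorProduct.includeRight
  have hψ : ∀ q : MvPolynomial ι P', ψ (Ideal.Quotient.mk _ q) = MvPolynomial.aeval Pres.val q := by
    intro q
    change e₀ (1 ⊗ₜ (Ideal.Quotient.mk _ q)) = _
    rw [Algebra.Presentation.tensorModelOfHasCoeffsEquiv_tmul, map_one, one_mul]
  have hψsurj : Function.Surjective ψ := by
    intro b
    obtain ⟨p, rfl⟩ := Pres.aeval_val_surjective b
    obtain ⟨q, rfl⟩ := MvPolynomial.map_surjective (algebraMap P' A) hPA p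
    exact ⟨Ideal.Quotient.mk _ q, by rw [hψ, MvPolynomial.aeval_map_algebraMap]⟩
  -- the kernel of `ψ` is finitely generated
  have hfpM : Algebra.FinitePresentation R (Pres.ModelOfHasCoeffs P') :=
    Algebra.FinitePresentation.trans R P' _
  have hkerfg : (RingHom.ker (ψ.restrictScalars R).toRingHom).FG :=
    Algebra.FinitePresentation.ker_fG_of_surjective (ψ.restrictScalars R) hψsurj
  -- and equals the extension of the kernel of `P' → A`
  have hker : RingHom.ker (ψ.restrictScalars R).toRingHom =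
      (RingHom.ker (algebraMap P' A)).map (algebraMap P' (Pres.ModelOfHasCoeffs P')) := by
    apply le_antisymm
    · intro x hx
      have hx' : e₀ (1 ⊗ₜ x) = 0 := hx
      have h1 : (1 : A) ⊗ₜ[P'] x = 0 := by
        apply e₀.injective
        rw [hx', map_zero]
      let ρ : (P' ⧸ RingHom.ker (Algebra.ofId P' A)) ≃ₐ[P'] A :=
        Ideal.quotientKerAlgEquivOfSurjective (f := Algebra.ofId P' A) hPA
      let c := Algebra.TensorProduct.congr ρ (AlgEquiv.refl (R := P') (A₁ := Pres.ModelOfHasCoeffs P'))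
      have h2 : (1 : P' ⧸ RingHom.ker (Algebra.ofId P' A)) ⊗ₜ[P'] x = 0 := by
        apply c.injective
        rw [map_zero, Algebra.TensorProduct.congr_apply, Algebra.TensorProduct.map_tmul, map_one]
        exact h1
      have h3 := Algebra.TensorProduct.quotIdealMapEquivQuotTensor_mk (A := P')
        (Pres.ModelOfHasCoeffs P') (RingHom.ker (Algebra.ofId P' A)) x
      rw [h2] at h3
      have h4 := (Algebra.TensorProduct.quotIdealMapEquivQuotTensor (A := P')
        (Pres.ModelOfHasCoeffs P') (RingHom.ker (Algebra.ofId P' A))).injective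
        (h3.trans (map_zero _).symm)
      exact Ideal.Quotient.eq_zero_iff_mem.1 h4
    · rw [Ideal.map_le_iff_le_comap]
      intro i hi
      change ψ (algebraMap P' _ i) = 0
      rw [ψ.commutes, IsScalarTower.algebraMap_apply P' A B, (RingHom.mem_ker).1 hi, map_zero]
  obtain ⟨I₀, hI₀fg, hI₀le, hI₀map⟩ := exists_fg_le_of_map_fg
    (algebraMap P' (Pres.ModelOfHasCoeffs P')) _ (hker ▸ hkerfg)
  -- `A₁ = P' ⧸ I₀`
  let φ₁ : P' ⧸ I₀ →+* A := Ideal.Quotient.lift I₀ (algebraMap P' A) (fun a ha => hI₀le ha)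
  letI : Algebra (P' ⧸ I₀) A := φ₁.toAlgebra
  haveI : IsScalarTower P' (P' ⧸ I₀) A := IsScalarTower.of_algebraMap_eq' rfl
  let Pre₀ := Pres.toPreSubmersivePresentation.ofHasCoeffs P'
  let Pre₁ := Pre₀.baseChange (P' ⧸ I₀)
  let θ₁ := (Algebra.TensorProduct.quotIdealMapEquivQuotTensor (A := P')
    (Pres.ModelOfHasCoeffs P') I₀).symm.toRingEquiv
  let θ₂ := Ideal.quotEquivOfEq (hI₀map.trans hker.symm)
  let θ₃ := RingHom.quotientKerEquivOfSurjective (f := (ψ.restrictScalars R).toRingHom) hψsurj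
  let θ := θ₁.trans (θ₂.trans θ₃)
  have hθ : ∀ x, θ (1 ⊗ₜ x) = ψ x := by
    intro x
    have h1 : θ₁ (1 ⊗ₜ x) = Ideal.Quotient.mk _ x := by
      change (Algebra.TensorProduct.quotIdealMapEquivQuotTensor (A := P')
        (Pres.ModelOfHasCoeffs P') I₀).symm (1 ⊗ₜ x) = _
      rw [AlgEquiv.symm_apply_eq, Algebra.TensorProduct.quotIdealMapEquivQuotTensor_mk]
    change θ₃ (θ₂ (θ₁ (1 ⊗ₜ x))) = ψ x
    rw [h1, Ideal.quotEquivOfEq_mk, RingHom.quotientKerEquivOfSurjective_apply_mk]
    rfl
  -- the Jacobian of the base changed presentation is a unit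
  have hjac : ψ Pre₀.jacobian = Pres.jacobian := by
    classical
    let _ : Fintype σ := Fintype.ofFinite σ
    rw [Algebra.PreSubmersivePresentation.jacobian_eq_jacobiMatrix_det]
    have h1 : Pre₀.jacobiMatrix.det = Pres.jacobianOfHasCoeffs P' := by
      unfold Algebra.SubmersivePresentation.jacobianOfHasCoeffs
      congr!
    rw [h1]
    change ψ (Ideal.Quotient.mk _ (Pres.jacobianOfHasCoeffs P')) = _
    rw [hψ, Algebra.SubmersivePresentation.aeval_jacobianOfHasCoeffs]
  have hunit : IsUnit Pre₁.jacobian := by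
    rw [Algebra.PreSubmersivePresentation.baseChange_jacobian]
    have : IsUnit (θ (1 ⊗ₜ Pre₀.jacobian)) := by
      rw [hθ, hjac]
      exact Pres.jacobian_isUnit
    exact (isUnit_map_iff θ _).1 this
  let Sub₁ : Algebra.SubmersivePresentation (P' ⧸ I₀)
      ((P' ⧸ I₀) ⊗[P'] Pres.ModelOfHasCoeffs P') ι σ :=
    { toPreSubmersivePresentation := Pre₁, jacobian_isUnit := hunit }
  have hss₁ : Algebra.IsStandardSmoothOfRelativeDimension 0 (P' ⧸ I₀)
      ((P' ⧸ I₀) ⊗[P'] Pres.ModelOfHasCoeffs P') := ⟨_, _, _, inferInstance, Sub₁, hP⟩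
  have het₁ : Algebra.Etale (P' ⧸ I₀) ((P' ⧸ I₀) ⊗[P'] Pres.ModelOfHasCoeffs P') :=
    Algebra.Etale.iff_isStandardSmoothOfRelativeDimension_zero.2 hss₁
  have hfp : (algebraMap (P' ⧸ I₀) A).FinitePresentation :=
    finitePresentation_quotient_of_tensor e₀ I₀ θ (fun x => hθ x) hspec
  have h1 : Algebra.FinitePresentation P' (P' ⧸ I₀) := .quotient hI₀fg
  have h2 : Algebra.FinitePresentation (P' ⧸ I₀) A := (RingHom.finitePresentation_algebraMap).1 hfp
  have h3 : Algebra.FinitePresentation P' A := Algebra.FinitePresentation.trans P' (P' ⧸ I₀) A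
  exact Algebra.FinitePresentation.ker_fG_of_surjective (Algebra.ofId P' A) hPA

end

/-- Finite presentation descends along an etale, `Spec`-surjective ring map on the source. -/
theorem finitePresentation_of_etale_of_finitePresentation {R A B : Type u} [CommRing R]
    [CommRing A] [CommRing B] [Algebra R A] [Algebra A B] [Algebra R B] [IsScalarTower R A B]
    [Algebra.Etale A B] (hsurj : Function.Surjective (PrimeSpectrum.comap (algebraMap A B)))
    [Algebra.FinitePresentation R B] : Algebra.FinitePresentation R A := by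
  have hft : Algebra.FiniteType R A := finiteType_of_etale_of_finiteType hsurj
  obtain ⟨n, φ, hφ⟩ := Algebra.FiniteType.iff_quotient_mvPolynomial''.1 hft
  letI : Algebra (MvPolynomial (Fin n) R) A := φ.toRingHom.toAlgebra
  letI : Algebra (MvPolynomial (Fin n) R) B := ((algebraMap A B).comp φ.toRingHom).toAlgebra
  haveI : IsScalarTower (MvPolynomial (Fin n) R) A B := IsScalarTower.of_algebraMap_eq' rfl
  haveI : IsScalarTower R (MvPolynomial (Fin n) R) B := IsScalarTower.of_algebraMap_eq' (by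
    ext r
    change algebraMap R B r = algebraMap A B (φ (algebraMap R _ r))
    rw [φ.commutes, ← IsScalarTower.algebraMap_apply])
  have hker := ker_fg_of_etale_of_finitePresentation (R := R) (P' := MvPolynomial (Fin n) R)
    (A := A) (B := B) hφ hsurj
  exact Algebra.FinitePresentation.of_surjective (f := φ) hφ hker

end Groth.Agent.H51
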