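import Groth.Agent.H51.EtSourceRing2
import Groth.Agent.H50.EtSrcInst
import Groth.Agent.H10.FlatDescent
import Mathlib.RingTheory.Etale.Kaehler
import Mathlib.RingTheory.Flat.FaithfullyFlat.Algebra
import Mathlib.RingTheory.RingHom.Etale
import Mathlib.RingTheory.RingHom.Unramified

set_option autoImplicit false
universe u
open CategoryTheory CategoryTheory.Limits AlgebraicGeometry Opposite MorphismProperty TensorProduct

namespace Groth.Agent.H51

open Groth.Agent.H50

/-- Formal unramifiedness descends along an etale, `Spec`-surjective ring map on the source. -/
theorem formallyUnramified_of_etale_of_formallyUnramified {R A B : Type*} [CommRing R]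
    [CommRing A] [CommRing B] [Algebra R A] [Algebra A B] [Algebra R B] [IsScalarTower R A B]
    [Algebra.Etale A B] (hsurj : Function.Surjective (PrimeSpectrum.comap (algebraMap A B)))
    [Algebra.FormallyUnramified R B] : Algebra.FormallyUnramified R A := by
  haveI : Module.Flat A B := inferInstance
  haveI : Module.FaithfullyFlat A B := Module.FaithfullyFlat.of_comap_surjective hsurj
  haveI : Algebra.FormallyEtale A B := inferInstance
  have e := KaehlerDifferential.tensorKaehlerEquivOfFormallyEtale R A B
  haveI : Subsingleton (B ⊗[A] Ω[A⁄R]) := e.toEquiv.subsingleton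
  exact ⟨(Module.FaithfullyFlat.subsingleton_tensorProduct_iff_right (R := A) (M := B)).1 inferInstance⟩

theorem descendsStdEtale_finitePresentation : DescendsStdEtale @RingHom.FinitePresentation := by
  intro R B A _ _ _ f g hstd hsurj h
  algebraize [f, g, g.comp f]
  have : Algebra.IsStandardEtale B A := hstd
  have : Algebra.FinitePresentation R B :=
    finitePresentation_of_etale_of_finitePresentation (R := R) (A := B) (B := A) hsurj
  exact (RingHom.finitePresentation_algebraMap).2 this

theorem descendsStdEtale_formallyUnramified : DescendsStdEtale @RingHom.FormallyUnramified := by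
  intro R B A _ _ _ f g hstd hsurj h
  algebraize [f, g, g.comp f]
  have : Algebra.IsStandardEtale B A := hstd
  have : Algebra.FormallyUnramified R B :=
    formallyUnramified_of_etale_of_formallyUnramified (R := R) (A := B) (B := A) hsurj
  exact (RingHom.formallyUnramified_algebraMap).2 this

theorem descendsStdEtale_flat : DescendsStdEtale @RingHom.Flat := by
  intro R B A _ _ _ f g hstd hsurj h
  algebraize [f, g, g.comp f]
  have : Algebra.IsStandardEtale B A := hstd
  haveI : Module.Flat B A := inferInstance
  haveI : Module.FaithfullyFlat B A := Module.FaithfullyFlat.of_comap_surjective hsurj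
  have : Module.Flat R B := Groth.Agent.H10.flat_of_flat_of_faithfullyFlat R B A
  exact (RingHom.flat_algebraMap_iff).2 this

theorem descendsStdEtale_etale : DescendsStdEtale @RingHom.Etale := by
  intro R B A _ _ _ f g hstd hsurj h
  rw [RingHom.Etale.iff_flat_and_formallyUnramified] at h ⊢
  exact ⟨descendsStdEtale_flat f g hstd hsurj h.1,
    descendsStdEtale_formallyUnramified f g hstd hsurj h.2.1,
    descendsStdEtale_finitePresentation f g hstd hsurj h.2.2⟩

end Groth.Agent.H51
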