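import Groth.Agent.H49.FibreDim
import Groth.Agent.H72.FlatCM
import Mathlib

set_option autoImplicit false
universe u
open IsLocalRing

namespace Groth.Agent.H51.FibComp

variable {A B : Type u} [CommRing A] [CommRing B] [IsLocalRing A] [IsLocalRing B] [Algebra A B]
  [IsLocalHom (algebraMap A B)] (I : Ideal A)

theorem map_le_maximalIdeal : (maximalIdeal A).map (algebraMap A B) ≤ maximalIdeal B :=
  ((IsLocalRing.local_hom_TFAE (algebraMap A B)).out 0 2).mp ‹IsLocalHom (algebraMap A B)›

include I in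
theorem map_ne_top (hI : I ≠ ⊤) : I.map (algebraMap A B) ≠ ⊤ := fun h =>
  (maximalIdeal.isMaximal B).ne_top (top_le_iff.mp (h ▸
    (Ideal.map_mono (IsLocalRing.le_maximalIdeal hI)).trans (map_le_maximalIdeal (A := A))))

theorem isLocalRing_quotient {R : Type u} [CommRing R] [IsLocalRing R] (I : Ideal R)
    (hI : I ≠ ⊤) : IsLocalRing (R ⧸ I) :=
  haveI : Nontrivial (R ⧸ I) := Ideal.Quotient.nontrivial_iff.mpr hI
  IsLocalRing.of_surjective' (Ideal.Quotient.mk I) Ideal.Quotient.mk_surjective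

theorem maximalIdeal_quotient {R : Type u} [CommRing R] [IsLocalRing R] (I : Ideal R)
    (hI : I ≠ ⊤) [IsLocalRing (R ⧸ I)] :
    maximalIdeal (R ⧸ I) = (maximalIdeal R).map (Ideal.Quotient.mk I) :=
  (Groth.Agent.H72.FlatCM.map_mk_maximalIdeal I hI).symm

/-- The induced map on quotients is local. -/
theorem isLocalHom_quotientMap (hI : I ≠ ⊤) :
    IsLocalHom (algebraMap (A ⧸ I) (B ⧸ I.map (algebraMap A B))) := by
  constructor
  intro a ha
  obtain ⟨a, rfl⟩ := Ideal.Quotient.mk_surjective a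
  have h1 : algebraMap (A ⧸ I) (B ⧸ I.map (algebraMap A B)) (Ideal.Quotient.mk I a) =
      Ideal.Quotient.mk _ (algebraMap A B a) := rfl
  rw [h1] at ha
  haveI := isLocalRing_quotient (I.map (algebraMap A B)) (map_ne_top I hI)
  have h2 : algebraMap A B a ∉ maximalIdeal B := by
    intro hmem
    have : Ideal.Quotient.mk (I.map (algebraMap A B)) (algebraMap A B a) ∈
        maximalIdeal (B ⧸ I.map (algebraMap A B)) := by
      rw [maximalIdeal_quotient _ (map_ne_top I hI)]
      exact Ideal.mem_map_of_mem _ hmem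
    exact (IsLocalRing.mem_maximalIdeal _).1 this ha
  have h3 : IsUnit (algebraMap A B a) := by
    by_contra hn
    exact h2 ((IsLocalRing.mem_maximalIdeal _).2 hn)
  exact (isUnit_of_map_unit (algebraMap A B) a h3).map _


/-- `(B/IB) / m_{A/I}(B/IB) ≃ B / m_A B`. -/
theorem ringKrullDim_quotient_quotient (hI : I ≠ ⊤) [IsLocalRing (A ⧸ I)] :
    ringKrullDim ((B ⧸ I.map (algebraMap A B)) ⧸
      (maximalIdeal (A ⧸ I)).map (algebraMap (A ⧸ I) (B ⧸ I.map (algebraMap A B)))) =
    ringKrullDim (B ⧸ (maximalIdeal A).map (algebraMap A B)) := by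
  have hle : I.map (algebraMap A B) ≤ (maximalIdeal A).map (algebraMap A B) :=
    Ideal.map_mono (IsLocalRing.le_maximalIdeal hI)
  have h1 : (maximalIdeal (A ⧸ I)).map (algebraMap (A ⧸ I) (B ⧸ I.map (algebraMap A B))) =
      ((maximalIdeal A).map (algebraMap A B)).map (Ideal.Quotient.mk (I.map (algebraMap A B))) := by
    rw [maximalIdeal_quotient I hI, Ideal.map_map, Ideal.map_map]
    rfl
  exact ringKrullDim_eq_of_ringEquiv
    ((Ideal.quotEquivOfEq h1).trans (DoubleQuot.quotQuotEquivQuotOfLE hle))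

/-- **Dimension inequality for fibres of a composite**, ring level. -/
theorem ringKrullDim_quotient_le_add (hI : I ≠ ⊤) [IsNoetherianRing (A ⧸ I)]
    [IsNoetherianRing (B ⧸ I.map (algebraMap A B))] :
    ringKrullDim (B ⧸ I.map (algebraMap A B)) ≤
      ringKrullDim (A ⧸ I) + ringKrullDim (B ⧸ (maximalIdeal A).map (algebraMap A B)) := by
  haveI := isLocalRing_quotient I hI
  haveI := isLocalRing_quotient (I.map (algebraMap A B)) (map_ne_top I hI)
  haveI := isLocalHom_quotientMap (B := B) I hI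
  haveI : IsLocalRing ((B ⧸ I.map (algebraMap A B)) ⧸
      (maximalIdeal (A ⧸ I)).map (algebraMap (A ⧸ I) (B ⧸ I.map (algebraMap A B)))) :=
    isLocalRing_quotient _ (map_ne_top (maximalIdeal (A ⧸ I)) (maximalIdeal.isMaximal _).ne_top)
  have h := Groth.Agent.H49.FibreDim.ringKrullDim_le_add_quotient (A := A ⧸ I)
    (B := B ⧸ I.map (algebraMap A B))
  rwa [ringKrullDim_quotient_quotient I hI] at h

theorem ringKrullDim_quotient_eq_add_of_flat (hI : I ≠ ⊤) [IsNoetherianRing (A ⧸ I)]
    [IsNoetherianRing (B ⧸ I.map (algebraMap A B))] [Module.Flat A B] :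
    ringKrullDim (B ⧸ I.map (algebraMap A B)) =
      ringKrullDim (A ⧸ I) + ringKrullDim (B ⧸ (maximalIdeal A).map (algebraMap A B)) := by
  haveI := isLocalRing_quotient I hI
  haveI := isLocalRing_quotient (I.map (algebraMap A B)) (map_ne_top I hI)
  haveI := isLocalHom_quotientMap (B := B) I hI
  haveI : Module.Flat (A ⧸ I) (B ⧸ I.map (algebraMap A B)) :=
    Module.Flat.of_linearEquiv
      (Algebra.TensorProduct.quotIdealMapEquivQuotTensor B I).toLinearEquiv
  have h := Groth.Agent.H72.FlatCM.ringKrullDim_eq_add_of_flat (A := A ⧸ I)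
    (B := B ⧸ I.map (algebraMap A B))
  rwa [ringKrullDim_quotient_quotient I hI] at h

end Groth.Agent.H51.FibComp
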