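import Groth.Agent.H51.ResTrdeg
import Groth.Agent.H51.SpDim
import Groth.Prelude.Def_AlgSpDec
import Groth.Agent.H49.AlgSpOpen

set_option autoImplicit false
universe u
open CategoryTheory CategoryTheory.Limits AlgebraicGeometry Opposite MorphismProperty

namespace Groth.Agent.H51

open AlgSp Groth.Agent.H50

variable {S : Scheme.{u}}

theorem resTrdeg_eq_zero_of_etale {X Y : Scheme.{u}} (g : X ⟶ Y) [Etale g] (x : X) :
    Dual3.resTrdeg g x = 0 := by
  haveI : LocallyQuasiFinite g := locallyQuasiFinite_of_formallyUnramified g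
  exact resTrdeg_eq_zero_of_lqf g x

/-- Chart independence of the residue transcendence degree. -/
theorem resTrdeg_chart_indep {X Y : AlgSp.Space S} (f : X ⟶ Y)
    {U V U' V' : Over S} (a : (yon S).obj U ⟶ X.obj) (b : (yon S).obj V ⟶ Y.obj) (h : U ⟶ V)
    (a' : (yon S).obj U' ⟶ X.obj) (b' : (yon S).obj V' ⟶ Y.obj) (h' : U' ⟶ V')
    (ha : RepWith @Etale a) (hb : RepWith @Etale b) (ha' : RepWith @Etale a')
    (hb' : RepWith @Etale b') (e : a ≫ f.hom = (yon S).map h ≫ b)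
    (e' : a' ≫ f.hom = (yon S).map h' ≫ b') (u : ↥U.left) (u' : ↥U'.left)
    (hu : Points.ofPt a u = Points.ofPt a' u') :
    Dual3.resTrdeg h.left u = Dual3.resTrdeg h'.left u' := by
  obtain ⟨W, p₁, p₂, w, hp₁, hp₂, hw1, hw2, hw⟩ :=
    exists_common_etale_refinement a ha a' ha' u u' hu
  have sq := hb.rep.isPullback' b'
  set q₁ := hb.rep.fst' b' with hq₁
  set q₂ := hb.rep.snd b' with hq₂
  have hq₁E : Etale q₁.left := hb'.property _ _ _ sq.flip
  have hq₂E : Etale q₂.left := hb.property _ _ _ sq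
  have hcomm : (yon S).map (p₁ ≫ h) ≫ b = (yon S).map (p₂ ≫ h') ≫ b' := by
    rw [Functor.map_comp, Functor.map_comp, Category.assoc, Category.assoc, ← e, ← e',
      ← Category.assoc, ← Category.assoc, hw]
  obtain ⟨k, hk⟩ := (yon S).map_surjective (sq.lift _ _ hcomm)
  have hk1 : k ≫ q₁ = p₁ ≫ h := by
    apply (yon S).map_injective
    rw [Functor.map_comp, hk, sq.lift_fst]
  have hk2 : k ≫ q₂ = p₂ ≫ h' := by
    apply (yon S).map_injective
    rw [Functor.map_comp, hk, sq.lift_snd]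
  have hk1' : k.left ≫ q₁.left = p₁.left ≫ h.left := congrArg CommaMorphism.left hk1
  have hk2' : k.left ≫ q₂.left = p₂.left ≫ h'.left := congrArg CommaMorphism.left hk2
  have t1 : Dual3.resTrdeg h.left u = Dual3.resTrdeg k.left w := by
    have A := resTrdeg_comp p₁.left h.left w
    have B := resTrdeg_comp k.left q₁.left w
    rw [resTrdeg_eq_zero_of_etale p₁.left w, add_zero, hw1] at A
    rw [resTrdeg_eq_zero_of_etale q₁.left, zero_add] at B
    rw [← A, ← B, hk1']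
  have t2 : Dual3.resTrdeg h'.left u' = Dual3.resTrdeg k.left w := by
    have A := resTrdeg_comp p₂.left h'.left w
    have B := resTrdeg_comp k.left q₂.left w
    rw [resTrdeg_eq_zero_of_etale p₂.left w, add_zero, hw2] at A
    rw [resTrdeg_eq_zero_of_etale q₂.left, zero_add] at B
    rw [← A, ← B, hk2']
  rw [t1, t2]

end Groth.Agent.H51

namespace Groth.Agent.H51
open AlgSp Groth.Agent.H50
variable {S : Scheme.{u}}

/-- Additivity of residue transcendence degrees along a composition (S10319). -/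
theorem resTrdeg_add_of_comp {X Y Z : AlgSp.Space S} (f : X ⟶ Y) (g : Y ⟶ Z)
    (x : AlgSp.Points X.obj) (r₁ r₂ : Cardinal.{u})
    (h1 : AlgSp.HasAtMor (fun _ _ h u => Dual3.resTrdeg h u = r₁) f.hom x)
    (h2 : AlgSp.HasAtMor (fun _ _ h u => Dual3.resTrdeg h u = r₂) g.hom
      (AlgSp.Points.map f.hom x)) :
    AlgSp.HasAtMor (fun _ _ h u => Dual3.resTrdeg h u = r₁ + r₂) (f ≫ g).hom x := by
  obtain ⟨U1, V1, a1, b1, k1, u1, ha1, hb1, e1, hu1, hr1⟩ := h1
  obtain ⟨V2, W2, b2, c2, k2, v2, hb2, hc2, e2, hv2, hr2⟩ := h2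
  have sq := hb2.rep.isPullback' (a1 ≫ f.hom)
  set p₁ := hb2.rep.fst' (a1 ≫ f.hom) with hp₁
  set p₂ := hb2.rep.snd (a1 ≫ f.hom) with hp₂
  have hp₂E : Etale p₂.left := hb2.property _ _ _ sq
  have hpt : Points.ofPt b2 v2 = Points.ofPt (a1 ≫ f.hom) u1 := by
    rw [hv2, ← hu1, Points.map_ofPt]
  obtain ⟨w, hw1, hw2⟩ := exists_of_ofPt_eq sq v2 u1 hpt
  have haE : RepWith @Etale ((yon S).map p₂ ≫ a1) :=
    (RepWith @Etale).comp_mem _ _ ((repWith_yon_map_iff _ _).2 hp₂E) ha1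
  have hcomm : ((yon S).map p₂ ≫ a1) ≫ f.hom = (yon S).map p₁ ≫ b2 := by
    rw [Category.assoc, ← sq.w]
  have hofPt : Points.ofPt ((yon S).map p₂ ≫ a1) w = x := by
    rw [ofPt_map_comp, hw2, hu1]
  refine ⟨_, W2, (yon S).map p₂ ≫ a1, c2, p₁ ≫ k2, w, haE, hc2, ?_, hofPt, ?_⟩
  · change ((yon S).map p₂ ≫ a1) ≫ f.hom ≫ g.hom = _
    rw [← Category.assoc, hcomm, Category.assoc, e2, Functor.map_comp, Category.assoc]
  · change Dual3.resTrdeg (p₁.left ≫ k2.left) w = r₁ + r₂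
    rw [resTrdeg_comp, hw1, hr2, add_comm]
    congr 1
    rw [← hr1]
    exact resTrdeg_chart_indep f ((yon S).map p₂ ≫ a1) b2 p₁ a1 b1 k1 haE hb2 ha1 hb1 hcomm e1 w u1
      (hofPt.trans hu1.symm)

end Groth.Agent.H51

namespace Groth.Agent.H51
open AlgSp Groth.Agent.H50
variable {S : Scheme.{u}}

/-- Existence of a chart diagram through any point of the source of a morphism of algebraic
spaces. -/
theorem exists_chart_diagram {X Y : AlgSp.Space S} (f : X ⟶ Y) (x : AlgSp.Points X.obj) :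
    ∃ (U V : Over S) (a : (yon S).obj U ⟶ X.obj) (b : (yon S).obj V ⟶ Y.obj) (h : U ⟶ V)
      (u : ↥U.left), RepWith @Etale a ∧ RepWith @Etale b ∧ a ≫ f.hom = (yon S).map h ≫ b ∧
        Points.ofPt a u = x := by
  obtain ⟨V, b, hb, hbs⟩ := Y.property.atlas
  obtain ⟨U, a, h, ha, has, e⟩ := Groth.Agent.H49.exists_chart_lift X.property f.hom b hb hbs
  obtain ⟨u, hu⟩ := surjective_ofPt_of_surjective a has x
  exact ⟨U, V, a, b, h, u, ha, hb, e, hu⟩

/-- Uniqueness of the value of the residue transcendence degree. -/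
theorem hasAtMor_resTrdeg_unique {X Y : AlgSp.Space S} (f : X ⟶ Y) (x : AlgSp.Points X.obj)
    (r r' : Cardinal.{u})
    (h1 : AlgSp.HasAtMor (fun _ _ h u => Dual3.resTrdeg h u = r) f.hom x)
    (h2 : AlgSp.HasAtMor (fun _ _ h u => Dual3.resTrdeg h u = r') f.hom x) : r = r' := by
  obtain ⟨U, V, a, b, k, u, ha, hb, e, hu, hr⟩ := h1
  obtain ⟨U', V', a', b', k', u', ha', hb', e', hu', hr'⟩ := h2
  rw [← hr, ← hr']
  exact resTrdeg_chart_indep f a b k a' b' k' ha hb ha' hb' e e' u u' (hu.trans hu'.symm)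

theorem hasAtMor_resTrdeg_zero_of_lqf {X Y : AlgSp.Space S} (f : X ⟶ Y)
    (hf : AlgSp.LocP @LocallyQuasiFinite f.hom) (x : AlgSp.Points X.obj) :
    AlgSp.HasAtMor (fun _ _ h u => Dual3.resTrdeg h u = 0) f.hom x := by
  obtain ⟨U, V, a, b, h, u, ha, hb, e, hu⟩ := exists_chart_diagram f x
  haveI : LocallyQuasiFinite h.left := hf a b h ha hb e
  exact ⟨U, V, a, b, h, u, ha, hb, e, hu, resTrdeg_eq_zero_of_lqf h.left u⟩

theorem resTrdeg_comp_of_lqf {X Y Z : AlgSp.Space S} (f : X ⟶ Y) (g : Y ⟶ Z)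
    (hf : AlgSp.LocP @LocallyQuasiFinite f.hom)
    (x : AlgSp.Points X.obj) (r : Cardinal.{u}) :
    AlgSp.HasAtMor (fun _ _ h u => Dual3.resTrdeg h u = r) (f ≫ g).hom x ↔
      AlgSp.HasAtMor (fun _ _ h u => Dual3.resTrdeg h u = r) g.hom (AlgSp.Points.map f.hom x) := by
  have h0 := hasAtMor_resTrdeg_zero_of_lqf f hf x
  constructor
  · intro h
    obtain ⟨V, W, b, c, k, v, hb, hc, e, hv⟩ := exists_chart_diagram g (AlgSp.Points.map f.hom x)
    have h2 : AlgSp.HasAtMor (fun _ _ h u => Dual3.resTrdeg h u = Dual3.resTrdeg k.left v) g.hom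
        (AlgSp.Points.map f.hom x) := ⟨V, W, b, c, k, v, hb, hc, e, hv, rfl⟩
    have h3 := resTrdeg_add_of_comp f g x 0 _ h0 h2
    have := hasAtMor_resTrdeg_unique (f ≫ g) x _ _ h h3
    rw [zero_add] at this
    rw [this]
    exact h2
  · intro h
    have := resTrdeg_add_of_comp f g x 0 r h0 h
    rwa [zero_add] at this

end Groth.Agent.H51
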