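import Groth.Agent.H51.DimIneq2
import Groth.Agent.H51.FlatDimFormula
import Groth.Agent.H17.ProConsDense
import Groth.Agent.H49.FibreDimAtBC
import Groth.Agent.H51.ResTrdeg2
import Groth.Agent.H51.FibreDimTrdeg
import Groth.Agent.H51.DimIneq
import Groth.Agent.H53.FibreDimChart

/-!
# Dimension of the local ring of the fibre under base change (Stacks 02FY / 04NV)
-/

set_option autoImplicit false
set_option linter.unusedSectionVars false
set_option linter.style.haveILetI false
universe u
open CategoryTheory CategoryTheory.Limits AlgebraicGeometry Topology Order TopologicalSpace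

namespace Groth.Agent.H51

open Groth.Agent.H17.Chev

theorem flat_SpecMap_field (k K : Type u) [Field k] [Field K] (φ : k →+* K) :
    Flat (Spec.map (CommRingCat.ofHom φ)) := by
  rw [HasRingHomProperty.Spec_iff (P := @Flat)]
  letI := φ.toAlgebra
  change Module.Flat k K
  infer_instance

theorem surjective_SpecMap_field (k K : Type u) [Field k] [Field K] (φ : k →+* K) :
    Surjective (Spec.map (CommRingCat.ofHom φ)) := by
  constructor
  intro y
  refine ⟨(⟨⊥, Ideal.isPrime_bot⟩ : PrimeSpectrum K), ?_⟩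
  exact Subsingleton.elim (α := PrimeSpectrum k) _ _

theorem ringKrullDim_stalk_congr (Z : Scheme.{u}) {a b : Z} (h : a = b) :
    ringKrullDim (Z.presheaf.stalk a) = ringKrullDim (Z.presheaf.stalk b) := by
  subst h; rfl

section BC

variable {X Y X' Y' : Scheme.{u}} (f : X ⟶ Y) [LocallyOfFiniteType f]
    (g : Y' ⟶ Y) (f' : X' ⟶ Y') (g' : X' ⟶ X) (hc : IsPullback g' f' f g)

/-- the map between fibres in a base change square -/
noncomputable def fibreBC (y' : Y') : f'.fiber y' ⟶ f.fiber (g y') :=
  pullback.map _ _ _ _ g' (Spec.map (g.residueFieldMap y')) g hc.w.symm (by simp)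

theorem fibreBC_fiberι (y' : Y') :
    fibreBC f g f' g' hc y' ≫ f.fiberι (g y') = f'.fiberι y' ≫ g' :=
  pullback.lift_fst _ _ _

theorem fibreBC_isPullback (y' : Y') :
    IsPullback (fibreBC f g f' g' hc y') (f'.fiberToSpecResidueField y')
      (f.fiberToSpecResidueField (g y')) (Spec.map (g.residueFieldMap y')) :=
  isPullback_fiberToSpecResidueField_of_isPullback hc y'

theorem fibreBC_flat (y' : Y') : Flat (fibreBC f g f' g' hc y') :=
  MorphismProperty.of_isPullback (fibreBC_isPullback f g f' g' hc y').flip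
    (flat_SpecMap_field _ _ (g.residueFieldMap y').hom)

theorem fibreBC_surjective (y' : Y') : Surjective (fibreBC f g f' g' hc y') :=
  MorphismProperty.of_isPullback (fibreBC_isPullback f g f' g' hc y').flip
    (surjective_SpecMap_field _ _ (g.residueFieldMap y').hom)

include hc in
theorem fibreBC_noeth (y' : Y') :
    IsLocallyNoetherian (f.fiber (g y')) ∧ IsLocallyNoetherian (f'.fiber y') := by
  have h1 : LocallyOfFiniteType (f.fiberToSpecResidueField (g y')) :=
    inferInstanceAs (LocallyOfFiniteType (pullback.snd f (Y.fromSpecResidueField (g y'))))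
  have : LocallyOfFiniteType f' := MorphismProperty.of_isPullback hc inferInstance
  have h2 : LocallyOfFiniteType (f'.fiberToSpecResidueField y') :=
    inferInstanceAs (LocallyOfFiniteType (pullback.snd f' (Y'.fromSpecResidueField y')))
  exact ⟨LocallyOfFiniteType.isLocallyNoetherian (f.fiberToSpecResidueField (g y')),
    LocallyOfFiniteType.isLocallyNoetherian (f'.fiberToSpecResidueField y')⟩

include hc in
/-- base change does not decrease the dimension of the local ring of the fibre -/
theorem dim_stalk_fibre_le_of_isPullback (x' : X') :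
    ringKrullDim ((f.fiber (f (g' x'))).presheaf.stalk (f.asFiber (g' x'))) ≤
      ringKrullDim ((f'.fiber (f' x')).presheaf.stalk (f'.asFiber x')) := by
  set y' := f' x' with hy'
  set π := fibreBC f g f' g' hc y' with hπ
  obtain ⟨hN, hN'⟩ := fibreBC_noeth f g f' g' hc y'
  have hfl : Flat π := fibreBC_flat f g f' g' hc y'
  have hx : f (g' x') = g y' := by
    rw [← Scheme.Hom.comp_apply, hc.w, Scheme.Hom.comp_apply]
  have hw : f.fiberι (g y') (π (f'.asFiber x')) = g' x' := by
    rw [← Scheme.Hom.comp_apply, hπ, fibreBC_fiberι, Scheme.Hom.comp_apply,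
      Scheme.Hom.fiberι_asFiber]
  rw [ringKrullDim_stalk_asFiber_eq f (g y') (g' x') hx (π (f'.asFiber x')) hw,
    ringKrullDim_stalk_eq_add_of_flat π (f'.asFiber x') (Flat.stalkMap π _)]
  have h0 : (0 : WithBot ℕ∞) ≤ ringKrullDim ((π.fiber (π (f'.asFiber x'))).presheaf.stalk
      (π.asFiber (f'.asFiber x'))) := ringKrullDim_nonneg_of_nontrivial
  calc ringKrullDim ((f.fiber (g y')).presheaf.stalk (π (f'.asFiber x')))
      = ringKrullDim ((f.fiber (g y')).presheaf.stalk (π (f'.asFiber x'))) + 0 := (add_zero _).symm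
    _ ≤ _ := by gcongr

include hc in
/-- some point over given points has the same dimension of the local ring of the fibre -/
theorem exists_dim_stalk_fibre_eq_of_isPullback (x : X) (y' : Y') (hxy : f x = g y') :
    ∃ x' : X', g' x' = x ∧ f' x' = y' ∧
      ringKrullDim ((f'.fiber (f' x')).presheaf.stalk (f'.asFiber x')) =
        ringKrullDim ((f.fiber (f x)).presheaf.stalk (f.asFiber x)) := by
  set π := fibreBC f g f' g' hc y' with hπ
  obtain ⟨hN, hN'⟩ := fibreBC_noeth f g f' g' hc y'
  have hfl : Flat π := fibreBC_flat f g f' g' hc y'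
  have hsurj : Surjective π := fibreBC_surjective f g f' g' hc y'
  set t := (f.fiberHomeo (g y')).symm ⟨x, hxy⟩ with ht
  have htx : f.fiberι (g y') t = x := Scheme.Hom.fiberι_fiberHomeo_symm f (g y') ⟨x, hxy⟩
  obtain ⟨t'₀, ht'₀⟩ := hsurj.surj t
  set w₀ := (π.fiberHomeo t).symm ⟨t'₀, ht'₀⟩ with hw₀
  obtain ⟨η, -, hηmax⟩ := Groth.Agent.H17.exists_maximal_generization w₀
  set t' := π.fiberι t η with ht'
  have hπt' : π t' = t := map_fiberι' π t η
  have hmax : ∀ s' : f'.fiber y', π s' = π t' → s' ⤳ t' → t' ⤳ s' := by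
    intro s' hs' hspec
    rw [hπt'] at hs'
    set w := (π.fiberHomeo t).symm ⟨s', hs'⟩ with hw
    have hws' : π.fiberι t w = s' := Scheme.Hom.fiberι_fiberHomeo_symm π t ⟨s', hs'⟩
    have h1 : w ⤳ η := by
      rw [← (π.fiberι t).isEmbedding.isInducing.specializes_iff]
      rw [hws']
      exact hspec
    have h2 : w = η := hηmax w h1
    rw [← hws', h2]
  refine ⟨f'.fiberι y' t', ?_, map_fiberι' f' y' t', ?_⟩
  · have := congrArg (fun h : (f'.fiber y') ⟶ X => h t') (fibreBC_fiberι f g f' g' hc y')
    simp only [Scheme.Hom.comp_apply] at this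
    rw [← this, ← hπ, hπt', htx]
  · rw [ringKrullDim_stalk_asFiber_eq f' y' (f'.fiberι y' t') (map_fiberι' f' y' t') t' rfl,
      ringKrullDim_stalk_asFiber_eq f (g y') x hxy t htx,
      ringKrullDim_stalk_eq_add_of_flat π t' (Flat.stalkMap π _),
      ringKrullDim_stalk_fiber_eq_zero_of_isMax_fiber π t' hmax, add_zero]
    exact ringKrullDim_stalk_congr _ hπt'

end BC

section Sp
open AlgSp

variable {S : Scheme.{u}}

/-- Chart independence of the dimension of the local ring of the fibre. -/
theorem dim_stalk_fibre_chart_indep {X Y : AlgSp.Space S} (f : X ⟶ Y)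
    (hf : AlgSp.LocP @LocallyOfFiniteType f.hom)
    {U V U' V' : Over S} (a : (yon S).obj U ⟶ X.obj) (b : (yon S).obj V ⟶ Y.obj) (h : U ⟶ V)
    (a' : (yon S).obj U' ⟶ X.obj) (b' : (yon S).obj V' ⟶ Y.obj) (h' : U' ⟶ V')
    (ha : RepWith @Etale a) (hb : RepWith @Etale b) (ha' : RepWith @Etale a')
    (hb' : RepWith @Etale b') (e : a ≫ f.hom = (yon S).map h ≫ b)
    (e' : a' ≫ f.hom = (yon S).map h' ≫ b') (u : ↥U.left) (u' : ↥U'.left)
    (hu : Points.ofPt a u = Points.ofPt a' u') :
    ringKrullDim ((h.left.fiber (h.left u)).presheaf.stalk (h.left.asFiber u)) =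
      ringKrullDim ((h'.left.fiber (h'.left u')).presheaf.stalk (h'.left.asFiber u')) := by
  haveI : LocallyOfFiniteType h.left := hf a b h ha hb e
  haveI : LocallyOfFiniteType h'.left := hf a' b' h' ha' hb' e'
  have hD := Groth.Agent.H53.fibreDimAt_chart_indep f.hom a b h a' b' h' ha hb ha' hb' e e' u u' hu
  have hR := resTrdeg_chart_indep f a b h a' b' h' ha hb ha' hb' e e' u u' hu
  rw [fibreDimAt_eq_dim_stalk_add_trdeg h.left u, fibreDimAt_eq_dim_stalk_add_trdeg h'.left u',
    hR] at hD
  obtain ⟨n, hn⟩ := exists_nat_resTrdeg h'.left u'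
  rw [hn] at hD
  exact Groth.Agent.H17.Chev.eq_of_add_natCast_eq_add_natCast hD

end Sp

end Groth.Agent.H51
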