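import Groth.Agent.H51.FibreStalkBC

/-!
# Dimension of the local ring of the fibre under base change, locally Noetherian version
(no finite type hypothesis)
-/

set_option autoImplicit false
set_option linter.unusedSectionVars false
set_option linter.style.haveILetI false
universe u
open CategoryTheory CategoryTheory.Limits AlgebraicGeometry Topology Order TopologicalSpace

namespace Groth.Agent.H51

open Groth.Agent.H17.Chev Groth.Agent.H49.FibreStalk

theorem isNoetherianRing_stalk_fiber_of_isLocallyNoetherian {X Y : Scheme.{u}} [IsLocallyNoetherian X] (f : X ⟶ Y)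
    (y : Y) (t : f.fiber y) : IsNoetherianRing ((f.fiber y).presheaf.stalk t) :=
  isNoetherianRing_of_ringEquiv _ (quotientEquivStalkFiber f y t)

/-- The dimension formula for a flat morphism at a point, assuming only that the two local rings
are Noetherian. -/
theorem ringKrullDim_stalk_eq_add_of_flat' {X Y : Scheme.{u}} (f : X ⟶ Y) (x : X)
    [IsNoetherianRing (X.presheaf.stalk x)] [IsNoetherianRing (Y.presheaf.stalk (f x))]
    (hfl : (f.stalkMap x).hom.Flat) :
    ringKrullDim (X.presheaf.stalk x) = ringKrullDim (Y.presheaf.stalk (f x)) +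
      ringKrullDim ((f.fiber (f x)).presheaf.stalk (f.asFiber x)) := by
  letI : Algebra (Y.presheaf.stalk (f x)) (X.presheaf.stalk x) := (f.stalkMap x).hom.toAlgebra
  haveI : IsLocalHom (algebraMap (Y.presheaf.stalk (f x)) (X.presheaf.stalk x)) :=
    (inferInstance : IsLocalHom (f.stalkMap x).hom)
  haveI : Module.Flat (Y.presheaf.stalk (f x)) (X.presheaf.stalk x) := hfl
  have e1 := ringKrullDim_eq_of_ringEquiv (quotientEquivStalkAsFiber f x)
  rw [← e1]
  exact Groth.Agent.H72.FlatCM.ringKrullDim_eq_add_of_flat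

section BC

variable {X Y X' Y' : Scheme.{u}} (f : X ⟶ Y)
    (g : Y' ⟶ Y) (f' : X' ⟶ Y') (g' : X' ⟶ X) (hc : IsPullback g' f' f g)

/-- the map between fibres in a base change square (no finiteness hypothesis) -/
noncomputable def fibreBC' (y' : Y') : f'.fiber y' ⟶ f.fiber (g y') :=
  pullback.map _ _ _ _ g' (Spec.map (g.residueFieldMap y')) g hc.w.symm (by simp)

theorem fibreBC'_fiberι (y' : Y') :
    fibreBC' f g f' g' hc y' ≫ f.fiberι (g y') = f'.fiberι y' ≫ g' :=
  pullback.lift_fst _ _ _

theorem fibreBC'_isPullback (y' : Y') :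
    IsPullback (fibreBC' f g f' g' hc y') (f'.fiberToSpecResidueField y')
      (f.fiberToSpecResidueField (g y')) (Spec.map (g.residueFieldMap y')) :=
  isPullback_fiberToSpecResidueField_of_isPullback hc y'

theorem fibreBC'_flat (y' : Y') : Flat (fibreBC' f g f' g' hc y') :=
  MorphismProperty.of_isPullback (fibreBC'_isPullback f g f' g' hc y').flip
    (flat_SpecMap_field _ _ (g.residueFieldMap y').hom)

theorem fibreBC'_surjective (y' : Y') : Surjective (fibreBC' f g f' g' hc y') :=
  MorphismProperty.of_isPullback (fibreBC'_isPullback f g f' g' hc y').flip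
    (surjective_SpecMap_field _ _ (g.residueFieldMap y').hom)

include hc in
/-- base change does not decrease the dimension of the local ring of the fibre (locally Noetherian
version) -/
theorem dim_stalk_fibre_le_of_isPullback' [IsLocallyNoetherian X] [IsLocallyNoetherian X']
    (x' : X') :
    ringKrullDim ((f.fiber (f (g' x'))).presheaf.stalk (f.asFiber (g' x'))) ≤
      ringKrullDim ((f'.fiber (f' x')).presheaf.stalk (f'.asFiber x')) := by
  set y' := f' x' with hy'
  set π := fibreBC' f g f' g' hc y' with hπ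
  have hfl : Flat π := fibreBC'_flat f g f' g' hc y'
  have hx : f (g' x') = g y' := by
    rw [← Scheme.Hom.comp_apply, hc.w, Scheme.Hom.comp_apply]
  have hw : f.fiberι (g y') (π (f'.asFiber x')) = g' x' := by
    rw [← Scheme.Hom.comp_apply, hπ, fibreBC'_fiberι, Scheme.Hom.comp_apply,
      Scheme.Hom.fiberι_asFiber]
  haveI := isNoetherianRing_stalk_fiber_of_isLocallyNoetherian f' y' (f'.asFiber x')
  haveI := isNoetherianRing_stalk_fiber_of_isLocallyNoetherian f (g y') (π (f'.asFiber x'))
  rw [ringKrullDim_stalk_asFiber_eq f (g y') (g' x') hx (π (f'.asFiber x')) hw,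
    ringKrullDim_stalk_eq_add_of_flat' π (f'.asFiber x') (Flat.stalkMap π _)]
  have h0 : (0 : WithBot ℕ∞) ≤ ringKrullDim ((π.fiber (π (f'.asFiber x'))).presheaf.stalk
      (π.asFiber (f'.asFiber x'))) := ringKrullDim_nonneg_of_nontrivial
  calc ringKrullDim ((f.fiber (g y')).presheaf.stalk (π (f'.asFiber x')))
      = ringKrullDim ((f.fiber (g y')).presheaf.stalk (π (f'.asFiber x'))) + 0 := (add_zero _).symm
    _ ≤ _ := by gcongr

include hc in
/-- some point over given points has the same dimension of the local ring of the fibre (locally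
Noetherian version) -/
theorem exists_dim_stalk_fibre_eq_of_isPullback' [IsLocallyNoetherian X] [IsLocallyNoetherian X']
    (x : X) (y' : Y') (hxy : f x = g y') :
    ∃ x' : X', g' x' = x ∧ f' x' = y' ∧
      ringKrullDim ((f'.fiber (f' x')).presheaf.stalk (f'.asFiber x')) =
        ringKrullDim ((f.fiber (f x)).presheaf.stalk (f.asFiber x)) := by
  set π := fibreBC' f g f' g' hc y' with hπ
  have hfl : Flat π := fibreBC'_flat f g f' g' hc y'
  have hsurj : Surjective π := fibreBC'_surjective f g f' g' hc y'
  set t := (f.fiberHomeo (g y')).symm ⟨x, hxy⟩ with ht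
  have htx : f.fiberι (g y') t = x := Scheme.Hom.fiberι_fiberHomeo_symm f (g y') ⟨x, hxy⟩
  obtain ⟨t'₀, ht'₀⟩ := hsurj.surj t
  set w₀ := (π.fiberHomeo t).symm ⟨t'₀, ht'₀⟩ with hw₀
  obtain ⟨η, -, hηmax⟩ := Groth.Agent.H17.exists_maximal_generization w₀
  set t' := π.fiberι t η with ht'
  have hπt' : π t' = t := map_fiberι' π t η
  have hmax : ∀ s' : f'.fiber y', π s' = π t' → s' ⤳ t' → t' ⤳ s' := by
    intro s' hs' hspec
    rw [hπt'] at hs'
    set w := (π.fiberHomeo t).symm ⟨s', hs'⟩ with hw
    have hws' : π.fiberι t w = s' := Scheme.Hom.fiberι_fiberHomeo_symm π t ⟨s', hs'⟩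
    have h1 : w ⤳ η := by
      rw [← (π.fiberι t).isEmbedding.isInducing.specializes_iff]
      rw [hws']
      exact hspec
    have h2 : w = η := hηmax w h1
    rw [← hws', h2]
  haveI := isNoetherianRing_stalk_fiber_of_isLocallyNoetherian f' y' t'
  haveI := isNoetherianRing_stalk_fiber_of_isLocallyNoetherian f (g y') (π t')
  refine ⟨f'.fiberι y' t', ?_, map_fiberι' f' y' t', ?_⟩
  · have := congrArg (fun h : (f'.fiber y') ⟶ X => h t') (fibreBC'_fiberι f g f' g' hc y')
    simp only [Scheme.Hom.comp_apply] at this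
    rw [← this, ← hπ, hπt', htx]
  · rw [ringKrullDim_stalk_asFiber_eq f' y' (f'.fiberι y' t') (map_fiberι' f' y' t') t' rfl,
      ringKrullDim_stalk_asFiber_eq f (g y') x hxy t htx,
      ringKrullDim_stalk_eq_add_of_flat' π t' (Flat.stalkMap π _),
      ringKrullDim_stalk_fiber_eq_zero_of_isMax_fiber π t' hmax, add_zero]
    exact ringKrullDim_stalk_congr _ hπt'

end BC

end Groth.Agent.H51
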