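import Mathlib.FieldTheory.IsAlgClosed.Classification
import Mathlib.FieldTheory.IsAlgClosed.AlgebraicClosure
import Mathlib.RingTheory.Localization.FractionRing

set_option autoImplicit false
universe u
open Cardinal

namespace Groth.Agent.H51

/-- Two algebraically closed extensions of `R` with equipotent transcendence bases are isomorphic
compatibly with the maps from `R`. -/
theorem exists_ringEquiv_of_transcendenceBasis {R K L : Type*} [CommRing R] [Field K] [Algebra R K]
    [Field L] [Algebra R L] [IsAlgClosed K] [IsAlgClosed L] {ι κ : Type*} (v : ι → K) (w : κ → L)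
    (e : ι ≃ κ) (hv : IsTranscendenceBasis R v) (hw : IsTranscendenceBasis R w) :
    ∃ θ : K ≃+* L, ∀ r : R, θ (algebraMap R K r) = algebraMap R L r := by
  letI := IsAlgClosed.isAlgClosure_of_transcendence_basis v hv
  letI := IsAlgClosed.isAlgClosure_of_transcendence_basis w hw
  let e1 : Algebra.adjoin R (Set.range v) ≃ₐ[R] Algebra.adjoin R (Set.range w) :=
    hv.1.aevalEquiv.symm.trans ((MvPolynomial.renameEquiv R e).trans hw.1.aevalEquiv)
  refine ⟨IsAlgClosure.equivOfEquiv K L e1.toRingEquiv, fun r => ?_⟩
  have h := IsAlgClosure.equivOfEquiv_algebraMap K L e1.toRingEquiv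
    (algebraMap R (Algebra.adjoin R (Set.range v)) r)
  have h1 : algebraMap (Algebra.adjoin R (Set.range v)) K
      (algebraMap R (Algebra.adjoin R (Set.range v)) r) = algebraMap R K r := rfl
  rw [h1] at h
  rw [h]
  have h2 : e1.toRingEquiv (algebraMap R (Algebra.adjoin R (Set.range v)) r) =
      algebraMap R (Algebra.adjoin R (Set.range w)) r := e1.commutes r
  rw [h2]
  rfl

end Groth.Agent.H51

namespace Groth.Agent.H51

/-- A transcendence basis of a large algebraically closed field has the cardinality of the field. -/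
theorem mk_transcendenceBasis_eq {k L : Type u} [Field k] [Field L] [Algebra k L] [IsAlgClosed L]
    (hL : max #k ℵ₀ < #L) (s : Set L) (hs : IsTranscendenceBasis k ((↑) : s → L)) :
    #s = #L := by
  apply le_antisymm (Cardinal.mk_set_le s)
  by_contra hlt
  rw [not_le] at hlt
  have h1 := IsAlgClosed.cardinal_le_max_transcendence_basis' (R := k) (K' := L) _ hs
  have h2 : max (max #k #s) ℵ₀ < #L := by
    apply max_lt (max_lt _ hlt)
    · exact lt_of_le_of_lt (le_max_right _ _) hL
    · exact lt_of_le_of_lt (le_max_left _ _) hL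
  exact absurd h1 (not_le.2 h2)

/-- Two embeddings of a field `k` into a large algebraically closed field differ by an
automorphism. -/
theorem exists_ringEquiv_of_large {k L : Type u} [Field k] [Field L] [IsAlgClosed L]
    (hL : max #k ℵ₀ < #L) (j₁ j₂ : k →+* L) :
    ∃ θ : L ≃+* L, ∀ x : k, θ (j₁ x) = j₂ x := by
  letI A₁ : Algebra k L := j₁.toAlgebra
  obtain ⟨s₁, hs₁⟩ := exists_isTranscendenceBasis k L
  have c₁ := mk_transcendenceBasis_eq hL s₁ hs₁
  letI A₂ : Algebra k L := j₂.toAlgebra
  obtain ⟨s₂, hs₂⟩ := @exists_isTranscendenceBasis k L _ _ A₂ _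
  have c₂ := @mk_transcendenceBasis_eq k L _ _ A₂ _ hL s₂ hs₂
  obtain ⟨e⟩ := Cardinal.eq.1 (c₁.trans c₂.symm)
  exact @exists_ringEquiv_of_transcendenceBasis k L L _ _ A₁ _ A₂ _ _ _ _ _ _ e hs₁ hs₂

end Groth.Agent.H51

namespace Groth.Agent.H51

/-- Every field embeds into a strictly larger (and uncountable) algebraically closed field in the
same universe. -/
theorem exists_large_isAlgClosed (K : Type u) [Field K] :
    ∃ (L : Type u) (_ : Field L) (_ : IsAlgClosed L) (_ : K →+* L), max #K ℵ₀ < #L := by
  let I : Type u := Set (K × ULift.{u} ℕ)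
  let P := MvPolynomial I K
  let F := FractionRing P
  let L := AlgebraicClosure F
  refine ⟨L, inferInstance, inferInstance,
    (algebraMap F L).comp ((algebraMap P F).comp (algebraMap K P)), ?_⟩
  have hinj : Function.Injective (fun i : I => algebraMap F L (algebraMap P F (MvPolynomial.X i))) := by
    intro i j h
    have h1 := (algebraMap F L).injective h
    have h2 := IsFractionRing.injective P F h1
    exact MvPolynomial.X_injective h2
  have h1 : #I ≤ #L := Cardinal.mk_le_of_injective hinj
  have h2 : #(K × ULift.{u} ℕ) < #I := by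
    change _ < #(Set (K × ULift.{u} ℕ))
    rw [Cardinal.mk_set]
    exact Cardinal.cantor _
  have h3 : max #K ℵ₀ ≤ #(K × ULift.{u} ℕ) := by
    apply max_le
    · exact Cardinal.mk_le_of_injective (f := fun x : K => (x, ULift.up 0))
        (fun a b h => (Prod.mk.inj h).1)
    · have : #(ULift.{u} ℕ) = ℵ₀ := by simp
      rw [← this]
      exact Cardinal.mk_le_of_injective (f := fun n : ULift.{u} ℕ => ((0 : K), n))
        (fun a b h => (Prod.mk.inj h).2)
  exact lt_of_le_of_lt h3 (lt_of_lt_of_le h2 h1)

end Groth.Agent.H51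

namespace Groth.Agent.H51

/-- Two embeddings `k → K` of fields become conjugate under an automorphism of a suitable
algebraically closed extension of `K`. -/
theorem exists_isAlgClosed_equalizing {k K : Type u} [Field k] [Field K] (i₁ i₂ : k →+* K) :
    ∃ (L : Type u) (_ : Field L) (_ : IsAlgClosed L) (ι : K →+* L) (θ : L ≃+* L),
      ∀ x : k, θ (ι (i₁ x)) = ι (i₂ x) := by
  obtain ⟨L, _, _, ι, hL⟩ := exists_large_isAlgClosed K
  have hk : #k ≤ #K := Cardinal.mk_le_of_injective i₁.injective
  have hL' : max #k ℵ₀ < #L := lt_of_le_of_lt (max_le_max hk le_rfl) hL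
  obtain ⟨θ, hθ⟩ := exists_ringEquiv_of_large hL' (ι.comp i₁) (ι.comp i₂)
  exact ⟨L, inferInstance, inferInstance, ι, θ, hθ⟩

end Groth.Agent.H51
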