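import Mathlib
import Groth.Agent.H52.CodimZeroQF

set_option autoImplicit false
universe u
open CategoryTheory CategoryTheory.Limits AlgebraicGeometry Opposite

namespace Groth.Agent.H51

/-- A point of the prime spectrum with no proper generization which lies in the closure of the
image of `Spec S ⟶ Spec R` lies in the image. -/
theorem mem_range_comap_of_mem_closure_of_forall_specializes {R T : Type u} [CommRing R]
    [CommRing T] (φ : R →+* T) (p : PrimeSpectrum R)
    (hp : ∀ z : PrimeSpectrum R, z ⤳ p → z = p)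
    (hcl : p ∈ closure (Set.range (PrimeSpectrum.comap φ))) :
    p ∈ Set.range (PrimeSpectrum.comap φ) := by
  rw [PrimeSpectrum.closure_range_comap] at hcl
  have hker : RingHom.ker φ ≤ p.asIdeal := hcl
  have hmin : p.asIdeal ∈ ((⊥ : Ideal T).comap φ).minimalPrimes := by
    refine ⟨⟨p.isPrime, hker⟩, ?_⟩
    rintro q ⟨hq, -⟩ hqp
    have h1 : (⟨q, hq⟩ : PrimeSpectrum R) ⤳ p := (PrimeSpectrum.le_iff_specializes _ _).1 hqp
    have h2 := hp _ h1
    rw [← h2]
  obtain ⟨p', hp', -, hp'e⟩ := Ideal.exists_comap_eq_of_mem_minimalPrimes φ p.asIdeal hmin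
  exact ⟨⟨p', hp'⟩, PrimeSpectrum.ext hp'e⟩

/-- A point with zero-dimensional local ring in the closure of the image of a quasi-compact
morphism to an affine scheme lies in the image. -/
theorem mem_range_of_mem_closure_of_dim_zero {V D : Scheme.{u}} [IsAffine D] (g : V ⟶ D)
    [QuasiCompact g] (u : D) (hu : ringKrullDim (D.presheaf.stalk u) = 0)
    (hd : u ∈ closure (Set.range g)) : u ∈ Set.range g := by
  have hV : CompactSpace V := QuasiCompact.compactSpace_of_compactSpace g
  obtain ⟨R, q, hq⟩ := compactSpace_iff_exists.mp hV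
  have hu' := (Groth.Agent.H52.CZ.stalk_dim_zero_iff u).1 hu
  let h : Spec R ⟶ Spec Γ(D, ⊤) := q ≫ g ≫ D.isoSpec.hom
  let φ : Γ(D, ⊤) ⟶ R := Spec.preimage h
  have hφ : Spec.map φ = h := Spec.map_preimage h
  let u₀ : Spec Γ(D, ⊤) := D.isoSpec.hom u
  have hu₀ : D.isoSpec.inv u₀ = u := by
    change (D.isoSpec.hom ≫ D.isoSpec.inv) u = u
    rw [Iso.hom_inv_id]; rfl
  have h2 : ∀ z : Spec Γ(D, ⊤), z ⤳ u₀ → z = u₀ := by
    intro z hz
    have h3 : D.isoSpec.inv z ⤳ D.isoSpec.inv u₀ := hz.map D.isoSpec.inv.continuous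
    rw [hu₀] at h3
    have h4 := hu' _ h3
    change z = D.isoSpec.hom u
    rw [← h4]
    change z = (D.isoSpec.inv ≫ D.isoSpec.hom) z
    rw [Iso.inv_hom_id]; rfl
  have hrange : Set.range h = D.isoSpec.hom '' Set.range g := by
    ext z
    constructor
    · rintro ⟨r, rfl⟩
      exact ⟨g (q r), ⟨q r, rfl⟩, rfl⟩
    · rintro ⟨_, ⟨v, rfl⟩, rfl⟩
      obtain ⟨r, rfl⟩ := hq v
      exact ⟨r, rfl⟩
  have h1 : u₀ ∈ closure (Set.range h) := by
    rw [hrange]
    exact image_closure_subset_closure_image D.isoSpec.hom.continuous ⟨u, hd, rfl⟩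
  have h5 : u₀ ∈ Set.range (PrimeSpectrum.comap φ.hom) := by
    apply mem_range_comap_of_mem_closure_of_forall_specializes φ.hom u₀ h2
    rw [← hφ] at h1
    exact h1
  obtain ⟨r, hr⟩ := h5
  have h6 : h r = u₀ := by
    rw [← hφ]
    exact hr
  refine ⟨q r, ?_⟩
  have h7 : D.isoSpec.hom (g (q r)) = D.isoSpec.hom u := h6
  have := congrArg (fun z => D.isoSpec.inv z) h7
  change (D.isoSpec.hom ≫ D.isoSpec.inv) (g (q r)) = (D.isoSpec.hom ≫ D.isoSpec.inv) u at this
  rw [Iso.hom_inv_id] at this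
  exact this

end Groth.Agent.H51
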