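import Groth.Agent.H51.GeomRedField
import Groth.Agent.H49.FibreDimBC
import Mathlib.AlgebraicGeometry.Geometrically.Connected

/-!
# Geometric properties tested on algebraically closed fields (helper51)
-/

set_option autoImplicit false
set_option linter.style.haveILetI false
universe u
open CategoryTheory CategoryTheory.Limits AlgebraicGeometry

namespace Groth.Agent.H51

/-- For a property `P` of schemes descending along flat surjections, a morphism is geometrically
`P` as soon as its base changes to algebraically closed fields have `P`. -/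
theorem geometrically_iff_algClosed (P : ObjectProperty Scheme.{u})
    (hP : ∀ {A B : Scheme.{u}} (s : A ⟶ B), Flat s → Surjective s → P A → P B)
    {X Y : Scheme.{u}} (p : X ⟶ Y) :
    (∀ (Ω : Type u) [Field Ω] [IsAlgClosed Ω] (t' : Spec (CommRingCat.of Ω) ⟶ Y)
      (X' : Scheme.{u}) (q : X' ⟶ Spec (CommRingCat.of Ω)) (i₀ : X' ⟶ X),
      IsPullback i₀ q p t' → P X') ↔ geometrically P p := by
  constructor
  · intro h K _ y Z fst snd hpb
    let e : Spec (CommRingCat.of (AlgebraicClosure K)) ⟶ Spec (CommRingCat.of K) :=
      Spec.map (CommRingCat.ofHom (algebraMap K (AlgebraicClosure K)))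
    haveI : Flat e := Groth.Agent.H22.FibreRank.flat_of_field e
    haveI : Surjective e := surjective_specMap_field e
    have hpb' := (IsPullback.of_hasPullback snd e).paste_horiz hpb
    have hred : P (pullback snd e) :=
      h (AlgebraicClosure K) (e ≫ y) (pullback snd e) (pullback.snd snd e)
        (pullback.fst snd e ≫ fst) hpb'
    have hs : Surjective (pullback.fst snd e) := MorphismProperty.pullback_fst _ _ inferInstance
    exact hP (pullback.fst snd e) inferInstance hs hred
  · intro h Ω _ _ t' X' q i₀ hpb
    exact h t' i₀ q hpb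

theorem geometricallyConnected_iff_algClosed {X Y : Scheme.{u}} (p : X ⟶ Y) :
    (∀ (Ω : Type u) [Field Ω] [IsAlgClosed Ω] (t' : Spec (CommRingCat.of Ω) ⟶ Y)
      (X' : Scheme.{u}) (q : X' ⟶ Spec (CommRingCat.of Ω)) (i₀ : X' ⟶ X),
      IsPullback i₀ q p t' → ConnectedSpace X') ↔ GeometricallyConnected p := by
  rw [geometricallyConnected_iff]
  exact geometrically_iff_algClosed (fun Z => ConnectedSpace Z)
    (fun s _ hs hA => Groth.Agent.H23.connectedSpace_of_surjective s hs hA) p

/-- Dimension of a base change of a scheme locally of finite type over a field to another field. -/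
theorem topologicalKrullDim_eq_of_isPullback_field' {X X' : Scheme.{u}} (k Ω : Type u) [Field k]
    [Field Ω] (p : X ⟶ Spec (CommRingCat.of k)) [LocallyOfFiniteType p]
    (t' : Spec (CommRingCat.of Ω) ⟶ Spec (CommRingCat.of k)) (i₀ : X' ⟶ X)
    (q : X' ⟶ Spec (CommRingCat.of Ω)) (hpb : IsPullback i₀ q p t') :
    topologicalKrullDim X' = topologicalKrullDim X := by
  obtain ⟨φ, rfl⟩ := Spec.map_surjective t'
  have : φ = CommRingCat.ofHom φ.hom := rfl
  rw [this] at hpb
  exact Groth.Agent.H49.FibreDimBC.topologicalKrullDim_eq_of_isPullback_field k Ω φ.hom p i₀ q hpb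

end Groth.Agent.H51
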