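import Groth.Prelude.Def_StCurv2
import Groth.Agent.H23.Geometrically
import Mathlib.AlgebraicGeometry.Geometrically.Reduced

/-!
# Geometric fibres of the classifying family of a scheme over a field (helper51)
-/

set_option autoImplicit false
set_option linter.style.haveILetI false
universe u
open CategoryTheory CategoryTheory.Limits AlgebraicGeometry

namespace Groth.Agent.H51

/-- `CurvSt.GeomFib` of the (unpointed) classifying family of `p : X ⟶ Spec k`, for a predicate that
does not look at the marked points, in terms of scheme-level pullback squares. -/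
theorem geomFib_toSpFam_field_iff (S : Scheme.{u}) (k : Type u) [Field k]
    (t : Spec (CommRingCat.of k) ⟶ S) (X : Scheme.{u}) (p : X ⟶ Spec (CommRingCat.of k))
    (P : ∀ (Ω : Type u) [Field Ω] [IsAlgClosed Ω] (X' : Scheme.{u}),
      (X' ⟶ Spec (CommRingCat.of Ω)) → Prop) :
    CurvSt.GeomFib (fun Ω _ _ X' q _ => P Ω X' q)
        ((CurvSt.toSpFam S 0).obj ⟨Over.mk t, X, p, Fin.elim0, fun i => i.elim0⟩) ↔
      ∀ (Ω : Type u) [Field Ω] [IsAlgClosed Ω]
        (t' : Spec (CommRingCat.of Ω) ⟶ Spec (CommRingCat.of k)) (X' : Scheme.{u})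
        (q : X' ⟶ Spec (CommRingCat.of Ω)) (i₀ : X' ⟶ X), IsPullback i₀ q p t' → P Ω X' q := by
  constructor
  · intro h Ω _ _ t' X' q i₀ hpb
    have hw : i₀ ≫ p ≫ t = (q ≫ t') ≫ t := by
      rw [← Category.assoc, hpb.w]
    let i₁ : (Over.mk ((q ≫ t') ≫ t) : Over S) ⟶ Over.mk (p ≫ t) := Over.homMk i₀ hw
    have hO : IsPullback i₁ (Over.homMk q (by simp) : Over.mk ((q ≫ t') ≫ t) ⟶ Over.mk (t' ≫ t))
        (Over.homMk p rfl : Over.mk (p ≫ t) ⟶ Over.mk t)
        (Over.homMk t' rfl : Over.mk (t' ≫ t) ⟶ Over.mk t) := by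
      apply IsPullback.of_map (CategoryTheory.Over.forget S)
      · apply Over.OverMorphism.ext
        exact hpb.w
      · exact hpb
    exact h Ω t' X' q ((AlgSp.yon S).map i₁) (hO.map (AlgSp.yon S))
  · intro h Ω _ _ t' X' q i hP
    obtain ⟨i₁, rfl⟩ := (AlgSp.yon S).map_surjective i
    have hO := IsPullback.of_map_of_faithful (AlgSp.yon S) hP
    have hS := hO.map (CategoryTheory.Over.forget S)
    exact h Ω t' X' q i₁.left hS

end Groth.Agent.H51
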