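import Groth.Agent.H51.CMField
import Groth.Agent.H26.GorMor
import Groth.Agent.H26.GorFlat
import Groth.Agent.H53.SmoothFieldRegular
import Groth.Prelude.Def_AlgSpMor6

/-!
# The Gorenstein locus of a scheme over a field, in etale chart diagrams (helper51)
-/

set_option autoImplicit false
set_option linter.style.haveILetI false
universe u
open CategoryTheory CategoryTheory.Limits AlgebraicGeometry IsLocalRing

namespace Groth.Agent.H51

open AlgSp Groth.Agent.H49.FibreStalk

/-- Gorenstein local rings ascend along smooth morphisms of locally Noetherian schemes. -/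
theorem isGorenstein_stalk_of_smooth {U X : Scheme.{u}} (a : U ⟶ X) [Smooth a]
    [IsLocallyNoetherian X] [IsLocallyNoetherian U] (u : U)
    (h : LocCoh.IsGorensteinLocalRing (X.presheaf.stalk (a u))) :
    LocCoh.IsGorensteinLocalRing (U.presheaf.stalk u) := by
  letI : Algebra (X.presheaf.stalk (a u)) (U.presheaf.stalk u) := (a.stalkMap u).hom.toAlgebra
  haveI : IsLocalHom (algebraMap (X.presheaf.stalk (a u)) (U.presheaf.stalk u)) :=
    (inferInstance : IsLocalHom (a.stalkMap u).hom)
  haveI : Module.Flat (X.presheaf.stalk (a u)) (U.presheaf.stalk u) := Flat.stalkMap a u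
  refine Groth.Agent.H26.GorFlat.isGorensteinLocalRing_of_flat_of_regular_fibre _ _ h ?_
  haveI : Smooth (a.fiberToSpecResidueField (a u)) :=
    (inferInstance : Smooth (pullback.snd a (X.fromSpecResidueField (a u))))
  haveI := Groth.Agent.H53.isRegularLocalRing_stalk_of_smooth_field (X.residueField (a u))
    (a.fiberToSpecResidueField (a u)) (a.asFiber u)
  exact IsRegularLocalRing.of_ringEquiv (quotientEquivStalkAsFiber a u).symm

theorem locP_isGorensteinAt_yon_map_iff (S : Scheme.{u}) (k : Type u) [Field k]
    (t : Spec (CommRingCat.of k) ⟶ S) (X : Scheme.{u}) (p : X ⟶ Spec (CommRingCat.of k))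
    [LocallyOfFiniteType p] :
    AlgSp.LocP (fun _ _ g => ∀ x, (g.stalkMap x).hom.Flat ∧
        LocCoh.IsGorensteinLocalRing ((g.fiber (g x)).presheaf.stalk (g.asFiber x)))
        ((AlgSp.yon S).map (Over.homMk p rfl : Over.mk (p ≫ t) ⟶ Over.mk t)) ↔
      ∀ x : ↥X, LocCoh.IsGorensteinLocalRing (X.presheaf.stalk x) := by
  haveI : IsLocallyNoetherian X := LocallyOfFiniteType.isLocallyNoetherian p
  haveI : Flat p := Groth.Agent.H22.FibreRank.flat_of_field p
  constructor
  · intro hLoc x
    have h : ∀ x, (p.stalkMap x).hom.Flat ∧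
        LocCoh.IsGorensteinLocalRing ((p.fiber (p x)).presheaf.stalk (p.asFiber x)) :=
      AlgSp.locP_yon_map hLoc
    have hg := (Groth.Agent.H26.GorMor.gor_stalk_asFiber_iff p x).1 (h x).2
    have hbot : fibreIdeal p x = ⊥ := by
      show Ideal.map _ (maximalIdeal _) = ⊥
      rw [maximalIdeal_stalk_spec_field, Ideal.map_bot]
    exact Groth.Agent.H26.GorRegHom.isGorensteinLocalRing_of_ringEquiv
      ((Ideal.quotEquivOfEq hbot).trans (RingEquiv.quotientBot _)) hg
  · intro hX U V a b h ha hb w
    obtain ⟨a₀, rfl⟩ := (yon S).map_surjective a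
    obtain ⟨b₀, rfl⟩ := (yon S).map_surjective b
    haveI ha₀ : Etale a₀.left := (repWith_yon_map_iff @Etale a₀).1 ha
    haveI hb₀ : Etale b₀.left := (repWith_yon_map_iff @Etale b₀).1 hb
    have w' : a₀ ≫ (Over.homMk p rfl : Over.mk (p ≫ t) ⟶ Over.mk t) = h ≫ b₀ := by
      apply (yon S).map_injective
      rw [Functor.map_comp, Functor.map_comp]
      exact w
    have w'' : a₀.left ≫ p = h.left ≫ b₀.left := by
      have := congrArg CommaMorphism.left w'
      simpa using this
    haveI : IsLocallyNoetherian (Over.mk (p ≫ t)).left := (inferInstance : IsLocallyNoetherian X)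
    haveI : IsLocallyNoetherian (Over.mk t).left :=
      (inferInstance : IsLocallyNoetherian (Spec (CommRingCat.of k)))
    haveI : IsLocallyNoetherian U.left := LocallyOfFiniteType.isLocallyNoetherian a₀.left
    haveI : IsLocallyNoetherian V.left := LocallyOfFiniteType.isLocallyNoetherian b₀.left
    haveI : Flat (h.left ≫ b₀.left) := by
      rw [← w'']; infer_instance
    haveI : Flat h.left := flat_of_comp_etale h.left b₀.left
    intro u
    have hU : LocCoh.IsGorensteinLocalRing (U.left.presheaf.stalk u) :=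
      isGorenstein_stalk_of_smooth a₀.left u (hX (a₀.left u))
    have h2 := (Groth.Agent.H26.GorMor.gor_stalk_iff_of_flat h.left u (Flat.stalkMap _ u)).mp hU
    exact ⟨Flat.stalkMap _ u, (Groth.Agent.H26.GorMor.gor_stalk_asFiber_iff h.left u).2 h2.2⟩

end Groth.Agent.H51
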