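import Groth.Agent.H50.Gpd

set_option autoImplicit false
set_option backward.isDefEq.respectTransparency false
universe u
open CategoryTheory CategoryTheory.Limits AlgebraicGeometry Opposite

namespace Groth.Agent.H51

open AlgSp Groth.Agent.H50

variable {S : Scheme.{u}} {B : Sp S} (G : GroupoidSp B)

theorem e_gcomp {T : Sp S} (α : T ⟶ G.R) :
    gcomp G (α ≫ G.t ≫ G.e) α
      (by rw [Category.assoc, Category.assoc, G.e_s, Category.comp_id]) = α :=
  G.e_comp α

theorem ltrans_isIso (a : G.U ⟶ G.R) (ha : a ≫ G.s = 𝟙 G.U) [IsIso (a ≫ G.t)]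
    (h0 : (G.t ≫ a) ≫ G.s = 𝟙 G.R ≫ G.t) :
    IsIso (gcomp G (G.t ≫ a) (𝟙 G.R) h0) ∧ G.e ≫ gcomp G (G.t ≫ a) (𝟙 G.R) h0 = a := by
  have hb1 : inv (a ≫ G.t) ≫ a ≫ G.t = 𝟙 _ := IsIso.inv_hom_id _
  have hb2 : a ≫ G.t ≫ inv (a ≫ G.t) = 𝟙 _ := by
    rw [← Category.assoc]; exact IsIso.hom_inv_id _
  have h1 : (G.t ≫ inv (a ≫ G.t) ≫ a ≫ G.i) ≫ G.s = 𝟙 G.R ≫ G.t := by
    simp only [Category.assoc, G.i_s]
    rw [hb1, Category.comp_id, Category.id_comp]
  have hLt : gcomp G (G.t ≫ a) (𝟙 G.R) h0 ≫ G.t = G.t ≫ a ≫ G.t := by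
    rw [gcomp_t, Category.assoc]
  have hL't : gcomp G (G.t ≫ inv (a ≫ G.t) ≫ a ≫ G.i) (𝟙 G.R) h1 ≫ G.t =
      G.t ≫ inv (a ≫ G.t) := by
    rw [gcomp_t]
    simp only [Category.assoc, G.i_t]
    rw [ha, Category.comp_id]
  refine ⟨⟨gcomp G (G.t ≫ inv (a ≫ G.t) ≫ a ≫ G.i) (𝟙 G.R) h1, ?_, ?_⟩, ?_⟩
  · rw [precomp_gcomp]
    have e1 : gcomp G (G.t ≫ a) (𝟙 G.R) h0 ≫ G.t ≫ inv (a ≫ G.t) ≫ a ≫ G.i =
        (G.t ≫ a) ≫ G.i := by
      rw [← Category.assoc _ G.t, hLt]
      simp only [Category.assoc]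
      rw [reassoc_of% hb2]
    have e2 : gcomp G (G.t ≫ a) (𝟙 G.R) h0 ≫ 𝟙 G.R = gcomp G (G.t ≫ a) (𝟙 G.R) h0 :=
      Category.comp_id _
    rw [gcomp_congr G e1 e2, ← gcomp_assoc G _ _ _ (by simp [G.i_s]) h0]
    have e3 : gcomp G ((G.t ≫ a) ≫ G.i) (G.t ≫ a) (by simp [G.i_s]) = 𝟙 G.R ≫ G.t ≫ G.e := by
      rw [i_gcomp]
      simp only [Category.assoc]
      rw [reassoc_of% ha, Category.id_comp]
    rw [gcomp_congr G e3 rfl]
    exact e_gcomp G (𝟙 G.R)
  · rw [precomp_gcomp]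
    have e1 : gcomp G (G.t ≫ inv (a ≫ G.t) ≫ a ≫ G.i) (𝟙 G.R) h1 ≫ G.t ≫ a =
        (G.t ≫ inv (a ≫ G.t)) ≫ a := by
      rw [← Category.assoc _ G.t, hL't]
    have e2 : gcomp G (G.t ≫ inv (a ≫ G.t) ≫ a ≫ G.i) (𝟙 G.R) h1 ≫ 𝟙 G.R =
        gcomp G ((((G.t ≫ inv (a ≫ G.t)) ≫ a)) ≫ G.i) (𝟙 G.R) (by simpa using h1) := by
      rw [Category.comp_id]
      exact gcomp_congr G (by simp) rfl _
    rw [gcomp_congr G e1 e2, ← gcomp_assoc G _ _ _ (by simp [G.i_t]) (by simpa using h1)]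
    have e3 : gcomp G ((G.t ≫ inv (a ≫ G.t)) ≫ a) (((G.t ≫ inv (a ≫ G.t)) ≫ a) ≫ G.i)
        (by simp [G.i_t]) = 𝟙 G.R ≫ G.t ≫ G.e := by
      rw [gcomp_i]
      simp only [Category.assoc]
      rw [reassoc_of% hb1, Category.id_comp]
    rw [gcomp_congr G e3 rfl]
    exact e_gcomp G (𝟙 G.R)
  · rw [precomp_gcomp]
    have e1 : G.e ≫ G.t ≫ a = a := by rw [reassoc_of% G.e_t]
    have e2 : G.e ≫ 𝟙 G.R = a ≫ G.s ≫ G.e := by rw [Category.comp_id, reassoc_of% ha]
    rw [gcomp_congr G e1 e2]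
    exact gcomp_e G a

theorem comp_c_eq {T : Sp S} (m : T ⟶ pullback G.s G.t) :
    m ≫ G.c = gcomp G (m ≫ pullback.fst G.s G.t) (m ≫ pullback.snd G.s G.t)
      (by rw [Category.assoc, Category.assoc, pullback.condition]) := by
  have hm : m = pullback.lift (m ≫ pullback.fst G.s G.t) (m ≫ pullback.snd G.s G.t)
      (by rw [Category.assoc, Category.assoc, pullback.condition]) := by
    apply pullback.hom_ext
    · rw [pullback.lift_fst]
    · rw [pullback.lift_snd]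
  exact congrArg (· ≫ G.c) hm

theorem isPullback_c_snd : IsPullback G.c (pullback.snd G.s G.t) G.s G.s := by
  have w : G.c ≫ G.s = pullback.snd G.s G.t ≫ G.s := by
    have := comp_c_eq G (𝟙 (pullback G.s G.t))
    rw [Category.id_comp] at this
    rw [this, gcomp_s, Category.id_comp]
  refine ⟨⟨w⟩, ⟨PullbackCone.IsLimit.mk _
    (fun s => pullback.lift (gcomp G s.fst (s.snd ≫ G.i)
        (by rw [Category.assoc, G.i_t]; exact s.condition)) s.snd
        (by rw [gcomp_s, Category.assoc, G.i_s]))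
    (fun s => ?_) (fun s => ?_) (fun s m h1 h2 => ?_)⟩⟩
  · change pullback.lift _ _ _ ≫ G.c = s.fst
    change gcomp G (gcomp G s.fst (s.snd ≫ G.i) _) s.snd _ = s.fst
    rw [gcomp_assoc G _ _ _ _ (by rw [Category.assoc, G.i_s])]
    have e : gcomp G (s.snd ≫ G.i) s.snd (by rw [Category.assoc, G.i_s]) = s.fst ≫ G.s ≫ G.e := by
      rw [i_gcomp, ← Category.assoc, ← s.condition, Category.assoc]
    rw [gcomp_congr G rfl e, gcomp_e]
  · exact pullback.lift_snd _ _ _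
  · change m ≫ G.c = s.fst at h1
    change m ≫ pullback.snd G.s G.t = s.snd at h2
    apply pullback.hom_ext
    · rw [pullback.lift_fst]
      have h1' := comp_c_eq G m
      rw [h1] at h1'
      have e2 : s.snd ≫ G.i = (m ≫ pullback.snd G.s G.t) ≫ G.i := by rw [h2]
      rw [gcomp_congr G h1' e2,
        gcomp_assoc G _ _ _ _ (by simp [G.i_t])]
      have e : gcomp G (m ≫ pullback.snd G.s G.t) ((m ≫ pullback.snd G.s G.t) ≫ G.i)
          (by simp [G.i_t]) = (m ≫ pullback.fst G.s G.t) ≫ G.s ≫ G.e := by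
        rw [gcomp_i]
        simp only [Category.assoc]
        rw [← pullback.condition_assoc]
      rw [gcomp_congr G rfl e, gcomp_e]
    · rw [pullback.lift_snd, h2]

theorem s10142_part2 (φ : pullback G.t G.t ⟶ pullback G.s G.t)
    (h1 : φ ≫ pullback.fst G.s G.t = pullback.fst G.t G.t)
    (hc : (pullback.fst G.t G.t ≫ G.i) ≫ G.s = pullback.snd G.t G.t ≫ G.t)
    (h2 : φ ≫ pullback.snd G.s G.t =
      gcomp G (pullback.fst G.t G.t ≫ G.i) (pullback.snd G.t G.t) hc) :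
    IsIso φ ∧ φ ≫ G.c = pullback.snd G.t G.t := by
  have hφc : φ ≫ G.c = pullback.snd G.t G.t := by
    rw [comp_c_eq, gcomp_congr G h1 h2, ← gcomp_assoc G _ _ _ (by rw [Category.assoc, G.i_t]) hc]
    have e : gcomp G (pullback.fst G.t G.t) (pullback.fst G.t G.t ≫ G.i)
        (by rw [Category.assoc, G.i_t]) = pullback.snd G.t G.t ≫ G.t ≫ G.e := by
      rw [gcomp_i, pullback.condition_assoc]
    rw [gcomp_congr G e rfl, e_gcomp]
  have hct : pullback.fst G.s G.t ≫ G.t = G.c ≫ G.t := by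
    have := comp_c_eq G (𝟙 (pullback G.s G.t))
    rw [Category.id_comp] at this
    rw [this, gcomp_t, Category.id_comp]
  refine ⟨⟨pullback.lift (pullback.fst G.s G.t) G.c hct, ?_, ?_⟩, hφc⟩
  · apply pullback.hom_ext
    · rw [Category.assoc, pullback.lift_fst, h1, Category.id_comp]
    · rw [Category.assoc, pullback.lift_snd, hφc, Category.id_comp]
  · apply pullback.hom_ext
    · rw [Category.assoc, h1, pullback.lift_fst, Category.id_comp]
    · rw [Category.assoc, h2, precomp_gcomp, Category.id_comp]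
      have e1 : pullback.lift (pullback.fst G.s G.t) G.c hct ≫ pullback.fst G.t G.t ≫ G.i =
          pullback.fst G.s G.t ≫ G.i := by
        rw [pullback.lift_fst_assoc]
      have e2 : pullback.lift (pullback.fst G.s G.t) G.c hct ≫ pullback.snd G.t G.t =
          gcomp G (pullback.fst G.s G.t) (pullback.snd G.s G.t) pullback.condition := by
        rw [pullback.lift_snd]
        have := comp_c_eq G (𝟙 (pullback G.s G.t))
        rw [Category.id_comp] at this
        rw [this]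
        exact gcomp_congr G (Category.id_comp _) (Category.id_comp _) _
      rw [gcomp_congr G e1 e2, ← gcomp_assoc G _ _ _ (by rw [Category.assoc, G.i_s])
        pullback.condition]
      have e : gcomp G (pullback.fst G.s G.t ≫ G.i) (pullback.fst G.s G.t)
          (by rw [Category.assoc, G.i_s]) = pullback.snd G.s G.t ≫ G.t ≫ G.e := by
        rw [i_gcomp, pullback.condition_assoc]
      rw [gcomp_congr G e rfl, e_gcomp]

end Groth.Agent.H51
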