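import Groth.Agent.H51.GrpDecentSep
import Groth.Agent.H50.LimEvSep
import Groth.Agent.H50.ProperImage
import Groth.Agent.S10122
import Groth.Agent.H52.ZeroDim

/-! A section over the spectrum of a field of a decent algebraic space is a closed immersion; the
arrows of a groupoid over the spectrum of a field form a separated space when decent. -/

set_option autoImplicit false
universe u

open CategoryTheory CategoryTheory.Limits AlgebraicGeometry Opposite MorphismProperty
open AlgSp Groth.Agent.H50

namespace Groth.Agent.H51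

variable {S : Scheme.{u}}

/-- A section `e` of `st : X ⟶ h_{Spec k}` with `X` a decent algebraic space is a closed
immersion. -/
theorem repWith_isClosedImmersion_of_section_of_isDecent {k : Type u} [Field k]
    (σ : Spec (CommRingCat.of k) ⟶ S) {X : Sp S} (hX : IsAlgSpace X) (hd : IsDecent X)
    (e : (yon S).obj (Over.mk σ) ⟶ X) (st : X ⟶ (yon S).obj (Over.mk σ)) (hest : e ≫ st = 𝟙 _) :
    RepWith @IsClosedImmersion e := by
  haveI : IsSplitMono e := IsSplitMono.mk' ⟨st, hest⟩
  have hmono : Mono e := inferInstance
  have hrep : Representable e := hX.representable_from_yon e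
  -- `e` is quasi-compact, by decency
  have hqc : RepWith @QuasiCompact e := by
    let q : FieldPt X := Groth.Agent.H52.fieldPtOfHom σ e
    obtain ⟨p, hp, hm, hpq⟩ := hd (Points.mk q)
    obtain ⟨c, hc⟩ := Groth.Agent.H52.exists_factor_of_mono p q hm hpq.rep hp.symm
    rw [Groth.Agent.H52.toHom_fieldPtOfHom] at hc
    rw [← hc]
    refine (RepWith @QuasiCompact).comp_mem _ _ ?_ hpq
    rw [repWith_yon_map_iff]
    exact quasiCompact_of_field (k := k) c.left
  obtain ⟨V, a, hae, has⟩ := hX.atlas
  have sq := hrep.isPullback a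
  set i₀ := hrep.snd a with hi₀
  haveI : QuasiCompact i₀.left := hqc.property a _ i₀ sq
  haveI : Mono ((yon S).map i₀) :=
    (MorphismProperty.monomorphisms _).of_isPullback sq hmono
  haveI : Mono i₀ := (yon S).mono_of_mono_map inferInstance
  haveI : Mono i₀.left := inferInstance
  have het : RepWith @Etale (hrep.fst a) := (RepWith @Etale).of_isPullback sq.flip hae
  let t : hrep.pullback a ⟶ Over.mk σ := (yon S).preimage (hrep.fst a)
  have ht : (yon S).map t = hrep.fst a := (yon S).map_preimage _
  let g : V ⟶ Over.mk σ := (yon S).preimage (a ≫ st)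
  have hg : (yon S).map g = a ≫ st := (yon S).map_preimage _
  rw [← ht, repWith_yon_map_iff] at het
  have htg : i₀ ≫ g = t := by
    apply (yon S).map_injective
    rw [Functor.map_comp, hg, ht, ← Category.assoc, ← sq.w, Category.assoc, hest, Category.comp_id]
  haveI : Etale (i₀.left ≫ g.left) := by
    rw [← Over.comp_left, htg]; exact het
  have hcl : IsClosedImmersion i₀.left := isClosedImmersion_of_mono_of_etale_field i₀.left g.left
  exact repWith_isClosedImmersion_of_etale_cover e a hae has (hrep.fst a) _ sq
    ((repWith_yon_map_iff _ _).2 hcl)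

/-- A monomorphism of sheaves is separated. -/
theorem isSeparatedMor_of_mono {X Y : Sp S} (f : X ⟶ Y) [Mono f] : IsSeparatedMor f := by
  change RepWith @IsClosedImmersion (pullback.diagonal f)
  exact MorphismProperty.of_isIso (RepWith (S := S) @IsClosedImmersion) _

/-- The converse of `isSeparatedSp_of_isSeparatedMor_terminal`. -/
theorem isSeparatedMor_terminal_of_isSeparatedSp {X : Sp S} (hX : IsSeparatedSp X)
    (s : X ⟶ (yon S).obj (Over.mk (𝟙 S))) : IsSeparatedMor s := by
  have hT := Groth.Agent.H52.GeomConn.isTerminalYon S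
  let e : ⊤_ (Sp S) ≅ (yon S).obj (Over.mk (𝟙 S)) := terminalIsTerminal.uniqueUpToIso hT
  have hs' : s = terminal.from X ≫ e.hom := hT.hom_ext _ _
  have h1 : (RepWith (S := S) @IsClosedImmersion).diagonal (terminal.from X) :=
    (Groth.Agent.H49.diag_iff_diagonal_terminal _ X).1 hX
  change (RepWith (S := S) @IsClosedImmersion).diagonal s
  rw [hs']
  exact (MorphismProperty.cancel_right_of_respectsIso
    (RepWith (S := S) @IsClosedImmersion).diagonal _ e.hom).2 h1

/-- **S10128**. -/
theorem isSeparatedSp_R_of_field_of_isDecent (B : AlgSp.Sp S) (hB : AlgSp.IsAlgSpace B)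
    (G : AlgSp.GroupoidSp B) (hR : AlgSp.IsAlgSpace G.R) (k : Type u) [Field k]
    (σ : Spec (CommRingCat.of k) ⟶ S) (eU : G.U ≅ (AlgSp.yon S).obj (Over.mk σ))
    (hd : AlgSp.IsDecent G.R) : AlgSp.IsSeparatedSp G.R := by
  have hT := Groth.Agent.H52.GeomConn.isTerminalYon S
  have hU : IsAlgSpace G.U := (IsAlgSpace.yon_obj (Over.mk σ)).of_iso eU.symm
  -- the identity is a closed immersion
  have he' : RepWith @IsClosedImmersion (eU.inv ≫ G.e) :=
    repWith_isClosedImmersion_of_section_of_isDecent σ hR hd (eU.inv ≫ G.e) (G.s ≫ eU.hom) (by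
      rw [Category.assoc, ← Category.assoc G.e, G.e_s, Category.id_comp, eU.inv_hom_id])
  have he : RepWith @IsClosedImmersion G.e :=
    ((RepWith (S := S) @IsClosedImmersion).cancel_left_of_respectsIso eU.inv G.e).1 he'
  -- the unit section of the stabilizer
  have hdiag : G.e ≫ G.j = 𝟙 G.U ≫ G.diag := by
    apply pullback.hom_ext
    · rw [Category.assoc, G.j_fst, G.e_t, Category.id_comp]; exact (pullback.lift_fst _ _ _).symm
    · rw [Category.assoc, G.j_snd, G.e_s, Category.id_comp]; exact (pullback.lift_snd _ _ _).symm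
  let eG : G.U ⟶ G.stabilizer := pullback.lift G.e (𝟙 G.U) hdiag
  have heG : eG ≫ G.stabilizerι = G.e := pullback.lift_fst _ _ _
  haveI : IsSplitMono G.diag :=
    IsSplitMono.mk' ⟨pullback.fst _ _, by rw [GroupoidSp.diag, pullback.lift_fst]⟩
  haveI : Mono G.diag := inferInstance
  haveI : Mono G.stabilizerι := by
    change Mono (pullback.fst G.j G.diag); infer_instance
  have heGcl : RepWith @IsClosedImmersion eG :=
    repWith_isClosedImmersion_of_comp_of_isSeparatedMor eG G.stabilizerι (heG ▸ he)
      (isSeparatedMor_of_mono _)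
  have hj : IsSeparatedMor G.j :=
    (Groth.Agent.S10122.result S B hB G hU hR eG heG).1.2.2 heGcl
  -- `U ×_B U` is separated over `S`
  have hUsep : IsSeparatedSp G.U := by
    have h1 : IsSeparatedSp ((yon S).obj (Over.mk σ)) := by
      change RepWith @IsClosedImmersion _
      rw [repWith_diag_yon_iff]
      change IsClosedImmersion (pullback.diagonal σ)
      infer_instance
    have hiso := Groth.Agent.H52.ZeroDim.repWith_diag_iff_of_iso @IsClosedImmersion eU
    exact hiso.2 h1
  have hPsep : IsSeparatedSp (pullback G.pU G.pU) :=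
    Groth.Agent.H49.diag_of_isPullback (RepWith (S := S) @IsClosedImmersion)
      (IsPullback.of_hasPullback G.pU G.pU) hUsep hUsep
  let sP : pullback G.pU G.pU ⟶ (yon S).obj (Over.mk (𝟙 S)) := hT.from _
  have hsP : IsSeparatedMor sP := isSeparatedMor_terminal_of_isSeparatedSp hPsep sP
  exact isSeparatedSp_of_isSeparatedMor_terminal (G.j ≫ sP) (isSeparatedMor_comp _ _ hj hsP)

end Groth.Agent.H51
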