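import Groth.Agent.H51.FieldLarge
import Groth.Agent.H52.MonoPoint
import Groth.Prelude.Def_AlgSpGpd

set_option autoImplicit false
universe u
open CategoryTheory CategoryTheory.Limits AlgebraicGeometry Opposite MorphismProperty

namespace Groth.Agent.H51

open AlgSp

variable {S : Scheme.{u}}

/-- Every point of `h_{Spec Ω}` maps under `m : h_{Spec Ω} ⟶ F` to the class of `m`. -/
theorem points_map_field_eq {F : Sp S} {Ω : Type u} [Field Ω] (w : Spec (CommRingCat.of Ω) ⟶ S)
    (m : (yon S).obj (Over.mk w) ⟶ F) (p : FieldPt F) (hp : Points.mk p = Points.mk (Groth.Agent.H52.fieldPtOfHom w m))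
    (z : Points ((yon S).obj (Over.mk w))) : Points.map m z = Points.mk p := by
  rw [hp]
  induction z using Points.ind with
  | h q =>
  rw [Points.map_mk, Points.mk_eq_mk_iff, Groth.Agent.H52.rel_iff_toHom]
  obtain ⟨β, hβ⟩ := (yon S).map_surjective q.toHom
  refine ⟨q.K, inferInstance, q.str, 𝟙 _, β, ?_⟩
  rw [FieldPt.toHom_map, Groth.Agent.H52.toHom_fieldPtOfHom, hβ]
  exact ((congrArg (· ≫ q.toHom ≫ m) ((yon S).map_id q.pt)).trans (Category.id_comp _))

end Groth.Agent.H51

namespace Groth.Agent.H51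
open AlgSp
variable {S : Scheme.{u}}

theorem s10146 (B : AlgSp.Sp S)
    (G : AlgSp.GroupoidSp B) (k : Type u) [Field k]
    (σ : Spec (CommRingCat.of k) ⟶ S) (eU : G.U ≅ (AlgSp.yon S).obj (Over.mk σ)) (r : AlgSp.Points G.R) :
    ∃ (k' : Type u) (_ : Field k') (_ : Algebra k k'), IsAlgClosed k' ∧
      ∀ (G' : AlgSp.GroupoidSp B) (φ : AlgSp.GroupoidSp.Hom G' G), φ.IsRestriction →
        ∀ (eU' : G'.U ≅ (AlgSp.yon S).obj (Over.mk (Spec.map (CommRingCat.ofHom (algebraMap k k')) ≫ σ))),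
          φ.fU = eU'.hom ≫ (AlgSp.yon S).map (Over.homMk (Spec.map (CommRingCat.ofHom (algebraMap k k'))) rfl :
            Over.mk (Spec.map (CommRingCat.ofHom (algebraMap k k')) ≫ σ) ⟶ Over.mk σ) ≫ eU.inv →
          ∃ r' : G'.U ⟶ G'.R, (∀ x : AlgSp.Points G'.U, AlgSp.Points.map (r' ≫ φ.fR) x = r) ∧
            IsIso (r' ≫ G'.s) ∧ IsIso (r' ≫ G'.t) := by
  induction r using Points.ind with
  | h p =>
  obtain ⟨a_s, has⟩ := (yon S).map_surjective (p.toHom ≫ G.s ≫ eU.hom)
  obtain ⟨a_t, hat⟩ := (yon S).map_surjective (p.toHom ≫ G.t ≫ eU.hom)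
  let i_s : k →+* p.K := (Spec.preimage a_s.left).hom
  let i_t : k →+* p.K := (Spec.preimage a_t.left).hom
  have his : Spec.map (CommRingCat.ofHom i_s) = a_s.left := Spec.map_preimage a_s.left
  have hit : Spec.map (CommRingCat.ofHom i_t) = a_t.left := Spec.map_preimage a_t.left
  obtain ⟨L, _, _, ι, θ, hθ⟩ := exists_isAlgClosed_equalizing i_s i_t
  letI : Algebra k L := (ι.comp i_s).toAlgebra
  refine ⟨L, inferInstance, inferInstance, inferInstance, ?_⟩
  intro G' φ hres eU' hfU
  -- the schemes and morphisms over `S`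
  have hws : a_s.left ≫ σ = p.str := Over.w a_s
  have hwt : a_t.left ≫ σ = p.str := Over.w a_t
  have e_s : Spec.map (CommRingCat.ofHom ι) ≫ a_s.left =
      Spec.map (CommRingCat.ofHom (algebraMap k L)) := by
    rw [← his, ← Spec.map_comp]; rfl
  have e_t : Spec.map (CommRingCat.ofHom ι) ≫ a_t.left =
      Spec.map (CommRingCat.ofHom θ.toRingHom) ≫ Spec.map (CommRingCat.ofHom (algebraMap k L)) := by
    rw [← hit, ← Spec.map_comp, ← Spec.map_comp]
    congr 1
    ext x
    exact (hθ x).symm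
  let W' : Over S := Over.mk (Spec.map (CommRingCat.ofHom (algebraMap k L)) ≫ σ)
  let π : W' ⟶ Over.mk σ := Over.homMk (Spec.map (CommRingCat.ofHom (algebraMap k L))) rfl
  let b : W' ⟶ Over.mk p.str := Over.homMk (Spec.map (CommRingCat.ofHom ι)) (by
    change _ ≫ p.str = _ ≫ σ
    rw [← hws, ← Category.assoc, e_s])
  let Θ : W' ⟶ W' := Over.homMk (Spec.map (CommRingCat.ofHom θ.toRingHom)) (by
    change _ ≫ _ ≫ σ = _ ≫ σ
    rw [← Category.assoc, ← e_t, Category.assoc, hwt, ← hws, ← Category.assoc, e_s])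
  have hbs : b ≫ a_s = π := by
    ext1
    exact e_s
  have hbt : b ≫ a_t = Θ ≫ π := by
    ext1
    exact e_t
  haveI : IsIso Θ := by
    haveI : IsIso ((Over.forget S).map Θ) := by
      change IsIso (Spec.map (CommRingCat.ofHom θ.toRingHom))
      haveI : IsIso (CommRingCat.ofHom θ.toRingHom) :=
        (RingEquiv.toCommRingCatIso θ).isIso_hom
      infer_instance
    exact isIso_of_reflects_iso Θ (Over.forget S)
  -- the morphisms of sheaves
  let x : G'.U ⟶ G.R := eU'.hom ≫ (yon S).map b ≫ p.toHom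
  let β' : G'.U ⟶ G'.U := eU'.hom ≫ (yon S).map Θ ≫ eU'.inv
  have hfU' : φ.fU = eU'.hom ≫ (yon S).map π ≫ eU.inv := hfU
  have hπ : (yon S).map π = (yon S).map b ≫ p.toHom ≫ G.s ≫ eU.hom := by
    rw [← hbs, Functor.map_comp, has]
  have hΘπ : (yon S).map Θ ≫ (yon S).map π = (yon S).map b ≫ p.toHom ≫ G.t ≫ eU.hom := by
    rw [← Functor.map_comp, ← hbt, Functor.map_comp, hat]
  have hxs : x ≫ G.s = φ.fU := by
    rw [hfU', hπ]
    simp only [x, Category.assoc, Iso.hom_inv_id, Category.comp_id]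
  have hxt : x ≫ G.t = β' ≫ φ.fU := by
    rw [hfU']
    simp only [x, β', Category.assoc, Iso.inv_hom_id_assoc]
    rw [reassoc_of% hΘπ]
    simp only [Category.assoc, Iso.hom_inv_id, Category.comp_id]
  have hβ' : β' ≫ G'.pU = 𝟙 _ ≫ G'.pU := by
    rw [Category.id_comp, ← φ.fU_over, ← Category.assoc, ← hxt, ← hxs]
    simp only [Category.assoc, G.t_over, G.s_over]
  let y : G'.U ⟶ pullback G'.pU G'.pU := pullback.lift β' (𝟙 _) hβ'
  have hxy : x ≫ G.j = y ≫ φ.prodMap := by
    apply pullback.hom_ext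
    · simp only [Category.assoc, GroupoidSp.j_fst, GroupoidSp.Hom.prodMap, pullback.lift_fst,
        pullback.map, y, pullback.lift_fst_assoc]
      exact hxt
    · simp only [Category.assoc, GroupoidSp.j_snd, GroupoidSp.Hom.prodMap, pullback.lift_snd,
        pullback.map, y, pullback.lift_snd_assoc, Category.id_comp]
      exact hxs
  refine ⟨hres.lift x y hxy, ?_, ?_, ?_⟩
  · intro z
    rw [hres.lift_fst]
    have h1 : Points.map x z = Points.map ((yon S).map b ≫ p.toHom) (Points.map eU'.hom z) :=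
      Points.map_comp _ _ _
    rw [h1]
    apply points_map_field_eq
    rw [Points.mk_eq_mk_iff, Groth.Agent.H52.rel_iff_toHom]
    refine ⟨L, inferInstance, W'.hom, b, 𝟙 _, ?_⟩
    rw [Groth.Agent.H52.toHom_fieldPtOfHom]
    exact ((congrArg (· ≫ (yon S).map b ≫ p.toHom) ((yon S).map_id W')).trans
      (Category.id_comp _)).symm
  · have : hres.lift x y hxy ≫ G'.s = 𝟙 _ := by
      rw [← G'.j_snd, ← Category.assoc, hres.lift_snd]
      exact pullback.lift_snd _ _ _
    rw [this]
    infer_instance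
  · have : hres.lift x y hxy ≫ G'.t = β' := by
      rw [← G'.j_fst, ← Category.assoc, hres.lift_snd]
      exact pullback.lift_fst _ _ _
    rw [this]
    infer_instance

end Groth.Agent.H51
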