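import Groth.Agent.H51.DvrReducedSch
import Groth.Agent.H51.SpEtReduced
import Groth.Agent.H51.SpDim
import Groth.Agent.H51.SpBasic
import Groth.Agent.H52.GeomRed
import Groth.Agent.H52.GeomConn
import Groth.Agent.H53.LocPBase
import Groth.Agent.H49.AlgSpQC
import Groth.Agent.S10343
import Groth.Agent.S10350

/-! A flat proper algebraic space over a discrete valuation ring with reduced special fibre is
reduced, and so is its generic fibre. -/

set_option autoImplicit false
universe u

open CategoryTheory CategoryTheory.Limits AlgebraicGeometry IsLocalRing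
open AlgSp

namespace Groth.Agent.H51

variable {S : Scheme.{u}}

/-- Reducedness of the local ring at a point of an étale chart only depends on the point of the
sheaf. -/
theorem isReduced_stalk_chart_indep {X : Sp S} {U U' : Over S} (a : (yon S).obj U ⟶ X)
    (ha : RepWith @Etale a) (a' : (yon S).obj U' ⟶ X) (ha' : RepWith @Etale a') (u : ↥U.left)
    (u' : ↥U'.left) (h : Points.ofPt a u = Points.ofPt a' u')
    (hu : _root_.IsReduced (U.left.presheaf.stalk u)) :
    _root_.IsReduced (U'.left.presheaf.stalk u') := by
  obtain ⟨W, p₁, p₂, w, hp₁, hp₂, hw1, hw2, -⟩ := exists_common_etale_refinement a ha a' ha' u u' h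
  have h1 : _root_.IsReduced (W.left.presheaf.stalk w) :=
    Groth.Agent.H52.isReduced_stalk_of_etale p₁.left w (by rw [hw1]; exact hu)
  have h2 := Groth.Agent.H52.isReduced_stalk_of_flat p₂.left w h1
  rwa [hw2] at h2

/-- A sheaf with closed-immersion diagonal over the terminal sheaf `h_S` is quasi-separated. -/
theorem isQuasiSeparatedSp_of_isSeparatedMor_terminal {X : Sp S}
    (s : X ⟶ (yon S).obj (Over.mk (𝟙 S))) (hs : IsSeparatedMor s) : IsQuasiSeparatedSp X := by
  have hT := Groth.Agent.H52.GeomConn.isTerminalYon S
  let e : ⊤_ (Sp S) ≅ (yon S).obj (Over.mk (𝟙 S)) := terminalIsTerminal.uniqueUpToIso hT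
  have hs' : s = terminal.from X ≫ e.hom := hT.hom_ext _ _
  have h1 : (RepWith (S := S) @IsClosedImmersion).diagonal (terminal.from X) := by
    have h0 : (RepWith (S := S) @IsClosedImmersion).diagonal s := hs
    rw [hs'] at h0
    exact (MorphismProperty.cancel_right_of_respectsIso
      (RepWith (S := S) @IsClosedImmersion).diagonal _ e.hom).1 h0
  have h2 : RepWith @IsClosedImmersion (Limits.diag X) :=
    (Groth.Agent.H49.diag_iff_diagonal_terminal _ X).2 h1
  refine repWith_mono ?_ h2
  intro A B f hf
  have : IsClosedImmersion f := hf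
  exact (inferInstance : QuasiCompact f)

end Groth.Agent.H51
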