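import Groth.Agent.H51.MonoEtaleField
import Groth.Agent.H51.SpDvrReduced
import Groth.Agent.H52.MonoPoint
import Groth.Agent.H52.ClosedOver
import Groth.Agent.H50.ImmEtLocal
import Groth.Agent.H52.GeomConn
import Groth.Agent.S10116

/-! A rational point of a decent algebraic space over a field is a closed immersion; a decent group
algebraic space over a field is separated. -/

set_option autoImplicit false
universe u

open CategoryTheory CategoryTheory.Limits AlgebraicGeometry Opposite MorphismProperty MonoidalCategory MonObj
open AlgSp Groth.Agent.H50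

namespace Groth.Agent.H51

/-- A sheaf separated over the terminal sheaf `h_S` is separated. -/
theorem isSeparatedSp_of_isSeparatedMor_terminal {S : Scheme.{u}} {X : Sp S}
    (s : X ⟶ (yon S).obj (Over.mk (𝟙 S))) (hs : IsSeparatedMor s) : IsSeparatedSp X := by
  have hT := Groth.Agent.H52.GeomConn.isTerminalYon S
  let e : ⊤_ (Sp S) ≅ (yon S).obj (Over.mk (𝟙 S)) := terminalIsTerminal.uniqueUpToIso hT
  have hs' : s = terminal.from X ≫ e.hom := hT.hom_ext _ _
  have h1 : (RepWith (S := S) @IsClosedImmersion).diagonal (terminal.from X) := by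
    have h0 : (RepWith (S := S) @IsClosedImmersion).diagonal s := hs
    rw [hs'] at h0
    exact (MorphismProperty.cancel_right_of_respectsIso
      (RepWith (S := S) @IsClosedImmersion).diagonal _ e.hom).1 h0
  exact (Groth.Agent.H49.diag_iff_diagonal_terminal _ X).2 h1

/-- A rational point of a decent algebraic space over a field is a closed immersion. -/
theorem repWith_isClosedImmersion_of_rationalPoint_of_isDecent {k : Type u} [Field k]
    {X : Sp (Spec (CommRingCat.of k))} (hX : IsAlgSpace X) (hd : IsDecent X)
    (e : (yon (Spec (CommRingCat.of k))).obj (Over.mk (𝟙 _)) ⟶ X) :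
    RepWith @IsClosedImmersion e := by
  have hT := Groth.Agent.H52.GeomConn.isTerminalYon (Spec (CommRingCat.of k))
  haveI hmono : Mono e := hT.mono_from e
  have hrep : Representable e := hX.representable_from_yon e
  -- `e` is quasi-compact, by decency
  have hqc : RepWith @QuasiCompact e := by
    let q : FieldPt X := Groth.Agent.H52.fieldPtOfHom (𝟙 (Spec (CommRingCat.of k))) e
    obtain ⟨p, hp, hm, hpq⟩ := hd (Points.mk q)
    obtain ⟨c, hc⟩ := Groth.Agent.H52.exists_factor_of_mono p q hm hpq.rep hp.symm
    rw [Groth.Agent.H52.toHom_fieldPtOfHom] at hc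
    rw [← hc]
    refine (RepWith @QuasiCompact).comp_mem _ _ ?_ hpq
    rw [repWith_yon_map_iff]
    exact quasiCompact_of_field (k := k) c.left
  obtain ⟨V, a, hae, has⟩ := hX.atlas
  have sq := hrep.isPullback a
  set i₀ := hrep.snd a with hi₀
  haveI : QuasiCompact i₀.left := hqc.property a _ i₀ sq
  haveI : Mono ((yon (Spec (CommRingCat.of k))).map i₀) :=
    (MorphismProperty.monomorphisms _).of_isPullback sq hmono
  haveI : Mono i₀ := (yon (Spec (CommRingCat.of k))).mono_of_mono_map inferInstance
  haveI : Mono i₀.left := inferInstance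
  have het : RepWith @Etale (hrep.fst a) := (RepWith @Etale).of_isPullback sq.flip hae
  let t : hrep.pullback a ⟶ Over.mk (𝟙 (Spec (CommRingCat.of k))) :=
    Over.homMk (hrep.pullback a).hom (Category.comp_id _)
  have ht : hrep.fst a = (yon _).map t := hT.hom_ext _ _
  rw [ht, repWith_yon_map_iff] at het
  haveI : Etale (i₀.left ≫ V.hom) := by
    rw [Over.w i₀]; exact het
  have hcl : IsClosedImmersion i₀.left := isClosedImmersion_of_mono_of_etale_field i₀.left V.hom
  exact repWith_isClosedImmersion_of_etale_cover e a hae has (hrep.fst a) _ sq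
    ((repWith_yon_map_iff _ _).2 hcl)

/-- **S10127**. -/
theorem isSeparatedSp_grpObj_field_of_isDecent (k : Type u) [Field k]
    (G : Over ((AlgSp.yon (Spec (CommRingCat.of k))).obj (Over.mk (𝟙 _)))) [GrpObj G]
    (hG : AlgSp.IsAlgSpace G.left) (hd : AlgSp.IsDecent G.left) : AlgSp.IsSeparatedSp G.left := by
  have he := repWith_isClosedImmersion_of_rationalPoint_of_isDecent hG hd (η[G]).left
  have hsep : IsSeparatedMor G.hom :=
    (Groth.Agent.S10116.result _ _ (IsAlgSpace.yon_obj _) G hG).1.2 he
  exact isSeparatedSp_of_isSeparatedMor_terminal G.hom hsep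

end Groth.Agent.H51
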