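import Mathlib

/-! Translation by a generalized point on a group object in a cartesian monoidal category. -/

set_option autoImplicit false
universe v u
open CategoryTheory MonoidalCategory CartesianMonoidalCategory MonObj GrpObj

namespace Groth.Agent.H51

variable {C : Type u} [Category.{v} C] [CartesianMonoidalCategory C] (G : C) [GrpObj G]

/-- Left translation by the inverse of a `T`-point `ρ` of a group object `G`, as an automorphism of
`T ⊗ G` over `T`; it carries the graph of `ρ` to the graph of the unit. -/
theorem exists_translation_iso {T : C} (ρ : T ⟶ G) :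
    ∃ φ : (T ⊗ G) ≅ (T ⊗ G), φ.hom ≫ fst T G = fst T G ∧
      lift (𝟙 T) ρ ≫ φ.hom = lift (𝟙 T) (toUnit T ≫ η[G]) := by
  refine ⟨⟨lift (fst T G) ((fst T G ≫ ρ)⁻¹ * snd T G), lift (fst T G) ((fst T G ≫ ρ) * snd T G),
    ?_, ?_⟩, ?_, ?_⟩
  · apply CartesianMonoidalCategory.hom_ext
    · simp
    · simp [MonObj.comp_mul, GrpObj.comp_inv]
  · apply CartesianMonoidalCategory.hom_ext
    · simp
    · simp [MonObj.comp_mul, GrpObj.comp_inv]
  · simp
  · apply CartesianMonoidalCategory.hom_ext
    · simp
    · simp [MonObj.comp_mul, GrpObj.comp_inv, Hom.one_def]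

end Groth.Agent.H51
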