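import Mathlib.CategoryTheory.Sites.EpiMono
import Mathlib.CategoryTheory.Sites.Whiskering
import Mathlib.CategoryTheory.Sites.Continuous
import Mathlib.Algebra.Category.Grp.Limits

/-!
# Pushforward preserves locally surjective maps under a "pieces" condition (condition (B))
-/

set_option autoImplicit false
open CategoryTheory CategoryTheory.Limits Opposite
universe w w' v₁ v₂ u₁ u₂

namespace Groth.Agent.H51.PiecesPush

variable {C : Type u₁} [Category.{v₁} C] {D : Type u₂} [Category.{v₂} D]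
  (J : GrothendieckTopology C) (K : GrothendieckTopology D) (u : C ⥤ D)

/-- Condition (B) for a functor between sites. -/
def HasPiecesB : Prop :=
  ∀ (U : C) (R : Sieve (u.obj U)), R ∈ K (u.obj U) →
    ∃ (κ : Type w') (V : κ → C) (g : ∀ j, V j ⟶ U), Sieve.ofArrows V g ∈ J U ∧
      ∀ j, ∃ (ι : Type w') (W : ι → D) (p : ∀ a, W a ⟶ u.obj (V j)),
        (∀ a, R (p a ≫ u.map (g j))) ∧
        ∀ G : Sheaf K AddCommGrpCat.{w},
          Function.Bijective (fun (s : G.obj.obj (op (u.obj (V j)))) (a : ι) =>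
            (G.obj.map (p a).op s : G.obj.obj (op (W a))))

theorem isLocallySurjective_pushforward [u.IsContinuous J K]
    (hB : HasPiecesB.{w, w'} J K u)
    {F G : Sheaf K AddCommGrpCat.{w}} (φ : F ⟶ G) [Sheaf.IsLocallySurjective φ] :
    Sheaf.IsLocallySurjective ((u.sheafPushforwardContinuous AddCommGrpCat.{w} J K).map φ) := by
  constructor
  intro U s
  have h1 : Presheaf.imageSieve φ.hom (U := u.obj U) s ∈ K (u.obj U) :=
    Presheaf.imageSieve_mem K φ.hom s
  obtain ⟨κ, V, g, hcov, hp⟩ := hB U _ h1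
  refine J.superset_covering ?_ hcov
  rw [Sieve.ofArrows, Sieve.generate_le_iff]
  rintro _ _ ⟨j⟩
  obtain ⟨ι, W, p, hpR, hbij⟩ := hp j
  choose t ht using hpR
  obtain ⟨t₀, ht₀⟩ := (hbij F).2 t
  refine ⟨t₀, ?_⟩
  apply (hbij G).1
  funext a
  have e1 : F.obj.map (p a).op t₀ = t a := congrFun ht₀ a
  have e2 := ht a
  change G.obj.map (p a).op (φ.hom.app (op (u.obj (V j))) t₀) =
    G.obj.map (p a).op (G.obj.map (u.map (g j)).op s)
  rw [← NatTrans.naturality_apply, e1, e2, op_comp, Functor.map_comp]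
  rfl

end Groth.Agent.H51.PiecesPush
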