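import Groth.Agent.H51.EtOverDisjoint
import Groth.Agent.H51.PiecesPush
import Groth.Agent.H7.PropBIntegral
import Groth.Agent.H60.AlgSpQC
import Groth.Prelude.Def_AlgSpOX2
import Groth.Prelude.Def_AlgSp3

/-!
# Base change along an integral representable morphism satisfies condition (B)
-/

set_option autoImplicit false
set_option backward.isDefEq.respectTransparency false
universe u
open CategoryTheory CategoryTheory.Limits AlgebraicGeometry Opposite MorphismProperty

namespace Groth.Agent.H51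
open AlgSp

variable {S : Scheme.{u}}

/-- Lifting a factorization of underlying scheme maps to the small étale site. -/
theorem exists_lift_of_scheme_factor {X : Sp S} {E E' B : EtOver X} (e : E' ⟶ B) (m : E ⟶ B)
    (kk : E.obj.left.left ⟶ E'.obj.left.left)
    (h : kk ≫ e.hom.left.left = m.hom.left.left) : ∃ k : E ⟶ E', k ≫ e = m := by
  have hw : kk ≫ E'.obj.left.hom = E.obj.left.hom := by
    rw [← Over.w e.hom.left, ← Category.assoc, h]
    exact Over.w m.hom.left
  let k₁ : E.obj.left ⟶ E'.obj.left := Over.homMk kk hw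
  have hk₁ : k₁ ≫ e.hom.left = m.hom.left := Over.OverMorphism.ext h
  have hX : (yon S).map k₁ ≫ E'.obj.hom = E.obj.hom := by
    rw [← EtOver.w e, ← Category.assoc, ← Functor.map_comp, hk₁]
    exact EtOver.w m
  exact ⟨EtOver.homMk k₁ hX, EtOver.hom_ext _ _ hk₁⟩

variable {X Y : AlgSp.Space S} (f : X ⟶ Y) (hf : AlgSp.Representable f.hom)
  (hint : AlgSp.IsIntegralMor f.hom)

include hint in
/-- The projection `X ×_Y V ⟶ V` is integral for affine `V`. -/
theorem isIntegralHom_bcπ_of_isAffine (V : EtOver Y.obj) (hV : IsAffine V.obj.left.left) :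
    IsIntegralHom (hf.snd V.obj.hom).left := by
  obtain ⟨W, i, fst, hpb, -, hi⟩ := hint hV V.obj.hom
  have hpb' := hf.isPullback V.obj.hom
  let e := hpb'.isoIsPullback _ _ hpb
  have he : e.hom ≫ (yon S).map i = (yon S).map (hf.snd V.obj.hom) :=
    hpb'.isoIsPullback_hom_snd _ _ hpb
  let e₀ : hf.pullback V.obj.hom ≅ W := (yon S).preimageIso e
  have he₀ : e₀.hom ≫ i = hf.snd V.obj.hom := by
    apply (yon S).map_injective
    rw [Functor.map_comp]
    change (yon S).map ((yon S).preimage e.hom) ≫ _ = _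
    rw [Functor.map_preimage]
    exact he
  have hleft : (hf.snd V.obj.hom).left = e₀.hom.left ≫ i.left := by
    rw [← he₀]; rfl
  haveI : IsIso e₀.hom.left := (Over.forget S).map_isIso e₀.hom
  rw [hleft]
  infer_instance


include hint in
/-- Pieces at a point. -/
theorem exists_pieces_at (V₀ : EtOver Y.obj) (R : Sieve ((EtOver.bc hf).obj V₀))
    (hR : R ∈ etTop X.obj ((EtOver.bc hf).obj V₀)) (y : V₀.obj.left.left) :
    ∃ (V' : EtOver Y.obj) (g : V' ⟶ V₀), y ∈ Set.range g.hom.left.left ∧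
      ∃ (ι : Type u) (Wd : ι → EtOver X.obj) (p : ∀ a, Wd a ⟶ (EtOver.bc hf).obj V'),
        (∀ a, R (p a ≫ (EtOver.bc hf).map g)) ∧
        ∀ G : Sheaf (etTop X.obj) AddCommGrpCat.{u + 1},
          Function.Bijective (fun (s : G.obj.obj (op ((EtOver.bc hf).obj V'))) (a : ι) =>
            (G.obj.map (p a).op s : G.obj.obj (op (Wd a)))) := by
  -- an affine open neighbourhood
  obtain ⟨O, hO, hyO, -⟩ := exists_isAffineOpen_mem_and_subset (x := y) (U := ⊤) trivial
  let V₁ : EtOver Y.obj := EtOver.ofOpen V₀ O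
  let m₁ : V₁ ⟶ V₀ := EtOver.ofOpenι V₀ O
  have hV₁ : IsAffine V₁.obj.left.left := hO
  let R₁ : Sieve ((EtOver.bc hf).obj V₁) := R.pullback ((EtOver.bc hf).map m₁)
  have hR₁ : R₁ ∈ etTop X.obj ((EtOver.bc hf).obj V₁) := (etTop X.obj).pullback_stable _ hR
  rw [Groth.Agent.H60.AlgSpQC.mem_etTop_iff] at hR₁
  choose E e he hx using hR₁
  let c₁ : ((EtOver.bc hf).obj V₁).obj.left.left ⟶ V₁.obj.left.left := (hf.snd V₁.obj.hom).left
  haveI : IsIntegralHom c₁ := isIntegralHom_bcπ_of_isAffine f hf hint V₁ hV₁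
  haveI : ∀ x, Etale (e x).hom.left.left := fun x => EtOver.etale_left (e x)
  obtain ⟨V, c, v₀, hc, hcv, K, W, hdisj, hcovW, hh⟩ :=
    Groth.Agent.H7.hasPiecesAll_of_isIntegralHom c₁ _ (fun x => (E x).obj.left.left)
      (fun x => (e x).hom.left.left) (⟨y, hyO⟩ : O.toScheme) (fun x _ => ⟨x, hx x⟩)
  -- the étale `Y`-scheme `V'`
  let c' : Over.mk (c ≫ V₁.obj.left.hom) ⟶ V₁.obj.left := Over.homMk c rfl
  have hc' : RepWith @Etale ((yon S).map c') := (repWith_yon_map_iff _ _).2 hc
  let V' : EtOver Y.obj := EtOver.mk ((yon S).map c' ≫ V₁.obj.hom)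
    ((repWith_isMultiplicative (S := S) @Etale).comp_mem _ _ hc' V₁.property)
  let m : V' ⟶ V₁ := EtOver.homMk c' rfl
  have sq : IsPullback ((EtOver.bc hf).map m).hom.left.left (hf.snd V'.obj.hom).left c₁ c :=
    EtOver.isPullback_bcMap_left hf m
  let θ : ((EtOver.bc hf).obj V').obj.left.left ≅ pullback c₁ c := sq.isoPullback
  have hθ : θ.hom ≫ pullback.fst c₁ c = ((EtOver.bc hf).map m).hom.left.left :=
    sq.isoPullback_hom_fst
  let W' : K → ((EtOver.bc hf).obj V').obj.left.left.Opens := fun a => θ.hom ⁻¹ᵁ (W a)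
  have hdisj' : ∀ a b, a ≠ b → Disjoint (W' a) (W' b) := by
    intro a b hab T hTa hTb z hz
    exact (hdisj a b hab).le_bot ⟨hTa hz, hTb hz⟩
  have hcov' : (⨆ a, W' a) = ⊤ := by
    rw [eq_top_iff]
    intro z _
    have hz1 : θ.hom z ∈ ⨆ a, W a := by rw [hcovW]; trivial
    obtain ⟨k, hk⟩ := TopologicalSpace.Opens.mem_iSup.mp hz1
    exact TopologicalSpace.Opens.mem_iSup.mpr ⟨k, hk⟩
  refine ⟨V', m ≫ m₁, ⟨v₀, ?_⟩, K, fun a => EtOver.ofOpen ((EtOver.bc hf).obj V') (W' a),
    fun a => EtOver.ofOpenι ((EtOver.bc hf).obj V') (W' a), fun a => ?_,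
    fun G => bijective_restrict_of_disjoint_cover _ W' hdisj' hcov' G⟩
  · change O.ι (c v₀) = y
    rw [hcv]
    rfl
  · rw [Functor.map_comp, ← Category.assoc]
    change R₁ (EtOver.ofOpenι ((EtOver.bc hf).obj V') (W' a) ≫ (EtOver.bc hf).map m)
    obtain ⟨x, h, hcomm⟩ := hh a
    let kk : (W' a).toScheme ⟶ (E x).obj.left.left := (θ.hom ∣_ W a) ≫ h
    have hkk : kk ≫ (e x).hom.left.left =
        (EtOver.ofOpenι ((EtOver.bc hf).obj V') (W' a) ≫ (EtOver.bc hf).map m).hom.left.left := by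
      change ((θ.hom ∣_ W a) ≫ h) ≫ (e x).hom.left.left =
        (W' a).ι ≫ ((EtOver.bc hf).map m).hom.left.left
      rw [Category.assoc, hcomm, ← Category.assoc, morphismRestrict_ι, Category.assoc, hθ]
    obtain ⟨k, hk⟩ := exists_lift_of_scheme_factor (e x)
      (EtOver.ofOpenι ((EtOver.bc hf).obj V') (W' a) ≫ (EtOver.bc hf).map m) kk hkk
    rw [← hk]
    exact R₁.downward_closed (he x) k


include hint in
/-- Base change along an integral representable morphism satisfies condition (B). -/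
theorem hasPiecesB_bc :
    PiecesPush.HasPiecesB.{u + 1, u} (etTop Y.obj) (etTop X.obj) (EtOver.bc hf) := by
  intro V₀ R hR
  choose V' g hy ι Wd p hpR hbij using exists_pieces_at f hf hint V₀ R hR
  exact ⟨V₀.obj.left.left, V', g, ofArrows_mem_etTop V' g (fun y => ⟨y, hy y⟩),
    fun y => ⟨ι y, Wd y, p y, hpR y, hbij y⟩⟩

include hint in
/-- `f_*` preserves epimorphisms of abelian sheaves for `f` integral. -/
theorem epi_pushEt_map_of_isIntegralMor {F G : AlgSp.AbEt X.obj} (φ : F ⟶ G) [Epi φ] :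
    Epi ((AlgSp.pushEt hf AddCommGrpCat.{u + 1}).map φ) := by
  have hepi : Epi φ := inferInstance
  rw [← Sheaf.isLocallySurjective_iff_epi' _ φ] at hepi
  rw [← Sheaf.isLocallySurjective_iff_epi' _]
  exact PiecesPush.isLocallySurjective_pushforward _ _ _ (hasPiecesB_bc f hf hint) φ

end Groth.Agent.H51
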