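import Mathlib.Topology.Algebra.IsUniformGroup.Basic
import Mathlib.Topology.Algebra.OpenSubgroup
import Mathlib.Topology.UniformSpace.Cauchy
import Mathlib.Topology.Algebra.Group.Basic
import Mathlib.Algebra.BigOperators.Intervals

set_option autoImplicit false
set_option linter.unusedSectionVars false
universe u v w

namespace Groth.Agent.H51

open Topology Filter Uniformity

section OM

variable {M : Type u} [AddCommGroup M] [UniformSpace M] [IsUniformAddGroup M] [CompleteSpace M]
variable {N : Type v} [AddCommGroup N] [TopologicalSpace N] [IsTopologicalAddGroup N] [T2Space N]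

/-- Open mapping lemma for complete first countable linearly topologized groups: if the closures
of the images of a countable basis of open subgroups are neighbourhoods of zero, then those images
are already closed. -/
theorem closure_image_subset_image_zero
    (G : M →+ N) (hG : Continuous G) (W : ℕ → AddSubgroup M) (hWanti : Antitone W)
    (hWbasis : (𝓝 (0 : M)).HasBasis (fun _ => True) (fun i => (W i : Set M)))
    (hcl : ∀ i, closure (G '' (W i : Set M)) ∈ 𝓝 (0 : N)) :
    closure (G '' (W 0 : Set M)) ⊆ G '' (W 0 : Set M) := by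
  intro y hy
  -- the closed subgroups `Cl i`
  let Cl : ℕ → AddSubgroup N := fun i => ((W i).map G).topologicalClosure
  have hClcoe : ∀ i, (Cl i : Set N) = closure (G '' (W i : Set M)) := fun i => by
    simp [Cl, AddSubgroup.topologicalClosure_coe, AddSubgroup.coe_map]
  have hWopen : ∀ i, IsOpen (W i : Set M) := fun i =>
    (W i).isOpen_of_mem_nhds (g := 0) (hWbasis.mem_of_mem trivial)
  have hWclosed : ∀ i, IsClosed (W i : Set M) := fun i => (W i).isClosed_of_isOpen (hWopen i)
  -- one step of the approximation
  have step : ∀ i (z : N), z ∈ Cl i → ∃ w : M, w ∈ W i ∧ z - G w ∈ Cl (i + 1) := by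
    intro i z hz
    have hz' : z ∈ closure (G '' (W i : Set M)) := by rw [← hClcoe]; exact hz
    have hnb : {t : N | z - t ∈ Cl (i + 1)} ∈ 𝓝 z := by
      have hc : Continuous fun t : N => z - t := continuous_const.sub continuous_id
      have : (fun t : N => z - t) ⁻¹' (Cl (i + 1) : Set N) ∈ 𝓝 z := by
        apply hc.continuousAt.preimage_mem_nhds
        simp only [sub_self]
        rw [hClcoe]
        exact hcl (i + 1)
      exact this
    obtain ⟨t, ht1, ht2⟩ := mem_closure_iff_nhds.mp hz' _ hnb
    obtain ⟨w, hw, rfl⟩ := ht2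
    exact ⟨w, hw, ht1⟩
  choose! f hf using step
  -- the sequences
  let ys : ℕ → N := fun n => Nat.rec y (fun i z => z - G (f i z)) n
  have ys_succ : ∀ i, ys (i + 1) = ys i - G (f i (ys i)) := fun i => rfl
  have ys_mem : ∀ i, ys i ∈ Cl i := by
    intro i
    induction i with
    | zero => show y ∈ Cl 0; rw [← SetLike.mem_coe, hClcoe]; exact hy
    | succ i ih => rw [ys_succ]; exact (hf i (ys i) ih).2
  let ws : ℕ → M := fun i => f i (ys i)
  have ws_mem : ∀ i, ws i ∈ W i := fun i => (hf i (ys i) (ys_mem i)).1
  let s : ℕ → M := fun m => ∑ i ∈ Finset.range m, ws i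
  have hGs : ∀ m, G (s m) = y - ys m := by
    intro m
    induction m with
    | zero => simp [s, ys]
    | succ m ih =>
      have : s (m + 1) = s m + ws m := Finset.sum_range_succ _ _
      rw [this, map_add, ih, ys_succ]
      show y - ys m + G (f m (ys m)) = y - (ys m - G (f m (ys m)))
      abel
  -- differences of partial sums
  have hdiff : ∀ k n, k ≤ n → s n - s k ∈ W k := by
    intro k n hkn
    have : s n - s k = ∑ i ∈ Finset.Ico k n, ws i := by
      rw [Finset.sum_Ico_eq_sub _ hkn]
    rw [this]
    refine sum_mem (fun i hi => ?_)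
    exact hWanti (Finset.mem_Ico.mp hi).1 (ws_mem i)
  have hcauchy : CauchySeq s := by
    rw [(hWbasis.uniformity_of_nhds_zero).cauchySeq_iff']
    intro i _
    refine ⟨i, fun n hn => ?_⟩
    show s i - s n ∈ W i
    have := hdiff i n hn
    rw [← neg_sub]
    exact (W i).neg_mem this
  obtain ⟨w, hw⟩ := cauchySeq_tendsto_of_complete hcauchy
  have hwmem : w ∈ W 0 := by
    refine (hWclosed 0).mem_of_tendsto hw (Eventually.of_forall fun m => ?_)
    have := hdiff 0 m (Nat.zero_le _)
    simpa [s] using this
  -- `ys` tends to zero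
  have hys : Tendsto ys atTop (𝓝 0) := by
    rw [(closed_nhds_basis (0 : N)).tendsto_right_iff]
    rintro V ⟨hV, hVc⟩
    have hpre : G ⁻¹' V ∈ 𝓝 (0 : M) := by
      apply hG.continuousAt.preimage_mem_nhds
      rwa [map_zero]
    obtain ⟨j, _, hj⟩ := hWbasis.mem_iff.mp hpre
    refine eventually_atTop.mpr ⟨j, fun m hm => ?_⟩
    have h1 : (Cl m : Set N) ⊆ V := by
      rw [hClcoe]
      refine closure_minimal ?_ hVc
      rintro _ ⟨x, hx, rfl⟩
      exact hj (hWanti hm hx)
    exact h1 (ys_mem m)
  have h1 : Tendsto (fun m => G (s m)) atTop (𝓝 (G w)) := (hG.tendsto w).comp hw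
  have h2 : Tendsto (fun m => G (s m)) atTop (𝓝 y) := by
    have : (fun m => G (s m)) = fun m => y - ys m := funext hGs
    rw [this]
    simpa using (tendsto_const_nhds (x := y)).sub hys
  exact ⟨w, hwmem, tendsto_nhds_unique h1 h2⟩

theorem closure_image_subset_image
    (G : M →+ N) (hG : Continuous G) (W : ℕ → AddSubgroup M) (hWanti : Antitone W)
    (hWbasis : (𝓝 (0 : M)).HasBasis (fun _ => True) (fun i => (W i : Set M)))
    (hcl : ∀ i, closure (G '' (W i : Set M)) ∈ 𝓝 (0 : N)) (k : ℕ) :
    closure (G '' (W k : Set M)) ⊆ G '' (W k : Set M) := by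
  have hanti' : Antitone (fun i => W (k + i)) := fun a b hab => hWanti (Nat.add_le_add_left hab k)
  have hbasis' : (𝓝 (0 : M)).HasBasis (fun _ => True) (fun i => (W (k + i) : Set M)) := by
    refine ⟨fun U => ⟨fun hU => ?_, fun ⟨i, _, hi⟩ => ?_⟩⟩
    · obtain ⟨i, _, hi⟩ := hWbasis.mem_iff.mp hU
      exact ⟨i, trivial, subset_trans (hWanti (Nat.le_add_left i k)) hi⟩
    · exact mem_of_superset (hWbasis.mem_of_mem trivial) hi
  have := closure_image_subset_image_zero G hG (fun i => W (k + i)) hanti' hbasis'
    (fun i => hcl (k + i))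
  simpa using this

end OM

end Groth.Agent.H51
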