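import Groth.Agent.H51.LinTopWeak
import Groth.Agent.H51.OpenMapping
import Mathlib.RingTheory.Finiteness.Ideal
import Mathlib.Topology.Algebra.IsUniformGroup.Constructions

set_option autoImplicit false
set_option linter.unusedSectionVars false
universe u v w

namespace Groth.Agent.H51

open Topology Filter LinTop

section Adic

variable {A : Type u} [CommRing A] [UniformSpace A] [IsUniformAddGroup A] [IsTopologicalRing A]
  [T2Space A] [CompleteSpace A]

theorem closure_pow_subset_pow_of_fg (I : Ideal A) (hfg : I.FG)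
    (hopen : ∀ n : ℕ, IsOpen (closure ((I ^ n : Ideal A) : Set A)))
    (hbasis : ∀ U ∈ 𝓝 (0 : A), ∃ n : ℕ, closure ((I ^ n : Ideal A) : Set A) ⊆ U) (n : ℕ) :
    closure ((I ^ n : Ideal A) : Set A) ⊆ (I ^ n : Ideal A) := by
  obtain ⟨s, g, hg⟩ := Submodule.fg_iff_exists_fin_generating_family.mp (hfg.pow (n := n))
  let G : (Fin s → A) →+ A :=
    { toFun := fun a => ∑ j, a j * g j
      map_zero' := by simp
      map_add' := fun a b => by simp [add_mul, Finset.sum_add_distrib] }
  have hGc : Continuous G := by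
    show Continuous fun a : Fin s → A => ∑ j, a j * g j
    exact continuous_finsetSum _ fun j _ => (continuous_apply j).mul continuous_const
  let W : ℕ → AddSubgroup (Fin s → A) := fun k =>
    AddSubgroup.pi Set.univ (fun _ => ((I ^ k).closure).toAddSubgroup)
  have hWmem : ∀ k (a : Fin s → A), a ∈ W k ↔ ∀ j, a j ∈ closure ((I ^ k : Ideal A) : Set A) := by
    intro k a
    simp only [W, AddSubgroup.mem_pi, Set.mem_univ, true_imp_iff]
    rfl
  have hclanti : ∀ {k l : ℕ}, k ≤ l →
      closure ((I ^ l : Ideal A) : Set A) ⊆ closure ((I ^ k : Ideal A) : Set A) :=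
    fun h => closure_mono_ideal (Ideal.pow_le_pow_right h)
  have hWanti : Antitone W := by
    intro k l hkl a ha
    rw [hWmem] at ha ⊢
    exact fun j => hclanti hkl (ha j)
  have hWbasis : (𝓝 (0 : Fin s → A)).HasBasis (fun _ => True) (fun i => (W i : Set (Fin s → A))) := by
    refine ⟨fun U => ⟨fun hU => ?_, fun ⟨k, _, hk⟩ => ?_⟩⟩
    · rw [nhds_pi, Filter.mem_pi] at hU
      obtain ⟨F, _, t, ht, htU⟩ := hU
      have : ∀ j, ∃ k : ℕ, closure ((I ^ k : Ideal A) : Set A) ⊆ t j := fun j => hbasis _ (ht j)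
      choose kf hkf using this
      refine ⟨Finset.univ.sup kf, trivial, subset_trans ?_ htU⟩
      intro a ha j _
      have ha' := (hWmem _ a).mp ha j
      exact hkf j (hclanti (Finset.le_sup (Finset.mem_univ j)) ha')
    · refine mem_of_superset ?_ hk
      have : (W k : Set (Fin s → A)) =
          Set.pi Set.univ (fun _ => closure ((I ^ k : Ideal A) : Set A)) := by
        ext a
        simp only [SetLike.mem_coe, hWmem, Set.mem_pi, Set.mem_univ, true_imp_iff]
      rw [this]
      exact set_pi_mem_nhds Set.finite_univ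
        (fun j _ => (hopen k).mem_nhds (subset_closure (Ideal.zero_mem _)))
  -- `I ^ (n + k)` is contained in the image of `W k`
  have himg : ∀ k, ((I ^ (n + k) : Ideal A) : Set A) ⊆ G '' (W k : Set (Fin s → A)) := by
    intro k x hx
    have hx' : x ∈ I ^ k • Submodule.span A (Set.range g) := by
      rw [hg, smul_eq_mul, ← pow_add, add_comm]
      exact hx
    obtain ⟨a, ha, rfl⟩ := (Submodule.mem_ideal_smul_span_iff_exists_sum _ g x).mp hx'
    refine ⟨fun j => a j, ?_, ?_⟩
    · rw [SetLike.mem_coe, hWmem]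
      exact fun j => subset_closure (ha j)
    · show ∑ j, a j * g j = _
      rw [Finsupp.sum_fintype _ _ (fun i => by simp)]
      simp [smul_eq_mul]
  have hcl : ∀ k, closure (G '' (W k : Set (Fin s → A))) ∈ 𝓝 (0 : A) := by
    intro k
    refine mem_of_superset ?_ (closure_mono (himg k))
    exact (hopen (n + k)).mem_nhds (subset_closure (Ideal.zero_mem _))
  have key := closure_image_subset_image_zero G hGc W hWanti hWbasis hcl
  intro x hx
  have hx' : x ∈ closure (G '' (W 0 : Set (Fin s → A))) := by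
    refine closure_mono ?_ hx
    have := himg 0
    simpa using this
  obtain ⟨a, _, rfl⟩ := key hx'
  show ∑ j, a j * g j ∈ I ^ n
  refine sum_mem fun j _ => ?_
  apply Ideal.mul_mem_left
  rw [← hg]
  exact Submodule.subset_span (Set.mem_range_self j)

theorem isAdic_of_fg_of_closure_pow_basis (I : Ideal A) (hfg : I.FG)
    (hopen : ∀ n : ℕ, IsOpen (closure ((I ^ n : Ideal A) : Set A)))
    (hbasis : ∀ U ∈ 𝓝 (0 : A), ∃ n : ℕ, closure ((I ^ n : Ideal A) : Set A) ⊆ U) :
    IsAdic I := by
  have heq : ∀ n : ℕ, closure ((I ^ n : Ideal A) : Set A) = (I ^ n : Ideal A) := fun n =>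
    subset_antisymm (closure_pow_subset_pow_of_fg I hfg hopen hbasis n) subset_closure
  rw [isAdic_iff]
  constructor
  · intro n
    rw [← heq n]
    exact hopen n
  · intro U hU
    obtain ⟨n, hn⟩ := hbasis U hU
    exact ⟨n, by rwa [heq n] at hn⟩

end Adic

section AdicTaut

variable {A : Type u} [CommRing A] [TopologicalSpace A] [IsTopologicalRing A]
variable {B : Type v} [CommRing B] [UniformSpace B] [IsUniformAddGroup B] [IsTopologicalRing B]
  [T2Space B] [CompleteSpace B]

theorem isAdic_map_of_isTaut_of_fg (hA : IsPreadic A) (I : Ideal A)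
    (hI : IsIdealOfDefinition A I) (hfg : I.FG) (φ : A →+* B) (hφ : IsTaut φ) :
    IsAdic (I.map φ) := by
  refine isAdic_of_fg_of_closure_pow_basis (I.map φ) (hfg.map φ) ?_ ?_
  · intro n
    rw [← Ideal.map_pow]
    exact hφ.2.1 _ (isOpen_pow_of_isIdealOfDefinition hA I hI n)
  · intro U hU
    obtain ⟨I', hI'o, hI'U⟩ := hφ.2.2 U hU
    obtain ⟨n, _, hn⟩ := hI.2 _ (hI'o.mem_nhds I'.zero_mem)
    refine ⟨n, subset_trans ?_ hI'U⟩
    rw [← Ideal.map_pow]
    exact closure_mono_ideal (Ideal.map_mono (fun x hx => hn hx))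

end AdicTaut

end Groth.Agent.H51
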