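import Groth.Prelude.Def_W4stk3formalspacesTaut

set_option autoImplicit false
set_option linter.unusedSectionVars false
universe u v w

namespace Groth.Agent.H51

open Topology Filter

section Basic

variable {A : Type u} [CommRing A] [TopologicalSpace A] [IsTopologicalRing A]
variable {B : Type v} [CommRing B] [TopologicalSpace B] [IsTopologicalRing B]

theorem isClosed_of_isOpen_ideal (I : Ideal A) (h : IsOpen (I : Set A)) : IsClosed (I : Set A) :=
  I.toAddSubgroup.isClosed_of_isOpen h

theorem isOpen_ideal_of_mem_nhds (I : Ideal A) (h : (I : Set A) ∈ 𝓝 (0 : A)) :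
    IsOpen (I : Set A) :=
  I.toAddSubgroup.isOpen_of_mem_nhds (g := 0) h

theorem isOpen_closure_of_isOpen (I : Ideal A) (h : IsOpen (I : Set A)) :
    IsOpen (closure (I : Set A)) := by
  rw [(isClosed_of_isOpen_ideal I h).closure_eq]; exact h

theorem closure_eq_self_of_isOpen (I : Ideal A) (h : IsOpen (I : Set A)) :
    closure (I : Set A) = I :=
  (isClosed_of_isOpen_ideal I h).closure_eq

theorem isOpen_closure_of_le {I J : Ideal A} (hIJ : I ≤ J)
    (h : IsOpen (closure (I : Set A))) : IsOpen (closure (J : Set A)) := by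
  have h1 : I.closure ≤ J.closure := fun x hx => closure_mono (fun y hy => hIJ hy) hx
  exact Ideal.isOpen_of_isOpen_subideal h1 h

theorem closure_mul_closure_le (I J : Ideal A) : I.closure * J.closure ≤ (I * J).closure := by
  rw [Ideal.mul_le]
  intro r hr s hs
  exact map_mem_closure₂ continuous_mul hr hs (fun a ha b hb => Ideal.mul_mem_mul ha hb)

theorem closure_pow_le (I : Ideal A) (n : ℕ) : I.closure ^ n ≤ (I ^ n).closure := by
  induction n with
  | zero =>
    simp only [pow_zero, Ideal.one_eq_top]
    intro x _
    exact subset_closure (by simp)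
  | succ n ih =>
    rw [pow_succ, pow_succ]
    exact le_trans (Ideal.mul_mono_left ih) (closure_mul_closure_le _ _)

theorem closure_closure_pow (I : Ideal A) (n : ℕ) :
    closure ((I.closure ^ n : Ideal A) : Set A) = closure ((I ^ n : Ideal A) : Set A) := by
  apply subset_antisymm
  · exact closure_minimal (fun x hx => closure_pow_le I n hx) isClosed_closure
  · exact closure_mono (fun x hx => Ideal.pow_right_mono (fun y hy => subset_closure hy) n hx)

theorem map_closure_le (φ : A →+* B) (hφ : Continuous φ) (I : Ideal A) :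
    I.closure.map φ ≤ (I.map φ).closure := by
  rw [Ideal.map_le_iff_le_comap]
  intro x hx
  rw [Ideal.mem_comap]
  exact map_mem_closure hφ hx (fun a ha => Ideal.mem_map_of_mem φ ha)

theorem closure_map_closure (φ : A →+* B) (hφ : Continuous φ) (I : Ideal A) :
    closure ((I.closure.map φ : Ideal B) : Set B) = closure ((I.map φ : Ideal B) : Set B) := by
  apply subset_antisymm
  · exact closure_minimal (fun x hx => map_closure_le φ hφ I hx) isClosed_closure
  · exact closure_mono (fun x hx => Ideal.map_mono (fun y hy => subset_closure hy) hx)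

omit [IsTopologicalRing A] in
theorem closure_mono_ideal {I J : Ideal A} (h : I ≤ J) :
    closure (I : Set A) ⊆ closure (J : Set A) :=
  closure_mono (fun _ hx => h hx)

end Basic

section Nilp

variable {A : Type u} [CommRing A] [TopologicalSpace A] [IsTopologicalRing A]
  [IsLinearTopology A A]
variable {B : Type v} [CommRing B] [TopologicalSpace B] [IsTopologicalRing B]
  [IsLinearTopology B B]

theorem isTopologicallyNilpotent_iff_forall_ideal (a : A) :
    IsTopologicallyNilpotent a ↔
      ∀ J : Ideal A, IsOpen (J : Set A) → ∃ n : ℕ, a ^ n ∈ J := by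
  constructor
  · intro h J hJ
    exact h.exists_pow_mem_of_mem_nhds (hJ.mem_nhds J.zero_mem)
  · intro h
    rw [IsTopologicallyNilpotent, IsLinearTopology.hasBasis_open_ideal.tendsto_right_iff]
    intro J hJ
    obtain ⟨n, hn⟩ := h J hJ
    refine eventually_atTop.mpr ⟨n, fun m hm => ?_⟩
    obtain ⟨k, rfl⟩ := Nat.exists_eq_add_of_le hm
    simp only [SetLike.mem_coe]
    rw [pow_add]
    exact J.mul_mem_right _ hn

theorem isClosed_topologicalNilradical :
    IsClosed ((topologicalNilradical A : Ideal A) : Set A) := by
  rw [← closure_subset_iff_isClosed]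
  intro g hg
  show IsTopologicallyNilpotent g
  rw [isTopologicallyNilpotent_iff_forall_ideal]
  intro J hJ
  rw [mem_closure_iff_nhds_zero] at hg
  obtain ⟨t, ht, htg⟩ := hg J (hJ.mem_nhds J.zero_mem)
  have ht' : IsTopologicallyNilpotent t := ht
  obtain ⟨n, hn⟩ := (isTopologicallyNilpotent_iff_forall_ideal t).mp ht' J hJ
  refine ⟨n, ?_⟩
  have h1 : g - t ∈ J := by
    have : g - t = -(t - g) := by ring
    rw [this]; exact J.neg_mem htg
  have h2 : g ^ n - t ^ n ∈ J := by
    obtain ⟨c, hc⟩ := sub_dvd_pow_sub_pow g t n
    rw [hc]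
    exact J.mul_mem_right _ h1
  have : g ^ n = (g ^ n - t ^ n) + t ^ n := by ring
  rw [this]
  exact J.add_mem h2 hn

theorem isTopologicallyNilpotent_of_mem_closure_map (φ : A →+* B) (hφ : Continuous φ)
    (I : Ideal A) (hI : ∀ f ∈ I, IsTopologicallyNilpotent f) :
    ∀ g ∈ (I.map φ).closure, IsTopologicallyNilpotent g := by
  have h1 : I.map φ ≤ topologicalNilradical B := by
    rw [Ideal.map_le_iff_le_comap]
    intro x hx
    exact (hI x hx).map hφ
  intro g hg
  have : closure ((I.map φ : Ideal B) : Set B) ⊆ (topologicalNilradical B : Ideal B) :=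
    closure_minimal (fun x hx => h1 hx) isClosed_topologicalNilradical
  exact this hg

end Nilp

section IdealAlg

variable {R : Type u} [CommRing R]

theorem sup_pow_le_pow_sup (P Q : Ideal R) (n : ℕ) : (P ⊔ Q) ^ n ≤ P ^ n ⊔ Q := by
  induction n with
  | zero => simp
  | succ n ih =>
    rw [pow_succ, pow_succ]
    refine le_trans (Ideal.mul_mono_left ih) ?_
    rw [Ideal.sup_mul, Ideal.mul_sup]
    refine sup_le (sup_le le_sup_left ?_) ?_
    · exact le_trans Ideal.mul_le_right le_sup_right
    · exact le_trans Ideal.mul_le_left le_sup_right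

end IdealAlg

end Groth.Agent.H51
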