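import Groth.Agent.H51.LinTopTaut
import Mathlib.Topology.Algebra.UniformRing

set_option autoImplicit false
set_option linter.unusedSectionVars false
universe u v w

namespace Groth.Agent.H51

open Topology Filter LinTop UniformSpace

section DenseRange

variable {A : Type u} [CommRing A] [TopologicalSpace A] [IsTopologicalRing A]
variable {B : Type v} [CommRing B] [TopologicalSpace B] [IsTopologicalRing B]

/-- For a continuous ring homomorphism with dense range, the closure of the ideal generated by
the image of an ideal is the closure of the image. -/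
theorem closure_map_eq_closure_image (φ : A →+* B) (hφ : Continuous φ) (hd : DenseRange φ)
    (I : Ideal A) :
    closure ((I.map φ : Ideal B) : Set B) = closure (φ '' (I : Set A)) := by
  apply subset_antisymm
  · -- the closure of the image is an ideal
    let S : AddSubgroup B := (I.toAddSubgroup.map φ.toAddMonoidHom).topologicalClosure
    have hS : (S : Set B) = closure (φ '' (I : Set A)) := by
      simp [S, AddSubgroup.topologicalClosure_coe, AddSubgroup.coe_map]
    have hmul : ∀ b : B, ∀ x ∈ closure (φ '' (I : Set A)), b * x ∈ closure (φ '' (I : Set A)) := by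
      intro b x hx
      have hb : b ∈ closure (Set.range φ) := hd b
      refine map_mem_closure₂ (u := φ '' (I : Set A)) continuous_mul hb hx ?_
      rintro _ ⟨a, rfl⟩ _ ⟨i, hi, rfl⟩
      exact ⟨a * i, I.mul_mem_left a hi, map_mul φ a i⟩
    let J : Ideal B :=
      { carrier := closure (φ '' (I : Set A))
        add_mem' := fun {a b} ha hb => by
          have ha' : a ∈ S := by rw [← SetLike.mem_coe, hS]; exact ha
          have hb' : b ∈ S := by rw [← SetLike.mem_coe, hS]; exact hb
          have := S.add_mem ha' hb'
          rw [← SetLike.mem_coe, hS] at this; exact this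
        zero_mem' := subset_closure ⟨0, I.zero_mem, map_zero φ⟩
        smul_mem' := fun c x hx => hmul c x hx }
    have hJ : I.map φ ≤ J := by
      rw [Ideal.map_le_iff_le_comap]
      intro x hx
      exact subset_closure ⟨x, hx, rfl⟩
    exact closure_minimal (fun x hx => hJ hx) isClosed_closure
  · apply closure_mono
    rintro _ ⟨x, hx, rfl⟩
    exact Ideal.mem_map_of_mem φ hx

end DenseRange

section Completion

variable (A : Type u) [CommRing A] [UniformSpace A] [IsUniformAddGroup A] [IsTopologicalRing A]
  [IsLinearTopology A A]

theorem isTaut_coeRingHom :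
    IsTaut (Completion.coeRingHom : A →+* Completion A) := by
  have hcont : Continuous (Completion.coeRingHom : A →+* Completion A) :=
    Completion.continuous_coeRingHom
  have hd : DenseRange (Completion.coeRingHom : A →+* Completion A) := Completion.denseRange_coe
  refine ⟨hcont, ?_, ?_⟩
  · intro I hI
    have h1 : closure ((Completion.coeRingHom : A →+* Completion A) '' (I : Set A)) ∈
        𝓝 (0 : Completion A) := by
      have := (Completion.isDenseInducing_coe (α := A)).closure_image_mem_nhds
        (hI.mem_nhds I.zero_mem)
      rw [Completion.coe_zero] at this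
      exact this
    rw [← closure_map_eq_closure_image _ hcont hd] at h1
    exact isOpen_ideal_of_mem_nhds (I.map _).closure h1
  · intro U hU
    obtain ⟨C, ⟨hC, hCc⟩, hCU⟩ := (closed_nhds_basis (0 : Completion A)).mem_iff.mp hU
    have hpre : (Completion.coeRingHom : A →+* Completion A) ⁻¹' C ∈ 𝓝 (0 : A) := by
      apply hcont.continuousAt.preimage_mem_nhds
      rwa [map_zero]
    obtain ⟨I, hIo, hI⟩ := IsLinearTopology.hasBasis_open_ideal.mem_iff.mp hpre
    refine ⟨I, hIo, subset_trans ?_ hCU⟩
    rw [closure_map_eq_closure_image _ hcont hd]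
    refine closure_minimal ?_ hCc
    rintro _ ⟨x, hx, rfl⟩
    exact hI hx

theorem isLinearTopology_of_isTaut {A : Type u} [CommRing A] [TopologicalSpace A]
    [IsTopologicalRing A] {B : Type v} [CommRing B] [TopologicalSpace B] [IsTopologicalRing B]
    (φ : A →+* B) (hφ : IsTaut φ) : IsLinearTopology B B := by
  have hb : (𝓝 (0 : B)).HasBasis (fun I : Ideal A => IsOpen (I : Set A))
      (fun I => (((I.map φ).closure : Ideal B) : Set B)) := by
    refine ⟨fun U => ⟨fun hU => ?_, fun ⟨I, hI, hIU⟩ => ?_⟩⟩
    · obtain ⟨I, hI, hIU⟩ := hφ.2.2 U hU
      exact ⟨I, hI, hIU⟩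
    · exact mem_of_superset ((hφ.2.1 I hI).mem_nhds (subset_closure (Ideal.zero_mem _))) hIU
  exact IsLinearTopology.mk_of_hasBasis _ hb

theorem isLinearTopology_completion : IsLinearTopology (Completion A) (Completion A) :=
  isLinearTopology_of_isTaut _ (isTaut_coeRingHom A)

theorem isWeaklyAdic_completion (hA : IsWeaklyPreadic A) : IsWeaklyAdic (Completion A) := by
  have := isLinearTopology_completion A
  exact ⟨isWeaklyPreadic_of_isTaut _ (isTaut_coeRingHom A) hA, inferInstance, inferInstance⟩

end Completion

end Groth.Agent.H51
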