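import Groth.Agent.H51.LinTopAdic

set_option autoImplicit false
set_option linter.unusedSectionVars false
universe u v w

namespace Groth.Agent.H51

open Topology Filter LinTop

section Lift

variable {R : Type u} [CommRing R]

/-- If the image of `I` in `R ⧸ K` is finitely generated, then `I ≤ J ⊔ K` for some finitely
generated `J ≤ I`. -/
theorem exists_fg_le_sup_of_fg_map_mk (I K : Ideal R)
    (hfg : (I.map (Ideal.Quotient.mk K)).FG) :
    ∃ J : Ideal R, J.FG ∧ J ≤ I ∧ I ≤ J ⊔ K := by
  classical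
  obtain ⟨S, hS⟩ := hfg
  have hmem : ∀ s ∈ S, ∃ x ∈ I, Ideal.Quotient.mk K x = s := by
    intro s hs
    have : s ∈ I.map (Ideal.Quotient.mk K) := by
      rw [← hS]; exact Ideal.subset_span hs
    exact (Ideal.mem_map_iff_of_surjective _ Ideal.Quotient.mk_surjective).mp this
  choose f hfI hfs using hmem
  let T : Finset R := S.attach.image (fun s => f s.1 s.2)
  refine ⟨Ideal.span (T : Set R), ⟨T, rfl⟩, ?_, ?_⟩
  · rw [Ideal.span_le]
    intro x hx
    simp only [T, Finset.coe_image, Set.mem_image, Finset.mem_coe, Finset.mem_attach, true_and,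
      Subtype.exists] at hx
    obtain ⟨s, hs, rfl⟩ := hx
    exact hfI s hs
  · intro x hx
    have h1 : Ideal.Quotient.mk K x ∈ (Ideal.span (T : Set R)).map (Ideal.Quotient.mk K) := by
      rw [Ideal.map_span]
      have : Ideal.Quotient.mk K x ∈ Ideal.span (S : Set (R ⧸ K)) := by
        rw [hS]; exact Ideal.mem_map_of_mem _ hx
      refine Ideal.span_mono ?_ this
      intro s hs
      refine ⟨f s hs, ?_, hfs s hs⟩
      simp only [T, Finset.coe_image, Set.mem_image, Finset.mem_coe, Finset.mem_attach, true_and,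
        Subtype.exists]
      exact ⟨s, hs, rfl⟩
    obtain ⟨j, hj, hjx⟩ := (Ideal.mem_map_iff_of_surjective _ Ideal.Quotient.mk_surjective).mp h1
    have h2 : x - j ∈ K := by
      rw [← Ideal.Quotient.eq]; exact hjx.symm
    have : x = j + (x - j) := by ring
    rw [this]
    exact Ideal.add_mem _ (Ideal.mem_sup_left hj) (Ideal.mem_sup_right h2)

end Lift

section Cot

variable {A : Type u} [CommRing A] [UniformSpace A] [IsUniformAddGroup A] [IsTopologicalRing A]

theorem closure_pow_mul_closure_pow_le (I : Ideal A) (a b : ℕ) :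
    (I ^ a).closure * (I ^ b).closure ≤ (I ^ (a + b)).closure := by
  rw [pow_add]
  exact closure_mul_closure_le _ _

theorem isAdicRing_of_isWeaklyAdic_of_fg_cotangent (hA : IsWeaklyAdic A)
    (I : Ideal A) (hI : IsIdealOfDefinition A I)
    (hfg : (I.map (Ideal.Quotient.mk ((I ^ 2).closure))).FG) :
    IsAdicRing A ∧ ∃ J : Ideal A, IsIdealOfDefinition A J ∧ J.FG := by
  obtain ⟨hwp, hT2, hcomp⟩ := hA
  have hlin : IsLinearTopology A A := hwp.1
  -- closures of powers of `I` are open
  have hopenI : ∀ n : ℕ, IsOpen (((I ^ n).closure : Ideal A) : Set A) := by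
    intro n
    rcases Nat.eq_zero_or_pos n with rfl | hn
    · simp
    · have h4 : IsPreadmissible A ∧ ∀ I : Ideal A, IsIdealOfDefinition A I →
          ∀ n : ℕ, 0 < n → IsOpen (closure ((I ^ n : Ideal A) : Set A)) :=
        ((isWeaklyPreadic_tfae (A := A)).out 0 3).mp hwp
      exact h4.2 I hI n hn
  -- and form a basis
  have hbasisI : ∀ U ∈ 𝓝 (0 : A), ∃ n : ℕ, 0 < n ∧ (((I ^ n).closure : Ideal A) : Set A) ⊆ U := by
    intro U hU
    obtain ⟨V, hVo, hVU⟩ := IsLinearTopology.hasBasis_open_ideal.mem_iff.mp hU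
    obtain ⟨n, hn0, hn⟩ := hI.2 _ (hVo.mem_nhds V.zero_mem)
    exact ⟨n, hn0, subset_trans (closure_minimal hn (isClosed_of_isOpen_ideal V hVo)) hVU⟩
  obtain ⟨J, hJfg, hJI, hIJ⟩ := exists_fg_le_sup_of_fg_map_mk I _ hfg
  have hIcl : ∀ n, I ^ n ≤ (I ^ n).closure := fun n x hx => subset_closure hx
  have hJn : ∀ n, J ^ n ≤ (I ^ n).closure := fun n => le_trans (Ideal.pow_right_mono hJI n) (hIcl n)
  have hclanti : ∀ {k l : ℕ}, k ≤ l → (I ^ l).closure ≤ (I ^ k).closure :=
    fun h => closure_mono_ideal (Ideal.pow_le_pow_right h)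
  -- step (b)
  have hb : ∀ n : ℕ, I ^ (n + 1) ≤ J ^ (n + 1) ⊔ (I ^ (n + 2)).closure := by
    intro n
    induction n with
    | zero => simpa using hIJ
    | succ n ih =>
      have h1 : I ^ (n + 1 + 1) ≤ (J ^ (n + 1) ⊔ (I ^ (n + 2)).closure) * (J ⊔ (I ^ 2).closure) := by
        rw [pow_succ]
        exact Ideal.mul_mono ih hIJ
      refine le_trans h1 ?_
      rw [Ideal.sup_mul, Ideal.mul_sup, Ideal.mul_sup]
      refine sup_le (sup_le ?_ ?_) (sup_le ?_ ?_)
      · rw [← pow_succ]; exact le_sup_left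
      · refine le_trans ?_ le_sup_right
        refine le_trans (Ideal.mul_mono_left (hJn (n + 1))) ?_
        exact closure_pow_mul_closure_pow_le I (n + 1) 2
      · refine le_trans ?_ le_sup_right
        have : J ≤ (I ^ 1).closure := by simpa using hJn 1
        refine le_trans (Ideal.mul_mono_right this) ?_
        exact closure_pow_mul_closure_pow_le I (n + 2) 1
      · refine le_trans ?_ le_sup_right
        refine le_trans (closure_pow_mul_closure_pow_le I (n + 2) 2) ?_
        exact hclanti (by omega)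
  -- step (c)
  have hc : ∀ n : ℕ, (I ^ (n + 1)).closure ≤ J ^ (n + 1) ⊔ (I ^ (n + 2)).closure := by
    intro n
    have ho : IsOpen ((J ^ (n + 1) ⊔ (I ^ (n + 2)).closure : Ideal A) : Set A) :=
      Ideal.isOpen_of_isOpen_subideal le_sup_right (hopenI (n + 2))
    exact closure_minimal (fun x hx => hb n hx) (isClosed_of_isOpen_ideal _ ho)
  -- step (d)
  have hd : ∀ n m : ℕ, (I ^ (n + 1)).closure ≤ J ^ (n + 1) ⊔ (I ^ (n + 1 + m)).closure := by
    intro n m
    induction m with
    | zero => exact le_sup_right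
    | succ m ih =>
      refine le_trans ih (sup_le le_sup_left ?_)
      have := hc (n + m)
      have e1 : n + m + 1 = n + 1 + m := by omega
      have e2 : n + m + 2 = n + 1 + (m + 1) := by omega
      rw [e1, e2] at this
      refine le_trans this (sup_le ?_ le_sup_right)
      exact le_trans (Ideal.pow_le_pow_right (by omega)) le_sup_left
  -- step (e)
  have he : ∀ n : ℕ, closure ((J ^ (n + 1) : Ideal A) : Set A) = ((I ^ (n + 1)).closure : Ideal A) := by
    intro n
    apply subset_antisymm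
    · exact closure_mono_ideal (Ideal.pow_right_mono hJI (n + 1))
    · intro x hx
      rw [mem_closure_iff_nhds_zero]
      intro U hU
      obtain ⟨m, _, hm⟩ := hbasisI U hU
      have hx' := hd n m hx
      obtain ⟨j, hj, u, hu, rfl⟩ := Submodule.mem_sup.mp hx'
      refine ⟨j, hj, hm ?_⟩
      have : j - (j + u) = -u := by ring
      rw [this]
      exact Ideal.neg_mem_iff _ |>.mpr (hclanti (by omega) hu)
  have hopenJ : ∀ n : ℕ, IsOpen (closure ((J ^ n : Ideal A) : Set A)) := by
    intro n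
    rcases n with _ | n
    · simp
    · rw [he n]; exact hopenI (n + 1)
  have hbasisJ : ∀ U ∈ 𝓝 (0 : A), ∃ n : ℕ, closure ((J ^ n : Ideal A) : Set A) ⊆ U := by
    intro U hU
    obtain ⟨m, _, hm⟩ := hbasisI U hU
    exact ⟨m, subset_trans (closure_mono_ideal (Ideal.pow_right_mono hJI m)) hm⟩
  have hadic : IsAdic J := isAdic_of_fg_of_closure_pow_basis J hJfg hopenJ hbasisJ
  refine ⟨⟨⟨J, hadic⟩, hT2, hcomp⟩, J, ⟨?_, ?_⟩, hJfg⟩
  · have := (isAdic_iff.mp hadic).1 1
    simpa using this
  · intro U hU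
    obtain ⟨n, hn⟩ := (isAdic_iff.mp hadic).2 U hU
    exact ⟨n + 1, Nat.succ_pos _, subset_trans (fun x hx => Ideal.pow_le_pow_right (Nat.le_succ n) hx) hn⟩

end Cot

end Groth.Agent.H51
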