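import Groth.Agent.H51.LinTopAdic
import Mathlib.RingTheory.Flat.FaithfullyFlat.Algebra

set_option autoImplicit false
set_option linter.unusedSectionVars false
universe u v w

namespace Groth.Agent.H51

open Topology Filter LinTop

section FF

variable {A : Type u} [CommRing A] [TopologicalSpace A] [IsTopologicalRing A]
variable {B : Type v} [CommRing B] [TopologicalSpace B] [IsTopologicalRing B]

/-- Faithfully flat descent of ideal membership along a taut faithfully flat map. -/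
theorem mem_of_map_mem_sup_closure (φ : A →+* B) (hφ : IsTautFFlat φ) (I : Ideal A)
    (hI : IsOpen (I : Set A)) (c : Ideal A) (h : I ≤ c) (a : A)
    (ha : φ a ∈ c.map φ ⊔ (I.map φ).closure) : a ∈ c := by
  have hff := hφ.2 I hI
  set ψ : A ⧸ I →+* B ⧸ (I.map φ).closure := descentMap φ I with hψ
  letI : Algebra (A ⧸ I) (B ⧸ (I.map φ).closure) := ψ.toAlgebra
  have hff' : Module.FaithfullyFlat (A ⧸ I) (B ⧸ (I.map φ).closure) := hff
  have key := Ideal.comap_map_eq_self_of_faithfullyFlat (B := B ⧸ (I.map φ).closure)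
    (c.map (Ideal.Quotient.mk I))
  have halg : algebraMap (A ⧸ I) (B ⧸ (I.map φ).closure) = ψ := rfl
  rw [halg] at key
  have hcomp : ψ.comp (Ideal.Quotient.mk I) = (Ideal.Quotient.mk (I.map φ).closure).comp φ := by
    ext x
    rfl
  have h1 : ψ (Ideal.Quotient.mk I a) ∈ (c.map (Ideal.Quotient.mk I)).map ψ := by
    have e : ψ (Ideal.Quotient.mk I a) = Ideal.Quotient.mk (I.map φ).closure (φ a) := rfl
    rw [e, Ideal.map_map, hcomp, ← Ideal.map_map]
    obtain ⟨y, hy, z, hz, hyz⟩ := Submodule.mem_sup.mp ha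
    rw [← hyz, map_add, Ideal.Quotient.eq_zero_iff_mem.mpr hz, add_zero]
    exact Ideal.mem_map_of_mem _ hy
  have h2 : Ideal.Quotient.mk I a ∈ c.map (Ideal.Quotient.mk I) := by
    rw [← key]
    exact h1
  obtain ⟨d, hd, hda⟩ := (Ideal.mem_map_iff_of_surjective _ Ideal.Quotient.mk_surjective).mp h2
  have h3 : a - d ∈ I := by
    rw [← Ideal.Quotient.eq]; exact hda.symm
  have : a = d + (a - d) := by ring
  rw [this]
  exact c.add_mem hd (h h3)

theorem mem_of_map_mem_closure (φ : A →+* B) (hφ : IsTautFFlat φ) (I : Ideal A)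
    (hI : IsOpen (I : Set A)) (a : A) (ha : φ a ∈ (I.map φ).closure) : a ∈ I :=
  mem_of_map_mem_sup_closure φ hφ I hI I le_rfl a (Ideal.mem_sup_right ha)

/-- The closure of an ideal is contained in its sum with any open ideal. -/
theorem closure_le_sup_of_isOpen (K J : Ideal B) (hJ : IsOpen (J : Set B)) :
    K.closure ≤ K ⊔ J := by
  have ho : IsOpen ((K ⊔ J : Ideal B) : Set B) := Ideal.isOpen_of_isOpen_subideal le_sup_right hJ
  exact closure_minimal (fun x hx => Ideal.mem_sup_left hx) (isClosed_of_isOpen_ideal _ ho)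

/-- If an ideal is contained in `K ⊔ J` for all open ideals `J`, it is in the closure of `K`. -/
theorem le_closure_of_forall_le_sup [IsLinearTopology A A] (K L : Ideal A)
    (h : ∀ J : Ideal A, IsOpen (J : Set A) → L ≤ K ⊔ J) : (L : Set A) ⊆ closure (K : Set A) := by
  intro x hx
  rw [mem_closure_iff_nhds_zero]
  intro U hU
  obtain ⟨J, hJo, hJU⟩ := IsLinearTopology.hasBasis_open_ideal.mem_iff.mp hU
  obtain ⟨k, hk, j, hj, rfl⟩ := Submodule.mem_sup.mp (h J hJo hx)
  refine ⟨k, hk, hJU ?_⟩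
  have : k - (k + j) = -j := by ring
  rw [this]
  exact J.neg_mem hj

/-- Descent of openness of closures along a taut faithfully flat map. -/
theorem isOpen_closure_of_isOpen_closure_map [IsLinearTopology A A] (φ : A →+* B)
    (hφ : IsTautFFlat φ) (b : Ideal A)
    (h : IsOpen (closure ((b.map φ : Ideal B) : Set B))) : IsOpen (closure (b : Set A)) := by
  obtain ⟨I'', hI''o, hI''⟩ := hφ.1.2.2 _ (h.mem_nhds (subset_closure (Ideal.zero_mem _)))
  have hsub : (I'' : Set A) ⊆ closure (b : Set A) := by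
    apply le_closure_of_forall_le_sup
    intro I' hI' a ha
    apply mem_of_map_mem_sup_closure φ hφ I' hI' (b ⊔ I') le_sup_right a
    have h1 : φ a ∈ (b.map φ).closure := hI'' (subset_closure (Ideal.mem_map_of_mem φ ha))
    have h2 := closure_le_sup_of_isOpen (b.map φ) (I'.map φ).closure (hφ.1.2.1 I' hI') h1
    have h3 : b.map φ ⊔ (I'.map φ).closure ≤ (b ⊔ I').map φ ⊔ (I'.map φ).closure :=
      sup_le_sup_right (Ideal.map_mono le_sup_left) _
    exact h3 h2
  have : I'' ≤ b.closure := hsub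
  exact Ideal.isOpen_of_isOpen_subideal this hI''o

theorem isCountablyGenerated_of_isTautFFlat [IsLinearTopology A A] [IsLinearTopology B B]
    (φ : A →+* B) (hφ : IsTautFFlat φ) (hB : (𝓝 (0 : B)).IsCountablyGenerated) :
    (𝓝 (0 : A)).IsCountablyGenerated := by
  obtain ⟨s, hs⟩ := (𝓝 (0 : B)).exists_antitone_basis
  have hch : ∀ n, ∃ I : Ideal A, IsOpen (I : Set A) ∧
      closure ((I.map φ : Ideal B) : Set B) ⊆ s n := fun n => hφ.1.2.2 _ (hs.mem n)
  choose I hIo hIs using hch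
  have hb : (𝓝 (0 : A)).HasBasis (fun _ : ℕ => True) (fun n => ((I n : Ideal A) : Set A)) := by
    refine ⟨fun U => ⟨fun hU => ?_, fun ⟨n, _, hn⟩ => ?_⟩⟩
    · obtain ⟨I', hI'o, hI'U⟩ := IsLinearTopology.hasBasis_open_ideal.mem_iff.mp hU
      have hJ' := hφ.1.2.1 I' hI'o
      obtain ⟨n, _, hn⟩ := hs.toHasBasis.mem_iff.mp
        (hJ'.mem_nhds (subset_closure (Ideal.zero_mem _)))
      refine ⟨n, trivial, subset_trans ?_ hI'U⟩
      intro a ha
      apply mem_of_map_mem_closure φ hφ I' hI'o a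
      exact hn (hIs n (subset_closure (Ideal.mem_map_of_mem φ ha)))
    · exact mem_of_superset ((hIo n).mem_nhds (Ideal.zero_mem _)) hn
  exact hb.isCountablyGenerated

theorem isWeaklyPreadmissible_of_isTautFFlat [IsLinearTopology A A] [IsLinearTopology B B]
    (φ : A →+* B) (hφ : IsTautFFlat φ) (hB : IsWeaklyPreadmissible B) :
    IsWeaklyPreadmissible A := by
  obtain ⟨_, J₀, hJ₀o, hJ₀⟩ := hB
  obtain ⟨I, hIo, hI⟩ := hφ.1.2.2 _ (hJ₀o.mem_nhds J₀.zero_mem)
  refine ⟨inferInstance, I, hIo, ?_⟩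
  intro f hf
  rw [isTopologicallyNilpotent_iff_forall_ideal]
  intro I' hI'
  have hfn : IsTopologicallyNilpotent (φ f) :=
    hJ₀ _ (hI (subset_closure (Ideal.mem_map_of_mem φ hf)))
  obtain ⟨n, hn⟩ := (isTopologicallyNilpotent_iff_forall_ideal (φ f)).mp hfn
    (I'.map φ).closure (hφ.1.2.1 I' hI')
  refine ⟨n, mem_of_map_mem_closure φ hφ I' hI' _ ?_⟩
  rwa [map_pow]

theorem isPreadmissible_of_isTautFFlat [IsLinearTopology A A] [IsLinearTopology B B]
    (φ : A →+* B) (hφ : IsTautFFlat φ) (hB : IsPreadmissible B) :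
    IsPreadmissible A := by
  obtain ⟨_, J₀, hJ₀o, hJ₀⟩ := hB
  obtain ⟨I, hIo, hI⟩ := hφ.1.2.2 _ (hJ₀o.mem_nhds J₀.zero_mem)
  refine ⟨inferInstance, I, hIo, ?_⟩
  intro U hU
  obtain ⟨I', hI'o, hI'U⟩ := IsLinearTopology.hasBasis_open_ideal.mem_iff.mp hU
  obtain ⟨n, hn0, hn⟩ := hJ₀ _ ((hφ.1.2.1 I' hI'o).mem_nhds (subset_closure (Ideal.zero_mem _)))
  refine ⟨n, hn0, subset_trans ?_ hI'U⟩
  intro a ha
  apply mem_of_map_mem_closure φ hφ I' hI'o a
  apply hn
  have h1 : φ a ∈ (I.map φ) ^ n := by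
    rw [← Ideal.map_pow]; exact Ideal.mem_map_of_mem φ ha
  have h2 : I.map φ ≤ J₀ := fun x hx => hI (subset_closure hx)
  exact Ideal.pow_right_mono h2 n h1

theorem isWeaklyPreadic_of_isTautFFlat [IsLinearTopology A A] [IsLinearTopology B B]
    (φ : A →+* B) (hφ : IsTautFFlat φ) (hB : IsWeaklyPreadic B) :
    IsWeaklyPreadic A := by
  have hBp : IsPreadmissible B := isPreadmissible_of_isWeaklyPreadic hB
  obtain ⟨_, I, hI⟩ := isPreadmissible_of_isTautFFlat φ hφ hBp
  -- `closure (φ(I)B)` is an ideal of definition of `B`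
  have hJ1 : IsIdealOfDefinition B (I.map φ).closure := by
    refine ⟨hφ.1.2.1 I hI.1, ?_⟩
    intro U hU
    obtain ⟨I', hI'o, hI'U⟩ := hφ.1.2.2 U hU
    obtain ⟨n, hn0, hn⟩ := hI.2 _ (hI'o.mem_nhds I'.zero_mem)
    refine ⟨n, hn0, subset_trans ?_ hI'U⟩
    intro x hx
    have h1 := closure_pow_le (I.map φ) n hx
    rw [← Ideal.map_pow] at h1
    exact closure_mono_ideal (Ideal.map_mono hn) h1
  have h4 : IsPreadmissible B ∧ ∀ J : Ideal B, IsIdealOfDefinition B J →
      ∀ n : ℕ, 0 < n → IsOpen (closure ((J ^ n : Ideal B) : Set B)) :=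
    ((isWeaklyPreadic_tfae (A := B)).out 0 3).mp hB
  refine ⟨inferInstance, I, ?_, ?_⟩
  · intro n
    rcases Nat.eq_zero_or_pos n with rfl | hn
    · simp
    · apply isOpen_closure_of_isOpen_closure_map φ hφ
      have := h4.2 _ hJ1 n hn
      rw [closure_closure_pow, ← Ideal.map_pow] at this
      exact this
  · intro U hU
    obtain ⟨V, hVo, hVU⟩ := IsLinearTopology.hasBasis_open_ideal.mem_iff.mp hU
    obtain ⟨n, _, hn⟩ := hI.2 _ (hVo.mem_nhds V.zero_mem)
    exact ⟨n, subset_trans (closure_minimal hn (isClosed_of_isOpen_ideal V hVo)) hVU⟩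

end FF

end Groth.Agent.H51
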