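import Groth.Agent.H51.LinTopFFlat

set_option autoImplicit false
set_option linter.unusedSectionVars false
universe u v w

namespace Groth.Agent.H51

open Topology Filter LinTop

section Alg

variable {R : Type u} [CommRing R] {S : Type v} [CommRing S]

theorem exists_fg_le_mem_map (φ : R →+* S) (I : Ideal R) (y : S) (hy : y ∈ I.map φ) :
    ∃ a : Ideal R, a.FG ∧ a ≤ I ∧ y ∈ a.map φ := by
  unfold Ideal.map at hy
  induction hy using Submodule.span_induction with
  | mem x hx =>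
    obtain ⟨i, hi, rfl⟩ := hx
    refine ⟨Ideal.span {i}, ⟨{i}, by simp⟩, ?_, ?_⟩
    · rw [Ideal.span_le]; simpa using hi
    · exact Ideal.mem_map_of_mem φ (Ideal.subset_span (Set.mem_singleton i))
  | zero => exact ⟨⊥, Submodule.fg_bot, bot_le, Ideal.zero_mem _⟩
  | add x y _ _ hx hy =>
    obtain ⟨a, hafg, haI, hxa⟩ := hx
    obtain ⟨b, hbfg, hbI, hyb⟩ := hy
    refine ⟨a ⊔ b, Submodule.FG.sup hafg hbfg, sup_le haI hbI, ?_⟩
    rw [Ideal.map_sup]
    exact Ideal.add_mem _ (Ideal.mem_sup_left hxa) (Ideal.mem_sup_right hyb)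
  | smul r x _ hx =>
    obtain ⟨a, hafg, haI, hxa⟩ := hx
    exact ⟨a, hafg, haI, Ideal.mul_mem_left _ r hxa⟩

theorem exists_fg_le_le_map_sup (φ : R →+* S) (I : Ideal R) (P : Ideal S) (M : Ideal S)
    (hM : M.FG) (h : M ≤ I.map φ ⊔ P) :
    ∃ a : Ideal R, a.FG ∧ a ≤ I ∧ M ≤ a.map φ ⊔ P := by
  revert h
  induction M, hM using Submodule.fg_induction with
  | singleton x =>
    intro hx
    have hx' : x ∈ I.map φ ⊔ P := hx (Submodule.mem_span_singleton_self x)
    obtain ⟨y, hy, p, hp, rfl⟩ := Submodule.mem_sup.mp hx'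
    obtain ⟨a, hafg, haI, hya⟩ := exists_fg_le_mem_map φ I y hy
    refine ⟨a, hafg, haI, ?_⟩
    rw [Submodule.span_singleton_le_iff_mem]
    exact Ideal.add_mem _ (Ideal.mem_sup_left hya) (Ideal.mem_sup_right hp)
  | sup M₁ M₂ _ _ h₁ h₂ =>
    intro h
    obtain ⟨a, hafg, haI, hMa⟩ := h₁ (le_trans le_sup_left h)
    obtain ⟨b, hbfg, hbI, hMb⟩ := h₂ (le_trans le_sup_right h)
    refine ⟨a ⊔ b, Submodule.FG.sup hafg hbfg, sup_le haI hbI, ?_⟩
    rw [Ideal.map_sup]
    refine sup_le (le_trans hMa ?_) (le_trans hMb ?_)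
    · exact sup_le_sup_right le_sup_left _
    · exact sup_le_sup_right le_sup_right _

end Alg

section FFAdic

variable {A : Type u} [CommRing A] [UniformSpace A] [IsUniformAddGroup A] [IsTopologicalRing A]
  [IsLinearTopology A A] [T2Space A] [CompleteSpace A]
variable {B : Type v} [CommRing B] [UniformSpace B] [IsUniformAddGroup B] [IsTopologicalRing B]

theorem isAdicRing_of_isTautFFlat_of_fg (hB : IsAdicRing B)
    (hJ : ∃ J : Ideal B, IsIdealOfDefinition B J ∧ J.FG) (φ : A →+* B) (hφ : IsTautFFlat φ) :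
    IsAdicRing A ∧ ∃ I : Ideal A, IsIdealOfDefinition A I ∧ I.FG := by
  obtain ⟨hBp, hBT2, hBc⟩ := hB
  obtain ⟨J, hJdef, hJfg⟩ := hJ
  have hBlin : IsLinearTopology B B := isLinearTopology_of_isPreadic hBp
  have hJpow : ∀ n : ℕ, IsOpen ((J ^ n : Ideal B) : Set B) :=
    isOpen_pow_of_isIdealOfDefinition hBp J hJdef
  -- step 2
  obtain ⟨I, hIo, hIJ⟩ := hφ.1.2.2 _ (hJdef.1.mem_nhds J.zero_mem)
  have hJ1o : IsOpen (((I.map φ).closure : Ideal B) : Set B) := hφ.1.2.1 I hIo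
  obtain ⟨n, _, hn⟩ := hJdef.2 _ (hJ1o.mem_nhds (Ideal.zero_mem _))
  -- step 3
  have h3 : J ^ n ≤ I.map φ ⊔ J ^ (n + 1) :=
    le_trans (fun x hx => hn hx) (closure_le_sup_of_isOpen _ _ (hJpow (n + 1)))
  obtain ⟨a, hafg, haI, haJ⟩ := exists_fg_le_le_map_sup φ I (J ^ (n + 1)) (J ^ n) hJfg.pow h3
  set K : Ideal B := a.map φ with hK
  have hKJ : K ≤ J := fun x hx => hIJ (subset_closure (Ideal.map_mono haI hx))
  -- step 4
  have h4 : ∀ N : ℕ, J ^ n ≤ K ⊔ J ^ (n + N) := by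
    intro N
    induction N with
    | zero => exact le_sup_right
    | succ N ih =>
      refine le_trans ih (sup_le le_sup_left ?_)
      have e : J ^ (n + N) = J ^ N * J ^ n := by rw [← pow_add, add_comm]
      rw [e]
      refine le_trans (Ideal.mul_mono_right haJ) ?_
      rw [Ideal.mul_sup]
      refine sup_le (le_trans Ideal.mul_le_right le_sup_left) (le_trans ?_ le_sup_right)
      rw [← pow_add]
      exact Ideal.pow_le_pow_right (by omega)
  -- step 5
  have h5 : ((J ^ n : Ideal B) : Set B) ⊆ closure (K : Set B) := by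
    apply le_closure_of_forall_le_sup
    intro V hV
    obtain ⟨N, _, hN⟩ := hJdef.2 _ (hV.mem_nhds V.zero_mem)
    refine le_trans (h4 N) (sup_le_sup_left ?_ _)
    exact le_trans (Ideal.pow_le_pow_right (Nat.le_add_left N n)) (fun x hx => hN hx)
  -- step 6
  have h6o : ∀ m : ℕ, IsOpen (closure ((K ^ m : Ideal B) : Set B)) := by
    intro m
    have h1 : J ^ (n * m) ≤ (K ^ m).closure := by
      rw [pow_mul]
      refine le_trans (Ideal.pow_right_mono (show J ^ n ≤ K.closure from h5) m) ?_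
      exact closure_pow_le K m
    exact Ideal.isOpen_of_isOpen_subideal h1 (hJpow _)
  have h6sub : ∀ m : ℕ, closure ((K ^ m : Ideal B) : Set B) ⊆ ((J ^ m : Ideal B) : Set B) := by
    intro m
    exact closure_minimal (fun x hx => Ideal.pow_right_mono hKJ m hx)
      (isClosed_of_isOpen_ideal _ (hJpow m))
  have h6b : ∀ U ∈ 𝓝 (0 : B), ∃ m : ℕ, closure ((K ^ m : Ideal B) : Set B) ⊆ U := by
    intro U hU
    obtain ⟨m, _, hm⟩ := hJdef.2 U hU
    exact ⟨m, subset_trans (h6sub m) hm⟩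
  -- step 8
  have h8o : ∀ m : ℕ, IsOpen (closure ((a ^ m : Ideal A) : Set A)) := by
    intro m
    apply isOpen_closure_of_isOpen_closure_map φ hφ
    rw [Ideal.map_pow]
    exact h6o m
  have h8b : ∀ U ∈ 𝓝 (0 : A), ∃ m : ℕ, closure ((a ^ m : Ideal A) : Set A) ⊆ U := by
    intro U hU
    obtain ⟨I', hI'o, hI'U⟩ := IsLinearTopology.hasBasis_open_ideal.mem_iff.mp hU
    obtain ⟨m, hm⟩ := h6b _ ((hφ.1.2.1 I' hI'o).mem_nhds (subset_closure (Ideal.zero_mem _)))
    refine ⟨m, subset_trans ?_ hI'U⟩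
    refine closure_minimal ?_ (isClosed_of_isOpen_ideal I' hI'o)
    intro x hx
    apply mem_of_map_mem_closure φ hφ I' hI'o x
    apply hm
    apply subset_closure
    rw [← Ideal.map_pow]
    exact Ideal.mem_map_of_mem φ hx
  have hadic : IsAdic a := isAdic_of_fg_of_closure_pow_basis a hafg h8o h8b
  refine ⟨⟨⟨a, hadic⟩, inferInstance, inferInstance⟩, a, ⟨?_, ?_⟩, hafg⟩
  · have := (isAdic_iff.mp hadic).1 1
    simpa using this
  · intro U hU
    obtain ⟨m, hm⟩ := (isAdic_iff.mp hadic).2 U hU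
    exact ⟨m + 1, Nat.succ_pos _,
      subset_trans (fun x hx => Ideal.pow_le_pow_right (Nat.le_succ m) hx) hm⟩

end FFAdic

end Groth.Agent.H51
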