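import Groth.Agent.H51.LinTopBasic
import Mathlib.RingTheory.Henselian
import Mathlib.Topology.Algebra.InfiniteSum.Nonarchimedean
import Mathlib.Topology.Algebra.InfiniteSum.Ring
import Mathlib.Topology.Algebra.InfiniteSum.NatInt

set_option autoImplicit false
set_option linter.unusedSectionVars false
universe u v w

namespace Groth.Agent.H51

open Topology Filter LinTop

section Hensel

variable {A : Type u} [CommRing A] [UniformSpace A] [IsUniformAddGroup A] [IsTopologicalRing A]
  [IsLinearTopology A A] [T2Space A] [CompleteSpace A]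

theorem nonarchimedeanAddGroup_of_isLinearTopology : NonarchimedeanAddGroup A where
  is_nonarchimedean := by
    intro U hU
    obtain ⟨J, hJo, hJU⟩ := IsLinearTopology.hasBasis_open_ideal.mem_iff.mp hU
    exact ⟨⟨J.toAddSubgroup, hJo⟩, hJU⟩

theorem summable_pow_mul_of_isTopologicallyNilpotent (h : A) (hh : IsTopologicallyNilpotent h)
    (z : ℕ → A) : Summable (fun j => h ^ j * z j) := by
  have := nonarchimedeanAddGroup_of_isLinearTopology (A := A)
  apply NonarchimedeanAddGroup.summable_of_tendsto_cofinite_zero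
  rw [Nat.cofinite_eq_atTop]
  have := IsLinearTopology.tendsto_mul_zero_of_left (R := A) (fun j => h ^ j) z hh
  exact this

theorem isAdicComplete_span_singleton_of_isTopologicallyNilpotent (h : A)
    (hh : IsTopologicallyNilpotent h) : IsAdicComplete (Ideal.span {h}) A := by
  have hpow : ∀ n : ℕ, (Ideal.span {h} ^ n • ⊤ : Submodule A A) = Ideal.span {h ^ n} := by
    intro n
    rw [Ideal.span_singleton_pow, smul_eq_mul, Ideal.mul_top]
  have hmem : ∀ (n : ℕ) (x y : A), x ≡ y [SMOD (Ideal.span {h} ^ n • ⊤ : Submodule A A)] ↔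
      ∃ c, x - y = h ^ n * c := by
    intro n x y
    rw [SModEq.sub_mem, hpow, Ideal.mem_span_singleton]
    rfl
  refine { toIsHausdorff := ⟨?_⟩, toIsPrecomplete := ⟨?_⟩ }
  · intro x hx
    by_contra hx0
    have hU : ({x}ᶜ : Set A) ∈ 𝓝 (0 : A) :=
      isOpen_compl_singleton.mem_nhds (fun h0 => hx0 (by simpa using h0.symm))
    obtain ⟨J, hJo, hJU⟩ := IsLinearTopology.hasBasis_open_ideal.mem_iff.mp hU
    obtain ⟨n, hn⟩ := hh.exists_pow_mem_of_mem_nhds (hJo.mem_nhds J.zero_mem)
    obtain ⟨c, hc⟩ := (hmem n x 0).mp (hx n)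
    have hxJ : x ∈ J := by
      rw [sub_zero] at hc
      rw [hc]
      exact J.mul_mem_right _ hn
    exact hJU hxJ rfl
  · intro f hf
    have hstep : ∀ k, ∃ c, f (k + 1) - f k = h ^ k * c := by
      intro k
      obtain ⟨c, hc⟩ := (hmem k (f k) (f (k + 1))).mp (hf (Nat.le_succ k))
      refine ⟨-c, ?_⟩
      rw [mul_neg, ← hc]; ring
    choose z hz using hstep
    have hsum : ∀ n, Summable (fun j => h ^ j * z (n + j)) := fun n =>
      summable_pow_mul_of_isTopologicallyNilpotent h hh (fun j => z (n + j))
    let T : ℕ → A := fun n => ∑' j, h ^ j * z (n + j)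
    have hT : ∀ n, T n = z n + h * T (n + 1) := by
      intro n
      show ∑' j, h ^ j * z (n + j) = _
      rw [(hsum n).tsum_eq_zero_add]
      simp only [pow_zero, one_mul, add_zero]
      congr 1
      show _ = h * ∑' j, h ^ j * z (n + 1 + j)
      rw [← (hsum (n + 1)).tsum_mul_left]
      congr 1
      ext j
      rw [pow_succ]
      have : n + (j + 1) = n + 1 + j := by omega
      rw [this]; ring
    refine ⟨f 0 + T 0, fun n => ?_⟩
    rw [hmem]
    refine ⟨-T n, ?_⟩
    have key : ∀ n, f 0 + T 0 = f n + h ^ n * T n := by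
      intro n
      induction n with
      | zero => simp
      | succ n ih =>
        rw [ih, hT n]
        have := hz n
        have e : f (n + 1) = f n + h ^ n * z n := by rw [← this]; ring
        rw [e, pow_succ]; ring
    rw [key n]; ring

theorem henselianRing_of_isWeakIdealOfDefinition (I : Ideal A)
    (hI : IsWeakIdealOfDefinition A I) : HenselianRing A I := by
  have hjac : I ≤ Ideal.jacobson ⊥ := by
    intro x hx
    have := isAdicComplete_span_singleton_of_isTopologicallyNilpotent x (hI.2 x hx)
    exact IsAdicComplete.le_jacobson_bot (Ideal.span {x}) (Ideal.mem_span_singleton_self x)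
  refine ⟨hjac, ?_⟩
  intro f hf a₀ h₁ h₂
  have hloc := isLocalHom_of_le_jacobson_bot I hjac
  have hunit : IsUnit (f.derivative.eval a₀) := IsUnit.of_map (Ideal.Quotient.mk I) _ h₂
  have := isAdicComplete_span_singleton_of_isTopologicallyNilpotent (f.eval a₀) (hI.2 _ h₁)
  obtain ⟨a, ha, haa⟩ := HenselianRing.is_henselian (I := Ideal.span {f.eval a₀}) f hf a₀
    (Ideal.mem_span_singleton_self _) (hunit.map _)
  refine ⟨a, ha, ?_⟩
  have : Ideal.span {f.eval a₀} ≤ I := by
    rw [Ideal.span_le]; simpa using h₁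
  exact this haa

end Hensel

end Groth.Agent.H51
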