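import Groth.Agent.H51.LinTopCompletion
import Groth.Agent.H51.OpenMapping
import Mathlib.Topology.Maps.OpenQuotient

set_option autoImplicit false
set_option linter.unusedSectionVars false
universe u v w

namespace Groth.Agent.H51

open Topology Filter LinTop UniformSpace

section Comp

variable {A : Type u} [CommRing A] [TopologicalSpace A] [IsTopologicalRing A]
variable {B : Type v} [CommRing B] [TopologicalSpace B] [IsTopologicalRing B]
variable {C : Type w} [CommRing C] [TopologicalSpace C] [IsTopologicalRing C]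

theorem IsTaut_comp (φ : A →+* B) (ψ : B →+* C) (hφ : IsTaut φ) (hψ : IsTaut ψ) :
    IsTaut (ψ.comp φ) := by
  have key : ∀ I : Ideal A, closure (((I.map φ).closure.map ψ : Ideal C) : Set C) =
      closure ((I.map (ψ.comp φ) : Ideal C) : Set C) := by
    intro I
    rw [closure_map_closure ψ hψ.1, Ideal.map_map]
  refine ⟨hψ.1.comp hφ.1, ?_, ?_⟩
  · intro I hI
    rw [← key]
    exact hψ.2.1 _ (hφ.2.1 I hI)
  · intro U hU
    obtain ⟨J, hJo, hJU⟩ := hψ.2.2 U hU
    obtain ⟨I, hIo, hIJ⟩ := hφ.2.2 _ (hJo.mem_nhds J.zero_mem)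
    refine ⟨I, hIo, subset_trans ?_ hJU⟩
    rw [← key]
    exact closure_mono_ideal (Ideal.map_mono (fun x hx => hIJ hx))

end Comp

section Surj

variable {A : Type u} [CommRing A] [UniformSpace A] [IsUniformAddGroup A] [IsTopologicalRing A]
  [IsLinearTopology A A] [CompleteSpace A]
variable {B : Type v} [CommRing B] [TopologicalSpace B] [IsTopologicalRing B] [T2Space B]

theorem isOpenMap_and_surjective_of_isTaut_denseRange
    (hA : (𝓝 (0 : A)).IsCountablyGenerated) (φ : A →+* B) (hφ : IsTaut φ) (hd : DenseRange φ) :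
    IsOpenMap φ ∧ Function.Surjective φ := by
  obtain ⟨x, hxo, hx⟩ := (IsLinearTopology.hasBasis_open_ideal (R := A)).exists_antitone_subbasis
  let W : ℕ → AddSubgroup A := fun i => (x i).toAddSubgroup
  have hWanti : Antitone W := fun i j hij a ha => hx.antitone hij ha
  have hWbasis : (𝓝 (0 : A)).HasBasis (fun _ => True) (fun i => (W i : Set A)) := hx.toHasBasis
  have hcl : ∀ i, closure (φ.toAddMonoidHom '' (W i : Set A)) ∈ 𝓝 (0 : B) := by
    intro i
    have h1 := hφ.2.1 (x i) (hxo i)
    rw [closure_map_eq_closure_image φ hφ.1 hd] at h1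
    exact h1.mem_nhds (subset_closure ⟨0, (x i).zero_mem, map_zero φ⟩)
  have key := fun k => closure_image_subset_image φ.toAddMonoidHom hφ.1 W hWanti hWbasis hcl k
  have himg : ∀ k, φ '' (x k : Set A) ∈ 𝓝 (0 : B) := fun k =>
    mem_of_superset (hcl k) (key k)
  have hopen : IsOpenMap φ := by
    rw [IsTopologicalAddGroup.isOpenMap_iff_nhds_zero]
    intro U hU
    rw [Filter.mem_map] at hU
    obtain ⟨k, _, hk⟩ := hWbasis.mem_iff.mp hU
    refine mem_of_superset (himg k) ?_
    rintro _ ⟨a, ha, rfl⟩
    exact hk ha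
  refine ⟨hopen, ?_⟩
  have hro : IsOpen (φ.toAddMonoidHom.range : Set B) := by
    have : (φ.toAddMonoidHom.range : Set B) = Set.range φ := rfl
    rw [this]
    exact hopen.isOpen_range
  have hrc : IsClosed (Set.range φ) := φ.toAddMonoidHom.range.isClosed_of_isOpen hro
  have : Set.range φ = Set.univ := by
    rw [← hrc.closure_eq]
    exact hd.closure_eq
  exact Set.range_eq_univ.mp this

end Surj

section Surj2

variable {A : Type u} [CommRing A] [UniformSpace A] [IsUniformAddGroup A] [IsTopologicalRing A]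
  [IsLinearTopology A A] [T2Space A] [CompleteSpace A]
variable {B : Type v} [CommRing B] [UniformSpace B] [IsUniformAddGroup B] [IsTopologicalRing B]
  [IsLinearTopology B B] [T2Space B]

theorem surjective_isOpenQuotientMap_completeSpace_of_isTaut_denseRange
    (hA : (𝓝 (0 : A)).IsCountablyGenerated) (φ : A →+* B) (hφ : IsTaut φ) (hd : DenseRange φ) :
    Function.Surjective φ ∧ IsOpenQuotientMap φ ∧ CompleteSpace B := by
  obtain ⟨ho, hs⟩ := isOpenMap_and_surjective_of_isTaut_denseRange hA φ hφ hd
  refine ⟨hs, ⟨hs, hφ.1, ho⟩, ?_⟩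
  -- completeness through the completion of `B`
  let ι : B →+* Completion B := Completion.coeRingHom
  have hι : IsTaut ι := isTaut_coeRingHom B
  have hdι : DenseRange ι := Completion.denseRange_coe
  have hcomp : IsTaut (ι.comp φ) := IsTaut_comp φ ι hφ hι
  have hdcomp : DenseRange (ι.comp φ) := by
    have := hdι.comp hd hι.1
    exact this
  obtain ⟨_, hs'⟩ := isOpenMap_and_surjective_of_isTaut_denseRange hA (ι.comp φ) hcomp hdcomp
  have hsι : Function.Surjective ((↑) : B → Completion B) := by
    intro b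
    obtain ⟨a, ha⟩ := hs' b
    exact ⟨φ a, ha⟩
  exact ((Completion.isUniformInducing_coe B).completeSpace_congr hsι).mpr inferInstance

end Surj2

end Groth.Agent.H51
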