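import Groth.Agent.H51.LinTopBasic

set_option autoImplicit false
set_option linter.unusedSectionVars false
universe u v w

namespace Groth.Agent.H51

open Topology Filter LinTop

section Taut

variable {A : Type u} [CommRing A] [TopologicalSpace A] [IsTopologicalRing A]
variable {B : Type v} [CommRing B] [TopologicalSpace B] [IsTopologicalRing B]
variable {C : Type w} [CommRing C] [TopologicalSpace C] [IsTopologicalRing C]

theorem isTaut_of_isTaut_comp [IsLinearTopology A A] [IsLinearTopology B B] [IsLinearTopology C C]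
    (φ : A →+* B) (ψ : B →+* C) (hφ : Continuous φ) (hψ : Continuous ψ)
    (h : IsTaut (ψ.comp φ)) : IsTaut ψ := by
  obtain ⟨_, h2, h3⟩ := h
  refine ⟨hψ, ?_, ?_⟩
  · intro J hJ
    have hI : IsOpen ((J.comap φ : Ideal A) : Set A) := hJ.preimage hφ
    have := h2 _ hI
    refine isOpen_closure_of_le ?_ this
    rw [← Ideal.map_map]
    exact Ideal.map_mono Ideal.map_comap_le
  · intro U hU
    obtain ⟨I, hI, hIU⟩ := h3 U hU
    let K : Ideal C := (I.map (ψ.comp φ)).closure
    have hKo : IsOpen (K : Set C) := h2 I hI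
    refine ⟨K.comap ψ, hKo.preimage hψ, ?_⟩
    refine subset_trans ?_ hIU
    exact closure_minimal (fun x hx => Ideal.map_comap_le hx) isClosed_closure

theorem isCountablyGenerated_of_isTaut [IsLinearTopology A A] [IsLinearTopology B B]
    (φ : A →+* B) (hφ : IsTaut φ) (hA : (𝓝 (0 : A)).IsCountablyGenerated) :
    (𝓝 (0 : B)).IsCountablyGenerated := by
  obtain ⟨_, h2, h3⟩ := hφ
  obtain ⟨s, hs⟩ := (𝓝 (0 : A)).exists_antitone_basis
  -- choose open ideals inside each `s n`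
  have hch : ∀ n, ∃ I : Ideal A, IsOpen (I : Set A) ∧ (I : Set A) ⊆ s n := fun n =>
    IsLinearTopology.hasBasis_open_ideal.mem_iff.mp (hs.mem n)
  choose I hIo hIs using hch
  have hb : (𝓝 (0 : B)).HasBasis (fun _ : ℕ => True)
      (fun n => closure (((I n).map φ : Ideal B) : Set B)) := by
    refine ⟨fun U => ⟨fun hU => ?_, fun ⟨n, _, hn⟩ => ?_⟩⟩
    · obtain ⟨I', hI', hI'U⟩ := h3 U hU
      obtain ⟨n, _, hn⟩ := hs.toHasBasis.mem_iff.mp (hI'.mem_nhds I'.zero_mem)
      refine ⟨n, trivial, subset_trans ?_ hI'U⟩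
      refine closure_mono_ideal (Ideal.map_mono ?_)
      exact fun x hx => hn (hIs n hx)
    · refine mem_of_superset ?_ hn
      exact (h2 _ (hIo n)).mem_nhds (subset_closure (Ideal.zero_mem _))
  exact hb.isCountablyGenerated

theorem isWeakIdealOfDefinition_of_isTaut [IsLinearTopology A A] [IsLinearTopology B B]
    (φ : A →+* B) (hφ : IsTaut φ) (I : Ideal A) (hI : IsWeakIdealOfDefinition A I) :
    IsWeakIdealOfDefinition B (I.map φ).closure :=
  ⟨hφ.2.1 I hI.1, isTopologicallyNilpotent_of_mem_closure_map φ hφ.1 I hI.2⟩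

theorem isWeaklyPreadmissible_of_isTaut [IsLinearTopology A A] [IsLinearTopology B B]
    (φ : A →+* B) (hφ : IsTaut φ) (hA : IsWeaklyPreadmissible A) :
    IsWeaklyPreadmissible B := by
  obtain ⟨_, I, hI⟩ := hA
  exact ⟨inferInstance, _, isWeakIdealOfDefinition_of_isTaut φ hφ I hI⟩

theorem isPreadmissible_of_isTaut [IsLinearTopology A A] [IsLinearTopology B B]
    (φ : A →+* B) (hφ : IsTaut φ) (hA : IsPreadmissible A) :
    IsPreadmissible B := by
  obtain ⟨_, I, hIo, hI⟩ := hA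
  refine ⟨inferInstance, (I.map φ).closure, hφ.2.1 I hIo, ?_⟩
  intro U hU
  obtain ⟨I', hI'o, hI'U⟩ := hφ.2.2 U hU
  obtain ⟨n, hn0, hn⟩ := hI _ (hI'o.mem_nhds I'.zero_mem)
  refine ⟨n, hn0, subset_trans ?_ hI'U⟩
  intro x hx
  have h1 := closure_pow_le (I.map φ) n hx
  rw [← Ideal.map_pow] at h1
  exact closure_mono_ideal (Ideal.map_mono hn) h1

theorem isWeaklyPreadic_of_isTaut [IsLinearTopology A A] [IsLinearTopology B B]
    (φ : A →+* B) (hφ : IsTaut φ) (hA : IsWeaklyPreadic A) :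
    IsWeaklyPreadic B := by
  obtain ⟨_, I, hIo, hI⟩ := hA
  refine ⟨inferInstance, I.map φ, ?_, ?_⟩
  · intro n
    have := hφ.2.1 (I ^ n).closure (hIo n)
    rw [closure_map_closure φ hφ.1, Ideal.map_pow] at this
    exact this
  · intro U hU
    obtain ⟨I', hI'o, hI'U⟩ := hφ.2.2 U hU
    obtain ⟨n, hn⟩ := hI _ (hI'o.mem_nhds I'.zero_mem)
    refine ⟨n, subset_trans ?_ hI'U⟩
    rw [← Ideal.map_pow]
    refine closure_mono_ideal (Ideal.map_mono ?_)
    exact fun x hx => hn (subset_closure hx)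

end Taut

section Taut2

variable {A : Type u} [CommRing A] [TopologicalSpace A] [IsTopologicalRing A]
variable {B : Type v} [CommRing B] [TopologicalSpace B] [IsTopologicalRing B]
variable {C : Type w} [CommRing C] [TopologicalSpace C] [IsTopologicalRing C]

theorem isWeakIdealOfDefinition_inf (I J : Ideal A) (hI : IsOpen (I : Set A))
    (hJ : IsWeakIdealOfDefinition A J) : IsWeakIdealOfDefinition A (I ⊓ J) :=
  ⟨hI.inter hJ.1, fun f hf => hJ.2 f hf.2⟩

theorem isTaut_iff_weakIdealOfDefinition [IsLinearTopology A A] [IsLinearTopology B B]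
    (hA : IsWeaklyPreadmissible A) (φ : A →+* B) (hφ : Continuous φ) :
    IsTaut φ ↔
      ((∀ I : Ideal A, IsWeakIdealOfDefinition A I →
          IsWeakIdealOfDefinition B (I.map φ).closure) ∧
        ∀ U ∈ 𝓝 (0 : B), ∃ I : Ideal A, IsWeakIdealOfDefinition A I ∧
          ((I.map φ).closure : Set B) ⊆ U) := by
  obtain ⟨_, I₀, hI₀⟩ := hA
  constructor
  · intro h
    refine ⟨fun I hI => isWeakIdealOfDefinition_of_isTaut φ h I hI, ?_⟩
    intro U hU
    obtain ⟨I', hI'o, hI'U⟩ := h.2.2 U hU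
    refine ⟨I' ⊓ I₀, isWeakIdealOfDefinition_inf I' I₀ hI'o hI₀, subset_trans ?_ hI'U⟩
    exact closure_mono_ideal (Ideal.map_mono inf_le_left)
  · rintro ⟨h1, h2⟩
    refine ⟨hφ, ?_, ?_⟩
    · intro I hI
      have := (h1 _ (isWeakIdealOfDefinition_inf I I₀ hI hI₀)).1
      exact isOpen_closure_of_le (Ideal.map_mono inf_le_left) this
    · intro U hU
      obtain ⟨I, hI, hIU⟩ := h2 U hU
      exact ⟨I, hI.1, hIU⟩

/-- In a topological ring, powers of an ideal of definition are open as soon as the ring is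
preadic. -/
theorem isOpen_pow_of_isIdealOfDefinition (hA : IsPreadic A) (I : Ideal A)
    (hI : IsIdealOfDefinition A I) (n : ℕ) : IsOpen ((I ^ n : Ideal A) : Set A) := by
  obtain ⟨K, hK⟩ := hA
  rw [isAdic_iff] at hK
  obtain ⟨m, hm⟩ := hK.2 _ (hI.1.mem_nhds I.zero_mem)
  have : K ^ (m * n) ≤ I ^ n := by
    rw [pow_mul]
    exact Ideal.pow_right_mono (fun x hx => hm hx) n
  exact Ideal.isOpen_of_isOpen_subideal this (hK.1 _)

theorem isTaut_of_isAdicHom (hA : IsPreadic A) (φ : A →+* B) (hφ : Continuous φ)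
    (h : IsAdicHom φ) : IsTaut φ := by
  obtain ⟨I, hI, had⟩ := h
  rw [isAdic_iff] at had
  refine ⟨hφ, ?_, ?_⟩
  · intro I' hI'
    obtain ⟨n, _, hn⟩ := hI.2 _ (hI'.mem_nhds I'.zero_mem)
    have h1 : (I.map φ) ^ n ≤ I'.map φ := by
      rw [← Ideal.map_pow]
      exact Ideal.map_mono (fun x hx => hn hx)
    have h2 : IsOpen ((I'.map φ : Ideal B) : Set B) :=
      Ideal.isOpen_of_isOpen_subideal h1 (had.1 n)
    exact isOpen_closure_of_isOpen _ h2
  · intro U hU
    obtain ⟨n, hn⟩ := had.2 U hU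
    refine ⟨I ^ n, isOpen_pow_of_isIdealOfDefinition hA I hI n, ?_⟩
    rw [Ideal.map_pow, closure_eq_self_of_isOpen _ (had.1 n)]
    exact hn

theorem isAdicHom_of_isAdicHom_comp (hB : IsPreadic B)
    (φ : A →+* B) (ψ : B →+* C) (hφ : Continuous φ) (hψ : Continuous ψ)
    (h : IsAdicHom (ψ.comp φ)) : IsAdicHom ψ := by
  obtain ⟨I, hI, had⟩ := h
  obtain ⟨K, hK⟩ := hB
  have hK' := hK
  rw [isAdic_iff] at hK
  rw [isAdic_iff] at had
  -- `φ` continuous: some power of `I` maps into `K`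
  have hK1 : IsOpen ((K : Ideal B) : Set B) := by simpa using hK.1 1
  obtain ⟨n, hn0, hn⟩ := hI.2 _ ((hK1.preimage hφ).mem_nhds (by simp : (0 : A) ∈ φ ⁻¹' (K : Set B)))
  have hn' : (I.map φ) ^ n ≤ K := by
    rw [← Ideal.map_pow, Ideal.map_le_iff_le_comap]
    exact fun x hx => hn hx
  -- `ψ` continuous: some power of `K` maps into `L = (ψφ)(I)C`
  set L : Ideal C := I.map (ψ.comp φ) with hL
  have hL1 : IsOpen ((L : Ideal C) : Set C) := by simpa using had.1 1
  obtain ⟨r, hr⟩ := hK.2 _ ((hL1.preimage hψ).mem_nhds (by simp : (0 : B) ∈ ψ ⁻¹' (L : Set C)))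
  have hr' : (K.map ψ) ^ r ≤ L := by
    rw [← Ideal.map_pow, Ideal.map_le_iff_le_comap]
    exact fun x hx => hr hx
  let J : Ideal B := I.map φ ⊔ K
  have hJo : IsOpen (J : Set B) := Ideal.isOpen_of_isOpen_subideal le_sup_right hK1
  have hJn : J ^ n ≤ K := by
    have : J ^ n ≤ (I.map φ) ^ n ⊔ K := sup_pow_le_pow_sup _ _ _
    exact le_trans this (sup_le hn' le_rfl)
  have hJmap : J.map ψ = L ⊔ K.map ψ := by
    rw [Ideal.map_sup, Ideal.map_map]
  refine ⟨J, ⟨hJo, ?_⟩, ?_⟩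
  · intro U hU
    obtain ⟨m, hm⟩ := hK.2 U hU
    refine ⟨n * (m + 1), Nat.mul_pos hn0 (Nat.succ_pos _), subset_trans ?_ hm⟩
    rw [pow_mul]
    intro x hx
    exact Ideal.pow_le_pow_right (Nat.le_succ m) (Ideal.pow_right_mono hJn (m + 1) hx)
  · rw [isAdic_iff]
    constructor
    · intro m
      have : L ^ m ≤ (J.map ψ) ^ m := Ideal.pow_right_mono (by rw [hJmap]; exact le_sup_left) m
      exact Ideal.isOpen_of_isOpen_subideal this (had.1 m)
    · intro U hU
      obtain ⟨m, hm⟩ := had.2 U hU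
      have h1 : (J.map ψ) ^ r ≤ L := by
        rw [hJmap, sup_comm]
        have : (K.map ψ ⊔ L) ^ r ≤ (K.map ψ) ^ r ⊔ L := sup_pow_le_pow_sup _ _ _
        exact le_trans this (sup_le hr' le_rfl)
      refine ⟨r * m, subset_trans ?_ hm⟩
      rw [pow_mul]
      exact fun x hx => Ideal.pow_right_mono h1 m hx

end Taut2

end Groth.Agent.H51
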