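import Groth.Agent.H51.LinTopTaut
import Mathlib.Data.List.TFAE

set_option autoImplicit false
set_option linter.unusedSectionVars false
universe u v w

namespace Groth.Agent.H51

open Topology Filter LinTop

section Weak

variable {A : Type u} [CommRing A] [TopologicalSpace A] [IsTopologicalRing A]

theorem isLinearTopology_of_isPreadic (h : IsPreadic A) : IsLinearTopology A A := by
  obtain ⟨I, hI⟩ := h
  exact IsLinearTopology.mk_of_hasBasis _ hI.hasBasis_nhds_zero

/-- A weakly pre-adic ring is preadmissible: the closure of `I` is an ideal of definition. -/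
theorem isIdealOfDefinition_closure_of_weaklyPreadic (I : Ideal A)
    (hIo : ∀ n : ℕ, IsOpen (closure ((I ^ n : Ideal A) : Set A)))
    (hI : ∀ U ∈ 𝓝 (0 : A), ∃ n : ℕ, closure ((I ^ n : Ideal A) : Set A) ⊆ U) :
    IsIdealOfDefinition A I.closure := by
  refine ⟨by simpa using hIo 1, ?_⟩
  intro U hU
  obtain ⟨n, hn⟩ := hI U hU
  refine ⟨n + 1, Nat.succ_pos _, subset_trans ?_ hn⟩
  intro x hx
  have h1 : x ∈ (I.closure ^ n : Ideal A) := Ideal.pow_le_pow_right (Nat.le_succ n) hx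
  exact closure_pow_le I n h1

theorem isPreadmissible_of_isWeaklyPreadic (h : IsWeaklyPreadic A) : IsPreadmissible A := by
  obtain ⟨hl, I, hIo, hI⟩ := h
  exact ⟨hl, I.closure, isIdealOfDefinition_closure_of_weaklyPreadic I hIo hI⟩

theorem isCountablyGenerated_of_isWeaklyPreadic (h : IsWeaklyPreadic A) :
    (𝓝 (0 : A)).IsCountablyGenerated := by
  obtain ⟨hl, I, hIo, hI⟩ := h
  have hb : (𝓝 (0 : A)).HasBasis (fun _ : ℕ => True)
      (fun n => closure ((I ^ n : Ideal A) : Set A)) := by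
    refine ⟨fun U => ⟨fun hU => ?_, fun ⟨n, _, hn⟩ => ?_⟩⟩
    · obtain ⟨n, hn⟩ := hI U hU
      exact ⟨n, trivial, hn⟩
    · exact mem_of_superset ((hIo n).mem_nhds (subset_closure (Ideal.zero_mem _))) hn
  exact hb.isCountablyGenerated

theorem isTaut_of_isAdic_source {A' : Type v} [CommRing A'] [TopologicalSpace A']
    [IsTopologicalRing A'] (I' : Ideal A') (hI' : IsAdic I') (φ : A' →+* A)
    (hIo : ∀ n : ℕ, IsOpen (closure (((I'.map φ) ^ n : Ideal A) : Set A)))
    (hI : ∀ U ∈ 𝓝 (0 : A), ∃ n : ℕ, closure (((I'.map φ) ^ n : Ideal A) : Set A) ⊆ U) :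
    IsTaut φ := by
  rw [isAdic_iff] at hI'
  refine ⟨?_, ?_, ?_⟩
  · refine continuous_of_continuousAt_zero φ ?_
    rw [ContinuousAt, map_zero]
    intro U hU
    obtain ⟨n, hn⟩ := hI U hU
    rw [Filter.mem_map]
    refine mem_of_superset ((hI'.1 n).mem_nhds (Ideal.zero_mem _)) ?_
    intro x hx
    apply hn
    apply subset_closure
    rw [← Ideal.map_pow]
    exact Ideal.mem_map_of_mem φ hx
  · intro I'' hI''
    obtain ⟨n, hn⟩ := hI'.2 _ (hI''.mem_nhds I''.zero_mem)
    refine isOpen_closure_of_le ?_ (hIo n)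
    rw [← Ideal.map_pow]
    exact Ideal.map_mono (fun x hx => hn hx)
  · intro U hU
    obtain ⟨n, hn⟩ := hI U hU
    refine ⟨I' ^ n, hI'.1 n, ?_⟩
    rw [Ideal.map_pow]
    exact hn

theorem isWeaklyPreadic_tfae [IsLinearTopology A A] :
    List.TFAE [IsWeaklyPreadic A,
      ∃ (A' : Type u) (_ : CommRing A') (_ : TopologicalSpace A') (_ : IsTopologicalRing A')
        (φ : A' →+* A), IsPreadic A' ∧ IsTaut φ,
      IsPreadmissible A ∧ ∃ I : Ideal A, IsIdealOfDefinition A I ∧
        ∀ n : ℕ, 0 < n → IsOpen (closure ((I ^ n : Ideal A) : Set A)),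
      IsPreadmissible A ∧ ∀ I : Ideal A, IsIdealOfDefinition A I →
        ∀ n : ℕ, 0 < n → IsOpen (closure ((I ^ n : Ideal A) : Set A))] := by
  tfae_have 1 → 2 := by
    rintro ⟨_, I, hIo, hI⟩
    have hring : @IsTopologicalRing A I.adicTopology _ := I.nonarchimedean.toIsTopologicalRing
    refine ⟨A, inferInstance, I.adicTopology, hring, RingHom.id A, ⟨I, rfl⟩, ?_⟩
    refine @isTaut_of_isAdic_source A _ _ _ A _ I.adicTopology hring I rfl (RingHom.id A) ?_ ?_
    · simpa [Ideal.map_id] using hIo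
    · simpa [Ideal.map_id] using hI
  tfae_have 2 → 1 := by
    rintro ⟨A', _, _, _, φ, hA', hφ⟩
    have := isLinearTopology_of_isPreadic hA'
    refine isWeaklyPreadic_of_isTaut φ hφ ?_
    obtain ⟨I, hI⟩ := hA'
    rw [isAdic_iff] at hI
    refine ⟨inferInstance, I, fun n => isOpen_closure_of_isOpen _ (hI.1 n), ?_⟩
    intro U hU
    obtain ⟨n, hn⟩ := hI.2 U hU
    exact ⟨n, by rwa [closure_eq_self_of_isOpen _ (hI.1 n)]⟩
  tfae_have 1 → 3 := by
    intro h
    refine ⟨isPreadmissible_of_isWeaklyPreadic h, ?_⟩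
    obtain ⟨_, I, hIo, hI⟩ := h
    refine ⟨I.closure, isIdealOfDefinition_closure_of_weaklyPreadic I hIo hI, ?_⟩
    intro n _
    rw [closure_closure_pow]
    exact hIo n
  tfae_have 3 → 4 := by
    rintro ⟨hp, I, hI, hIo⟩
    refine ⟨hp, ?_⟩
    intro I' hI' n hn
    obtain ⟨m, hm0, hm⟩ := hI.2 _ (hI'.1.mem_nhds I'.zero_mem)
    have : I ^ (m * n) ≤ I' ^ n := by
      rw [pow_mul]
      exact Ideal.pow_right_mono (fun x hx => hm hx) n
    exact isOpen_closure_of_le this (hIo _ (Nat.mul_pos hm0 hn))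
  tfae_have 4 → 1 := by
    rintro ⟨⟨_, I, hI⟩, h⟩
    refine ⟨inferInstance, I, ?_, ?_⟩
    · intro n
      rcases Nat.eq_zero_or_pos n with rfl | hn
      · simp
      · exact h I hI n hn
    · intro U hU
      obtain ⟨J, hJo, hJU⟩ := IsLinearTopology.hasBasis_open_ideal.mem_iff.mp hU
      obtain ⟨n, _, hn⟩ := hI.2 _ (hJo.mem_nhds J.zero_mem)
      refine ⟨n, subset_trans ?_ hJU⟩
      exact closure_minimal hn (isClosed_of_isOpen_ideal J hJo)
  tfae_finish

end Weak

end Groth.Agent.H51
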