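import Groth.Agent.H51.SpField

/-! A quasi-compact monomorphism `Z ⟶ V` of schemes over a field `k` with `Z` étale over `k` is a
closed immersion. -/

set_option autoImplicit false
universe u
open CategoryTheory CategoryTheory.Limits AlgebraicGeometry Opposite

namespace Groth.Agent.H51

theorem isClosedImmersion_of_mono_of_etale_field {k : Type u} [Field k] {Z V : Scheme.{u}}
    (i : Z ⟶ V) (g : V ⟶ Spec (CommRingCat.of k)) [Mono i] [QuasiCompact i] [Etale (i ≫ g)] :
    IsClosedImmersion i := by
  rw [IsZariskiLocalAtTarget.iff_of_openCover (P := @IsClosedImmersion) V.affineCover]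
  intro j
  let ij := pullback.snd i (V.affineCover.f j)
  change IsClosedImmersion ij
  haveI : Mono ij := inferInstance
  haveI : QuasiCompact ij := inferInstance
  haveI : CompactSpace ↥(pullback i (V.affineCover.f j)) :=
    QuasiCompact.compactSpace_of_compactSpace ij
  have hw : ij ≫ (V.affineCover.f j ≫ g) = pullback.fst i (V.affineCover.f j) ≫ (i ≫ g) := by
    rw [← Category.assoc, ← pullback.condition, Category.assoc]
  haveI : Etale (ij ≫ (V.affineCover.f j ≫ g)) := by
    rw [hw]; infer_instance
  haveI : IsFinite (ij ≫ (V.affineCover.f j ≫ g)) := isFinite_of_etale_of_compact _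
  haveI : IsFinite ij := IsFinite.of_comp ij (V.affineCover.f j ≫ g)
  exact (IsClosedImmersion.iff_isFinite_and_mono ij).2 ⟨inferInstance, inferInstance⟩

end Groth.Agent.H51
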