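import Groth.Agent.H52.MonoPoint
import Groth.Agent.H52.FieldStalks

/-! A monomorphism into a discrete scheme whose local rings are fields is an open immersion. -/

set_option autoImplicit false
universe u
open CategoryTheory CategoryTheory.Limits AlgebraicGeometry Opposite

namespace Groth.Agent.H51

theorem isIso_of_isIso_SpecMap {A B : CommRingCat.{u}} (φ : A ⟶ B) (h : IsIso (Spec.map φ)) :
    IsIso φ := by
  have h1 : IsIso (Scheme.Spec.map φ.op) := h
  have h2 : IsIso φ.op := Spec.fullyFaithful.isIso_of_isIso_map φ.op
  exact isIso_of_op φ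

theorem isOpenImmersion_of_mono_of_isField_stalk {R W : Scheme.{u}} (f : R ⟶ W) [Mono f]
    [DiscreteTopology ↥W] (hW : ∀ w : W, IsField (W.presheaf.stalk w)) : IsOpenImmersion f := by
  have hinj : Function.Injective f := f.injective
  haveI : DiscreteTopology ↥R := by
    rw [discreteTopology_iff_isOpen_singleton]
    intro r
    have : ({r} : Set R) = f ⁻¹' {f r} := by
      ext r'
      simp only [Set.mem_singleton_iff, Set.mem_preimage]
      exact ⟨fun h => by rw [h], fun h => hinj h⟩
    rw [this]
    exact (isOpen_discrete _).preimage f.continuous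
  have hemb : Topology.IsOpenEmbedding f :=
    Topology.IsOpenEmbedding.of_continuous_injective_isOpenMap f.continuous hinj
      (fun s _ => isOpen_discrete _)
  haveI : ∀ r, IsIso (f.stalkMap r) := by
    intro r
    letI : Field (W.presheaf.stalk (f r)) := (hW (f r)).toField
    have hm : Mono (Spec.map (f.stalkMap r)) := by
      have : Mono (Spec.map (f.stalkMap r) ≫ W.fromSpecStalk (f r)) := by
        rw [Scheme.SpecMap_stalkMap_fromSpecStalk]; infer_instance
      exact mono_of_mono _ (W.fromSpecStalk (f r))
    haveI : Nonempty ↥(Spec (R.presheaf.stalk r)) :=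
      ⟨IsLocalRing.closedPoint (R.presheaf.stalk r)⟩
    have hiso : IsIso (Spec.map (f.stalkMap r)) :=
      Groth.Agent.H52.isIso_of_mono_of_nonempty_of_field (K := W.presheaf.stalk (f r))
        (Spec.map (f.stalkMap r))
    exact isIso_of_isIso_SpecMap _ hiso
  exact IsOpenImmersion.of_isIso_stalkMap f hemb

end Groth.Agent.H51
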