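import Groth.Agent.H51.GeomAlgClosed
import Groth.Agent.H25.SmoothLocusBC
import Groth.Agent.H25.SmoothDescentScheme
import Groth.Agent.H25.FibreSmoothPt

/-!
# The non-smooth locus of a proper scheme over a field under extension of the field (helper51)
-/

set_option autoImplicit false
set_option linter.style.haveILetI false
universe u
open CategoryTheory CategoryTheory.Limits AlgebraicGeometry

namespace Groth.Agent.H51

theorem mem_smoothLocus_iff_exists_open {X Y : Scheme.{u}} (f : X ⟶ Y)
    [LocallyOfFinitePresentation f] (x : X) :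
    x ∈ f.smoothLocus ↔ ∃ U : X.Opens, x ∈ U ∧ Smooth (U.ι ≫ f) := by
  constructor
  · intro hx
    exact ⟨f.smoothLocus, hx, Groth.Agent.H25.FibreSmoothPt.smooth_smoothLocus_ι_comp f⟩
  · rintro ⟨U, hxU, hU⟩
    haveI := hU
    exact Groth.Agent.H25.SmoothDescentScheme.mem_smoothLocus_of_smooth_nhd f x U hxU

theorem nonsmooth_eq_compl {X Y : Scheme.{u}} (f : X ⟶ Y) [LocallyOfFinitePresentation f] :
    {x : ↥X | ¬ ∃ U : X.Opens, x ∈ U ∧ Smooth (U.ι ≫ f)} = (f.smoothLocus : Set X)ᶜ := by
  ext x
  rw [Set.mem_setOf_eq, ← mem_smoothLocus_iff_exists_open]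
  rfl

/-- The preimage of a finite closed subset of a scheme of finite type over a field under an
extension of the base field is finite. -/
theorem finite_preimage_of_isPullback_field {X X' : Scheme.{u}} (k Ω : Type u) [Field k]
    [Field Ω] (p : X ⟶ Spec (CommRingCat.of k)) [LocallyOfFiniteType p] [QuasiCompact p]
    (t' : Spec (CommRingCat.of Ω) ⟶ Spec (CommRingCat.of k)) (i₀ : X' ⟶ X)
    (q : X' ⟶ Spec (CommRingCat.of Ω)) (hpb : IsPullback i₀ q p t')
    (F : Set X) (hFc : IsClosed F) (hF : F.Finite) : (i₀ ⁻¹' F).Finite := by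
  let I : X.IdealSheafData := Scheme.IdealSheafData.vanishingIdeal ⟨F, hFc⟩
  let j : I.subscheme ⟶ X := I.subschemeι
  have hrange : Set.range j = F := by
    rw [Scheme.IdealSheafData.range_subschemeι, Scheme.IdealSheafData.coe_support_vanishingIdeal]
    rfl
  haveI : Finite I.subscheme := by
    have : (Set.range j).Finite := hrange ▸ hF
    exact (Set.finite_range_iff j.isClosedEmbedding.injective).mp this
  haveI : LocallyQuasiFinite (j ≫ p) :=
    LocallyQuasiFinite.of_finite_preimage_singleton _ (fun _ => Set.toFinite _)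
  haveI : QuasiCompact (j ≫ p) := inferInstance
  have hpb2 : IsPullback (pullback.fst j i₀) (pullback.snd j i₀ ≫ q) (j ≫ p) t' :=
    (IsPullback.of_hasPullback j i₀).paste_vert hpb
  haveI : LocallyQuasiFinite (pullback.snd j i₀ ≫ q) :=
    MorphismProperty.of_isPullback (P := @LocallyQuasiFinite) hpb2 inferInstance
  haveI : QuasiCompact (pullback.snd j i₀ ≫ q) :=
    MorphismProperty.of_isPullback (P := @QuasiCompact) hpb2 inferInstance
  have hfin := (pullback.snd j i₀ ≫ q).finite_preimage_singleton (IsLocalRing.closedPoint Ω)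
  haveI : Finite ↥(pullback j i₀) :=
    Set.finite_univ_iff.mp (hfin.subset (fun z _ => Subsingleton.elim _ _))
  have hr : Set.range (pullback.snd j i₀) = i₀ ⁻¹' F := by
    rw [Scheme.Pullback.range_snd, hrange]
  rw [← hr]
  exact Set.finite_range _

end Groth.Agent.H51
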