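import Groth.Agent.H51.NonsmoothField

/-!
# Finiteness of the non-smooth locus is insensitive to extension of the base field (helper51)
-/

set_option autoImplicit false
set_option linter.style.haveILetI false
universe u
open CategoryTheory CategoryTheory.Limits AlgebraicGeometry

namespace Groth.Agent.H51

theorem nonsmooth_eq_preimage_of_isPullback_field {X X' : Scheme.{u}} (k Ω : Type u) [Field k]
    [Field Ω] (p : X ⟶ Spec (CommRingCat.of k)) [LocallyOfFiniteType p]
    (t' : Spec (CommRingCat.of Ω) ⟶ Spec (CommRingCat.of k)) (i₀ : X' ⟶ X)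
    (q : X' ⟶ Spec (CommRingCat.of Ω)) (hpb : IsPullback i₀ q p t') :
    {x : ↥X' | ¬ ∃ U : X'.Opens, x ∈ U ∧ Smooth (U.ι ≫ q)} =
      i₀ ⁻¹' {x : ↥X | ¬ ∃ U : X.Opens, x ∈ U ∧ Smooth (U.ι ≫ p)} := by
  haveI : LocallyOfFinitePresentation p := inferInstance
  haveI : LocallyOfFinitePresentation q :=
    MorphismProperty.of_isPullback (P := @LocallyOfFinitePresentation) hpb inferInstance
  haveI : Flat p := Groth.Agent.H22.FibreRank.flat_of_field p
  rw [nonsmooth_eq_compl, nonsmooth_eq_compl,
    Groth.Agent.H25.SmoothLocusBC.smoothLocus_eq_preimage p t' q i₀ hpb (Or.inl inferInstance)]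
  rfl

theorem finite_nonsmooth_iff_algClosed {X : Scheme.{u}} (k : Type u) [Field k]
    (p : X ⟶ Spec (CommRingCat.of k)) [LocallyOfFiniteType p] [QuasiCompact p] :
    (∀ (Ω : Type u) [Field Ω] [IsAlgClosed Ω]
      (t' : Spec (CommRingCat.of Ω) ⟶ Spec (CommRingCat.of k)) (X' : Scheme.{u})
      (q : X' ⟶ Spec (CommRingCat.of Ω)) (i₀ : X' ⟶ X), IsPullback i₀ q p t' →
        Set.Finite {x : ↥X' | ¬ ∃ U : X'.Opens, x ∈ U ∧ Smooth (U.ι ≫ q)}) ↔
      Set.Finite {x : ↥X | ¬ ∃ U : X.Opens, x ∈ U ∧ Smooth (U.ι ≫ p)} := by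
  haveI : LocallyOfFinitePresentation p := inferInstance
  constructor
  · intro h
    let e : Spec (CommRingCat.of (AlgebraicClosure k)) ⟶ Spec (CommRingCat.of k) :=
      Spec.map (CommRingCat.ofHom (algebraMap k (AlgebraicClosure k)))
    haveI : Surjective e := surjective_specMap_field e
    have hpb := IsPullback.of_hasPullback p e
    have h1 := h (AlgebraicClosure k) e _ _ _ hpb
    rw [nonsmooth_eq_preimage_of_isPullback_field k (AlgebraicClosure k) p e _ _ hpb] at h1
    have hs : Surjective (pullback.fst p e) := MorphismProperty.pullback_fst _ _ inferInstance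
    have h2 := h1.image (pullback.fst p e)
    rwa [Set.image_preimage_eq _ (pullback.fst p e).surjective] at h2
  · intro hF Ω _ _ t' X' q i₀ hpb
    rw [nonsmooth_eq_preimage_of_isPullback_field k Ω p t' i₀ q hpb]
    refine finite_preimage_of_isPullback_field k Ω p t' i₀ q hpb _ ?_ hF
    rw [nonsmooth_eq_compl]
    exact p.smoothLocus.2.isClosed_compl

end Groth.Agent.H51
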