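import Groth.Agent.H51.SpEtHensel1
import Mathlib.AlgebraicGeometry.Morphisms.Etale
import Mathlib.FieldTheory.IsSepClosed
import Mathlib.Algebra.Polynomial.Lifts

set_option autoImplicit false
universe u
open CategoryTheory CategoryTheory.Limits AlgebraicGeometry Opposite MorphismProperty Polynomial

namespace Groth.Agent.H51

/-- Scheme-level standard étale refinement adjoining a simple root. -/
theorem exists_standardEtale_refinement {Y : Scheme.{u}} [IsAffine Y] {K : Type u} [Field K]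
    (y : Spec (CommRingCat.of K) ⟶ Y) (G : Γ(Y, ⊤)[X]) (hG : G.Monic) (α : K)
    (h0 : (G.map ((Scheme.ΓSpecIso (CommRingCat.of K)).hom.hom.comp y.appTop.hom)).eval α = 0)
    (h1 : (G.derivative.map
      ((Scheme.ΓSpecIso (CommRingCat.of K)).hom.hom.comp y.appTop.hom)).eval α ≠ 0) :
    ∃ (T : Scheme.{u}) (π : T ⟶ Y) (_ : Etale π) (y' : Spec (CommRingCat.of K) ⟶ T)
      (b : Γ(T, ⊤)), y' ≫ π = y ∧ (G.map π.appTop.hom).eval b = 0 ∧
        (Scheme.ΓSpecIso (CommRingCat.of K)).hom.hom (y'.appTop.hom b) = α := by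
  let A := Γ(Y, ⊤)
  let lam : A →+* K := (Scheme.ΓSpecIso (CommRingCat.of K)).hom.hom.comp y.appTop.hom
  letI : Algebra A K := lam.toAlgebra
  let P : StandardEtalePair A := ⟨G, hG, derivative G, ⟨1, 0, 1, by simp⟩⟩
  have hmap : P.HasMap α := by
    refine ⟨?_, ?_⟩
    · change aeval α G = 0
      rw [aeval_def, eval₂_eq_eval_map]
      exact h0
    · change IsUnit (aeval α (derivative G))
      rw [aeval_def, eval₂_eq_eval_map]
      exact isUnit_iff_ne_zero.2 h1
  let ψ : P.Ring →ₐ[A] K := P.lift α hmap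
  let B : CommRingCat.{u} := CommRingCat.of P.Ring
  let ι : A ⟶ B := CommRingCat.ofHom (algebraMap A P.Ring)
  let π : Spec B ⟶ Y := Spec.map ι ≫ Y.isoSpec.inv
  haveI : Etale (Spec.map ι) := by
    rw [HasRingHomProperty.Spec_iff (P := @Etale)]
    exact RingHom.etale_algebraMap.2 inferInstance
  haveI : Etale π := inferInstance
  let y' : Spec (CommRingCat.of K) ⟶ Spec B := Spec.map (CommRingCat.ofHom ψ.toRingHom)
  let b : Γ(Spec B, ⊤) := (Scheme.ΓSpecIso B).inv.hom P.X
  have hιψ : ι ≫ CommRingCat.ofHom ψ.toRingHom =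
      y.appTop ≫ (Scheme.ΓSpecIso (CommRingCat.of K)).hom := by
    ext a
    exact ψ.commutes a
  have hπtop : π.appTop = ι ≫ (Scheme.ΓSpecIso B).inv := by
    have h1 : Y.isoSpec.inv.appTop = (Scheme.ΓSpecIso A).inv := by
      have h2 : Y.isoSpec.hom.appTop ≫ Y.isoSpec.inv.appTop = 𝟙 _ := by
        rw [← Scheme.Hom.comp_appTop, Iso.inv_hom_id]
        rfl
      rw [Scheme.isoSpec_hom, Scheme.toSpecΓ_appTop] at h2
      rw [← cancel_epi (Scheme.ΓSpecIso A).hom, h2, Iso.hom_inv_id]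
    change (Spec.map ι ≫ Y.isoSpec.inv).appTop = _
    rw [Scheme.Hom.comp_appTop, h1, Scheme.ΓSpecIso_inv_naturality]
  refine ⟨Spec B, π, inferInstance, y', b, ?_, ?_, ?_⟩
  · change Spec.map (CommRingCat.ofHom ψ.toRingHom) ≫ Spec.map ι ≫ Y.isoSpec.inv = y
    rw [← Category.assoc, ← Spec.map_comp, hιψ, Spec.map_comp, ← Scheme.isoSpec_Spec_hom,
      Category.assoc, Scheme.isoSpec_hom_naturality_assoc, Iso.hom_inv_id, Category.comp_id]
  · rw [hπtop]
    change (G.map ((Scheme.ΓSpecIso B).inv.hom.comp (algebraMap A P.Ring))).eval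
      ((Scheme.ΓSpecIso B).inv.hom P.X) = 0
    rw [← Polynomial.map_map, Polynomial.eval_map, Polynomial.eval₂_hom]
    have hX : Polynomial.eval P.X (Polynomial.map (algebraMap (↑A) P.Ring) G) = 0 := by
      rw [Polynomial.eval_map, ← Polynomial.aeval_def]
      exact P.hasMap_X.1
    rw [hX, map_zero]
  · change ((Scheme.ΓSpecIso B).inv ≫ (Spec.map (CommRingCat.ofHom ψ.toRingHom)).appTop ≫
      (Scheme.ΓSpecIso (CommRingCat.of K)).hom).hom P.X = α
    rw [Scheme.ΓSpecIso_naturality, Iso.inv_hom_id_assoc]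
    exact P.lift_X α hmap


open AlgSp Groth.Agent.H52

variable {S : Scheme.{u}}

/-- A scheme étale over an object of the small étale site, as an object of the site. -/
noncomputable def EtOver.ofEtale {X : Sp S} (U : EtOver X) {T : Scheme.{u}}
    (π : T ⟶ U.obj.left.left) (hπ : Etale π) : EtOver X :=
  EtOver.mk (U := Over.mk (π ≫ U.obj.left.hom))
    ((yon S).map (Over.homMk (U := Over.mk (π ≫ U.obj.left.hom)) (V := U.obj.left) π rfl) ≫
      U.obj.hom)
    ((repWith_isMultiplicative (S := S) @Etale).comp_mem _ _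
      ((repWith_yon_map_iff _ _).2 hπ) U.property)

noncomputable def EtOver.ofEtaleι {X : Sp S} (U : EtOver X) {T : Scheme.{u}}
    (π : T ⟶ U.obj.left.left) (hπ : Etale π) : EtOver.ofEtale U π hπ ⟶ U :=
  EtOver.homMk (Over.homMk (U := Over.mk (π ≫ U.obj.left.hom)) (V := U.obj.left) π rfl) rfl

@[simp] theorem EtOver.ofEtaleι_left {X : Sp S} (U : EtOver X) {T : Scheme.{u}}
    (π : T ⟶ U.obj.left.left) (hπ : Etale π) :
    (EtOver.ofEtaleι U π hπ).hom.left.left = π := rfl

variable (X : AlgSp.Space S) (p : FieldPt X.obj)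

theorem exists_lift_ofEtale (U : EtOver X.obj) (l : (FieldPt.liftsTo p).obj U)
    {T : Scheme.{u}} (π : T ⟶ U.obj.left.left) (hπ : Etale π)
    (y : Spec (CommRingCat.of p.K) ⟶ T) (hy : y ≫ π = l.1.left) :
    ∃ l' : (FieldPt.liftsTo p).obj (EtOver.ofEtale U π hπ),
      (FieldPt.liftsTo p).map (EtOver.ofEtaleι U π hπ) l' = l ∧ l'.1.left = y := by
  let y' : p.pt ⟶ (EtOver.ofEtale U π hπ).obj.left := Over.homMk y (by
    change y ≫ π ≫ U.obj.left.hom = p.str
    rw [← Category.assoc, hy]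
    exact Over.w l.1)
  have hy' : y' ≫ (EtOver.ofEtaleι U π hπ).hom.left = l.1 := Over.OverMorphism.ext hy
  refine ⟨⟨y', ?_⟩, Subtype.ext hy', rfl⟩
  rw [← EtOver.w (EtOver.ofEtaleι U π hπ), ← Category.assoc, ← Functor.map_comp, hy']
  exact l.2

/-- Lemma A: adjoining a simple root of a monic polynomial in an étale neighbourhood. -/
theorem exists_nbhd_root (U : EtOver X.obj) (l : (FieldPt.liftsTo p).obj U)
    [IsAffine U.obj.left.left] (G : Γ(U.obj.left.left, ⊤)[X]) (hG : G.Monic) (α : p.K)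
    (h0 : (G.map (evRing X p U l)).eval α = 0)
    (h1 : (G.derivative.map (evRing X p U l)).eval α ≠ 0) :
    ∃ (U' : EtOver X.obj) (φ : U' ⟶ U) (l' : (FieldPt.liftsTo p).obj U')
      (b : Γ(U'.obj.left.left, ⊤)), (FieldPt.liftsTo p).map φ l' = l ∧
        (G.map φ.hom.left.left.appTop.hom).eval b = 0 ∧ evRing X p U' l' b = α := by
  obtain ⟨T, π, hπ, y', b, hy, hb, hα⟩ :=
    exists_standardEtale_refinement (Y := U.obj.left.left) (K := p.K) l.1.left G hG α h0 h1
  obtain ⟨l', hl', hl'y⟩ := exists_lift_ofEtale X p U l π hπ y' hy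
  refine ⟨EtOver.ofEtale U π hπ, EtOver.ofEtaleι U π hπ, l', b, hl', hb, ?_⟩
  change (Scheme.ΓSpecIso (CommRingCat.of p.K)).hom.hom (l'.1.left.appTop.hom b) = α
  rw [hl'y]
  exact hα

/-- Lemma B: affine refinement of an étale neighbourhood. -/
theorem exists_affine_nbhd (U : EtOver X.obj) (l : (FieldPt.liftsTo p).obj U) :
    ∃ (U' : EtOver X.obj) (φ : U' ⟶ U) (l' : (FieldPt.liftsTo p).obj U'),
      (FieldPt.liftsTo p).map φ l' = l ∧ IsAffine U'.obj.left.left := by
  let x0 : Spec (CommRingCat.of p.K) := default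
  let x : U.obj.left.left := l.1.left x0
  obtain ⟨W, hW, hxW, -⟩ := exists_isAffineOpen_mem_and_subset (x := x) (U := ⊤) trivial
  have hr : Set.range l.1.left ⊆ (W : Set _) := by
    rintro _ ⟨y, rfl⟩
    have : y = x0 := Subsingleton.elim (α := Spec (CommRingCat.of p.K)) _ _
    rw [this]
    exact hxW
  obtain ⟨l', hl'⟩ := exists_lift_ofOpen X p U l W hr
  exact ⟨EtOver.ofOpen U W, EtOver.ofOpenι U W, l', hl', hW⟩

end Groth.Agent.H51

namespace Groth.Agent.H51
open AlgSp Groth.Agent.H52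
variable {S : Scheme.{u}} (X : AlgSp.Space S) (p : FieldPt X.obj) (hp : p.IsGeometric)

/-- The germ map on honest global functions. -/
noncomputable def germR (U : EtOver X.obj) (l : (FieldPt.liftsTo p).obj U) :
    Γ(U.obj.left.left, ⊤) →+* OEtStalk p :=
  (germEt X p hp U l).hom.comp
    (ULift.ringEquiv.{u, u + 1} (R := Γ(U.obj.left.left, ⊤))).symm.toRingHom

/-- Evaluation of the stalk in the field of the geometric point. -/
noncomputable def evK : OEtStalk p →+* p.K :=
  (ULift.ringEquiv.{u, u + 1} (R := p.K)).toRingHom.comp (evStalk X p hp).hom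

theorem evK_germR (U : EtOver X.obj) (l : (FieldPt.liftsTo p).obj U)
    (s : Γ(U.obj.left.left, ⊤)) :
    evK X p hp (germR X p hp U l s) = evRing X p U l s := by
  change (ULift.ringEquiv.{u, u + 1} (R := p.K))
    ((evStalk X p hp).hom ((germEt X p hp U l).hom (ULift.up s))) = _
  rw [evStalk_germEt_apply]
  rfl

theorem evK_comp_germR (U : EtOver X.obj) (l : (FieldPt.liftsTo p).obj U) :
    (evK X p hp).comp (germR X p hp U l) = evRing X p U l :=
  RingHom.ext (evK_germR X p hp U l)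

theorem germR_w {U' U : EtOver X.obj} (f : U' ⟶ U) (l' : (FieldPt.liftsTo p).obj U')
    (l : (FieldPt.liftsTo p).obj U) (hl : (FieldPt.liftsTo p).map f l' = l) :
    germR X p hp U l = (germR X p hp U' l').comp f.hom.left.left.appTop.hom := by
  subst hl
  ext s
  have := congrArg (fun φ => φ.hom (ULift.up s)) (germEt_w X p hp f l')
  exact this.symm

theorem germR_jointly_surjective (a : OEtStalk p) :
    ∃ (U : EtOver X.obj) (l : (FieldPt.liftsTo p).obj U) (s : Γ(U.obj.left.left, ⊤)),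
      germR X p hp U l s = a := by
  obtain ⟨U, l, s, hs⟩ := germEt_jointly_surjective X p hp a
  exact ⟨U, l, s.down, hs⟩

theorem mem_maximalIdeal_iff_evK (a : OEtStalk p) :
    haveI := isLocalRing_OEtStalk X p hp
    a ∈ IsLocalRing.maximalIdeal (OEtStalk p) ↔ evK X p hp a = 0 := by
  haveI := isLocalRing_OEtStalk X p hp
  rw [mem_maximalIdeal_iff X p hp]
  constructor
  · intro h
    change (ULift.ringEquiv.{u, u + 1} (R := p.K)) ((evStalk X p hp).hom a) = 0
    rw [h, map_zero]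
  · intro h
    have : (ULift.ringEquiv.{u, u + 1} (R := p.K)) ((evStalk X p hp).hom a) = 0 := h
    exact (ULift.ringEquiv.{u, u + 1} (R := p.K)).injective (this.trans (map_zero _).symm)

include hp in
/-- Common refinement of two étale neighbourhoods. -/
theorem exists_common_nbhd (U₁ U₂ : EtOver X.obj) (l₁ : (FieldPt.liftsTo p).obj U₁)
    (l₂ : (FieldPt.liftsTo p).obj U₂) :
    ∃ (U : EtOver X.obj) (l : (FieldPt.liftsTo p).obj U) (f₁ : U ⟶ U₁) (f₂ : U ⟶ U₂),
      (FieldPt.liftsTo p).map f₁ l = l₁ ∧ (FieldPt.liftsTo p).map f₂ l = l₂ := by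
  haveI := etNbhd_isCofiltered X p hp
  let N₁ : EtNbhd p := ⟨U₁, l₁⟩
  let N₂ : EtNbhd p := ⟨U₂, l₂⟩
  exact ⟨(IsCofiltered.min N₁ N₂).1, (IsCofiltered.min N₁ N₂).2,
    (IsCofiltered.minToLeft N₁ N₂).1, (IsCofiltered.minToRight N₁ N₂).1,
    (IsCofiltered.minToLeft N₁ N₂).2, (IsCofiltered.minToRight N₁ N₂).2⟩

theorem lifts_germR_mono {U' U : EtOver X.obj} (f : U' ⟶ U) (l' : (FieldPt.liftsTo p).obj U')
    (l : (FieldPt.liftsTo p).obj U) (hl : (FieldPt.liftsTo p).map f l' = l)
    (F : (OEtStalk p)[X]) (hF : F ∈ Polynomial.lifts (germR X p hp U l)) :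
    F ∈ Polynomial.lifts (germR X p hp U' l') := by
  obtain ⟨G, rfl⟩ := (Polynomial.mem_lifts _).1 hF
  rw [germR_w X p hp f l' l hl, ← Polynomial.map_map]
  exact (Polynomial.mem_lifts _).2 ⟨_, rfl⟩

/-- Every polynomial over the stalk comes from some étale neighbourhood. -/
theorem exists_nbhd_lifts (F : (OEtStalk p)[X]) :
    ∃ (U : EtOver X.obj) (l : (FieldPt.liftsTo p).obj U),
      F ∈ Polynomial.lifts (germR X p hp U l) := by
  induction F using Polynomial.induction_on' with
  | add F₁ F₂ h₁ h₂ =>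
    obtain ⟨U₁, l₁, h₁⟩ := h₁
    obtain ⟨U₂, l₂, h₂⟩ := h₂
    obtain ⟨U, l, f₁, f₂, e₁, e₂⟩ := exists_common_nbhd X p hp U₁ U₂ l₁ l₂
    exact ⟨U, l, Subsemiring.add_mem _ (lifts_germR_mono X p hp f₁ l l₁ e₁ _ h₁)
      (lifts_germR_mono X p hp f₂ l l₂ e₂ _ h₂)⟩
  | monomial n a =>
    obtain ⟨U, l, s, rfl⟩ := germR_jointly_surjective X p hp a
    exact ⟨U, l, Polynomial.monomial_mem_lifts n ⟨s, rfl⟩⟩

/-- Key lemma: simple roots in the residue field `K` lift to roots in the stalk. -/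
theorem exists_root_of_simple_root (F : (OEtStalk p)[X]) (hF : F.Monic) (α : p.K)
    (h0 : (F.map (evK X p hp)).eval α = 0)
    (h1 : (F.derivative.map (evK X p hp)).eval α ≠ 0) :
    ∃ a : OEtStalk p, F.IsRoot a ∧ evK X p hp a = α := by
  obtain ⟨U₀, l₀, hU₀⟩ := exists_nbhd_lifts X p hp F
  obtain ⟨U, φ₀, l, hl, hUaff⟩ := exists_affine_nbhd X p U₀ l₀
  haveI := hUaff
  have hU := lifts_germR_mono X p hp φ₀ l l₀ hl F hU₀
  obtain ⟨G, hGF, -, hG⟩ := Polynomial.lifts_and_natDegree_eq_and_monic hU hF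
  have hev : (G.map (germR X p hp U l)).map (evK X p hp) = G.map (evRing X p U l) := by
    rw [Polynomial.map_map, evK_comp_germR]
  have h0' : (G.map (evRing X p U l)).eval α = 0 := by
    rw [← hev, hGF]; exact h0
  have h1' : (G.derivative.map (evRing X p U l)).eval α ≠ 0 := by
    have : (G.derivative.map (germR X p hp U l)).map (evK X p hp) =
        G.derivative.map (evRing X p U l) := by
      rw [Polynomial.map_map, evK_comp_germR]
    rw [← this, ← Polynomial.derivative_map, hGF]; exact h1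
  obtain ⟨U', φ, l', b, hl', hb, hα⟩ := exists_nbhd_root X p U l G hG α h0' h1'
  refine ⟨germR X p hp U' l' b, ?_, ?_⟩
  · rw [Polynomial.IsRoot.def, ← hGF, germR_w X p hp φ l' l hl', ← Polynomial.map_map,
      Polynomial.eval_map, Polynomial.eval₂_hom, hb, map_zero]
  · rw [evK_germR, hα]

end Groth.Agent.H51

namespace Groth.Agent.H51
open AlgSp Groth.Agent.H52
variable {S : Scheme.{u}} (X : AlgSp.Space S) (p : FieldPt X.obj) (hp : p.IsGeometric)

include hp in
theorem henselianLocalRing_OEtStalk : HenselianLocalRing (OEtStalk p) := by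
  haveI := isLocalRing_OEtStalk X p hp
  refine { is_henselian := fun f hf a₀ h₀ h₁ => ?_ }
  have e0 : (f.map (evK X p hp)).eval (evK X p hp a₀) = 0 := by
    rw [Polynomial.eval_map, Polynomial.eval₂_hom]
    exact (mem_maximalIdeal_iff_evK X p hp _).1 h₀
  have e1 : (f.derivative.map (evK X p hp)).eval (evK X p hp a₀) ≠ 0 := by
    rw [Polynomial.eval_map, Polynomial.eval₂_hom]
    exact (h₁.map (evK X p hp)).ne_zero
  obtain ⟨a, ha, hae⟩ := exists_root_of_simple_root X p hp f hf _ e0 e1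
  refine ⟨a, ha, ?_⟩
  rw [mem_maximalIdeal_iff_evK X p hp, map_sub, hae, sub_self]

theorem isSepClosed_residueField_OEtStalk :
    haveI := isLocalRing_OEtStalk X p hp
    IsSepClosed (IsLocalRing.ResidueField (OEtStalk p)) := by
  haveI := isLocalRing_OEtStalk X p hp
  haveI : IsAlgClosed p.K := hp
  let res : OEtStalk p →+* IsLocalRing.ResidueField (OEtStalk p) := IsLocalRing.residue _
  let ebar : IsLocalRing.ResidueField (OEtStalk p) →+* p.K :=
    Ideal.Quotient.lift _ (evK X p hp) (fun a ha => (mem_maximalIdeal_iff_evK X p hp a).1 ha)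
  have hebar : ebar.comp res = evK X p hp := by
    ext a
    rfl
  refine IsSepClosed.of_exists_root _ fun q hq hirr hsep => ?_
  obtain ⟨F, hFq, -, hF⟩ := Polynomial.lifts_and_natDegree_eq_and_monic
    (Polynomial.mem_lifts_of_surjective (f := res) IsLocalRing.residue_surjective q) hq
  have hdeg : (q.map ebar).degree ≠ 0 := by
    rw [Polynomial.degree_map]
    exact (Polynomial.degree_pos_of_irreducible hirr).ne'
  obtain ⟨α, hα⟩ := IsAlgClosed.exists_root (q.map ebar) hdeg
  have hsep' : (q.map ebar).Separable := hsep.map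
  have hder : (q.map ebar).derivative.eval α ≠ 0 := by
    have := hsep'.eval₂_derivative_ne_zero (RingHom.id p.K) (x := α)
      (by rw [Polynomial.eval₂_id]; exact hα)
    rwa [Polynomial.eval₂_id] at this
  have hFK : F.map (evK X p hp) = q.map ebar := by
    rw [← hebar, ← Polynomial.map_map, hFq]
  obtain ⟨a, ha, -⟩ := exists_root_of_simple_root X p hp F hF α (by rw [hFK]; exact hα)
    (by rw [← Polynomial.derivative_map, hFK]; exact hder)
  refine ⟨res a, ?_⟩
  rw [← hFq, Polynomial.eval_map, Polynomial.eval₂_hom, ha, map_zero]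

end Groth.Agent.H51
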