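import Groth.Agent.H51.SpEtGerm
import Groth.Agent.H52.Chart


set_option autoImplicit false
universe u
open CategoryTheory CategoryTheory.Limits AlgebraicGeometry Opposite MorphismProperty
namespace Groth.Agent.H51
open AlgSp Groth.Agent.H52
variable {S : Scheme.{u}}

/-- The point of `|X|` under a lift of a field-valued point `p` is the class of `p`. -/
theorem ofPt_lift_eq {X : Sp S} (p : FieldPt X) {U : EtOver X} (l : (FieldPt.liftsTo p).obj U)
    (z : Spec (CommRingCat.of p.K)) :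
    Points.ofPt U.obj.hom (l.1.left z) = Points.mk p := by
  have h1 := ofPt_yon_map_comp l.1 U.obj.hom z
  rw [← h1]
  have h2 : (yon S).map l.1 ≫ U.obj.hom = p.toHom := l.2
  rw [h2]
  exact Points.ofPt_toHom p z

theorem support_iff (X : AlgSp.Space S) (F : AbEt X.obj) (x : Points X.obj) :
    (∃ p : FieldPt X.obj, p.IsGeometric ∧ Points.mk p = x ∧ ¬ IsZero (stalkEt p F)) ↔
      ∃ (U : EtOver X.obj) (σ : ↥(F.obj.obj (op U))) (u : ↥U.obj.left.left),
        Points.ofPt U.obj.hom u = x ∧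
          ∀ (V : EtOver X.obj) (φ : V ⟶ U), (F.obj.map φ.op).hom σ = 0 →
            u ∉ Set.range (fun v => φ.hom.left.left v) := by
  haveI := preservesFilteredColimits_forget_ab.{u}
  constructor
  · rintro ⟨p, hp, hx, hnz⟩
    let Φ := geomPoint X p hp
    obtain ⟨τ, hτ⟩ : ∃ τ : ↥(stalkEt p F), τ ≠ 0 := by
      by_contra hcon
      push_neg at hcon
      haveI : Subsingleton ↥(stalkEt p F) := ⟨fun a b => (hcon a).trans (hcon b).symm⟩
      exact hnz (AddCommGrpCat.isZero_of_subsingleton _)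
    obtain ⟨U, l, σ, rfl⟩ :=
      Φ.toPresheafFiber_jointly_surjective (A := AddCommGrpCat.{u + 1}) (P := F.obj) τ
    refine ⟨U, σ, l.1.left (default : Spec (CommRingCat.of p.K)), (ofPt_lift_eq p l _).trans hx, ?_⟩
    rintro V φ hφ hu
    obtain ⟨l', hl'⟩ := exists_lift_through p hp φ l hu
    exact hτ ((stalkEtι_eq_zero_iff X F p hp U l σ).2 ⟨V, φ, l', hl', hφ⟩)
  · rintro ⟨U, σ, u, hx, hns⟩
    obtain ⟨p, hp, e, he⟩ := exists_geometric_lift U u
    refine ⟨p, hp, ?_, fun hz => ?_⟩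
    · rw [← ofPt_lift_eq p e (default : Spec (CommRingCat.of p.K)), he, hx]
    · have h0 : (stalkEtι p F ⟨U, e⟩).hom σ = 0 :=
        (AddCommGrpCat.subsingleton_of_isZero hz).elim _ _
      obtain ⟨V, φ, l', hl', hφ⟩ := (stalkEtι_eq_zero_iff X F p hp U e σ).1 h0
      refine hns V φ hφ ⟨l'.1.left (default : Spec (CommRingCat.of p.K)), ?_⟩
      rw [← he (default : Spec (CommRingCat.of p.K)), ← hl']
      rfl

end Groth.Agent.H51
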