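import Groth.Agent.H51.SpEtHensel2
import Groth.Agent.H52.GeomUnibranchSp2
import Mathlib.RingTheory.Flat.EquationalCriterion

/-!
# The étale local ring: finite families of germs, flatness over an affine étale neighbourhood
-/

set_option autoImplicit false
universe u
open CategoryTheory CategoryTheory.Limits AlgebraicGeometry Opposite MorphismProperty

namespace Groth.Agent.H51
open AlgSp Groth.Agent.H52

variable {S : Scheme.{u}} (X : AlgSp.Space S) (p : FieldPt X.obj) (hp : p.IsGeometric)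

/-- Finitely many elements of the étale local ring are germs of functions on one affine étale neighbourhood
refining a given one. -/
theorem exists_affine_nbhd_finset (U : EtOver X.obj) (l : (FieldPt.liftsTo p).obj U)
    (t : Finset (OEtStalk p)) :
    ∃ (V : EtOver X.obj) (φ : V ⟶ U) (l' : (FieldPt.liftsTo p).obj V),
      (FieldPt.liftsTo p).map φ l' = l ∧ IsAffine V.obj.left.left ∧
        ∀ x ∈ t, ∃ s : Γ(V.obj.left.left, ⊤), germR X p hp V l' s = x := by
  classical
  induction t using Finset.induction_on with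
  | empty =>
    obtain ⟨V, φ, l', hl', hV⟩ := exists_affine_nbhd X p U l
    exact ⟨V, φ, l', hl', hV, fun x hx => absurd hx (Finset.notMem_empty x)⟩
  | insert a t _ ih =>
    obtain ⟨V₁, φ₁, l₁, hl₁, -, hs₁⟩ := ih
    obtain ⟨V₂, l₂, s₂, hs₂⟩ := germR_jointly_surjective X p hp a
    obtain ⟨W, lW, f₁, f₂, hf₁, hf₂⟩ := exists_common_nbhd X p hp V₁ V₂ l₁ l₂
    obtain ⟨W', ψ, l'', hl'', hW'⟩ := exists_affine_nbhd X p W lW
    refine ⟨W', ψ ≫ f₁ ≫ φ₁, l'', ?_, hW', ?_⟩
    · rw [FunctorToTypes.map_comp_apply, FunctorToTypes.map_comp_apply, hl'', hf₁, hl₁]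
    · intro x hx
      rcases Finset.mem_insert.1 hx with rfl | hx
      · refine ⟨(ψ ≫ f₂).hom.left.left.appTop.hom s₂, ?_⟩
        have h := germR_w X p hp (ψ ≫ f₂) l'' l₂
          (by rw [FunctorToTypes.map_comp_apply, hl'', hf₂])
        rw [← hs₂, h]
        rfl
      · obtain ⟨s, hs⟩ := hs₁ x hx
        refine ⟨(ψ ≫ f₁).hom.left.left.appTop.hom s, ?_⟩
        have h := germR_w X p hp (ψ ≫ f₁) l'' l₁
          (by rw [FunctorToTypes.map_comp_apply, hl'', hf₁])
        rw [← hs, h]
        rfl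

/-- The family version. -/
theorem exists_affine_nbhd_fin (U : EtOver X.obj) (l : (FieldPt.liftsTo p).obj U) {n : ℕ}
    (x : Fin n → OEtStalk p) :
    ∃ (V : EtOver X.obj) (φ : V ⟶ U) (l' : (FieldPt.liftsTo p).obj V),
      (FieldPt.liftsTo p).map φ l' = l ∧ IsAffine V.obj.left.left ∧
        ∃ s : Fin n → Γ(V.obj.left.left, ⊤), ∀ i, germR X p hp V l' (s i) = x i := by
  classical
  obtain ⟨V, φ, l', hl', hV, hs⟩ := exists_affine_nbhd_finset X p hp U l (Finset.univ.image x)
  have hs' : ∀ i, ∃ s : Γ(V.obj.left.left, ⊤), germR X p hp V l' s = x i := fun i =>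
    hs (x i) (Finset.mem_image_of_mem x (Finset.mem_univ i))
  choose s hs'' using hs'
  exact ⟨V, φ, l', hl', hV, s, hs''⟩

/-- Functions on an affine étale neighbourhood over an affine one form an étale algebra. -/
theorem etale_appTop {V U : EtOver X.obj} (φ : V ⟶ U) [IsAffine V.obj.left.left]
    [IsAffine U.obj.left.left] : φ.hom.left.left.appTop.hom.Etale := by
  haveI : Etale φ.hom.left.left := EtOver.etale_left φ
  exact (HasRingHomProperty.iff_of_isAffine (P := @Etale)).1 inferInstance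

/-- The étale local ring is flat over the functions of any affine étale neighbourhood. -/
theorem flat_germR (U : EtOver X.obj) (l : (FieldPt.liftsTo p).obj U) [IsAffine U.obj.left.left] :
    letI : Algebra Γ(U.obj.left.left, ⊤) (OEtStalk p) := (germR X p hp U l).toAlgebra
    Module.Flat Γ(U.obj.left.left, ⊤) (OEtStalk p) := by
  letI : Algebra Γ(U.obj.left.left, ⊤) (OEtStalk p) := (germR X p hp U l).toAlgebra
  refine Module.Flat.of_forall_isTrivialRelation fun {n f x} hfx => ?_
  obtain ⟨V, φ, l', hl', hV, s, hs⟩ := exists_affine_nbhd_fin X p hp U l x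
  have hw := germR_w X p hp φ l' l hl'
  -- the relation holds on a smaller neighbourhood
  have hzero : germR X p hp V l' (∑ i, φ.hom.left.left.appTop.hom (f i) * s i) = 0 := by
    rw [map_sum, ← hfx]
    refine Finset.sum_congr rfl fun i _ => ?_
    rw [map_mul, hs, Algebra.smul_def]
    congr 1
    exact (congrArg (fun ψ : _ →+* OEtStalk p => ψ (f i)) hw).symm
  obtain ⟨V', ψ, l'', hl'', hψ⟩ := (Groth.Agent.H52.GeomUnibranchSp.germR_eq_zero_iff X p hp V l' _).1 hzero
  obtain ⟨W, χ, l₃, hl₃, hW⟩ := exists_affine_nbhd X p V' l''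
  let θ : W ⟶ V := χ ≫ ψ
  have hθl : (FieldPt.liftsTo p).map θ l₃ = l' := by
    rw [FunctorToTypes.map_comp_apply, hl₃, hl'']
  have hθφl : (FieldPt.liftsTo p).map (θ ≫ φ) l₃ = l := by
    rw [FunctorToTypes.map_comp_apply, hθl, hl']
  have hθ0 : θ.hom.left.left.appTop.hom (∑ i, φ.hom.left.left.appTop.hom (f i) * s i) = 0 := by
    change (χ ≫ ψ).hom.left.left.appTop.hom _ = 0
    have : (χ ≫ ψ).hom.left.left.appTop.hom =
        χ.hom.left.left.appTop.hom.comp ψ.hom.left.left.appTop.hom := by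
      change (ψ.hom.left.left.appTop ≫ χ.hom.left.left.appTop).hom = _
      rfl
    rw [this, RingHom.comp_apply, hψ, map_zero]
  -- flatness of functions on `W`
  letI algW : Algebra Γ(U.obj.left.left, ⊤) Γ(W.obj.left.left, ⊤) :=
    ((θ ≫ φ).hom.left.left.appTop.hom).toAlgebra
  haveI : Algebra.Etale Γ(U.obj.left.left, ⊤) Γ(W.obj.left.left, ⊤) := etale_appTop X (θ ≫ φ)
  haveI : Module.Flat Γ(U.obj.left.left, ⊤) Γ(W.obj.left.left, ⊤) := inferInstance
  have hcomp : (θ ≫ φ).hom.left.left.appTop.hom =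
      θ.hom.left.left.appTop.hom.comp φ.hom.left.left.appTop.hom := by
    change (φ.hom.left.left.appTop ≫ θ.hom.left.left.appTop).hom = _
    rfl
  have hrel : ∑ i, f i • θ.hom.left.left.appTop.hom (s i) = 0 := by
    rw [← hθ0, map_sum]
    refine Finset.sum_congr rfl fun i _ => ?_
    rw [Algebra.smul_def, map_mul]
    rfl
  obtain ⟨k, a, y, h1, h2⟩ := Module.Flat.isTrivialRelation_of_sum_smul_eq_zero
    (R := Γ(U.obj.left.left, ⊤)) (M := Γ(W.obj.left.left, ⊤)) (f := f)
    (x := fun i => θ.hom.left.left.appTop.hom (s i)) hrel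
  have hwW := germR_w X p hp (θ ≫ φ) l₃ l hθφl
  have hwθ := germR_w X p hp θ l₃ l' hθl
  refine ⟨k, a, fun j => germR X p hp W l₃ (y j), fun i => ?_, h2⟩
  have h1i : θ.hom.left.left.appTop.hom (s i) = ∑ j, a i j • y j := h1 i
  rw [← hs i, hwθ, RingHom.comp_apply, h1i, map_sum]
  refine Finset.sum_congr rfl fun j _ => ?_
  rw [Algebra.smul_def, Algebra.smul_def, map_mul]
  congr 1
  exact (congrArg (fun ψ : _ →+* OEtStalk p => ψ (a i j)) hwW).symm

end Groth.Agent.H51
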