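import Groth.Agent.H51.SpEtNbhd
import Mathlib.AlgebraicGeometry.Sites.AffineEtale
import Mathlib.CategoryTheory.Sites.Point.Basic

set_option autoImplicit false
universe u
open CategoryTheory CategoryTheory.Limits AlgebraicGeometry Opposite MorphismProperty
namespace Groth.Agent.H51
open AlgSp
variable {S : Scheme.{u}}

/-- Every étale neighbourhood of `p` receives a map from one whose scheme is affine and étale over a fixed chart
`V` to which `p` lifts. -/
theorem exists_affineEtale_nbhd {X : Sp S} (p : FieldPt X) {V : Over S} (a : (yon S).obj V ⟶ X)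
    (hae : RepWith @Etale a) (v : p.pt ⟶ V) (hv : (yon S).map v ≫ a = p.toHom) (N : EtNbhd p) :
    ∃ (W : V.left.AffineEtale)
      (w : (FieldPt.liftsTo p).obj ((EtOver.ofChart a hae).obj ((Scheme.AffineEtale.Spec V.left).obj W))),
      Nonempty ((FieldPt.liftsTo p).elementsMk ((EtOver.ofChart a hae).obj ((Scheme.AffineEtale.Spec V.left).obj W)) w ⟶ N) := by
  obtain ⟨U, u⟩ := N
  let EV : EtOver X := EtOver.mk a hae
  let P : EtOver X := EtOver.prodObj U EV
  let w0 : p.pt ⟶ P.obj.left := EV.property.1.lift' v u.1 (by rw [u.2]; exact hv)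
  have h1 : w0 ≫ (EtOver.prodFst U EV).hom.left = u.1 :=
    Functor.relativelyRepresentable.lift'_snd _ _ _ _
  have h2 : w0 ≫ (EtOver.prodSnd U EV).hom.left = v :=
    Functor.relativelyRepresentable.lift'_fst _ _ _ _
  -- an affine open of `P` through which the lift factors
  let w0l : Spec (CommRingCat.of p.K) ⟶ P.obj.left.left := w0.left
  obtain ⟨R, j, hj, hjm, -⟩ := Scheme.exists_affine_mem_range_and_range_subset
    (x := w0l (default : Spec (CommRingCat.of p.K))) (U := ⊤) (by simp)
  have hrange : Set.range w0l ⊆ Set.range j := by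
    rintro _ ⟨y, rfl⟩
    rwa [Subsingleton.elim y default]
  let y' : Spec (CommRingCat.of p.K) ⟶ Spec R := IsOpenImmersion.lift j w0l hrange
  have hy' : y' ≫ j = w0l := IsOpenImmersion.lift_fac j w0l hrange
  haveI : Etale (EtOver.prodSnd U EV).hom.left.left := EtOver.etale_left _
  let W : V.left.AffineEtale := Scheme.AffineEtale.mk (j ≫ (EtOver.prodSnd U EV).hom.left.left)
  let E : EtOver X := (EtOver.ofChart a hae).obj ((Scheme.AffineEtale.Spec V.left).obj W)
  -- the open immersion as a map over `S`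
  have hjS : j ≫ P.obj.left.hom = E.obj.left.hom := by
    have h3 : (EtOver.prodSnd U EV).hom.left.left ≫ V.hom = P.obj.left.hom :=
      Over.w (EtOver.prodSnd U EV).hom.left
    change j ≫ P.obj.left.hom = (j ≫ (EtOver.prodSnd U EV).hom.left.left) ≫ V.hom
    rw [Category.assoc, h3]
  let jP : E.obj.left ⟶ P.obj.left := Over.homMk j hjS
  have hjP : (yon S).map jP ≫ P.obj.hom = E.obj.hom := by
    have h4 : jP ≫ (EtOver.prodSnd U EV).hom.left = EtOver.homOfEtale ((Scheme.AffineEtale.Spec V.left).obj W) :=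
      Over.OverMorphism.ext rfl
    change _ = (yon S).map (EtOver.homOfEtale ((Scheme.AffineEtale.Spec V.left).obj W)) ≫ a
    exact (congrArg ((yon S).map jP ≫ ·) (EtOver.w (EtOver.prodSnd U EV)).symm).trans
      ((Category.assoc _ _ _).symm.trans
        (congrArg (· ≫ a) (((yon S).map_comp jP _).symm.trans (congrArg (yon S).map h4))))
  let jE : E ⟶ P := EtOver.homMk jP hjP
  -- the lift
  have hw0S : w0l ≫ P.obj.left.hom = p.str := Over.w w0
  have hyS : y' ≫ E.obj.left.hom = p.str := by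
    rw [← hjS, ← Category.assoc, hy', hw0S]
  let w1 : p.pt ⟶ E.obj.left := Over.homMk y' hyS
  have hw1 : w1 ≫ jP = w0 := Over.OverMorphism.ext hy'
  have hw : (yon S).map w1 ≫ E.obj.hom = p.toHom := by
    rw [← hjP, ← Category.assoc, ← Functor.map_comp, hw1, ← EtOver.w (EtOver.prodFst U EV),
      ← Category.assoc, ← Functor.map_comp, h1]
    exact u.2
  refine ⟨W, ⟨w1, hw⟩, ⟨⟨jE ≫ EtOver.prodFst U EV, Subtype.ext ?_⟩⟩⟩
  change w1 ≫ (jP ≫ (EtOver.prodFst U EV).hom.left) = u.1
  rw [← Category.assoc, hw1, h1]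

theorem etNbhd_initiallySmall {X : Sp S} (p : FieldPt X) [IsCofilteredOrEmpty (EtNbhd p)]
    {V : Over S} (a : (yon S).obj V ⟶ X) (hae : RepWith @Etale a) (v : p.pt ⟶ V)
    (hv : (yon S).map v ≫ a = p.toHom) : InitiallySmall.{u} (EtNbhd p) := by
  let G : V.left.AffineEtale ⥤ EtOver X := Scheme.AffineEtale.Spec V.left ⋙ EtOver.ofChart a hae
  refine initiallySmall_of_essentiallySmall_weakly_initial_objectProperty
    (Functor.Elements.precomp G (FieldPt.liftsTo p)).essImage (fun N => ?_)
  obtain ⟨W, w, ⟨f⟩⟩ := exists_affineEtale_nbhd p a hae v hv N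
  exact ⟨_, ⟨(⟨W, w⟩ : (G ⋙ FieldPt.liftsTo p).Elements), ⟨Iso.refl _⟩⟩, ⟨f⟩⟩


/-- A geometric point lifts through an étale covering family (any index type). -/
theorem exists_lift_of_ofArrows_mem_etPre {X : Sp S} (p : FieldPt X) (hp : p.IsGeometric)
    {E : EtOver X} (e : (FieldPt.liftsTo p).obj E) {ι : Type*} (Ui : ι → EtOver X) (g : ∀ i, Ui i ⟶ E)
    (hcov : Presieve.ofArrows Ui g ∈ etPre X E) :
    ∃ (i : ι) (ui : (FieldPt.liftsTo p).obj (Ui i)), (FieldPt.liftsTo p).map (g i) ui = e := by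
  haveI : IsAlgClosed p.K := hp
  haveI : IsSepClosed p.K := IsSepClosed.of_isAlgClosed p.K
  have hcov' := (ofArrows_mem_etPre_iff Ui g).1 hcov
  let s : Spec (CommRingCat.of p.K) ⟶ E.obj.left.left := e.1.left
  obtain ⟨i, y, hy⟩ := hcov' (s default)
  haveI : Etale (g i).hom.left.left := EtOver.etale_left (g i)
  obtain ⟨l, hl, -⟩ := Scheme.exists_fac_of_etale_of_isSepClosed (g i).hom.left.left s y hy
  have hw : l ≫ (Ui i).obj.left.hom = p.str := by
    have h1 : (g i).hom.left.left ≫ E.obj.left.hom = (Ui i).obj.left.hom := Over.w (g i).hom.left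
    have h2 : s ≫ E.obj.left.hom = p.str := Over.w e.1
    rw [← h1, ← Category.assoc, hl, h2]
  let ui0 : p.pt ⟶ (Ui i).obj.left := Over.homMk l hw
  have hcomp : ui0 ≫ (g i).hom.left = e.1 := Over.OverMorphism.ext hl
  have hui : (yon S).map ui0 ≫ (Ui i).obj.hom = p.toHom := by
    rw [← EtOver.w (g i), ← Category.assoc, ← Functor.map_comp, hcomp]
    exact e.2
  exact ⟨i, ⟨ui0, hui⟩, Subtype.ext hcomp⟩

theorem liftsTo_jointly_surjective {X : Sp S} (p : FieldPt X) (hp : p.IsGeometric)
    {E : EtOver X} (R : Sieve E) (hR : R ∈ etTop X E) (e : (FieldPt.liftsTo p).obj E) :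
    ∃ (Y : EtOver X) (f : Y ⟶ E) (_ : R f) (y : (FieldPt.liftsTo p).obj Y),
      (FieldPt.liftsTo p).map f y = e := by
  obtain ⟨R', hR', hle⟩ :=
    (Precoverage.mem_toGrothendieck_iff_of_isStableUnderComposition (J := etPre X)).1 hR
  obtain ⟨Z, rfl⟩ := (Precoverage.mem_iff_exists_zeroHypercover).1 hR'
  obtain ⟨i, ui, hi⟩ := exists_lift_of_ofArrows_mem_etPre p hp e Z.X Z.f hR'
  exact ⟨Z.X i, Z.f i, hle _ _ ⟨i⟩, ui, hi⟩

/-- The point of the small étale site of an algebraic space defined by a geometric point. -/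
noncomputable def geomPoint (X : AlgSp.Space S) (p : FieldPt X.obj) (hp : p.IsGeometric) :
    GrothendieckTopology.Point.{u} (etTop X.obj) :=
  haveI := etNbhd_isCofiltered X p hp
  { fiber := FieldPt.liftsTo p
    isCofiltered := etNbhd_isCofiltered X p hp
    initiallySmall := by
      obtain ⟨U, a, hae, has⟩ := X.property.atlas
      obtain ⟨v, hv⟩ := exists_lift_of_chart p hp a hae has
      exact etNbhd_initiallySmall p a hae v hv
    jointly_surjective := fun R hR e => liftsTo_jointly_surjective p hp R hR e }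

@[simp] theorem geomPoint_fiber (X : AlgSp.Space S) (p : FieldPt X.obj) (hp : p.IsGeometric) :
    (geomPoint X p hp).fiber = FieldPt.liftsTo p := rfl

end Groth.Agent.H51
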