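import Groth.Agent.H51.OEtSH1
import Groth.Agent.H51.SpEtPoint
import Mathlib.Algebra.Ring.Shrink

/-!
# The étale local ring is `u`-small
-/

set_option autoImplicit false
universe u
open CategoryTheory CategoryTheory.Limits AlgebraicGeometry Opposite MorphismProperty

namespace Groth.Agent.H51
open AlgSp Groth.Agent.H52

variable {S : Scheme.{u}} (X : AlgSp.Space S) (p : FieldPt X.obj) (hp : p.IsGeometric)

include hp in
theorem small_OEtStalk : Small.{u} (OEtStalk p) := by
  obtain ⟨V, a, hae, has⟩ := X.property.atlas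
  obtain ⟨v, hv⟩ := exists_lift_of_chart p hp a hae has
  let G : V.left.AffineEtale ⥤ EtOver X.obj :=
    Scheme.AffineEtale.Spec V.left ⋙ EtOver.ofChart a hae
  let e := equivSmallModel.{u} V.left.AffineEtale
  let I : Type u := Σ (c : SmallModel.{u} V.left.AffineEtale),
    Σ (_ : (FieldPt.liftsTo p).obj (G.obj (e.inverse.obj c))),
      Γ((G.obj (e.inverse.obj c)).obj.left.left, ⊤)
  let f : I → OEtStalk p := fun i => germR X p hp _ i.2.1 i.2.2
  have hf : Function.Surjective f := by
    intro x
    obtain ⟨U, l, s, rfl⟩ := germR_jointly_surjective X p hp x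
    obtain ⟨W, w, ⟨φ⟩⟩ := exists_affineEtale_nbhd p a hae v hv ⟨U, l⟩
    let ι := e.unitIso.app W
    let w' : (FieldPt.liftsTo p).obj (G.obj (e.inverse.obj (e.functor.obj W))) :=
      (FieldPt.liftsTo p).map (G.map ι.hom) w
    let φ' : G.obj (e.inverse.obj (e.functor.obj W)) ⟶ U := G.map ι.inv ≫ φ.1
    have hφ' : (FieldPt.liftsTo p).map φ' w' = l := by
      change (FieldPt.liftsTo p).map (G.map ι.inv ≫ φ.1) ((FieldPt.liftsTo p).map (G.map ι.hom) w) = l
      rw [← FunctorToTypes.map_comp_apply, ← Category.assoc, ← G.map_comp, Iso.hom_inv_id,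
        G.map_id, Category.id_comp]
      exact φ.2
    refine ⟨⟨e.functor.obj W, w', φ'.hom.left.left.appTop.hom s⟩, ?_⟩
    have h := germR_w X p hp φ' w' l hφ'
    change germR X p hp _ w' (φ'.hom.left.left.appTop.hom s) = germR X p hp U l s
    rw [h]
    rfl
  exact small_of_surjective hf

end Groth.Agent.H51
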