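import Groth.Agent.H51.SHRecogB

/-!
# Recognising a strict henselization: main theorem
-/

set_option autoImplicit false
universe u
open IsLocalRing

namespace Groth.Agent.H51.SHRecog

variable (A : Type u) [CommRing A] (P : Ideal A) [P.IsPrime]
  (O : Type u) [CommRing O] [HenselianLocalRing O] [IsSepClosed (ResidueField O)]
  [Algebra A O] [Algebra (Localization.AtPrime P) O] [IsScalarTower A (Localization.AtPrime P) O]
  [IsLocalHom (algebraMap (Localization.AtPrime P) O)] [Module.Flat (Localization.AtPrime P) O]

omit [IsSepClosed (ResidueField O)] [Module.Flat (Localization.AtPrime P) O] in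
theorem comap_maximalIdeal_eq : (maximalIdeal O).comap (algebraMap A O) = P := by
  have h : (maximalIdeal O).comap (algebraMap (Localization.AtPrime P) O) =
      maximalIdeal (Localization.AtPrime P) :=
    ((IsLocalRing.local_hom_TFAE (algebraMap (Localization.AtPrime P) O)).out 0 4).mp ‹_›
  rw [IsScalarTower.algebraMap_eq A (Localization.AtPrime P) O, ← Ideal.comap_comap, h]
  exact Localization.AtPrime.comap_maximalIdeal

theorem main
    (hE : ∀ x : O, ∃ (B : Type u) (_ : CommRing B) (_ : Algebra A B) (_ : Algebra.Etale A B)
      (φ : B →ₐ[A] O), x ∈ Set.range φ) :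
    ∃ (Rsh : Type u) (_ : CommRing Rsh) (_ : IsLocalRing Rsh)
      (_ : Algebra (Localization.AtPrime P) Rsh)
      (_ : IsLocalHom (algebraMap (Localization.AtPrime P) Rsh))
      (_ : Hensel.IsStrictHenselization (Localization.AtPrime P) Rsh),
      Nonempty (Rsh ≃ₐ[Localization.AtPrime P] O) := by
  obtain ⟨Rsh, _, _, _, _, hS⟩ := Groth.Agent.S0537.result (Localization.AtPrime P)
  haveI hhens : HenselianLocalRing Rsh := hS.henselian
  have hsc := hS.isSepClosure
  haveI : IsSepClosed (ResidueField Rsh) := hsc.sep_closed
  haveI : Algebra.IsSeparable (ResidueField (Localization.AtPrime P)) (ResidueField Rsh) :=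
    hsc.separable
  -- the embedding of residue fields
  let τ : ResidueField Rsh →ₐ[ResidueField (Localization.AtPrime P)] ResidueField O :=
    IsSepClosed.lift
  have hτ : τ.toRingHom.comp (ResidueField.map (algebraMap (Localization.AtPrime P) Rsh)) =
      ResidueField.map (algebraMap (Localization.AtPrime P) O) :=
    Groth.Agent.H3.SH.algHom_comp_map τ
  obtain ⟨g, ⟨hg1, hg2⟩, -⟩ :=
    hS.universal O (algebraMap (Localization.AtPrime P) O) τ.toRingHom hτ
  refine ⟨Rsh, inferInstance, inferInstance, inferInstance, inferInstance, hS, ?_⟩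
  -- `g` is local
  haveI hgloc : IsLocalHom g := by
    refine ⟨fun x hx => ?_⟩
    by_contra hnu
    have h1 : residue Rsh x = 0 := (residue_eq_zero_iff x).2 ((mem_maximalIdeal x).2 hnu)
    have h2 : residue O (g x) = 0 := by rw [hg2, h1]; exact map_zero _
    exact (mem_maximalIdeal (g x)).1 ((residue_eq_zero_iff (g x)).1 h2) hx
  -- algebra structures
  letI algSO : Algebra Rsh O := g.toAlgebra
  haveI towRSO : IsScalarTower (Localization.AtPrime P) Rsh O :=
    IsScalarTower.of_algebraMap_eq fun r => (congrArg (fun ψ : _ →+* O => ψ r) hg1).symm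
  haveI : IsLocalHom (algebraMap Rsh O) := hgloc
  haveI flatSO : Module.Flat Rsh O :=
    Groth.Agent.H3.UnionEtale.IsUnion.flat_of_flat
      (Groth.Agent.H3.StrictHensUnion.isUnion (R := Localization.AtPrime P) (S := Rsh)) O
  haveI : Module.FaithfullyFlat Rsh O := Module.FaithfullyFlat.of_flat_of_isLocalHom
  have hinj : Function.Injective g := FaithfulSMul.algebraMap_injective Rsh O
  letI algASh : Algebra A Rsh :=
    ((algebraMap (Localization.AtPrime P) Rsh).comp (algebraMap A (Localization.AtPrime P))).toAlgebra
  haveI towARS : IsScalarTower A (Localization.AtPrime P) Rsh :=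
    IsScalarTower.of_algebraMap_eq fun _ => rfl
  have hgA : ∀ a : A, g (algebraMap A Rsh a) = algebraMap A O a := fun a => by
    rw [IsScalarTower.algebraMap_apply A (Localization.AtPrime P) Rsh,
      IsScalarTower.algebraMap_apply A (Localization.AtPrime P) O]
    exact congrArg (fun ψ : _ →+* O => ψ (algebraMap A (Localization.AtPrime P) a)) hg1
  let gA : Rsh →ₐ[A] O := { g with commutes' := hgA }
  have hcomapg : (maximalIdeal O).comap g = maximalIdeal Rsh :=
    ((IsLocalRing.local_hom_TFAE g).out 0 4).mp hgloc
  have hsurj : Function.Surjective g := by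
    intro x
    obtain ⟨B, _, _, _, φ, b, rfl⟩ := hE x
    let q : Ideal B := (maximalIdeal O).comap φ.toRingHom
    haveI : q.IsPrime := Ideal.comap_isPrime _ _
    have hqP : q.comap (algebraMap A B) = P := by
      have hc : φ.toRingHom.comp (algebraMap A B) = algebraMap A O := φ.comp_algebraMap
      rw [Ideal.comap_comap, hc]
      exact comap_maximalIdeal_eq A P O
    -- the residue map of `φ`
    let τO : q.ResidueField →+* ResidueField O :=
      Ideal.ResidueField.lift q ((residue O).comp φ.toRingHom)
        (fun b hb => by
          rw [RingHom.mem_ker, RingHom.comp_apply, residue_eq_zero_iff]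
          exact hb)
        (fun b hb => by
          rw [Submonoid.mem_comap, IsUnit.mem_submonoid_iff, isUnit_iff_ne_zero, Ne,
            RingHom.comp_apply, residue_eq_zero_iff]
          exact hb)
    have hτO : ∀ b : B, τO (algebraMap B q.ResidueField b) = residue O (φ b) := fun b =>
      Ideal.ResidueField.lift_algebraMap _ _ _ _ _
    letI algres : Algebra P.ResidueField q.ResidueField := (resMap P q hqP).toAlgebra
    haveI : Algebra.IsSeparable P.ResidueField q.ResidueField := isSeparable_resMap P q hqP
    have hcomm : ∀ c : P.ResidueField, τO (algebraMap P.ResidueField q.ResidueField c) =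
        algebraMap (ResidueField (Localization.AtPrime P)) (ResidueField O) c := by
      intro c
      have : τO.comp (algebraMap P.ResidueField q.ResidueField) =
          algebraMap (ResidueField (Localization.AtPrime P)) (ResidueField O) := by
        apply Ideal.ResidueField.ringHom_ext
        ext a
        simp only [RingHom.comp_apply]
        rw [show algebraMap P.ResidueField q.ResidueField (algebraMap A P.ResidueField a) =
          algebraMap A q.ResidueField a from resMap_algebraMap P q hqP a,
          IsScalarTower.algebraMap_apply A B q.ResidueField, hτO, φ.commutes,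
          IsScalarTower.algebraMap_apply A (Localization.AtPrime P) P.ResidueField,
          IsLocalRing.ResidueField.algebraMap_eq, IsLocalRing.ResidueField.algebraMap_residue,
          ← IsScalarTower.algebraMap_apply]
      exact congrArg (fun ψ : _ →+* ResidueField O => ψ c) this
    let τOa : q.ResidueField →ₐ[P.ResidueField] ResidueField O :=
      { τO with commutes' := hcomm }
    obtain ⟨τ', hτ'⟩ := exists_factor_of_isSepClosed (k := P.ResidueField) τ τOa
    have hττ' : ∀ y, τ (τ' y) = τO y := fun y => congrArg (fun ψ : _ →ₐ[_] _ => ψ y) hτ'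
    -- lift to `Rsh`
    have hcompat : τ'.toRingHom.comp (algebraMap A q.ResidueField) =
        (IsLocalRing.residue Rsh).comp (algebraMap A Rsh) := by
      ext a
      apply τ.toRingHom.injective
      simp only [RingHom.comp_apply]
      change τ (τ' (algebraMap A q.ResidueField a)) = τ.toRingHom (residue Rsh (algebraMap A Rsh a))
      rw [hττ', IsScalarTower.algebraMap_apply A B q.ResidueField, hτO, φ.commutes]
      change _ = τ.toRingHom (residue Rsh (algebraMap A Rsh a))
      rw [← hg2, hgA]
    obtain ⟨h, ⟨hh1, hh2⟩, -⟩ := Groth.Agent.S0501.result A Rsh B q τ'.toRingHom hcompat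
    -- uniqueness in `O`
    have hcompatO : τO.comp (algebraMap A q.ResidueField) =
        (IsLocalRing.residue O).comp (algebraMap A O) := by
      ext a
      simp only [RingHom.comp_apply]
      rw [IsScalarTower.algebraMap_apply A B q.ResidueField, hτO, φ.commutes]
    obtain ⟨f₀, -, huniq⟩ := Groth.Agent.S0501.result A O B q τO hcompatO
    have e1 : φ = f₀ := huniq φ ⟨rfl, fun b => (hτO b).symm⟩
    have e2 : gA.comp h = f₀ := by
      refine huniq _ ⟨?_, fun b => ?_⟩
      · change ((maximalIdeal O).comap g).comap h.toRingHom = q
        rw [hcomapg]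
        exact hh1
      · change residue O (g (h b)) = _
        rw [hg2]
        change τ (residue Rsh (h b)) = _
        rw [hh2 b]
        exact hττ' _
    refine ⟨h b, ?_⟩
    have := congrArg (fun ψ : B →ₐ[A] O => ψ b) (e2.trans e1.symm)
    exact this
  let gR : Rsh →ₐ[Localization.AtPrime P] O :=
    { g with commutes' := fun r => congrArg (fun ψ : _ →+* O => ψ r) hg1 }
  exact ⟨AlgEquiv.ofBijective gR ⟨hinj, hsurj⟩⟩

end Groth.Agent.H51.SHRecog
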