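import Groth.Agent.H51.OEtSH2
import Groth.Agent.H51.SHRecogC
import Groth.Agent.H67.HenselFinite

/-!
# The étale local ring is a strict henselization of the local ring of an affine étale neighbourhood
(abstract localisation form)
-/

set_option autoImplicit false
universe u
open CategoryTheory CategoryTheory.Limits AlgebraicGeometry Opposite MorphismProperty IsLocalRing

namespace Groth.Agent.H51
open AlgSp Groth.Agent.H52

theorem isSepClosed_of_ringEquiv' {K K' : Type*} [Field K] [Field K'] (E : K ≃+* K')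
    [IsSepClosed K] : IsSepClosed K' := by
  refine ⟨fun q hq => ?_⟩
  have h1 : (q.map E.symm.toRingHom).Separable := hq.map
  have h2 := IsSepClosed.splits_of_separable _ h1
  have h3 := h2.map E.toRingHom
  rw [Polynomial.map_map] at h3
  have h4 : E.toRingHom.comp E.symm.toRingHom = RingHom.id K' := by
    ext x
    exact E.apply_symm_apply x
  rwa [h4, Polynomial.map_id] at h3

theorem flat_of_ringEquiv {A M N : Type*} [CommRing A] [CommRing M] [CommRing N] (f : A →+* M)
    (e : N ≃+* M) (h : @Module.Flat A M _ _ f.toAlgebra.toModule) :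
    @Module.Flat A N _ _ (e.symm.toRingHom.comp f).toAlgebra.toModule := by
  letI : Algebra A M := f.toAlgebra
  letI : Algebra A N := (e.symm.toRingHom.comp f).toAlgebra
  haveI : Module.Flat A M := h
  let eL : N ≃ₗ[A] M :=
    { e.toAddEquiv with
      map_smul' := fun a x => by
        change e (a • x) = a • e x
        rw [Algebra.smul_def, Algebra.smul_def, map_mul]
        congr 1
        exact e.apply_symm_apply _ }
  exact Module.Flat.of_linearEquiv eL

variable {S : Scheme.{u}} (X : AlgSp.Space S) (p : FieldPt X.obj) (hp : p.IsGeometric)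

/-- The prime ideal of functions on an étale neighbourhood vanishing at the lifted point. -/
noncomputable def evPrime (U : EtOver X.obj) (l : (FieldPt.liftsTo p).obj U) :
    Ideal Γ(U.obj.left.left, ⊤) := RingHom.ker (evRing X p U l)

instance (U : EtOver X.obj) (l : (FieldPt.liftsTo p).obj U) : (evPrime X p U l).IsPrime :=
  RingHom.ker_isPrime _

theorem isUnit_germR_iff (U : EtOver X.obj) (l : (FieldPt.liftsTo p).obj U)
    (a : Γ(U.obj.left.left, ⊤)) :
    IsUnit (germR X p hp U l a) ↔ a ∉ evPrime X p U l := by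
  rw [evPrime, RingHom.mem_ker, isUnit_iff_evStalk_ne_zero X p hp]
  have h : (evStalk X p hp).hom (germR X p hp U l a) = ULift.up (evRing X p U l a) :=
    evStalk_germEt_apply X p hp U l (ULift.up a)
  rw [h]
  constructor
  · intro h1 h2
    exact h1 (by rw [h2]; rfl)
  · intro h1 h2
    exact h1 (congrArg ULift.down h2)

include hp in
theorem exists_strictHenselization_localization (U : EtOver X.obj)
    (l : (FieldPt.liftsTo p).obj U) [IsAffine U.obj.left.left] :
    ∃ (Rsh : Type u) (_ : CommRing Rsh) (_ : IsLocalRing Rsh)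
      (_ : Algebra (Localization.AtPrime (evPrime X p U l)) Rsh)
      (_ : IsLocalHom (algebraMap (Localization.AtPrime (evPrime X p U l)) Rsh))
      (_ : Hensel.IsStrictHenselization (Localization.AtPrime (evPrime X p U l)) Rsh),
      Nonempty (Rsh ≃+* OEtStalk p) := by
  haveI := small_OEtStalk X p hp
  haveI hO : HenselianLocalRing (OEtStalk p) := henselianLocalRing_OEtStalk X p hp
  let P := evPrime X p U l
  let eq : Shrink.{u} (OEtStalk p) ≃+* OEtStalk p := Shrink.ringEquiv (OEtStalk p)
  haveI hO' : HenselianLocalRing (Shrink.{u} (OEtStalk p)) :=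
    Groth.Agent.H67.HenselFinite.henselian_of_ringEquiv eq.symm
  haveI : IsSepClosed (ResidueField (OEtStalk p)) := isSepClosed_residueField_OEtStalk X p hp
  haveI : IsSepClosed (ResidueField (Shrink.{u} (OEtStalk p))) :=
    isSepClosed_of_ringEquiv' (ResidueField.mapEquiv eq.symm)
  let ρA : Γ(U.obj.left.left, ⊤) →+* Shrink.{u} (OEtStalk p) :=
    eq.symm.toRingHom.comp (germR X p hp U l)
  have hρA : ∀ a, eq (ρA a) = germR X p hp U l a := fun a => eq.apply_symm_apply _
  have hunitA : ∀ a : Γ(U.obj.left.left, ⊤), IsUnit (ρA a) ↔ a ∉ P := fun a => by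
    rw [← isUnit_germR_iff X p hp U l a, ← hρA a]
    exact ⟨fun h => h.map eq, fun h => by
      have := h.map eq.symm
      rwa [RingEquiv.symm_apply_apply] at this⟩
  let ρ : Localization.AtPrime P →+* Shrink.{u} (OEtStalk p) :=
    IsLocalization.lift (M := P.primeCompl) (g := ρA) (fun y => (hunitA y).2 y.2)
  have hρ : ∀ a, ρ (algebraMap _ (Localization.AtPrime P) a) = ρA a := fun a =>
    IsLocalization.lift_eq _ a
  letI algA : Algebra Γ(U.obj.left.left, ⊤) (Shrink.{u} (OEtStalk p)) := ρA.toAlgebra
  letI algR : Algebra (Localization.AtPrime P) (Shrink.{u} (OEtStalk p)) := ρ.toAlgebra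
  haveI tow : IsScalarTower Γ(U.obj.left.left, ⊤) (Localization.AtPrime P)
      (Shrink.{u} (OEtStalk p)) := IsScalarTower.of_algebraMap_eq fun a => (hρ a).symm
  haveI hloc : IsLocalHom (algebraMap (Localization.AtPrime P) (Shrink.{u} (OEtStalk p))) := by
    refine ⟨fun r hr => ?_⟩
    obtain ⟨a, s, rfl⟩ := IsLocalization.exists_mk'_eq P.primeCompl r
    have h1 : ρ (IsLocalization.mk' (Localization.AtPrime P) a s) * ρA s = ρA a := by
      rw [← hρ, ← hρ, ← map_mul, IsLocalization.mk'_spec]
    have h2 : IsUnit (ρA a) := by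
      rw [← h1]
      exact hr.mul ((hunitA s).2 s.2)
    have h3 : a ∉ P := (hunitA a).1 h2
    exact (IsLocalization.AtPrime.isUnit_mk'_iff (Localization.AtPrime P) P a s).2 h3
  -- flatness
  haveI flatA : Module.Flat Γ(U.obj.left.left, ⊤) (Shrink.{u} (OEtStalk p)) :=
    flat_of_ringEquiv (germR X p hp U l) eq (flat_germR X p hp U l)
  haveI flatR : Module.Flat (Localization.AtPrime P) (Shrink.{u} (OEtStalk p)) :=
    (Module.flat_iff_of_isLocalization (Localization.AtPrime P) P.primeCompl
      (Shrink.{u} (OEtStalk p))).2 flatA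
  -- union of étale images
  have hE : ∀ x : Shrink.{u} (OEtStalk p), ∃ (B : Type u) (_ : CommRing B)
      (_ : Algebra Γ(U.obj.left.left, ⊤) B) (_ : Algebra.Etale Γ(U.obj.left.left, ⊤) B)
      (φ : B →ₐ[Γ(U.obj.left.left, ⊤)] Shrink.{u} (OEtStalk p)), x ∈ Set.range φ := by
    intro x
    obtain ⟨V, φ, l', hl', hV, hs⟩ := exists_affine_nbhd_finset X p hp U l {eq x}
    obtain ⟨s, hs⟩ := hs (eq x) (Finset.mem_singleton_self _)
    have hw := germR_w X p hp φ l' l hl'
    letI algB : Algebra Γ(U.obj.left.left, ⊤) Γ(V.obj.left.left, ⊤) :=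
      (φ.hom.left.left.appTop.hom).toAlgebra
    have hEt : Algebra.Etale Γ(U.obj.left.left, ⊤) Γ(V.obj.left.left, ⊤) := etale_appTop X φ
    let φa : Γ(V.obj.left.left, ⊤) →ₐ[Γ(U.obj.left.left, ⊤)] Shrink.{u} (OEtStalk p) :=
      { eq.symm.toRingHom.comp (germR X p hp V l') with
        commutes' := fun a => by
          change eq.symm (germR X p hp V l' (φ.hom.left.left.appTop.hom a)) =
            eq.symm (germR X p hp U l a)
          rw [hw]
          rfl }
    refine ⟨Γ(V.obj.left.left, ⊤), inferInstance, algB, hEt, φa, s, ?_⟩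
    change eq.symm (germR X p hp V l' s) = x
    rw [hs, RingEquiv.symm_apply_apply]
  obtain ⟨Rsh, i1, i2, i3, i4, hS, ⟨e⟩⟩ :=
    SHRecog.main Γ(U.obj.left.left, ⊤) P (Shrink.{u} (OEtStalk p)) hE
  exact ⟨Rsh, i1, i2, i3, i4, hS, ⟨e.toRingEquiv.trans eq⟩⟩

end Groth.Agent.H51
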