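import Groth.Agent.H51.OEtSH3
import Groth.Agent.H3.StrictHensBaseEquiv

/-!
# The étale local ring is a strict henselization of the local ring of an affine étale neighbourhood
-/

set_option autoImplicit false
universe u
open CategoryTheory CategoryTheory.Limits AlgebraicGeometry Opposite MorphismProperty IsLocalRing

namespace Groth.Agent.H51
open AlgSp Groth.Agent.H52

variable {S : Scheme.{u}} (X : AlgSp.Space S) (p : FieldPt X.obj) (hp : p.IsGeometric)

theorem evRing_ne_zero_iff (U : EtOver X.obj) (l : (FieldPt.liftsTo p).obj U)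
    (a : Γ(U.obj.left.left, ⊤)) (z : Spec (CommRingCat.of p.K)) :
    evRing X p U l a ≠ 0 ↔ l.1.left z ∈ U.obj.left.left.basicOpen a := by
  have hpre : l.1.left z ∈ U.obj.left.left.basicOpen a ↔
      z ∈ (Spec (CommRingCat.of p.K)).basicOpen (l.1.left.appTop.hom a) := by
    rw [← Scheme.preimage_basicOpen_top]
    rfl
  rw [hpre]
  constructor
  · intro h
    have h1 : IsUnit (evRing X p U l a) := isUnit_iff_ne_zero.2 h
    have h2 := h1.map (Scheme.ΓSpecIso (CommRingCat.of p.K)).inv.hom
    have h3 : (Scheme.ΓSpecIso (CommRingCat.of p.K)).inv.hom (evRing X p U l a) =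
        l.1.left.appTop.hom a := by
      change ((Scheme.ΓSpecIso (CommRingCat.of p.K)).hom ≫
        (Scheme.ΓSpecIso (CommRingCat.of p.K)).inv).hom (l.1.left.appTop.hom a) = _
      rw [Iso.hom_inv_id]
      rfl
    rw [h3] at h2
    have hb : (Spec (CommRingCat.of p.K)).basicOpen (l.1.left.appTop.hom a) = ⊤ :=
      Scheme.basicOpen_of_isUnit (X := Spec (CommRingCat.of p.K)) h2
    rw [hb]
    trivial
  · intro h h0
    have h1 : l.1.left.appTop.hom a = 0 := by
      have hinj : Function.Injective (Scheme.ΓSpecIso (CommRingCat.of p.K)).hom.hom :=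
        (ConcreteCategory.bijective_of_isIso (Scheme.ΓSpecIso (CommRingCat.of p.K)).hom).1
      apply hinj
      rw [map_zero]
      exact h0
    have hb : (Spec (CommRingCat.of p.K)).basicOpen (l.1.left.appTop.hom a) = ⊥ := by
      rw [h1]
      exact Scheme.basicOpen_zero (X := Spec (CommRingCat.of p.K)) ⊤
    rw [hb] at h
    exact h

theorem evPrime_eq_primeIdealOf (U : EtOver X.obj) (l : (FieldPt.liftsTo p).obj U)
    [IsAffine U.obj.left.left] (z : Spec (CommRingCat.of p.K)) :
    evPrime X p U l =
      ((isAffineOpen_top U.obj.left.left).primeIdealOf ⟨l.1.left z, trivial⟩).asIdeal := by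
  ext a
  rw [IsAffineOpen.primeIdealOf_eq_map_closedPoint]
  change a ∈ RingHom.ker (evRing X p U l) ↔
    (U.obj.left.left.presheaf.germ ⊤ (l.1.left z) trivial).hom a ∈ maximalIdeal _
  rw [RingHom.mem_ker, mem_maximalIdeal, mem_nonunits_iff, ← Scheme.mem_basicOpen_top,
    ← evRing_ne_zero_iff X p U l a z, not_not]

include hp in
/-- **The étale local ring is a strict henselization.** -/
theorem exists_strictHenselization_stalk (U : EtOver X.obj)
    (l : (FieldPt.liftsTo p).obj U) [IsAffine U.obj.left.left]
    (z : Spec (CommRingCat.of p.K)) :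
    ∃ (Rsh : Type u) (_ : CommRing Rsh) (_ : IsLocalRing Rsh)
      (_ : Algebra (U.obj.left.left.presheaf.stalk (l.1.left z)) Rsh)
      (_ : IsLocalHom (algebraMap (U.obj.left.left.presheaf.stalk (l.1.left z)) Rsh))
      (_ : Hensel.IsStrictHenselization (U.obj.left.left.presheaf.stalk (l.1.left z)) Rsh),
      Nonempty (Rsh ≃+* OEtStalk p) := by
  obtain ⟨Rsh, i1, i2, i3, i4, hS, he⟩ := exists_strictHenselization_localization X p hp U l
  have hP := evPrime_eq_primeIdealOf X p U l z
  letI algSt : Algebra Γ(U.obj.left.left, ⊤) (U.obj.left.left.presheaf.stalk (l.1.left z)) :=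
    TopCat.Presheaf.algebra_section_stalk U.obj.left.left.presheaf (U := ⊤) ⟨l.1.left z, trivial⟩
  haveI hloc : IsLocalization.AtPrime (U.obj.left.left.presheaf.stalk (l.1.left z))
      (evPrime X p U l) := by
    have h0 := (isAffineOpen_top U.obj.left.left).isLocalization_stalk ⟨l.1.left z, trivial⟩
    have hc : (evPrime X p U l).primeCompl =
        ((isAffineOpen_top U.obj.left.left).primeIdealOf
          ⟨l.1.left z, trivial⟩).asIdeal.primeCompl := by
      ext a
      change a ∉ evPrime X p U l ↔ a ∉ _
      rw [hP]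
      exact Iff.rfl
    change IsLocalization (evPrime X p U l).primeCompl _
    rw [hc]
    exact h0
  let e : U.obj.left.left.presheaf.stalk (l.1.left z) ≃ₐ[Γ(U.obj.left.left, ⊤)]
      Localization.AtPrime (evPrime X p U l) :=
    IsLocalization.algEquiv (evPrime X p U l).primeCompl _ _
  letI alg : Algebra (U.obj.left.left.presheaf.stalk (l.1.left z)) Rsh :=
    ((algebraMap (Localization.AtPrime (evPrime X p U l)) Rsh).comp
      (e.toRingEquiv : _ →+* _)).toAlgebra
  haveI : IsLocalHom (e.toRingEquiv : U.obj.left.left.presheaf.stalk (l.1.left z) →+*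
      Localization.AtPrime (evPrime X p U l)) := inferInstance
  haveI hl : IsLocalHom (algebraMap (U.obj.left.left.presheaf.stalk (l.1.left z)) Rsh) :=
    RingHom.isLocalHom_comp _ _
  refine ⟨Rsh, i1, i2, alg, hl, ?_, he⟩
  exact Groth.Agent.H3.StrictHensBaseEquiv.isStrictHenselization_of_base_ringEquiv
    e.toRingEquiv (fun x => rfl) hS

end Groth.Agent.H51
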