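import Groth.Agent.H51.SpEtStalk
import Groth.Agent.H52.Points
import Mathlib.CategoryTheory.Sites.EpiMono

set_option autoImplicit false
universe u
open CategoryTheory CategoryTheory.Limits AlgebraicGeometry Opposite MorphismProperty
namespace Groth.Agent.H51
open AlgSp Groth.Agent.H52
variable {S : Scheme.{u}}

/-- Every point of an object of the small étale site is the image of a lift of a geometric point. -/
theorem exists_geometric_lift {X : Sp S} (U : EtOver X) (x : U.obj.left.left) :
    ∃ (p : FieldPt X) (_ : p.IsGeometric) (e : (FieldPt.liftsTo p).obj U),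
      ∀ z : Spec (CommRingCat.of p.K), e.1.left z = x := by
  let κ := U.obj.left.left.residueField x
  let K := AlgebraicClosure κ
  let c : Spec (CommRingCat.of K) ⟶ U.obj.left.left :=
    Spec.map (CommRingCat.ofHom (algebraMap κ K)) ≫ U.obj.left.left.fromSpecResidueField x
  let str : Spec (CommRingCat.of K) ⟶ S := c ≫ U.obj.left.hom
  let e0 : Over.mk str ⟶ U.obj.left := Over.homMk c rfl
  let p : FieldPt X := fieldPtOfHom str ((yon S).map e0 ≫ U.obj.hom)
  have hp : p.IsGeometric := (inferInstance : IsAlgClosed K)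
  refine ⟨p, hp, ⟨e0, (toHom_fieldPtOfHom str _).symm⟩, fun z => ?_⟩
  change (U.obj.left.left.fromSpecResidueField x)
    ((Spec.map (CommRingCat.ofHom (algebraMap κ K))) z) = x
  exact Scheme.fromSpecResidueField_apply _ _


/-- Geometric points detect coverings of the small étale site. -/
theorem mem_etTop_of_forall_geometric {X : Sp S} {U : EtOver X} (R : Sieve U)
    (h : ∀ (p : FieldPt X) (_ : p.IsGeometric) (e : (FieldPt.liftsTo p).obj U),
      ∃ (Y : EtOver X) (f : Y ⟶ U) (_ : R f) (y : (FieldPt.liftsTo p).obj Y),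
        (FieldPt.liftsTo p).map f y = e) : R ∈ etTop X U := by
  choose p hp e he using fun x : U.obj.left.left => exists_geometric_lift U x
  choose Y f hf y hy using fun x : U.obj.left.left => h (p x) (hp x) (e x)
  refine (etTop X).superset_covering ?_ (ofArrows_mem_etTop Y f fun x => ⟨x, ?_⟩)
  · rw [Sieve.generate_le_iff]
    rintro _ _ ⟨x⟩
    exact hf x
  · have h1 : (y x).1 ≫ (f x).hom.left = (e x).1 := congrArg Subtype.val (hy x)
    have h2 : (y x).1.left ≫ (f x).hom.left.left = (e x).1.left := congrArg (fun k => k.left) h1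
    refine ⟨(y x).1.left (default : Spec (CommRingCat.of (p x).K)), ?_⟩
    have h3 : ((y x).1.left ≫ (f x).hom.left.left) (default : Spec (CommRingCat.of (p x).K)) =
        (e x).1.left (default : Spec (CommRingCat.of (p x).K)) := by rw [h2]
    exact h3.trans (he x default)


theorem isLocallyInjective_of_stalk_injective (X : AlgSp.Space S)
    {F G : (EtOver X.obj)ᵒᵖ ⥤ Type (u + 1)} (a : F ⟶ G)
    (h : ∀ p : FieldPt X.obj, p.IsGeometric →
      Function.Injective ((stalkEtPshFunctor (Type (u + 1)) p).map a)) :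
    Presheaf.IsLocallyInjective (etTop X.obj) a := by
  refine ⟨fun {U} s t hst => ?_⟩
  refine mem_etTop_of_forall_geometric _ fun p hp e => ?_
  let Φ := geomPoint X p hp
  have h1 : Φ.toPresheafFiber U.unop e F s = Φ.toPresheafFiber U.unop e F t := by
    apply h p hp
    have e1 := Φ.toPresheafFiber_naturality_apply a U.unop e s
    have e2 := Φ.toPresheafFiber_naturality_apply a U.unop e t
    exact e1.trans ((congrArg _ hst).trans e2.symm)
  obtain ⟨Y, f, y, hy, hf⟩ := (Φ.toPresheafFiber_eq_iff' U.unop e s t).1 h1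
  exact ⟨Y, f, hf, y, hy⟩


theorem isLocallySurjective_of_stalk_surjective (X : AlgSp.Space S)
    {F G : (EtOver X.obj)ᵒᵖ ⥤ Type (u + 1)} (a : F ⟶ G)
    (h : ∀ p : FieldPt X.obj, p.IsGeometric →
      Function.Surjective ((stalkEtPshFunctor (Type (u + 1)) p).map a)) :
    Presheaf.IsLocallySurjective (etTop X.obj) a := by
  refine ⟨fun {U} t => ?_⟩
  refine mem_etTop_of_forall_geometric _ fun p hp e => ?_
  let Φ := geomPoint X p hp
  obtain ⟨σ, hσ⟩ := h p hp (Φ.toPresheafFiber U e G t)
  obtain ⟨Y, y, s, rfl⟩ := Φ.toPresheafFiber_jointly_surjective (A := Type (u + 1)) (P := F) σ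
  have hσ' : Φ.toPresheafFiber Y y G (a.app _ s) = Φ.toPresheafFiber U e G t :=
    (Φ.toPresheafFiber_naturality_apply a Y y s).symm.trans hσ
  obtain ⟨⟨Z, z⟩, ⟨f1, hf1⟩, ⟨f2, hf2⟩, -⟩ :=
    IsCofilteredOrEmpty.cone_objs (Φ.fiber.elementsMk Y y) (Φ.fiber.elementsMk U e)
  dsimp at f1 f2 hf1 hf2
  have e1 : Φ.toPresheafFiber Z z G (G.map f1.op (a.app _ s)) =
      Φ.toPresheafFiber Y y G (a.app _ s) := by
    rw [← hf1]; exact Φ.toPresheafFiber_w_apply f1 z G _
  have e2 : Φ.toPresheafFiber Z z G (G.map f2.op t) = Φ.toPresheafFiber U e G t := by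
    rw [← hf2]; exact Φ.toPresheafFiber_w_apply f2 z G _
  obtain ⟨Z', g, z', hz', hg⟩ :=
    (Φ.toPresheafFiber_eq_iff' Z z _ _).1 (e1.trans (hσ'.trans e2.symm))
  refine ⟨Z', g ≫ f2, ⟨F.map (g ≫ f1).op s, ?_⟩, z', ?_⟩
  · have n1 := NatTrans.naturality_apply a (g ≫ f1).op s
    rw [n1, op_comp, op_comp, Functor.map_comp, Functor.map_comp]
    exact hg
  · rw [Functor.map_comp]
    change Φ.fiber.map f2 (Φ.fiber.map g z') = e
    rw [hz', hf2]

theorem mono_iff_stalkEt_injective (X : AlgSp.Space S) {F G : EtSh X.obj (Type (u + 1))} (a : F ⟶ G) :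
    Mono a ↔ ∀ p : FieldPt X.obj, p.IsGeometric →
      Function.Injective ((stalkEtFunctor (Type (u + 1)) p).map a) := by
  constructor
  · intro _ p hp
    haveI := stalkEt_preservesFiniteLimits_type X p hp
    exact (mono_iff_injective _).1 inferInstance
  · intro h
    haveI : Sheaf.IsLocallyInjective a := isLocallyInjective_of_stalk_injective X a.hom h
    exact Sheaf.mono_of_isLocallyInjective a

theorem epi_iff_stalkEt_surjective (X : AlgSp.Space S) {F G : EtSh X.obj (Type (u + 1))} (a : F ⟶ G) :
    Epi a ↔ ∀ p : FieldPt X.obj, p.IsGeometric →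
      Function.Surjective ((stalkEtFunctor (Type (u + 1)) p).map a) := by
  constructor
  · intro _ p hp
    haveI := stalkEt_preservesFiniteColimits_type X p hp
    exact (epi_iff_surjective _).1 inferInstance
  · intro h
    haveI : Sheaf.IsLocallySurjective a := isLocallySurjective_of_stalk_surjective X a.hom h
    exact Sheaf.epi_of_isLocallySurjective a

end Groth.Agent.H51
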