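import Groth.Agent.H51.OEtSH4
import Groth.Agent.H51.SpEtStalk2
import Groth.Agent.H51.SpEtSupport

/-!
# The étale local ring is a strict henselization of the local ring of any étale neighbourhood
-/

set_option autoImplicit false
universe u
open CategoryTheory CategoryTheory.Limits AlgebraicGeometry Opposite MorphismProperty IsLocalRing

namespace Groth.Agent.H51
open AlgSp Groth.Agent.H52

variable {S : Scheme.{u}} (X : AlgSp.Space S) (p : FieldPt X.obj) (hp : p.IsGeometric)

/-- The package "there is a strict henselization of `R` isomorphic to `O`". -/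
def SHPackage (R : Type u) [CommRing R] [IsLocalRing R] (O : Type (u + 1)) [CommRing O] : Prop :=
  ∃ (Rsh : Type u) (_ : CommRing Rsh) (_ : IsLocalRing Rsh) (_ : Algebra R Rsh)
    (_ : IsLocalHom (algebraMap R Rsh)) (_ : Hensel.IsStrictHenselization R Rsh),
    Nonempty (Rsh ≃+* O)

theorem SHPackage.of_ringEquiv {R R' : Type u} [CommRing R] [IsLocalRing R] [CommRing R']
    [IsLocalRing R'] {O : Type (u + 1)} [CommRing O] (e : R' ≃+* R) (h : SHPackage R O) :
    SHPackage R' O := by
  obtain ⟨Rsh, i1, i2, i3, i4, hS, he⟩ := h
  letI alg : Algebra R' Rsh := ((algebraMap R Rsh).comp (e : R' →+* R)).toAlgebra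
  haveI : IsLocalHom (e : R' →+* R) := inferInstance
  haveI hl : IsLocalHom (algebraMap R' Rsh) := RingHom.isLocalHom_comp _ _
  exact ⟨Rsh, i1, i2, alg, hl,
    Groth.Agent.H3.StrictHensBaseEquiv.isStrictHenselization_of_base_ringEquiv e (fun _ => rfl) hS,
    he⟩

include hp in
theorem shPackage_stalk_affine (U : EtOver X.obj) (l : (FieldPt.liftsTo p).obj U)
    [IsAffine U.obj.left.left] (z : Spec (CommRingCat.of p.K)) :
    SHPackage (U.obj.left.left.presheaf.stalk (l.1.left z)) (OEtStalk p) :=
  exists_strictHenselization_stalk X p hp U l z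

include hp in
/-- **The étale local ring is a strict henselization of the local ring of any étale
neighbourhood at the image of the geometric point.** -/
theorem shPackage_stalk (U : EtOver X.obj) (l : (FieldPt.liftsTo p).obj U)
    (z : Spec (CommRingCat.of p.K)) :
    SHPackage (U.obj.left.left.presheaf.stalk (l.1.left z)) (OEtStalk p) := by
  obtain ⟨W, hW, hxW, -⟩ :=
    exists_isAffineOpen_mem_and_subset (x := l.1.left z) (U := ⊤) trivial
  have hr : Set.range l.1.left ⊆ (W : Set _) := by
    rintro _ ⟨y, rfl⟩
    have : y = z := Subsingleton.elim (α := Spec (CommRingCat.of p.K)) _ _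
    rw [this]
    exact hxW
  obtain ⟨l', rfl⟩ := exists_lift_ofOpen X p U l W hr
  haveI : IsAffine (EtOver.ofOpen U W).obj.left.left := hW
  have h := shPackage_stalk_affine X p hp (EtOver.ofOpen U W) l' z
  have hiso : IsIso (W.ι.stalkMap (l'.1.left z)) := inferInstance
  exact h.of_ringEquiv (asIso (W.ι.stalkMap (l'.1.left z))).commRingCatIsoToRingEquiv

/-- For every point of an étale chart there is a geometric point through it whose étale local
ring is a strict henselization of the local ring of the chart. -/
theorem exists_geometric_shPackage {U : Over S} (a : (yon S).obj U ⟶ X.obj)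
    (hae : RepWith @Etale a) (u : U.left) :
    ∃ (p : FieldPt X.obj) (_ : p.IsGeometric), Points.mk p = Points.ofPt a u ∧
      SHPackage (U.left.presheaf.stalk u) (OEtStalk p) := by
  obtain ⟨p, hp, e, he⟩ := exists_geometric_lift (EtOver.mk a hae) u
  let z : Spec (CommRingCat.of p.K) := default
  refine ⟨p, hp, ?_, ?_⟩
  · have := ofPt_lift_eq p e z
    rw [he z] at this
    exact this.symm
  · have h := shPackage_stalk X p hp (EtOver.mk a hae) e z
    have hz := he z
    revert h
    generalize e.1.left z = w at hz ⊢
    subst hz
    exact id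

end Groth.Agent.H51
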