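import Groth.Agent.H51.SpEtSupport
import Groth.Agent.H51.SpBasic

set_option autoImplicit false
universe u
open CategoryTheory CategoryTheory.Limits AlgebraicGeometry Opposite MorphismProperty
namespace Groth.Agent.H51
open AlgSp Groth.Agent.H52
variable {S : Scheme.{u}}

/-- Every point of `|X|` is the class of a geometric point. -/
theorem exists_geometric_over {X : Sp S} (x : Points X) :
    ∃ p : FieldPt X, p.IsGeometric ∧ Points.mk p = x := by
  induction x using Points.ind with
  | h q =>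
  let K := AlgebraicClosure q.K
  let c : Spec (CommRingCat.of K) ⟶ Spec (CommRingCat.of q.K) :=
    Spec.map (CommRingCat.ofHom (algebraMap q.K K))
  let w : Spec (CommRingCat.of K) ⟶ S := c ≫ q.str
  let a : Over.mk w ⟶ q.pt := Over.homMk c rfl
  exact ⟨fieldPtRestrict q w a, (inferInstance : IsAlgClosed K), mk_fieldPtRestrict q w a⟩

/-- A geometric point whose class lies in the image of an étale chart lifts to the chart. -/
theorem exists_lift_of_mem_range {X : Sp S} (p : FieldPt X) (hp : p.IsGeometric) {U : Over S}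
    (a : (yon S).obj U ⟶ X) (hae : RepWith @Etale a)
    (h : Points.mk p ∈ Set.range (Points.ofPt a)) :
    ∃ u : p.pt ⟶ U, (yon S).map u ≫ a = p.toHom := by
  haveI : IsAlgClosed p.K := hp
  haveI : IsSepClosed p.K := IsSepClosed.of_isAlgClosed p.K
  have hpb := hae.1.isPullback p.toHom
  have het : Etale (hae.1.snd p.toHom).left := hae.2 _ _ _ hpb
  obtain ⟨u0, hu0⟩ := h
  obtain ⟨z, -, -⟩ := exists_point_of_isPullback hpb (Points.ofScheme U u0)
    (Points.ofScheme p.pt (default : Spec (CommRingCat.of p.K))) (by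
      rw [← Points.ofPt_eq_map_ofScheme, ← Points.ofPt_eq_map_ofScheme, hu0]
      exact (Points.ofPt_toHom p _).symm)
  let x : (hae.1.pullback p.toHom).left := Points.toScheme _ z
  obtain ⟨l, hl, -⟩ := Scheme.exists_fac_of_etale_of_isSepClosed (hae.1.snd p.toHom).left
    (𝟙 (Spec (CommRingCat.of p.K))) x (Subsingleton.elim (α := ↥(Spec (CommRingCat.of p.K))) _ _)
  have hw : l ≫ (hae.1.pullback p.toHom).hom = p.str := by
    have h1 : (hae.1.snd p.toHom).left ≫ p.str = (hae.1.pullback p.toHom).hom :=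
      Over.w (hae.1.snd p.toHom)
    rw [← h1, ← Category.assoc, hl, Category.id_comp]
  let l' : p.pt ⟶ hae.1.pullback p.toHom := Over.homMk l hw
  have hl' : l' ≫ hae.1.snd p.toHom = 𝟙 p.pt := Over.OverMorphism.ext hl
  refine ⟨l' ≫ hae.1.fst' p.toHom, ?_⟩
  rw [Functor.map_comp, Category.assoc, Functor.relativelyRepresentable.map_fst', hpb.w,
    ← Category.assoc, ← Functor.map_comp, hl']
  exact ((congrArg (· ≫ p.toHom) ((yon S).map_id p.pt)).trans (Category.id_comp _))


theorem hasColimitsOfSize_commRing : HasColimitsOfSize.{u, u} CommRingCat.{u + 1} :=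
  hasColimitsOfSizeShrink.{u, u, u + 1, u + 1} CommRingCat.{u + 1}

theorem preservesFilteredColimits_forget_commRing :
    PreservesFilteredColimitsOfSize.{u, u} (forget CommRingCat.{u + 1}) :=
  preservesFilteredColimitsOfSize_of_univLE.{u + 1, u + 1, u, u} _

theorem isClosed_support_ring (X : AlgSp.Space S) (O' : EtSh X.obj CommRingCat.{u + 1}) :
    IsClosed {x : Points X.obj |
      ∃ p : FieldPt X.obj, p.IsGeometric ∧ Points.mk p = x ∧ Nontrivial ↥(stalkEt p O')} := by
  haveI := hasColimitsOfSize_commRing.{u}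
  haveI := preservesFilteredColimits_forget_commRing.{u}
  rw [← isOpen_compl_iff, isOpen_iff_forall_mem_open]
  intro x hx
  obtain ⟨p, hp, hpx⟩ := exists_geometric_over x
  have htriv : ¬ Nontrivial ↥(stalkEt p O') := fun h => hx ⟨p, hp, hpx, h⟩
  haveI : Subsingleton ↥(stalkEt p O') := not_nontrivial_iff_subsingleton.1 htriv
  let Φ := geomPoint X p hp
  obtain ⟨⟨U, l⟩⟩ := (etNbhd_isCofiltered X p hp).nonempty
  have h10 : Φ.toPresheafFiber U l O'.obj (1 : ↥(O'.obj.obj (op U))) =
      Φ.toPresheafFiber U l O'.obj (0 : ↥(O'.obj.obj (op U))) :=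
    Subsingleton.elim (α := ↥(stalkEt p O')) _ _
  obtain ⟨V, φ, l', hl', h⟩ := (Φ.toPresheafFiber_eq_iff' U l _ _).1 h10
  have hV : (1 : ↥(O'.obj.obj (op V))) = 0 := by
    have e1 : (O'.obj.map φ.op).hom (1 : ↥(O'.obj.obj (op U))) = 1 := map_one _
    have e0 : (O'.obj.map φ.op).hom (0 : ↥(O'.obj.obj (op U))) = 0 := map_zero _
    exact e1.symm.trans (h.trans e0)
  refine ⟨Set.range (Points.ofPt V.obj.hom), ?_,
    (isOpenMap_ofPt_of_etale V.obj.hom V.property).isOpen_range,
    ⟨l'.1.left (default : Spec (CommRingCat.of p.K)), (ofPt_lift_eq p l' _).trans hpx⟩⟩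
  rintro _ ⟨v, rfl⟩ ⟨p', hp', hp'x, hnt⟩
  obtain ⟨u', hu'⟩ := exists_lift_of_mem_range p' hp' V.obj.hom V.property ⟨v, hp'x.symm⟩
  have h1 : (1 : ↥(stalkEt p' O')) = 0 := by
    have e1 := map_one (stalkEtι p' O' ⟨V, ⟨u', hu'⟩⟩).hom
    have e0 := map_zero (stalkEtι p' O' ⟨V, ⟨u', hu'⟩⟩).hom
    rw [← e1, hV, e0]
  exact one_ne_zero h1

end Groth.Agent.H51
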