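import Groth.Agent.H51.OEtSH5
import Groth.Agent.H51.SpEtSupport2
import Groth.Agent.H51.SpDim

/-!
# Lifting a geometric point through a given point of an étale chart; consequences of the
strict henselization package
-/

set_option autoImplicit false
universe u
open CategoryTheory CategoryTheory.Limits AlgebraicGeometry Opposite MorphismProperty IsLocalRing

namespace Groth.Agent.H51
open AlgSp Groth.Agent.H52

variable {S : Scheme.{u}}

/-- A geometric point lying over the image of a point `u0` of an étale chart lifts to the chart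
through `u0`. -/
theorem exists_lift_through_point {X : Sp S} (p : FieldPt X) (hp : p.IsGeometric) {U : Over S}
    (a : (yon S).obj U ⟶ X) (hae : RepWith @Etale a) (u0 : U.left)
    (h : Points.ofPt a u0 = Points.mk p) :
    ∃ l : (FieldPt.liftsTo p).obj (EtOver.mk a hae),
      ∀ z : Spec (CommRingCat.of p.K), l.1.left z = u0 := by
  haveI : IsAlgClosed p.K := hp
  haveI : IsSepClosed p.K := IsSepClosed.of_isAlgClosed p.K
  have sq := hae.rep.isPullback' p.toHom
  have het : Etale (hae.1.snd p.toHom).left := hae.2 _ _ _ (hae.1.isPullback p.toHom)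
  obtain ⟨v, hv1, hv2⟩ := exists_of_ofPt_eq sq u0 (default : Spec (CommRingCat.of p.K))
    (h.trans (Points.ofPt_toHom p _).symm)
  obtain ⟨l, hl, hlv⟩ := Scheme.exists_fac_of_etale_of_isSepClosed (hae.1.snd p.toHom).left
    (𝟙 (Spec (CommRingCat.of p.K))) v (Subsingleton.elim (α := ↥(Spec (CommRingCat.of p.K))) _ _)
  have hw : l ≫ (hae.1.pullback p.toHom).hom = p.str := by
    have h1 : (hae.1.snd p.toHom).left ≫ p.str = (hae.1.pullback p.toHom).hom :=
      Over.w (hae.1.snd p.toHom)
    rw [← h1, ← Category.assoc, hl, Category.id_comp]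
  let l' : p.pt ⟶ hae.1.pullback p.toHom := Over.homMk l hw
  have hl' : l' ≫ hae.1.snd p.toHom = 𝟙 p.pt := Over.OverMorphism.ext hl
  refine ⟨⟨l' ≫ hae.1.fst' p.toHom, ?_⟩, fun z => ?_⟩
  · change (yon S).map (l' ≫ hae.1.fst' p.toHom) ≫ a = p.toHom
    rw [Functor.map_comp, Category.assoc, sq.w,
      ← Category.assoc, ← Functor.map_comp, hl']
    exact ((congrArg (· ≫ p.toHom) ((yon S).map_id p.pt)).trans (Category.id_comp _))
  · have hz : z = default := Subsingleton.elim (α := ↥(Spec (CommRingCat.of p.K))) _ _
    subst hz
    change (hae.1.fst' p.toHom).left (l default) = u0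
    rw [hlv]
    exact hv1

/-- **The étale local ring at a geometric point `p` is a strict henselization of the local ring
of any étale chart at any point over the class of `p`.** -/
theorem shPackage_of_ofPt_eq (X : AlgSp.Space S) (p : FieldPt X.obj) (hp : p.IsGeometric)
    {U : Over S} (a : (yon S).obj U ⟶ X.obj) (hae : RepWith @Etale a) (u0 : U.left)
    (h : Points.ofPt a u0 = Points.mk p) :
    SHPackage (U.left.presheaf.stalk u0) (OEtStalk p) := by
  obtain ⟨l, hl⟩ := exists_lift_through_point p hp a hae u0 h
  let z : Spec (CommRingCat.of p.K) := default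
  have h := shPackage_stalk X p hp (EtOver.mk a hae) l z
  have hz := hl z
  revert h
  generalize l.1.left z = w at hz ⊢
  subst hz
  exact id

/-- Every geometric point lies over a point of some étale chart. -/
theorem exists_chart_of_geometric (X : AlgSp.Space S) (p : FieldPt X.obj) (hp : p.IsGeometric) :
    ∃ (U : Over S) (a : (yon S).obj U ⟶ X.obj) (u : U.left),
      RepWith @Etale a ∧ Points.ofPt a u = Points.mk p := by
  obtain ⟨V, a, hae, has⟩ := X.property.atlas
  obtain ⟨v, hv⟩ := exists_lift_of_chart p hp a hae has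
  let l : (FieldPt.liftsTo p).obj (EtOver.mk a hae) := ⟨v, hv⟩
  exact ⟨V, a, l.1.left (default : Spec (CommRingCat.of p.K)), hae,
    ofPt_lift_eq p l (default : Spec (CommRingCat.of p.K))⟩

end Groth.Agent.H51
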