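import Groth.Agent.H51.OEtSH6
import Groth.Agent.S0540
import Groth.Agent.S0541
import Groth.Agent.S2743
import Groth.Agent.S9238
import Groth.Agent.H3.StrictHensUnique

/-!
# Consequences of the strict henselization package
-/

set_option autoImplicit false
universe u v w
open CategoryTheory CategoryTheory.Limits AlgebraicGeometry Opposite MorphismProperty IsLocalRing

namespace Groth.Agent.H51
open AlgSp Groth.Agent.H52

section Algebra

theorem minimalPrimes_eq_comap_image_of_ringEquiv {A : Type v} {B : Type w} [CommRing A]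
    [CommRing B] (e : A ≃+* B) :
    minimalPrimes A = Ideal.comap (e : A →+* B) '' minimalPrimes B := by
  have h := Ideal.comap_minimalPrimes_eq_of_surjective (f := (e : A →+* B)) e.surjective
    (⊥ : Ideal B)
  have hk : Ideal.comap (e : A →+* B) ⊥ = ⊥ := by
    rw [← RingHom.ker_eq_comap_bot]
    exact (RingHom.injective_iff_ker_eq_bot _).1 e.injective
  rw [hk] at h
  exact h

theorem encard_minimalPrimes_of_ringEquiv {A : Type v} {B : Type w} [CommRing A]
    [CommRing B] (e : A ≃+* B) :
    (minimalPrimes B).encard = (minimalPrimes A).encard := by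
  rw [minimalPrimes_eq_comap_image_of_ringEquiv e]
  exact (Set.InjOn.encard_image
    ((Ideal.comap_injective_of_surjective (e : A →+* B) e.surjective).injOn)).symm

theorem encard_minimalPrimes_le_of_comap_surjective {A : Type v} {B : Type w} [CommRing A]
    [CommRing B] (f : A →+* B)
    (hf : ∀ P : Ideal A, P.IsPrime → ∃ Q : Ideal B, Q.IsPrime ∧ Q.comap f = P) :
    (minimalPrimes A).encard ≤ (minimalPrimes B).encard := by
  have hsub : minimalPrimes A ⊆ Ideal.comap f '' minimalPrimes B := by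
    intro P hP
    haveI := Ideal.minimalPrimes_isPrime hP
    obtain ⟨Q, hQ, hQP⟩ := hf P inferInstance
    obtain ⟨Q', hQ', hle⟩ := Ideal.exists_minimalPrimes_le (I := (⊥ : Ideal B)) (J := Q) bot_le
    haveI := Ideal.minimalPrimes_isPrime hQ'
    refine ⟨Q', hQ', ?_⟩
    have h1 : Q'.comap f ≤ P := hQP ▸ Ideal.comap_mono hle
    have h2 : (Q'.comap f).IsPrime := inferInstance
    exact le_antisymm h1 (hP.2 ⟨h2, bot_le⟩ h1)
  exact (Set.encard_le_encard hsub).trans (Set.encard_image_le _ _)

theorem encard_minimalPrimes_le_of_faithfullyFlat {A : Type v} {B : Type w} [CommRing A]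
    [CommRing B] [Algebra A B] [Module.FaithfullyFlat A B] :
    (minimalPrimes A).encard ≤ (minimalPrimes B).encard := by
  refine encard_minimalPrimes_le_of_comap_surjective (algebraMap A B) fun P hP => ?_
  obtain ⟨Q, hQ⟩ := PrimeSpectrum.comap_surjective_of_faithfullyFlat (B := B) ⟨P, hP⟩
  exact ⟨Q.asIdeal, Q.2, congrArg PrimeSpectrum.asIdeal hQ⟩

theorem comap_mem_minimalPrimes_of_flat {A : Type v} {B : Type w} [CommRing A]
    [CommRing B] [Algebra A B] [Module.Flat A B] {Q : Ideal B} (hQ : Q ∈ minimalPrimes B) :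
    Q.comap (algebraMap A B) ∈ minimalPrimes A := by
  haveI := Ideal.minimalPrimes_isPrime hQ
  refine ⟨⟨inferInstance, bot_le⟩, fun P ⟨hP, _⟩ hle => ?_⟩
  haveI := hP
  haveI : Q.LiesOver (Q.comap (algebraMap A B)) := ⟨rfl⟩
  obtain ⟨Q', hQ'le, hQ'p, hQ'o⟩ := Ideal.exists_ideal_le_liesOver_of_le (p := P)
    (q := Q.comap (algebraMap A B)) Q hle
  have : Q ≤ Q' := hQ.2 ⟨hQ'p, bot_le⟩ hQ'le
  have heq : Q' = Q := le_antisymm hQ'le this
  rw [← heq, ← Ideal.under_def, ← hQ'o.over]

end Algebra

section Package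

variable {R : Type u} [CommRing R] [IsLocalRing R] {O : Type (u + 1)} [CommRing O]

theorem SHPackage.ringKrullDim_eq (h : SHPackage R O) : ringKrullDim O = ringKrullDim R := by
  obtain ⟨Rsh, i1, i2, i3, i4, hS, ⟨e⟩⟩ := h
  rw [← ringKrullDim_eq_of_ringEquiv e]
  exact Groth.Agent.S0541.result R Rsh

theorem SHPackage.isNoetherianRing_iff (h : SHPackage R O) :
    IsNoetherianRing O ↔ IsNoetherianRing R := by
  obtain ⟨Rsh, i1, i2, i3, i4, hS, ⟨e⟩⟩ := h
  rw [Groth.Agent.S0540.result R Rsh]
  exact ⟨fun h => isNoetherianRing_of_ringEquiv O e.symm,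
    fun h => isNoetherianRing_of_ringEquiv Rsh e⟩

theorem SHPackage.isRegularLocalRing_iff (h : SHPackage R O) :
    IsRegularLocalRing O ↔ IsRegularLocalRing R := by
  obtain ⟨Rsh, i1, i2, i3, i4, hS, ⟨e⟩⟩ := h
  constructor
  · intro hO
    have hRsh : IsRegularLocalRing Rsh := IsRegularLocalRing.of_ringEquiv e.symm
    haveI : IsNoetherianRing R := (Groth.Agent.S0540.result R Rsh).2 inferInstance
    exact (Groth.Agent.S2743.result R Rsh).1 hRsh
  · intro hR
    haveI : IsNoetherianRing R := inferInstance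
    haveI : IsRegularLocalRing Rsh := (Groth.Agent.S2743.result R Rsh).2 hR
    exact IsRegularLocalRing.of_ringEquiv e

theorem SHPackage.encard_minimalPrimes (h : SHPackage R O) :
    (minimalPrimes O).encard = Brnch.numGeomBranches R := by
  obtain ⟨Rsh, i1, i2, i3, i4, hS, ⟨e⟩⟩ := h
  rw [encard_minimalPrimes_of_ringEquiv e]
  exact Groth.Agent.S9238.result R Rsh

theorem SHPackage.encard_minimalPrimes_le (h : SHPackage R O) :
    (minimalPrimes R).encard ≤ (minimalPrimes O).encard := by
  obtain ⟨Rsh, i1, i2, i3, i4, hS, ⟨e⟩⟩ := h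
  rw [encard_minimalPrimes_of_ringEquiv e]
  haveI := Groth.Agent.H3.SH.faithfullyFlat R hS
  exact encard_minimalPrimes_le_of_faithfullyFlat

theorem SHPackage.isLocalRing (h : SHPackage R O) : IsLocalRing O := by
  obtain ⟨Rsh, i1, i2, i3, i4, hS, ⟨e⟩⟩ := h
  exact e.isLocalRing

end Package

end Groth.Agent.H51
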