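import Groth.Agent.H51.OEtSH7

/-!
# Separating finitely many minimal primes of the étale local ring in an étale neighbourhood
-/

set_option autoImplicit false
universe u v w
open CategoryTheory CategoryTheory.Limits AlgebraicGeometry Opposite MorphismProperty IsLocalRing

namespace Groth.Agent.H51
open AlgSp Groth.Agent.H52

section Algebra

/-- Finitely many minimal primes of a flat local algebra `O` over `A`, pairwise separated by
elements coming from `A`, give as many minimal primes of the localization of `A` at a prime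
`P` outside which everything becomes invertible in `O`. -/
theorem card_le_encard_minimalPrimes_localization {A : Type v} [CommRing A] (P : Ideal A)
    [P.IsPrime] (A' : Type v) [CommRing A'] [Algebra A A'] [IsLocalization.AtPrime A' P]
    {O : Type w} [CommRing O] [Algebra A O] [Module.Flat A O]
    (hP : ∀ a : A, a ∉ P → IsUnit (algebraMap A O a))
    (T : Finset (Ideal O)) (hT : ∀ Q ∈ T, Q ∈ minimalPrimes O)
    (hsep : ∀ Q ∈ T, ∀ Q' ∈ T, Q ≠ Q' → ∃ a : A, algebraMap A O a ∈ Q ∧ algebraMap A O a ∉ Q') :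
    (T.card : ℕ∞) ≤ (minimalPrimes A').encard := by
  classical
  let φ : Ideal O → Ideal A' := fun Q => Ideal.map (algebraMap A A') (Q.comap (algebraMap A O))
  have hle : ∀ Q ∈ T, Q.comap (algebraMap A O) ≤ P := by
    intro Q hQ a ha
    by_contra hna
    haveI := Ideal.minimalPrimes_isPrime (hT Q hQ)
    exact (Ideal.IsPrime.ne_top inferInstance) (Ideal.eq_top_of_isUnit_mem Q ha (hP a hna))
  have hdisj : ∀ Q ∈ T, Disjoint (P.primeCompl : Set A) (Q.comap (algebraMap A O) : Set A) := by
    intro Q hQ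
    rw [Set.disjoint_left]
    intro a ha ha'
    exact ha (hle Q hQ ha')
  have hcm : ∀ Q ∈ T, Ideal.comap (algebraMap A A') (φ Q) = Q.comap (algebraMap A O) := by
    intro Q hQ
    haveI := Ideal.minimalPrimes_isPrime (hT Q hQ)
    exact IsLocalization.comap_map_of_isPrime_disjoint P.primeCompl A' inferInstance
      (hdisj Q hQ)
  have hmem : ∀ Q ∈ T, φ Q ∈ minimalPrimes A' := by
    intro Q hQ
    have h := IsLocalization.minimalPrimes_map P.primeCompl A' (⊥ : Ideal A)
    rw [Ideal.map_bot] at h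
    change φ Q ∈ (⊥ : Ideal A').minimalPrimes
    rw [h, Set.mem_preimage]
    change Ideal.comap (algebraMap A A') (φ Q) ∈ _
    rw [hcm Q hQ]
    exact comap_mem_minimalPrimes_of_flat (hT Q hQ)
  have hinj : Set.InjOn φ (T : Set (Ideal O)) := by
    intro Q hQ Q' hQ' h
    by_contra hne
    obtain ⟨a, ha, ha'⟩ := hsep Q hQ Q' hQ' hne
    have h1 : a ∈ Ideal.comap (algebraMap A A') (φ Q) := by
      rw [hcm Q hQ]; exact ha
    rw [h, hcm Q' hQ'] at h1
    exact ha' h1
  calc (T.card : ℕ∞) = (T : Set (Ideal O)).encard := (Set.encard_coe_eq_coe_finsetCard T).symm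
    _ = (φ '' (T : Set (Ideal O))).encard := (hinj.encard_image).symm
    _ ≤ (minimalPrimes A').encard := Set.encard_le_encard (by
        rintro _ ⟨Q, hQ, rfl⟩
        exact hmem Q hQ)

end Algebra

variable {S : Scheme.{u}} (X : AlgSp.Space S) (p : FieldPt X.obj) (hp : p.IsGeometric)

theorem isLocalization_stalk_evPrime (U : EtOver X.obj) (l : (FieldPt.liftsTo p).obj U)
    [IsAffine U.obj.left.left] (z : Spec (CommRingCat.of p.K)) :
    letI : Algebra Γ(U.obj.left.left, ⊤) (U.obj.left.left.presheaf.stalk (l.1.left z)) :=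
      TopCat.Presheaf.algebra_section_stalk U.obj.left.left.presheaf (U := ⊤)
        ⟨l.1.left z, trivial⟩
    IsLocalization.AtPrime (U.obj.left.left.presheaf.stalk (l.1.left z)) (evPrime X p U l) := by
  letI algSt : Algebra Γ(U.obj.left.left, ⊤) (U.obj.left.left.presheaf.stalk (l.1.left z)) :=
    TopCat.Presheaf.algebra_section_stalk U.obj.left.left.presheaf (U := ⊤) ⟨l.1.left z, trivial⟩
  have hP := evPrime_eq_primeIdealOf X p U l z
  have h0 := (isAffineOpen_top U.obj.left.left).isLocalization_stalk ⟨l.1.left z, trivial⟩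
  have hc : (evPrime X p U l).primeCompl =
      ((isAffineOpen_top U.obj.left.left).primeIdealOf
        ⟨l.1.left z, trivial⟩).asIdeal.primeCompl := by
    ext a
    change a ∉ evPrime X p U l ↔ a ∉ _
    rw [hP]
    exact Iff.rfl
  change IsLocalization (evPrime X p U l).primeCompl _
  rw [hc]
  exact h0

include hp in
/-- Finitely many minimal primes of the étale local ring are separated in the local ring of a
suitable étale chart. -/
theorem exists_chart_card_le (T : Finset (Ideal (OEtStalk p)))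
    (hT : ∀ Q ∈ T, Q ∈ minimalPrimes (OEtStalk p)) :
    ∃ (V : Over S) (b : (yon S).obj V ⟶ X.obj) (v : V.left), RepWith @Etale b ∧
      Points.ofPt b v = Points.mk p ∧
      (T.card : ℕ∞) ≤ (minimalPrimes (V.left.presheaf.stalk v)).encard := by
  classical
  obtain ⟨U0, a0, hae, has⟩ := X.property.atlas
  obtain ⟨v0, hv0⟩ := exists_lift_of_chart p hp a0 hae has
  let l0 : (FieldPt.liftsTo p).obj (EtOver.mk a0 hae) := ⟨v0, hv0⟩
  let f : Ideal (OEtStalk p) → Ideal (OEtStalk p) → OEtStalk p := fun Q Q' =>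
    if h : ∃ x, x ∈ Q ∧ x ∉ Q' then h.choose else 0
  have hf : ∀ Q ∈ T, ∀ Q' ∈ T, Q ≠ Q' → f Q Q' ∈ Q ∧ f Q Q' ∉ Q' := by
    intro Q hQ Q' hQ' hne
    have hex : ∃ x, x ∈ Q ∧ x ∉ Q' := by
      by_contra hcon
      push_neg at hcon
      have hle : Q ≤ Q' := fun x hx => hcon x hx
      have hQp := Ideal.minimalPrimes_isPrime (hT Q hQ)
      exact hne (le_antisymm hle ((hT Q' hQ').2 ⟨hQp, bot_le⟩ hle))
    simp only [f, dif_pos hex]
    exact hex.choose_spec
  let t : Finset (OEtStalk p) := (T ×ˢ T).image fun qq => f qq.1 qq.2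
  obtain ⟨V, φ, l', -, hV, hs⟩ := exists_affine_nbhd_finset X p hp (EtOver.mk a0 hae) l0 t
  haveI : IsAffine V.obj.left.left := hV
  let z : Spec (CommRingCat.of p.K) := default
  refine ⟨V.obj.left, V.obj.hom, l'.1.left z, V.property, ofPt_lift_eq p l' z, ?_⟩
  letI algO : Algebra Γ(V.obj.left.left, ⊤) (OEtStalk p) := (germR X p hp V l').toAlgebra
  haveI hflat : Module.Flat Γ(V.obj.left.left, ⊤) (OEtStalk p) := flat_germR X p hp V l'
  letI algSt : Algebra Γ(V.obj.left.left, ⊤) (V.obj.left.left.presheaf.stalk (l'.1.left z)) :=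
    TopCat.Presheaf.algebra_section_stalk V.obj.left.left.presheaf (U := ⊤) ⟨l'.1.left z, trivial⟩
  haveI hloc : IsLocalization.AtPrime (V.obj.left.left.presheaf.stalk (l'.1.left z))
      (evPrime X p V l') := isLocalization_stalk_evPrime X p V l' z
  refine card_le_encard_minimalPrimes_localization (evPrime X p V l')
    (V.obj.left.left.presheaf.stalk (l'.1.left z)) ?_ T hT ?_
  · intro a ha
    exact (isUnit_germR_iff X p hp V l' a).2 ha
  · intro Q hQ Q' hQ' hne
    have hmem : f Q Q' ∈ t :=
      Finset.mem_image.2 ⟨(Q, Q'), Finset.mem_product.2 ⟨hQ, hQ'⟩, rfl⟩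
    obtain ⟨s, hs'⟩ := hs _ hmem
    obtain ⟨h1, h2⟩ := hf Q hQ Q' hQ' hne
    refine ⟨s, ?_, ?_⟩
    · change germR X p hp V l' s ∈ Q
      rw [hs']; exact h1
    · change germR X p hp V l' s ∉ Q'
      rw [hs']; exact h2

end Groth.Agent.H51
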