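import Mathlib.Algebra.Category.ModuleCat.Sheaf.PushforwardContinuous
import Mathlib.CategoryTheory.Sites.DenseSubsite.Basic
import Mathlib.CategoryTheory.Sites.LocallySurjective
import Mathlib.CategoryTheory.Sites.Whiskering

/-!
# Pushforward of sheaves of modules along a cover dense, locally full functor and a locally
surjective ring map is fully faithful
-/

set_option autoImplicit false
universe v v₁ v₂ u₁ u₂ u
open CategoryTheory Opposite

namespace Groth.Agent.H51.PushModFF

variable {C : Type u₁} [Category.{v₁} C] {D : Type u₂} [Category.{v₂} D]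
  {J : GrothendieckTopology C} {K : GrothendieckTopology D} {F : C ⥤ D}
  {S : Sheaf J RingCat.{u}} {R : Sheaf K RingCat.{u}}
  [Functor.IsContinuous F J K]
  (φ : S ⟶ (F.sheafPushforwardContinuous RingCat.{u} J K).obj R)

/-- The pushforward of sheaves of modules commutes with the forgetful functors to abelian
sheaves. -/
noncomputable def pushforwardCompToSheaf :
    SheafOfModules.pushforward.{v} φ ⋙ SheafOfModules.toSheaf S ≅
      SheafOfModules.toSheaf R ⋙ F.sheafPushforwardContinuous AddCommGrpCat.{v} J K :=
  Iso.refl _

theorem faithful_pushforward [F.IsCoverDense K] [F.IsLocallyFull K] :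
    (SheafOfModules.pushforward.{v} φ).Faithful :=
  Functor.Faithful.of_comp_iso (pushforwardCompToSheaf φ)


theorem full_pushforward [F.IsCoverDense K] [F.IsLocallyFull K]
    [Presheaf.IsLocallySurjective J φ.hom] :
    (SheafOfModules.pushforward.{v} φ).Full where
  map_surjective {M N} ψ := by
    let ψ₀ : (F.sheafPushforwardContinuous AddCommGrpCat.{v} J K).obj
          ((SheafOfModules.toSheaf R).obj M) ⟶
        (F.sheafPushforwardContinuous AddCommGrpCat.{v} J K).obj
          ((SheafOfModules.toSheaf R).obj N) :=
      (SheafOfModules.toSheaf S).map ψ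
    obtain ⟨χ, hχ⟩ := (F.sheafPushforwardContinuous AddCommGrpCat.{v} J K).map_surjective ψ₀
    let χ' : M.val.presheaf ⟶ N.val.presheaf := χ.hom
    -- pointwise description of `χ` on objects in the image of `F`
    have hχ' : ∀ (c : Cᵒᵖ) (x : M.val.obj (F.op.obj c)),
        χ'.app (F.op.obj c) x = (ψ.val.app c).hom x := by
      intro c x
      have := congrArg (fun k => k.hom.app c) hχ
      exact ConcreteCategory.congr_hom this x
    have hlin : ∀ (V : Dᵒᵖ) (r : R.obj.obj V) (m : M.val.obj V),
        χ'.app V (r • m) = r • χ'.app V m := by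
      intro V r m
      induction V using Opposite.rec with | _ V => ?_
      have hnat : ∀ {V W : Dᵒᵖ} (f : V ⟶ W) (x : M.val.obj V),
          N.val.map f (χ'.app V x) = χ'.app W (M.val.map f x) := fun f x =>
        (NatTrans.naturality_apply χ' f x).symm
      refine (Presheaf.IsSheaf.isSeparated N.isSheaf) V _ (F.is_cover_of_isCoverDense K V) _ _ ?_
      rintro V' g ⟨⟨c, lift, map, fac⟩⟩
      subst fac
      rw [op_comp, Functor.map_comp, ConcreteCategory.comp_apply, ConcreteCategory.comp_apply]
      congr 1
      have hsepC : Presheaf.IsSeparated J (F.op ⋙ N.val.presheaf) :=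
        Presheaf.IsSheaf.isSeparated
          ((F.sheafPushforwardContinuous AddCommGrpCat.{v} J K).obj
            ((SheafOfModules.toSheaf R).obj N)).property
      refine hsepC c _ (Presheaf.imageSieve_mem J φ.hom (R.obj.map map.op r)) _ _ ?_
      rintro c' q ⟨s, hs⟩
      change N.val.map (F.map q).op (N.val.map map.op (χ'.app (op V) (r • m))) =
        N.val.map (F.map q).op (N.val.map map.op (r • χ'.app (op V) m))
      have hs' : φ.hom.app (op c') s = R.obj.map (F.map q).op (R.obj.map map.op r) := hs
      let r₁ : R.obj.obj (op (F.obj c)) := R.obj.map map.op r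
      let r' : R.obj.obj (op (F.obj c')) := R.obj.map (F.map q).op r₁
      let m₁ : M.val.obj (op (F.obj c)) := M.val.map map.op m
      let m' : M.val.obj (op (F.obj c')) := M.val.map (F.map q).op m₁
      let n : N.val.obj (op V) := χ'.app (op V) m
      let n₁ : N.val.obj (op (F.obj c)) := N.val.map map.op n
      let n' : N.val.obj (op (F.obj c')) := N.val.map (F.map q).op n₁
      have A1 : M.val.map map.op (r • m) = r₁ • m₁ := M.val.map_smul _ _ _
      have A2 : M.val.map (F.map q).op (r₁ • m₁) = r' • m' := M.val.map_smul _ _ _
      have B1 : N.val.map map.op (r • n) = r₁ • n₁ := N.val.map_smul _ _ _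
      have B2 : N.val.map (F.map q).op (r₁ • n₁) = r' • n' := N.val.map_smul _ _ _
      have C1 : n' = χ'.app (op (F.obj c')) m' :=
        (congrArg (fun t => N.val.map (F.map q).op t) (hnat map.op m)).trans (hnat (F.map q).op m₁)
      have L : N.val.map (F.map q).op (N.val.map map.op (χ'.app (op V) (r • m))) =
          χ'.app (op (F.obj c')) (r' • m') :=
        (congrArg (fun t => N.val.map (F.map q).op t) (hnat map.op (r • m))).trans
          ((hnat (F.map q).op _).trans
            (congrArg (fun t => χ'.app (op (F.obj c')) t)
              ((congrArg (fun t => M.val.map (F.map q).op t) A1).trans A2)))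
      have Rr : N.val.map (F.map q).op (N.val.map map.op (r • χ'.app (op V) m)) = r' • n' :=
        (congrArg (fun t => N.val.map (F.map q).op t) B1).trans B2
      let t : R.obj.obj (op (F.obj c')) := φ.hom.app (op c') s
      have e2 := hχ' (op c') (t • m')
      have e3 := hχ' (op c') m'
      let w : N.val.obj (op (F.obj c')) := (ψ.val.app (op c')).hom m'
      have e4 : (ψ.val.app (op c')).hom (t • m') = t • w :=
        (ψ.val.app (op c')).hom.map_smul s m'
      have key : χ'.app (op (F.obj c')) (r' • m') = r' • χ'.app (op (F.obj c')) m' := by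
        have hr : r' = t := hs'.symm
        rw [hr]
        exact e2.trans (e4.trans (congrArg (fun x => t • x) e3.symm))
      exact L.trans (key.trans ((congrArg (fun t => r' • t) C1.symm).trans Rr.symm))
    refine ⟨⟨PresheafOfModules.homMk χ' hlin⟩, ?_⟩
    apply (SheafOfModules.toSheaf S).map_injective
    exact hχ

end Groth.Agent.H51.PushModFF
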