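import Groth.Agent.H51.SpBasic
import Mathlib.AlgebraicGeometry.Noetherian
import Mathlib.AlgebraicGeometry.Morphisms.FiniteType
import Mathlib.AlgebraicGeometry.Morphisms.Smooth
import Mathlib.Topology.NoetherianSpace

set_option autoImplicit false
universe u
open CategoryTheory CategoryTheory.Limits AlgebraicGeometry Opposite MorphismProperty TopologicalSpace

namespace Groth.Agent.H51

open AlgSp Groth.Agent.H50

variable {S : Scheme.{u}}

/-- A subset of a scheme covered by the images, under an open map from a locally Noetherian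
scheme, and compact, is a Noetherian space. -/
theorem noetherianSpace_of_isCompact_of_cover {P U : Scheme.{u}} [IsLocallyNoetherian P]
    (g : P ⟶ U) (hg : IsOpenMap g) (W : Set U) (hW : IsCompact W) (hcov : W ⊆ Set.range g) :
    NoetherianSpace ↥W := by
  have key : ∀ z : P, ∃ V : P.Opens, z ∈ V ∧ NoetherianSpace ↥(V : Set P) := by
    intro z
    obtain ⟨_, ⟨V, hV, rfl⟩, hzV, -⟩ :=
      (P.isBasis_affineOpens).exists_subset_of_mem_open (Set.mem_univ z) isOpen_univ
    have : IsNoetherianRing Γ(P, V) := IsLocallyNoetherian.component_noetherian ⟨V, hV⟩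
    exact ⟨V, hzV, noetherianSpace_of_isAffineOpen V hV⟩
  choose V hV1 hV2 using key
  obtain ⟨t, ht⟩ := hW.elim_finite_subcover (fun z : P => g '' (V z : Set P))
    (fun z => hg _ (V z).isOpen) (by
      intro w hw
      obtain ⟨z, rfl⟩ := hcov hw
      exact Set.mem_iUnion.2 ⟨z, z, hV1 z, rfl⟩)
  have hWeq : W = ⋃ i : t, g '' ((V i.1 : Set P) ∩ g ⁻¹' W) := by
    ext w
    constructor
    · intro hw
      obtain ⟨z, hz⟩ := Set.mem_iUnion.1 (ht hw)
      obtain ⟨hzt, y, hy, rfl⟩ := Set.mem_iUnion.1 hz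
      exact Set.mem_iUnion.2 ⟨⟨z, hzt⟩, y, ⟨hy, hw⟩, rfl⟩
    · intro hw
      obtain ⟨i, y, ⟨-, hy⟩, rfl⟩ := Set.mem_iUnion.1 hw
      exact hy
  have : ∀ i : t, NoetherianSpace ↥(g '' ((V i.1 : Set P) ∩ g ⁻¹' W)) := by
    intro i
    haveI := hV2 i.1
    haveI : NoetherianSpace ↥((V i.1 : Set P) ∩ g ⁻¹' W) :=
      NoetherianSpace.of_subset (W := (V i.1 : Set P)) Set.inter_subset_left
    exact noetherianSpace_image g g.continuous _
  have hU := NoetherianSpace.iUnion (fun i : t => g '' ((V i.1 : Set P) ∩ g ⁻¹' W))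
  rwa [← hWeq] at hU

/-- **S10326**. -/
theorem s10326 (X : AlgSp.Space S)
    (hX : AlgSp.IsLocNoethSp X.obj) (U : Over S) (a : (AlgSp.yon S).obj U ⟶ X.obj)
    (ha : AlgSp.RepWith @Etale a)
    (W : U.left.Opens) (hW : IsCompact (W : Set ↥U.left)) : (irreducibleComponents ↥W).Finite := by
  obtain ⟨U₀, a₀, ha₀, has₀, hN⟩ := hX
  haveI : IsLocallyNoetherian U₀.left := hN
  have sq := ha₀.rep.isPullback' a
  have hp₁ : Etale (ha₀.rep.fst' a).left := ha.property _ _ _ sq.flip
  have hp₂E : Etale (ha₀.rep.snd a).left := ha₀.property _ _ _ sq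
  have hp₂S : Surjective (ha₀.rep.snd a).left := has₀.property _ _ _ sq
  haveI : IsLocallyNoetherian (ha₀.rep.pullback a).left :=
    LocallyOfFiniteType.isLocallyNoetherian (ha₀.rep.fst' a).left
  haveI : NoetherianSpace ↥(W : Set U.left) :=
    noetherianSpace_of_isCompact_of_cover (ha₀.rep.snd a).left (ha₀.rep.snd a).left.isOpenMap _ hW
      (fun w _ => hp₂S.surj w)
  exact NoetherianSpace.finite_irreducibleComponents

end Groth.Agent.H51
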