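import Mathlib
import Groth.Agent.H94.RegDescentScheme

/-!
# Descent of regular immersions of a given kind along flat surjective open maps (helper51)

A variant of `H94.RegDescentScheme.isRegularImmersion_of_isPullback_fpqc` in which quasi-compactness
of the cover is replaced by openness (so that it applies to arbitrary etale surjective covers).
-/

set_option autoImplicit false
set_option linter.style.haveILetI false
universe u

open AlgebraicGeometry CategoryTheory CategoryTheory.Limits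

namespace Groth.Agent.H51.RegDescentOpen

open Groth.Agent.H94.RegDescentScheme
open Groth.Agent.H39.RelRegGeom Groth.Agent.H39.ImmCompChart Groth.Agent.H39.RegImmStalk3
open Groth.Agent.H94.RegDescent

/-- For a flat surjective open map `g : X' ⟶ X`, around every point of an affine open `U₀` of `X`
there is a basic open `U ≤ U₀` which is the image of an affine scheme flat over `X'`. -/
theorem exists_affine_flat_cover_of_isOpenMap {X X' : Scheme.{u}} (g : X' ⟶ X) [Flat g]
    [Surjective g] (hopen : IsOpenMap g) (U₀ : X.Opens) (hU₀ : IsAffineOpen U₀) (x : X)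
    (hx : x ∈ U₀) :
    ∃ U : X.Opens, IsAffineOpen U ∧ U ≤ U₀ ∧ x ∈ U ∧
      ∃ (W : Scheme.{u}) (c : W ⟶ X'), IsAffine W ∧ Flat c ∧ (∀ w, g (c w) ∈ U) ∧
        ∀ x ∈ U, ∃ w, g (c w) = x := by
  obtain ⟨x', rfl⟩ := g.surjective x
  have hx' : x' ∈ g ⁻¹ᵁ U₀ := hx
  obtain ⟨_, ⟨U', hU', rfl⟩, hx'U', hU'U₀⟩ :=
    X'.isBasis_affineOpens.exists_subset_of_mem_open hx' (g ⁻¹ᵁ U₀).2
  let V : X.Opens := ⟨g '' (U' : Set X'), hopen _ U'.2⟩
  have hxV : g x' ∈ V := ⟨x', hx'U', rfl⟩
  obtain ⟨f, hfV, hxf⟩ := hU₀.exists_basicOpen_le (V := V) ⟨g x', hxV⟩ hx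
  have hle : U' ≤ g ⁻¹ᵁ U₀ := hU'U₀
  let s : Γ(X', U') := (g.appLE U₀ U' hle).hom f
  have hs : X'.basicOpen s = U' ⊓ g ⁻¹ᵁ X.basicOpen f := by
    have h1 : s = (X'.presheaf.map (homOfLE hle).op).hom ((g.app U₀).hom f) := by
      show (g.appLE U₀ U' hle).hom f = _
      rw [Scheme.Hom.appLE]
      rfl
    rw [h1, Scheme.basicOpen_res, Scheme.preimage_basicOpen]
  have hWaff : IsAffineOpen (X'.basicOpen s) := hU'.basicOpen s
  refine ⟨X.basicOpen f, hU₀.basicOpen f, X.basicOpen_le f, hxf, (X'.basicOpen s).toScheme,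
    (X'.basicOpen s).ι, hWaff, inferInstance, ?_, ?_⟩
  · intro w
    have hw : w.1 ∈ X'.basicOpen s := w.2
    have hw' : w.1 ∈ U' ⊓ g ⁻¹ᵁ X.basicOpen f := hs ▸ hw
    exact hw'.2
  · intro z hz
    obtain ⟨z', hz'U', rfl⟩ := hfV hz
    have hz's : z' ∈ X'.basicOpen s := by
      rw [hs]
      exact ⟨hz'U', hz⟩
    exact ⟨⟨z', hz's⟩, rfl⟩

/-- **Descent of regular immersions of kind `k` along a flat surjective open map** (no
quasi-compactness; the immersion property is assumed). -/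
theorem isRegularImmersion_of_isPullback_flat_open (k : RegImm.Kind)
    (hk : DescOK.{u} (fun R _ l => k.Seq R l))
    {X Y X' Y' : Scheme.{u}} (i : Y ⟶ X) [IsImmersion i] (g : X' ⟶ X) [Flat g] [Surjective g]
    (hopen : IsOpenMap g) (i' : Y' ⟶ X') (g' : Y' ⟶ Y) (hsq : IsPullback g' i' i g)
    (hi' : RegImm.IsRegularImmersion k i') : RegImm.IsRegularImmersion k i := by
  refine ⟨inferInstance, fun y => ?_⟩
  obtain ⟨U₀, hU₀, hyU₀, hcl₀⟩ := exists_affine_closedImmersion i y
  obtain ⟨U, hU, hUU₀, hyU, W, c, hWaff, hcflat, hcU, hcsurj⟩ :=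
    exists_affine_flat_cover_of_isOpenMap g hopen U₀ hU₀ (i y) hyU₀
  haveI := hcl₀
  have hcl : IsClosedImmersion (i ∣_ U) := isClosedImmersion_restrict_of_le i hUU₀
  haveI := hcl
  haveI := hWaff
  haveI := hcflat
  -- base change to `W`
  have hsqW : IsPullback (pullback.fst i (c ≫ g)) (pullback.snd i (c ≫ g)) i (c ≫ g) :=
    IsPullback.of_hasPullback i (c ≫ g)
  have hiW : RegImm.IsRegularImmersion k (pullback.snd i (c ≫ g)) := by
    have hcond : pullback.fst i (c ≫ g) ≫ i = (pullback.snd i (c ≫ g) ≫ c) ≫ g := by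
      rw [Category.assoc]; exact pullback.condition
    have hsq' : IsPullback (hsq.lift (pullback.fst i (c ≫ g)) (pullback.snd i (c ≫ g) ≫ c) hcond)
        (pullback.snd i (c ≫ g)) i' c :=
      IsPullback.of_right (by rw [hsq.lift_fst]; exact hsqW) (hsq.lift_snd _ _ _) hsq
    exact Groth.Agent.H94.KindFlat.isRegularImmersion_of_isPullback_flat k i' c _ _ hsq' hi'
  have hWtop : IsAffineOpen (⊤ : W.Opens) := isAffineOpen_top W
  have hle : (⊤ : W.Opens) ≤ (c ≫ g) ⁻¹ᵁ U := fun w _ => by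
    show (c ≫ g) w ∈ U
    rw [Scheme.Hom.comp_apply]
    exact hcU w
  have hφflat : ((c ≫ g).appLE U ⊤ hle).hom.Flat :=
    HasRingHomProperty.appLE (P := @Flat) (c ≫ g) inferInstance ⟨U, hU⟩ ⟨⊤, hWtop⟩ hle
  have hφsurj : Function.Surjective (PrimeSpectrum.comap ((c ≫ g).appLE U ⊤ hle).hom) := by
    intro p
    obtain ⟨x, rfl⟩ := exists_primeIdealOf_eq hU p
    obtain ⟨w, hw⟩ := hcsurj x.1 x.2
    refine ⟨hWtop.primeIdealOf ⟨w, TopologicalSpace.Opens.mem_top w⟩, ?_⟩
    refine (IsAffineOpen.comap_primeIdealOf_appLE (f := c ≫ g) (x := w) U hU ⊤ hWtop hle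
      (TopologicalSpace.Opens.mem_top w)).trans ?_
    congr 1
    apply Subtype.ext
    show (c ≫ g) w = x.1
    rw [Scheme.Hom.comp_apply]
    exact hw
  haveI hclWtop : IsClosedImmersion (pullback.snd i (c ≫ g) ∣_ (⊤ : W.Opens)) :=
    isClosedImmersion_restrict_of_isPullback hsqW hle
  haveI hclW : IsClosedImmersion (pullback.snd i (c ≫ g)) :=
    IsZariskiLocalAtTarget.of_iSup_eq_top (P := @IsClosedImmersion) (fun _ : Unit => (⊤ : W.Opens))
      (by simp) (fun _ => hclWtop)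
  have hkerW := ker_app_of_isPullback hsqW hle hU hWtop
  have H : LocGen (fun R _ l => k.Seq R l)
      ((RingHom.ker (i.app U).hom).map ((c ≫ g).appLE U ⊤ hle).hom) := by
    rw [← hkerW]
    exact locGen_of_isRegularImmersion k hk _ hWtop hiW
  have hmain := Groth.Agent.H94.RegDescent.main _ (RingHom.ker (i.app U).hom) hk hφflat hφsurj H
  obtain ⟨hU', -⟩ := isAffineOpen_preimage_and_surjective_of_isClosedImmersion_restrict i U hU
  have hp := ker_app_le_primeIdealOf i y U hU hyU hU'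
  obtain ⟨a, ha, f, hf, hspan⟩ := hmain (hU.primeIdealOf ⟨i y, hyU⟩) hp
  have hya : i y ∈ X.basicOpen a := (mem_basicOpen_iff hU ⟨i y, hyU⟩ a).mpr ha
  have hD : IsAffineOpen (X.basicOpen a) := hU.basicOpen a
  have hDle : X.basicOpen a ≤ U := X.basicOpen_le a
  have hclD : IsClosedImmersion (i ∣_ X.basicOpen a) := isClosedImmersion_restrict_of_le i hDle
  have hkerD := ker_app_of_le i hDle hU hD
  letI : Algebra Γ(X, U) Γ(X, X.basicOpen a) :=
    (X.presheaf.map (homOfLE hDle).op).hom.toAlgebra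
  haveI : IsLocalization.Away a Γ(X, X.basicOpen a) := hU.isLocalization_basicOpen a
  let ψ : Localization.Away a ≃ₐ[Γ(X, U)] Γ(X, X.basicOpen a) :=
    IsLocalization.algEquiv (Submonoid.powers a) _ _
  have hψflat : (ψ : Localization.Away a →+* Γ(X, X.basicOpen a)).Flat :=
    RingHom.Flat.of_bijective ψ.bijective
  have hψ : (ψ : Localization.Away a →+* Γ(X, X.basicOpen a)).comp
      (algebraMap Γ(X, U) (Localization.Away a)) = (X.presheaf.map (homOfLE hDle).op).hom := by
    ext x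
    exact ψ.commutes x
  refine ⟨⟨X.basicOpen a, hD⟩, hya, hclD,
    f.map (ψ : Localization.Away a →+* Γ(X, X.basicOpen a)), hk.flat _ hψflat f hf, ?_⟩
  rw [hkerD, ← hψ, ← Ideal.map_map, hspan, Ideal.map_ofList]


end Groth.Agent.H51.RegDescentOpen
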