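import Groth.Agent.H51.ResTrdeg2
import Mathlib.AlgebraicGeometry.Morphisms.Finite

set_option autoImplicit false
universe u
open CategoryTheory CategoryTheory.Limits AlgebraicGeometry Opposite MorphismProperty

namespace Groth.Agent.H51

open AlgSp Groth.Agent.H50

variable {S : Scheme.{u}}

theorem resTrdeg_eq_zero_of_isClosed_jacobson {X Y : Scheme.{u}} (f : X ⟶ Y)
    [LocallyOfFiniteType f] [JacobsonSpace Y] (x : X) (hx : IsClosed ({x} : Set X)) :
    Dual3.resTrdeg f x = 0 := by
  haveI := isClosed_singleton_iff_isClosedImmersion.mp hx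
  haveI hfin : IsFinite (X.fromSpecResidueField x ≫ f) :=
    (isFinite_iff_locallyOfFiniteType_of_jacobsonSpace
      (f := X.fromSpecResidueField x ≫ f)).mpr inferInstance
  rw [← Scheme.Hom.SpecMap_residueFieldMap_fromSpecResidueField] at hfin
  haveI : IsFinite (Spec.map (f.residueFieldMap x)) :=
    IsFinite.of_comp _ (Y.fromSpecResidueField (f x))
  have hfin2 : (f.residueFieldMap x).hom.Finite := (IsFinite.SpecMap_iff _).mp this
  refine resTrdeg_eq_zero_of_finite f x ?_
  letI := (f.residueFieldMap x).hom.toAlgebra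
  haveI : Module.Finite (Y.residueField (f x)) (X.residueField x) := hfin2
  exact Algebra.IsAlgebraic.of_finite _ _

end Groth.Agent.H51

namespace Groth.Agent.H51
open AlgSp Groth.Agent.H50
variable {S : Scheme.{u}}

/-- A point in the fibre of a locally quasi-finite morphism over a closed point is closed. -/
theorem isClosed_singleton_of_lqf {X Y : Scheme.{u}} (g : X ⟶ Y) [LocallyQuasiFinite g] (x : X)
    (hx : IsClosed ({g x} : Set Y)) : IsClosed ({x} : Set X) := by
  have hd := Scheme.Hom.isDiscrete_preimage_singleton g (g x)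
  have hcl : IsClosed (g ⁻¹' {g x}) := hx.preimage g.continuous
  haveI : DiscreteTopology ↥(g ⁻¹' {g x}) := hd.to_subtype
  have h1 : IsClosed ({⟨x, rfl⟩} : Set ↥(g ⁻¹' {g x})) := isClosed_discrete _
  have := hcl.isClosedEmbedding_subtypeVal.isClosedMap _ h1
  simpa using this

theorem resTrdeg_zero_of_finiteTypePoint_jacobson {X Y : AlgSp.Space S} (f : X ⟶ Y)
    (hf : AlgSp.LocP @LocallyOfFiniteType f.hom)
    (hY : AlgSp.EtaleLocally (fun U => JacobsonSpace ↥U) Y.obj)
    (x : AlgSp.Points X.obj)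
    (hx : AlgSp.HasAt (fun U u => IsClosed ({u} : Set ↥U)) X.obj x) :
    AlgSp.HasAtMor (fun _ _ h u => Dual3.resTrdeg h u = 0) f.hom x := by
  obtain ⟨U, a, u, ha, hu, hcl⟩ := hx
  obtain ⟨V, b, hb, hbs, hJ⟩ := hY
  have hrep : Representable (a ≫ f.hom) := Y.property.representable_from_yon _
  let U' := hrep.pullback b
  let p₁ : U' ⟶ U := hrep.fst' b
  let p₂ : U' ⟶ V := hrep.snd b
  have sq : IsPullback ((yon S).map p₁) ((yon S).map p₂) (a ≫ f.hom) b := hrep.isPullback' b
  have hp₁E : Etale p₁.left := hb.property _ _ _ sq.flip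
  have hp₁S : Surjective p₁.left := hbs.property _ _ _ sq.flip
  have haE : RepWith @Etale ((yon S).map p₁ ≫ a) :=
    (RepWith @Etale).comp_mem _ _ ((repWith_yon_map_iff _ _).2 hp₁E) ha
  have hcomm : ((yon S).map p₁ ≫ a) ≫ f.hom = (yon S).map p₂ ≫ b := by
    rw [Category.assoc, sq.w]
  haveI hp₂ : LocallyOfFiniteType p₂.left := hf ((yon S).map p₁ ≫ a) b p₂ haE hb hcomm
  obtain ⟨u', hu'⟩ := hp₁S.surj u
  haveI : LocallyQuasiFinite p₁.left := locallyQuasiFinite_of_formallyUnramified p₁.left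
  have hcl' : IsClosed ({u'} : Set ↥U'.left) :=
    isClosed_singleton_of_lqf p₁.left u' (by rw [hu']; exact hcl)
  haveI : JacobsonSpace ↥V.left := hJ
  refine ⟨U', V, (yon S).map p₁ ≫ a, b, p₂, u', haE, hb, hcomm, ?_,
    resTrdeg_eq_zero_of_isClosed_jacobson p₂.left u' hcl'⟩
  rw [ofPt_map_comp, hu', hu]

end Groth.Agent.H51
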