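import Mathlib
import Groth.Prelude.Def_Hensel

/-!
# Field-theoretic and residue-field lemmas for recognising strict henselizations
-/

set_option autoImplicit false
universe u
open IsLocalRing

namespace Groth.Agent.H51.SHRecog

/-- An element separable over `k` of an extension `L` lies in the image of any `k`-embedding of a separably
closed field. -/
theorem mem_range_of_isSeparable {k K₁ L : Type*} [Field k] [Field K₁] [Field L] [Algebra k K₁]
    [Algebra k L] [IsSepClosed K₁] (τ : K₁ →ₐ[k] L) (z : L) (hz : IsSeparable k z) :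
    z ∈ τ.range := by
  have hint : IsIntegral k z := hz.isIntegral
  have hsplit : ((minpoly k z).map (algebraMap k K₁)).Splits := IsSepClosed.splits_codomain _ hz
  have h0 : (minpoly k z).map (algebraMap k K₁) ≠ 0 :=
    Polynomial.map_ne_zero (minpoly.ne_zero hint)
  have hroot : (((minpoly k z).map (algebraMap k K₁)).map τ.toRingHom).IsRoot z := by
    rw [Polynomial.map_map]
    have hc : (τ.toRingHom).comp (algebraMap k K₁) = algebraMap k L := τ.comp_algebraMap
    rw [hc, Polynomial.IsRoot, Polynomial.eval_map_algebraMap, minpoly.aeval]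
  obtain ⟨w, hw⟩ := hsplit.mem_range_of_isRoot h0 hroot
  exact ⟨w, hw⟩

/-- A `k`-embedding of a separable extension `E` into `L` factors through any `k`-embedding of a separably
closed field into `L`. -/
theorem exists_factor_of_isSepClosed {k K₁ E L : Type*} [Field k] [Field K₁] [Field E] [Field L]
    [Algebra k K₁] [Algebra k E] [Algebra k L] [IsSepClosed K₁] [Algebra.IsSeparable k E]
    (τ : K₁ →ₐ[k] L) (σ : E →ₐ[k] L) : ∃ τ' : E →ₐ[k] K₁, τ.comp τ' = σ := by
  have hmem : ∀ y : E, σ y ∈ τ.range := fun y => by
    refine mem_range_of_isSeparable τ (σ y) ?_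
    have hy : IsSeparable k y := Algebra.IsSeparable.isSeparable k y
    unfold IsSeparable at hy ⊢
    rwa [minpoly.algHom_eq σ σ.toRingHom.injective y]
  let e : K₁ ≃ₐ[k] τ.range := AlgEquiv.ofInjectiveField τ
  let σ' : E →ₐ[k] τ.range := σ.codRestrict τ.range hmem
  refine ⟨e.symm.toAlgHom.comp σ', ?_⟩
  ext y
  have h1 : e (e.symm (σ' y)) = σ' y := e.apply_symm_apply _
  have h2 : ((e (e.symm (σ' y)) : τ.range) : L) = τ (e.symm (σ' y)) := rfl
  change τ (e.symm (σ' y)) = σ y
  rw [← h2, h1]
  rfl

end Groth.Agent.H51.SHRecog
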