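import Groth.Agent.H51.SHRecogA
import Groth.Agent.S0501
import Groth.Agent.S0537
import Groth.Agent.H3.StrictHensUnion
import Groth.Agent.H3.StrictHensUnique

/-!
# Recognising a strict henselization

A henselian local ring `O` with separably closed residue field, flat over the local ring `A_P` and a union of
images of étale `A`-algebras, is isomorphic to the strict henselization of `A_P`.
-/

set_option autoImplicit false
universe u
open IsLocalRing

namespace Groth.Agent.H51.SHRecog

section ResField

variable {A : Type u} [CommRing A] (P : Ideal A) [P.IsPrime]
  {B : Type u} [CommRing B] [Algebra A B] [Algebra.Etale A B] (q : Ideal B) [q.IsPrime]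
  (hqP : q.comap (algebraMap A B) = P)

include hqP in
theorem algebraMap_residueField_eq_zero_iff (a : A) :
    algebraMap A q.ResidueField a = 0 ↔ a ∈ P := by
  rw [IsScalarTower.algebraMap_apply A B q.ResidueField, Ideal.algebraMap_residueField_eq_zero,
    ← hqP, Ideal.mem_comap]

/-- The map `κ(P) → κ(q)`. -/
noncomputable def resMap : P.ResidueField →+* q.ResidueField :=
  Ideal.ResidueField.lift P (algebraMap A q.ResidueField)
    (fun a ha => (algebraMap_residueField_eq_zero_iff P q hqP a).2 ha)
    (fun a ha => by
      rw [Submonoid.mem_comap, IsUnit.mem_submonoid_iff, isUnit_iff_ne_zero, Ne,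
        algebraMap_residueField_eq_zero_iff P q hqP a]
      exact ha)

theorem resMap_algebraMap (a : A) :
    resMap P q hqP (algebraMap A P.ResidueField a) = algebraMap A q.ResidueField a :=
  Ideal.ResidueField.lift_algebraMap _ _ _ _ _

/-- `κ(q)` is separable over `κ(P)` (through `resMap`). -/
theorem isSeparable_resMap :
    letI : Algebra P.ResidueField q.ResidueField := (resMap P q hqP).toAlgebra
    Algebra.IsSeparable P.ResidueField q.ResidueField := by
  letI : Algebra P.ResidueField q.ResidueField := (resMap P q hqP).toAlgebra
  haveI : IsScalarTower A P.ResidueField q.ResidueField :=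
    IsScalarTower.of_algebraMap_eq fun a => (resMap_algebraMap P q hqP a).symm
  haveI : Algebra.FormallyUnramified B (Localization.AtPrime q) :=
    Algebra.FormallyUnramified.of_isLocalization q.primeCompl
  haveI : Algebra.FormallyUnramified B q.ResidueField :=
    Algebra.FormallyUnramified.comp B (Localization.AtPrime q) q.ResidueField
  haveI : Algebra.FormallyUnramified A q.ResidueField :=
    Algebra.FormallyUnramified.comp A B q.ResidueField
  haveI : Algebra.EssFiniteType A q.ResidueField := Algebra.EssFiniteType.comp A B q.ResidueField
  haveI : Algebra.FormallyUnramified P.ResidueField q.ResidueField :=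
    Algebra.FormallyUnramified.of_restrictScalars A P.ResidueField q.ResidueField
  haveI : Algebra.EssFiniteType P.ResidueField q.ResidueField :=
    Algebra.EssFiniteType.of_comp A P.ResidueField q.ResidueField
  exact Algebra.FormallyUnramified.isSeparable P.ResidueField q.ResidueField

end ResField

end Groth.Agent.H51.SHRecog
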