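import Mathlib
set_option autoImplicit false
universe u
open CategoryTheory CategoryTheory.Limits AlgebraicGeometry Opposite MorphismProperty

namespace Groth.Agent.H51

/-- Quasi-compactness descends along surjective quasi-compact base change. -/
theorem quasiCompact_of_isPullback_surjective {A X Y Y' : Scheme.{u}} {f' : A ⟶ Y'} {g' : A ⟶ X}
    {q : Y' ⟶ Y} {f : X ⟶ Y} (h : IsPullback f' g' q f) [Surjective q] [QuasiCompact q]
    [QuasiCompact f'] : QuasiCompact f := by
  have hg' : Surjective g' := MorphismProperty.of_isPullback (P := @Surjective) h inferInstance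
  rw [quasiCompact_iff]
  intro V hVo hV
  have h1 : IsCompact (q ⁻¹' V) := QuasiCompact.isCompact_preimage (f := q) V hVo hV
  have h2 : IsCompact (f' ⁻¹' (q ⁻¹' V)) :=
    QuasiCompact.isCompact_preimage (f := f') _ (hVo.preimage q.continuous) h1
  have h3 : g' '' (f' ⁻¹' (q ⁻¹' V)) = f ⁻¹' V := by
    ext x
    constructor
    · rintro ⟨a, ha, rfl⟩
      change f (g' a) ∈ V
      rw [← Scheme.Hom.comp_apply, ← h.w, Scheme.Hom.comp_apply]
      exact ha
    · intro hx
      obtain ⟨a, rfl⟩ := hg'.surj x
      refine ⟨a, ?_, rfl⟩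
      change q (f' a) ∈ V
      rw [← Scheme.Hom.comp_apply, h.w, Scheme.Hom.comp_apply]
      exact hx
  rw [← h3]
  exact h2.image g'.continuous

section FiniteCover

variable {U M B : Scheme.{u}} (m : U ⟶ M) (f : M ⟶ B)

/-- The map `U ×_B U ⟶ M ×_B M` induced by `m`. -/
noncomputable abbrev prodMapOver : pullback (m ≫ f) (m ≫ f) ⟶ pullback f f :=
  pullback.map (m ≫ f) (m ≫ f) f f m m (𝟙 _) (Category.comp_id _) (Category.comp_id _)

/-- The map `U ×_M U ⟶ U ×_B U`. -/
noncomputable abbrev relMapOver : pullback m m ⟶ pullback (m ≫ f) (m ≫ f) :=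
  pullback.map m m (m ≫ f) (m ≫ f) _ _ f (Category.id_comp _).symm (Category.id_comp _).symm

theorem isPullback_relMapOver :
    IsPullback (relMapOver m f) (pullback.fst m m ≫ m) (prodMapOver m f) (pullback.diagonal f) :=
  (pullback_map_diagonal_isPullback m m f).flip

theorem prodMapOver_mem (P : MorphismProperty Scheme.{u}) [P.IsStableUnderBaseChange]
    [P.IsStableUnderComposition] (hm : P m) : P (prodMapOver m f) :=
  MorphismProperty.pullbackMap (P := P) (f := m ≫ f) (g := m ≫ f) (f' := f) (g' := f)
    (i₁ := m) (i₂ := m) hm hm rfl rfl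

/-- If `m : U ⟶ M` is surjective and finite and `U ⟶ B` is quasi-separated, so is `M ⟶ B`. -/
theorem quasiSeparated_of_finite_cover [Surjective m] [IsFinite m] [QuasiSeparated (m ≫ f)] :
    QuasiSeparated f := by
  rw [quasiSeparated_iff]
  have h := isPullback_relMapOver m f
  haveI : Surjective (prodMapOver m f) := prodMapOver_mem m f @Surjective inferInstance
  haveI : QuasiCompact (prodMapOver m f) := prodMapOver_mem m f @QuasiCompact inferInstance
  haveI : QuasiCompact (relMapOver m f) := by
    have h1 : relMapOver m f ≫ pullback.fst (m ≫ f) (m ≫ f) = pullback.fst m m := by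
      rw [pullback.lift_fst]
      exact Category.comp_id _
    have : QuasiCompact (relMapOver m f ≫ pullback.fst (m ≫ f) (m ≫ f)) := by
      rw [h1]; infer_instance
    exact QuasiCompact.of_comp (relMapOver m f) (pullback.fst (m ≫ f) (m ≫ f))
  exact quasiCompact_of_isPullback_surjective h

/-- If `m : U ⟶ M` is surjective, flat and finite and `U ⟶ B` is separated, so is `M ⟶ B`. -/
theorem isSeparated_of_finite_cover [Surjective m] [Flat m] [IsFinite m] [IsSeparated (m ≫ f)] :
    IsSeparated f := by
  rw [isSeparated_iff]
  have h := isPullback_relMapOver m f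
  haveI : Surjective (prodMapOver m f) := prodMapOver_mem m f @Surjective inferInstance
  haveI : QuasiCompact (prodMapOver m f) := prodMapOver_mem m f @QuasiCompact inferInstance
  haveI : Flat (prodMapOver m f) := prodMapOver_mem m f @Flat inferInstance
  have hQ : (@Surjective ⊓ @Flat ⊓ @QuasiCompact : MorphismProperty Scheme.{u})
      (prodMapOver m f) := ⟨⟨inferInstance, inferInstance⟩, inferInstance⟩
  have h1 : relMapOver m f ≫ pullback.fst (m ≫ f) (m ≫ f) = pullback.fst m m := by
    rw [pullback.lift_fst]
    exact Category.comp_id _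
  haveI : IsProper (relMapOver m f) := by
    have : IsProper (relMapOver m f ≫ pullback.fst (m ≫ f) (m ≫ f)) := by
      rw [h1]; infer_instance
    exact MorphismProperty.of_postcomp (W := @IsProper) (W' := @IsSeparated)
      (relMapOver m f) (pullback.fst (m ≫ f) (m ≫ f)) inferInstance this
  haveI : QuasiCompact (pullback.diagonal f) := quasiCompact_of_isPullback_surjective h
  haveI : UniversallyClosed (pullback.diagonal f) :=
    MorphismProperty.of_isPullback_of_descendsAlong (P := @UniversallyClosed)
      (Q := @Surjective ⊓ @Flat ⊓ @QuasiCompact) h hQ inferInstance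
  haveI : LocallyOfFiniteType (pullback.diagonal f) :=
    MorphismProperty.of_isPullback_of_descendsAlong (P := @LocallyOfFiniteType)
      (Q := @Surjective ⊓ @Flat ⊓ @QuasiCompact) h hQ inferInstance
  haveI : IsProper (pullback.diagonal f) := { }
  exact (IsClosedImmersion.iff_isProper_and_mono _).2 ⟨inferInstance, inferInstance⟩

end FiniteCover

end Groth.Agent.H51
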