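import Groth.Agent.H51.TopIrred
import Groth.Agent.H51.SpDim2
import Mathlib.AlgebraicGeometry.Morphisms.QuasiFinite
import Mathlib.AlgebraicGeometry.Morphisms.Etale

set_option autoImplicit false
universe u
open CategoryTheory CategoryTheory.Limits AlgebraicGeometry Opposite MorphismProperty Topology

namespace Groth.Agent.H51

/-- Maximal points of an open subspace. -/
theorem isMaxPt_subtype_iff {α : Type*} [TopologicalSpace α] {W : Set α} (hW : IsOpen W) (w : W) :
    IsMaxPt w ↔ IsMaxPt (w : α) := by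
  constructor
  · intro h y hy
    have hyW : y ∈ W := hy.mem_open hW w.2
    have := h ⟨y, hyW⟩ ((subtype_specializes_iff _ _).2 hy)
    exact (subtype_specializes_iff _ _).1 this
  · intro h y hy
    exact (subtype_specializes_iff _ _).2 (h y ((subtype_specializes_iff _ _).1 hy))

/-- Finiteness of irreducible components of an open of a scheme in terms of maximal points. -/
theorem finite_irreducibleComponents_opens_iff (U : Scheme.{u}) (W : U.Opens) :
    (irreducibleComponents ↥W).Finite ↔ {u : U | u ∈ W ∧ IsMaxPt u}.Finite := by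
  haveI : QuasiSober ↥W := W.2.isOpenEmbedding_subtypeVal.quasiSober
  rw [finite_irreducibleComponents_iff]
  have : {u : U | u ∈ W ∧ IsMaxPt u} = Subtype.val '' {w : ↥W | IsMaxPt w} := by
    ext u
    constructor
    · rintro ⟨hu, hmax⟩
      exact ⟨⟨u, hu⟩, (isMaxPt_subtype_iff W.2 ⟨u, hu⟩).2 hmax, rfl⟩
    · rintro ⟨w, hw, rfl⟩
      exact ⟨w.2, (isMaxPt_subtype_iff W.2 w).1 hw⟩
  rw [this]
  exact (Set.finite_image_iff Subtype.val_injective.injOn).symm

theorem isMaxPt_iff_coheight {U : Scheme.{u}} (x : U) : IsMaxPt x ↔ Order.coheight x = 0 := by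
  rw [Order.coheight_eq_zero]
  rfl

theorem isMaxPt_iff_ringKrullDim {U : Scheme.{u}} (x : U) :
    IsMaxPt x ↔ ringKrullDim ↥(U.presheaf.stalk x) = 0 := by
  rw [isMaxPt_iff_coheight, ringKrullDim_stalk_eq_coheight]
  norm_cast

theorem isMaxPt_of_etale {U' U : Scheme.{u}} (g : U' ⟶ U) [Etale g] (x : U') :
    IsMaxPt x ↔ IsMaxPt (g x) := by
  rw [isMaxPt_iff_coheight, isMaxPt_iff_coheight, coheight_eq_of_etale g x]

end Groth.Agent.H51

namespace Groth.Agent.H51

/-- The affine piece of Lemma A. -/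
theorem finite_maxPts_of_etale_affine {U' U : Scheme.{u}} (g : U' ⟶ U) [Etale g]
    (O' : U'.Opens) (O : U.Opens) (hO' : IsAffineOpen O') (hO : IsAffineOpen O)
    (e : O' ≤ g ⁻¹ᵁ O) (hF : {u : U | u ∈ O ∧ IsMaxPt u}.Finite) :
    {u' : U' | u' ∈ O' ∧ IsMaxPt u'}.Finite := by
  haveI : IsAffine O'.toScheme := hO'
  haveI : IsAffine O.toScheme := hO
  let r := g.resLE O O' e
  haveI : Etale r := inferInstance
  haveI : LocallyQuasiFinite r := locallyQuasiFinite_of_formallyUnramified r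
  have hr : ∀ x' : ↥O', (r x').val = g x'.val := by
    intro x'
    have := congrArg (fun m => m x') (Scheme.Hom.resLE_comp_ι g e)
    exact this
  let F' : Set ↥O := Subtype.val ⁻¹' {u : U | u ∈ O ∧ IsMaxPt u}
  have hF' : F'.Finite := hF.preimage Subtype.val_injective.injOn
  have hfin : (r ⁻¹' F').Finite := r.finite_preimage hF'
  refine (hfin.image Subtype.val).subset ?_
  rintro u' ⟨hu', hmax⟩
  refine ⟨⟨u', hu'⟩, ?_, rfl⟩
  change (r ⟨u', hu'⟩).val ∈ {u : U | u ∈ O ∧ IsMaxPt u}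
  rw [hr]
  exact ⟨e hu', (isMaxPt_of_etale g u').1 hmax⟩

/-- Lemma A: finiteness of maximal points on quasi-compact opens ascends along etale maps. -/
theorem finite_maxPts_of_etale {U' U : Scheme.{u}} (g : U' ⟶ U) [Etale g]
    (hU : ∀ O : U.Opens, IsAffineOpen O → {u : U | u ∈ O ∧ IsMaxPt u}.Finite)
    (W' : U'.Opens) (hW' : IsCompact (W' : Set U')) :
    {u' : U' | u' ∈ W' ∧ IsMaxPt u'}.Finite := by
  have key : ∀ x : U', x ∈ W' → ∃ (O' : U'.Opens), IsAffineOpen O' ∧ x ∈ O' ∧ O' ≤ W' ∧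
      {u' : U' | u' ∈ O' ∧ IsMaxPt u'}.Finite := by
    intro x hx
    obtain ⟨_, ⟨O, hO, rfl⟩, hgO, -⟩ :=
      (U.isBasis_affineOpens).exists_subset_of_mem_open (Set.mem_univ (g x)) isOpen_univ
    obtain ⟨_, ⟨O', hO', rfl⟩, hxO', hsub⟩ :=
      (U'.isBasis_affineOpens).exists_subset_of_mem_open
        (show x ∈ ((W' ⊓ g ⁻¹ᵁ O : U'.Opens) : Set U') from ⟨hx, hgO⟩) (W' ⊓ g ⁻¹ᵁ O).2
    refine ⟨O', hO', hxO', fun y hy => (hsub hy).1, ?_⟩
    exact finite_maxPts_of_etale_affine g O' O hO' hO (fun y hy => (hsub hy).2) (hU O hO)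
  choose! O' hO'aff hxO' hO'W hO'fin using key
  obtain ⟨t, hcov⟩ := hW'.elim_nhds_subcover' (fun x hx => (O' x : Set U'))
    (fun x hx => (O' x).2.mem_nhds (hxO' x hx))
  have : {u' : U' | u' ∈ W' ∧ IsMaxPt u'} ⊆
      ⋃ x ∈ t, {u' : U' | u' ∈ O' x.1 ∧ IsMaxPt u'} := by
    rintro u' ⟨hu', hmax⟩
    have h1 := hcov hu'
    rw [Set.mem_iUnion₂] at h1
    obtain ⟨x, hx, hux⟩ := h1
    exact Set.mem_iUnion₂.2 ⟨x, hx, hux, hmax⟩
  refine Set.Finite.subset ?_ this
  exact Set.Finite.biUnion t.finite_toSet (fun x _ => hO'fin x.1 x.2)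

end Groth.Agent.H51

namespace Groth.Agent.H51

/-- Lemma B: finiteness of irreducible components of quasi-compact opens descends along open
surjective morphisms. -/
theorem finite_irreducibleComponents_of_surjective_open {U' U : Scheme.{u}} (g : U' ⟶ U)
    (hopen : IsOpenMap g) (hsurj : Function.Surjective g)
    (hU' : ∀ W' : U'.Opens, IsCompact (W' : Set U') → (irreducibleComponents ↥W').Finite)
    (W : U.Opens) (hW : IsCompact (W : Set U)) : (irreducibleComponents ↥W).Finite := by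
  have key : ∀ w : U, w ∈ W → ∃ (O' : U'.Opens), IsCompact (O' : Set U') ∧ O' ≤ g ⁻¹ᵁ W ∧
      w ∈ g '' (O' : Set U') := by
    intro w hw
    obtain ⟨x, rfl⟩ := hsurj w
    obtain ⟨_, ⟨O', hO', rfl⟩, hxO', hsub⟩ :=
      (U'.isBasis_affineOpens).exists_subset_of_mem_open
        (show x ∈ ((g ⁻¹ᵁ W : U'.Opens) : Set U') from hw) (g ⁻¹ᵁ W).2
    exact ⟨O', hO'.isCompact, hsub, ⟨x, hxO', rfl⟩⟩
  choose! O' hO'c hO'W hwO' using key
  obtain ⟨t, hcov⟩ := hW.elim_nhds_subcover' (fun x hx => g '' (O' x : Set U'))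
    (fun x hx => (hopen _ (O' x).2).mem_nhds (hwO' x hx))
  let W' : U'.Opens := ⨆ x ∈ t, O' x.1
  have hW'coe : (W' : Set U') = ⋃ x ∈ t, (O' x.1 : Set U') := by
    simp [W']
  have hW'c : IsCompact (W' : Set U') := by
    rw [hW'coe]
    exact t.finite_toSet.isCompact_biUnion (fun x _ => hO'c x.1 x.2)
  have hW'W : ∀ x ∈ W', g x ∈ W := by
    intro x hx
    have : x ∈ (W' : Set U') := hx
    rw [hW'coe, Set.mem_iUnion₂] at this
    obtain ⟨y, hy, hxy⟩ := this
    exact hO'W y.1 y.2 hxy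
  let f : ↥W' → ↥W := fun x => ⟨g x.1, hW'W x.1 x.2⟩
  have hf : Continuous f := (g.continuous.comp continuous_subtype_val).subtype_mk _
  have hfs : Function.Surjective f := by
    rintro ⟨w, hw⟩
    have h1 := hcov hw
    rw [Set.mem_iUnion₂] at h1
    obtain ⟨y, hy, x, hx, rfl⟩ := h1
    have hxW' : x ∈ W' := by
      change x ∈ (W' : Set U')
      rw [hW'coe, Set.mem_iUnion₂]
      exact ⟨y, hy, hx⟩
    exact ⟨⟨x, hxW'⟩, rfl⟩
  exact finite_irreducibleComponents_of_surjective f hf hfs (hU' W' hW'c)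

end Groth.Agent.H51

namespace Groth.Agent.H51

/-- Quasi-compact opens have finitely many irreducible components. -/
def PIrr (U : Scheme.{u}) : Prop :=
  ∀ W : U.Opens, IsCompact (W : Set ↥U) → (irreducibleComponents ↥W).Finite

theorem pIrr_of_etale {U' U : Scheme.{u}} (g : U' ⟶ U) [Etale g] (h : PIrr U) : PIrr U' := by
  intro W' hW'
  rw [finite_irreducibleComponents_opens_iff]
  refine finite_maxPts_of_etale g (fun O hO => ?_) W' hW'
  rw [← finite_irreducibleComponents_opens_iff]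
  exact h O hO.isCompact

theorem pIrr_of_etale_surjective {U' U : Scheme.{u}} (g : U' ⟶ U) [Etale g]
    (hs : Function.Surjective g) (h : PIrr U') : PIrr U := by
  haveI : UniversallyOpen g := inferInstance
  exact finite_irreducibleComponents_of_surjective_open g g.isOpenMap hs h

end Groth.Agent.H51
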