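import Groth.Agent.H51.SchIrred
import Mathlib.AlgebraicGeometry.Fiber
import Mathlib.AlgebraicGeometry.Noetherian
import Mathlib.AlgebraicGeometry.Morphisms.Flat

set_option autoImplicit false
universe u
open CategoryTheory CategoryTheory.Limits AlgebraicGeometry Opposite MorphismProperty Topology
open TopologicalSpace

namespace Groth.Agent.H51

theorem isMaxPt_homeomorph {α β : Type*} [TopologicalSpace α] [TopologicalSpace β] (e : α ≃ₜ β)
    (x : α) : IsMaxPt (e x) ↔ IsMaxPt x := by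
  constructor
  · intro h y hy
    have := h (e y) (hy.map e.continuous)
    have h2 := this.map e.symm.continuous
    simpa using h2
  · intro h y hy
    have h1 : e.symm y ⤳ x := by
      have := hy.map e.symm.continuous
      simpa using this
    have := (h _ h1).map e.continuous
    simpa using this

theorem isMaxPt_subtype_of_isMaxPt {α : Type*} [TopologicalSpace α] {s : Set α} (x : s)
    (h : IsMaxPt (x : α)) : IsMaxPt x := by
  intro y hy
  exact (subtype_specializes_iff _ _).2 (h y ((subtype_specializes_iff _ _).1 hy))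

/-- Fibres of quasi-compact morphisms locally of finite type have finitely many maximal points. -/
theorem finite_maxPts_fiber {X Y : Scheme.{u}} (f : X ⟶ Y) [LocallyOfFiniteType f]
    [QuasiCompact f] (y : Y) : {x : f ⁻¹' {y} | IsMaxPt x}.Finite := by
  haveI : LocallyOfFiniteType (f.fiberToSpecResidueField y) :=
    MorphismProperty.pullback_snd _ _ inferInstance
  haveI : IsLocallyNoetherian (f.fiber y) :=
    LocallyOfFiniteType.isLocallyNoetherian (f.fiberToSpecResidueField y)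
  haveI : IsNoetherian (f.fiber y) := { }
  have h1 : (irreducibleComponents ↥(f.fiber y)).Finite :=
    NoetherianSpace.finite_irreducibleComponents
  have h2 : {x : ↥(f.fiber y) | IsMaxPt x}.Finite := finite_irreducibleComponents_iff.1 h1
  refine (h2.image (f.fiberHomeo y)).subset ?_
  intro x hx
  refine ⟨(f.fiberHomeo y).symm x, ?_, by simp⟩
  have : IsMaxPt ((f.fiberHomeo y) ((f.fiberHomeo y).symm x)) := by simpa using hx
  exact (isMaxPt_homeomorph _ _).1 this

/-- General lemma R. -/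
theorem finite_maxPts_of_flat_ft {A B : Scheme.{u}} (r : A ⟶ B) [Flat r] [LocallyOfFiniteType r]
    [QuasiCompact r] (hB : {b : B | IsMaxPt b}.Finite) : {a : A | IsMaxPt a}.Finite := by
  have hsub : {a : A | IsMaxPt a} ⊆
      ⋃ b ∈ {b : B | IsMaxPt b}, Subtype.val '' {x : r ⁻¹' {b} | IsMaxPt x} := by
    intro a ha
    have hra : IsMaxPt (r a) := by
      intro v hv
      obtain ⟨a', ha', rfl⟩ := Flat.generalizingMap r (a := a) (b := v) hv
      exact (ha a' ha').map r.continuous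
    refine Set.mem_iUnion₂.2 ⟨r a, hra, ⟨a, rfl⟩, ?_, rfl⟩
    exact isMaxPt_subtype_of_isMaxPt _ ha
  refine Set.Finite.subset ?_ hsub
  exact hB.biUnion (fun b _ => (finite_maxPts_fiber r b).image _)

end Groth.Agent.H51

namespace Groth.Agent.H51

/-- The affine piece for flat morphisms locally of finite type. -/
theorem finite_maxPts_of_flat_lft_affine {U' U : Scheme.{u}} (g : U' ⟶ U) [Flat g]
    [LocallyOfFiniteType g]
    (O' : U'.Opens) (O : U.Opens) (hO' : IsAffineOpen O') (hO : IsAffineOpen O)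
    (e : O' ≤ g ⁻¹ᵁ O) (hF : {u : U | u ∈ O ∧ IsMaxPt u}.Finite) :
    {u' : U' | u' ∈ O' ∧ IsMaxPt u'}.Finite := by
  haveI : IsAffine O'.toScheme := hO'
  haveI : IsAffine O.toScheme := hO
  let r := g.resLE O O' e
  have hB : {b : ↥O.toScheme | IsMaxPt b}.Finite := by
    have : {b : ↥O | IsMaxPt b} = Subtype.val ⁻¹' {u : U | u ∈ O ∧ IsMaxPt u} := by
      ext b
      exact ⟨fun hb => ⟨b.2, (isMaxPt_subtype_iff O.2 b).1 hb⟩,
        fun hb => (isMaxPt_subtype_iff O.2 b).2 hb.2⟩
    change {b : ↥O | IsMaxPt b}.Finite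
    rw [this]
    exact hF.preimage Subtype.val_injective.injOn
  have hA := finite_maxPts_of_flat_ft r hB
  refine (hA.image Subtype.val).subset ?_
  rintro u' ⟨hu', hmax⟩
  exact ⟨⟨u', hu'⟩, (isMaxPt_subtype_iff O'.2 ⟨u', hu'⟩).2 hmax, rfl⟩

theorem finite_maxPts_of_flat_lft {U' U : Scheme.{u}} (g : U' ⟶ U) [Flat g]
    [LocallyOfFiniteType g]
    (hU : ∀ O : U.Opens, IsAffineOpen O → {u : U | u ∈ O ∧ IsMaxPt u}.Finite)
    (W' : U'.Opens) (hW' : IsCompact (W' : Set U')) :
    {u' : U' | u' ∈ W' ∧ IsMaxPt u'}.Finite := by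
  have key : ∀ x : U', x ∈ W' → ∃ (O' : U'.Opens), IsAffineOpen O' ∧ x ∈ O' ∧ O' ≤ W' ∧
      {u' : U' | u' ∈ O' ∧ IsMaxPt u'}.Finite := by
    intro x hx
    obtain ⟨_, ⟨O, hO, rfl⟩, hgO, -⟩ :=
      (U.isBasis_affineOpens).exists_subset_of_mem_open (Set.mem_univ (g x)) isOpen_univ
    obtain ⟨_, ⟨O', hO', rfl⟩, hxO', hsub⟩ :=
      (U'.isBasis_affineOpens).exists_subset_of_mem_open
        (show x ∈ ((W' ⊓ g ⁻¹ᵁ O : U'.Opens) : Set U') from ⟨hx, hgO⟩) (W' ⊓ g ⁻¹ᵁ O).2
    refine ⟨O', hO', hxO', fun y hy => (hsub hy).1, ?_⟩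
    exact finite_maxPts_of_flat_lft_affine g O' O hO' hO (fun y hy => (hsub hy).2) (hU O hO)
  choose! O' hO'aff hxO' hO'W hO'fin using key
  obtain ⟨t, hcov⟩ := hW'.elim_nhds_subcover' (fun x hx => (O' x : Set U'))
    (fun x hx => (O' x).2.mem_nhds (hxO' x hx))
  have : {u' : U' | u' ∈ W' ∧ IsMaxPt u'} ⊆
      ⋃ x ∈ t, {u' : U' | u' ∈ O' x.1 ∧ IsMaxPt u'} := by
    rintro u' ⟨hu', hmax⟩
    have h1 := hcov hu'
    rw [Set.mem_iUnion₂] at h1
    obtain ⟨x, hx, hux⟩ := h1
    exact Set.mem_iUnion₂.2 ⟨x, hx, hux, hmax⟩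
  refine Set.Finite.subset ?_ this
  exact Set.Finite.biUnion t.finite_toSet (fun x _ => hO'fin x.1 x.2)

theorem pIrr_of_flat_lft {U' U : Scheme.{u}} (g : U' ⟶ U) [Flat g] [LocallyOfFiniteType g]
    (h : PIrr U) : PIrr U' := by
  intro W' hW'
  rw [finite_irreducibleComponents_opens_iff]
  refine finite_maxPts_of_flat_lft g (fun O hO => ?_) W' hW'
  rw [← finite_irreducibleComponents_opens_iff]
  exact h O hO.isCompact

end Groth.Agent.H51
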