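import Groth.Agent.H51.CartierDescentSch
import Groth.Agent.H50.EffCartier

set_option autoImplicit false
set_option backward.isDefEq.respectTransparency false
universe u
open CategoryTheory CategoryTheory.Limits AlgebraicGeometry Opposite Topology

namespace Groth.Agent.H51
open AlgSp
variable {S : Scheme.{u}}

/-- The closed subscheme of the pulled back ideal sheaf represents the pullback, on sheaves. -/
theorem exists_isPullback_comap {X D : Sp S} (i : D ⟶ X) {V W : Over S}
    (ψ : (yon S).obj V ⟶ X) (I : V.left.IdealSheafData)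
    (fst₀ : (yon S).obj (Over.mk (I.subschemeι ≫ V.hom)) ⟶ D)
    (sq₀ : IsPullback fst₀
      ((yon S).map (Over.homMk I.subschemeι rfl : Over.mk (I.subschemeι ≫ V.hom) ⟶ V)) i ψ)
    (h : W ⟶ V) :
    ∃ fst : (yon S).obj (Over.mk ((I.comap h.left).subschemeι ≫ W.hom)) ⟶ D,
      IsPullback fst ((yon S).map (Over.homMk (I.comap h.left).subschemeι rfl :
        Over.mk ((I.comap h.left).subschemeι ≫ W.hom) ⟶ W)) i ((yon S).map h ≫ ψ) := by
  have sqSch := Groth.Agent.H50.isPullback_subschemeι_comap h.left I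
  let k : Over.mk ((I.comap h.left).subschemeι ≫ W.hom) ⟶ Over.mk (I.subschemeι ≫ V.hom) :=
    Over.homMk ((I.comapIso h.left).hom ≫ pullback.snd h.left I.subschemeι) (by
      change ((I.comapIso h.left).hom ≫ pullback.snd h.left I.subschemeι) ≫ I.subschemeι ≫ V.hom =
        (I.comap h.left).subschemeι ≫ W.hom
      rw [← Category.assoc, sqSch.w, Category.assoc, Over.w h])
  have sqS : IsPullback k
      (Over.homMk (I.comap h.left).subschemeι rfl :
        Over.mk ((I.comap h.left).subschemeι ≫ W.hom) ⟶ W)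
      (Over.homMk I.subschemeι rfl : Over.mk (I.subschemeι ≫ V.hom) ⟶ V) h := by
    refine IsPullback.of_map (CategoryTheory.Over.forget S) ?_ ?_
    · ext
      exact sqSch.w
    · exact sqSch
  exact ⟨(yon S).map k ≫ fst₀, IsPullback.paste_horiz (sqS.map (yon S)) sq₀⟩

/-- Comparison of two closed subschemes representing the same pullback. -/
theorem idealSheafData_le_of_isPullback {X D : Sp S} (i : D ⟶ X) {W : Over S}
    (c : (yon S).obj W ⟶ X) (I₁ I₂ : W.left.IdealSheafData)
    (f₁ : (yon S).obj (Over.mk (I₁.subschemeι ≫ W.hom)) ⟶ D)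
    (f₂ : (yon S).obj (Over.mk (I₂.subschemeι ≫ W.hom)) ⟶ D)
    (sq₁ : IsPullback f₁
      ((yon S).map (Over.homMk I₁.subschemeι rfl : Over.mk (I₁.subschemeι ≫ W.hom) ⟶ W)) i c)
    (w₂ : f₂ ≫ i =
      (yon S).map (Over.homMk I₂.subschemeι rfl : Over.mk (I₂.subschemeι ≫ W.hom) ⟶ W) ≫ c) :
    I₁ ≤ I₂ := by
  obtain ⟨m, hm⟩ := (yon S).map_surjective (sq₁.lift f₂ _ w₂)
  have h1 : (yon S).map (m ≫ (Over.homMk I₁.subschemeι rfl :
      Over.mk (I₁.subschemeι ≫ W.hom) ⟶ W)) =
      (yon S).map (Over.homMk I₂.subschemeι rfl : Over.mk (I₂.subschemeι ≫ W.hom) ⟶ W) := by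
    rw [Functor.map_comp, hm, sq₁.lift_snd]
  have h2 := (yon S).map_injective h1
  have h3 : m.left ≫ I₁.subschemeι = I₂.subschemeι := congrArg (fun k => k.left) h2
  calc I₁ = I₁.subschemeι.ker := I₁.ker_subschemeι.symm
    _ ≤ (m.left ≫ I₁.subschemeι).ker := Scheme.Hom.le_ker_comp _ _
    _ = I₂.subschemeι.ker := by rw [h3]
    _ = I₂ := I₂.ker_subschemeι

theorem idealSheafData_eq_of_isPullback {X D : Sp S} (i : D ⟶ X) {W : Over S}
    (c : (yon S).obj W ⟶ X) (I₁ I₂ : W.left.IdealSheafData)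
    (f₁ : (yon S).obj (Over.mk (I₁.subschemeι ≫ W.hom)) ⟶ D)
    (f₂ : (yon S).obj (Over.mk (I₂.subschemeι ≫ W.hom)) ⟶ D)
    (sq₁ : IsPullback f₁
      ((yon S).map (Over.homMk I₁.subschemeι rfl : Over.mk (I₁.subschemeι ≫ W.hom) ⟶ W)) i c)
    (sq₂ : IsPullback f₂
      ((yon S).map (Over.homMk I₂.subschemeι rfl : Over.mk (I₂.subschemeι ≫ W.hom) ⟶ W)) i c) :
    I₁ = I₂ :=
  le_antisymm (idealSheafData_le_of_isPullback i c I₁ I₂ f₁ f₂ sq₁ sq₂.w)
    (idealSheafData_le_of_isPullback i c I₂ I₁ f₂ f₁ sq₂ sq₁.w)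

/-- An effective Cartier divisor on an algebraic space is effective Cartier on every etale
chart. -/
theorem isEffCartierIdeal_of_isEffCartierSub {X D : Sp S} (i : D ⟶ X) (hD : IsEffCartierSub i)
    (U : Over S) (φ : (yon S).obj U ⟶ X) (hφ : RepWith @Etale φ) (I : U.left.IdealSheafData)
    (fst : (yon S).obj (Over.mk (I.subschemeι ≫ U.hom)) ⟶ D)
    (sq : IsPullback fst
      ((yon S).map (Over.homMk I.subschemeι rfl : Over.mk (I.subschemeι ≫ U.hom) ⟶ U)) i φ) :
    BlowUp.IsEffCartierIdeal I := by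
  obtain ⟨hi, V, ψ, IV, fstV, hψ1, hψ2, sqV, hIV⟩ := hD
  let W : Over S := hψ1.rep.pullback φ
  let q : W ⟶ U := hψ1.rep.snd φ
  obtain ⟨p, hp⟩ := (yon S).map_surjective (hψ1.rep.fst φ)
  have sqW : IsPullback ((yon S).map p) ((yon S).map q) ψ φ := by
    rw [hp]; exact hψ1.rep.isPullback φ
  have hq1 : Etale q.left := hψ1.property φ _ q sqW
  have hq2 : Surjective q.left := hψ2.property φ _ q sqW
  have hp1 : Etale p.left := hφ.property ψ _ p sqW.flip
  obtain ⟨f₁, sq₁⟩ := exists_isPullback_comap i ψ IV fstV sqV p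
  obtain ⟨f₂, sq₂⟩ := exists_isPullback_comap i φ I fst sq q
  rw [sqW.w] at sq₁
  have heq : IV.comap p.left = I.comap q.left :=
    idealSheafData_eq_of_isPullback i _ _ _ f₁ f₂ sq₁ sq₂
  have h1 : BlowUp.IsEffCartierIdeal (I.comap q.left) := by
    rw [← heq]
    exact Groth.Agent.S10855.result p.left IV hIV
  exact isEffCartierIdeal_of_comap_of_flat_surjective q.left q.left.isOpenMap I h1

/-- A closed subspace of an algebraic space which is effective Cartier on every chart is an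
effective Cartier divisor. -/
theorem isEffCartierSub_of_forall_chart {X D : Sp S} (hX : IsAlgSpace X) (i : D ⟶ X)
    (hi : RepWith @IsClosedImmersion i)
    (H : ∀ (U : Over S) (φ : (yon S).obj U ⟶ X), RepWith @Etale φ → RepWith @Surjective φ →
      ∀ (I : U.left.IdealSheafData)
        (fst : (yon S).obj (Over.mk (I.subschemeι ≫ U.hom)) ⟶ D),
        IsPullback fst ((yon S).map (Over.homMk I.subschemeι rfl :
          Over.mk (I.subschemeι ≫ U.hom) ⟶ U)) i φ → BlowUp.IsEffCartierIdeal I) :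
    IsEffCartierSub i := by
  obtain ⟨V, ψ, hψ1, hψ2⟩ := hX.atlas
  let Z : Over S := hi.rep.pullback ψ
  let ι : Z ⟶ V := hi.rep.snd ψ
  have sqZ : IsPullback (hi.rep.fst ψ) ((yon S).map ι) i ψ := hi.rep.isPullback ψ
  haveI hι : IsClosedImmersion ι.left := hi.property ψ _ ι sqZ
  let I : V.left.IdealSheafData := ι.left.ker
  haveI : IsIso ι.left.toImage := inferInstance
  let e : Over.mk (I.subschemeι ≫ V.hom) ⟶ Z :=
    Over.homMk (inv ι.left.toImage) (by
      change inv ι.left.toImage ≫ Z.hom = I.subschemeι ≫ V.hom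
      rw [IsIso.inv_comp_eq, ← Category.assoc, Scheme.Hom.toImage_imageι, Over.w ι])
  have he : e ≫ ι = (Over.homMk I.subschemeι rfl : Over.mk (I.subschemeι ≫ V.hom) ⟶ V) := by
    ext
    change inv ι.left.toImage ≫ ι.left = I.subschemeι
    rw [IsIso.inv_comp_eq, Scheme.Hom.toImage_imageι]
  haveI : IsIso e := by
    have : IsIso ((CategoryTheory.Over.forget S).map e) := by
      change IsIso (inv ι.left.toImage)
      infer_instance
    exact isIso_of_reflects_iso e (CategoryTheory.Over.forget S)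
  have sq : IsPullback ((yon S).map e ≫ hi.rep.fst ψ)
      ((yon S).map (Over.homMk I.subschemeι rfl : Over.mk (I.subschemeι ≫ V.hom) ⟶ V)) i ψ := by
    have hiso : IsPullback ((yon S).map e)
        ((yon S).map (Over.homMk I.subschemeι rfl : Over.mk (I.subschemeι ≫ V.hom) ⟶ V))
        ((yon S).map ι) (𝟙 _) := by
      refine IsPullback.of_horiz_isIso ⟨?_⟩
      rw [Category.comp_id, ← Functor.map_comp, he]
    have := IsPullback.paste_horiz hiso sqZ
    rwa [Category.id_comp] at this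
  exact ⟨hi, V, ψ, I, _, hψ1, hψ2, sq, H V ψ hψ1 hψ2 I _ sq⟩

end Groth.Agent.H51
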