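import Groth.Agent.H51.SpGlue
import Groth.Agent.H51.SpOpen
import Groth.Agent.H51.SpBasic

set_option autoImplicit false
universe u
open CategoryTheory CategoryTheory.Limits AlgebraicGeometry Opposite MorphismProperty

namespace Groth.Agent.H51

open AlgSp Groth.Agent.H50 Groth.Agent.H49

variable {S : Scheme.{u}}

theorem isOpenImmersion_le_etale :
    (@IsOpenImmersion : MorphismProperty Scheme.{u}) ≤ @Etale := fun _ _ g hg => by
  have : IsOpenImmersion g := hg
  exact (inferInstance : Etale g)

/-- The image on points of an open subfunctor is open. -/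
theorem isOpen_range_map_of_isOpenImmersion {X : Sp S} {V : Over S} (j : (yon S).obj V ⟶ X)
    (hj : RepWith @IsOpenImmersion j) : IsOpen (Set.range (Points.map j)) := by
  rw [range_map_eq_range_ofPt]
  exact (isOpenMap_ofPt_of_etale j (repWith_mono isOpenImmersion_le_etale hj)).isOpen_range

/-- **Gluing criterion**: a sheaf with an etale surjective chart all of whose points have
representable open neighbourhoods is representable by a scheme. -/
theorem exists_iso_yon_of_forall_point {X : Sp S} {U : Over S} (a : (yon S).obj U ⟶ X)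
    (has : RepWith @Surjective a)
    (h : ∀ u : ↥U.left, ∃ (V : Over S) (j : (yon S).obj V ⟶ X), RepWith @IsOpenImmersion j ∧
        Points.ofPt a u ∈ Set.range (Points.map j)) :
    ∃ G : Over S, Nonempty ((yon S).obj G ≅ X) := by
  choose V j hj hmem using h
  have hsurj := surjective_ofPt_of_surjective a has
  have hcov : ∀ (T : Over S) (t : (yon S).obj T ⟶ X), ∃ R : Sieve T, R ∈ J S T ∧
      ∀ ⦃W' : Over S⦄ (w : W' ⟶ T), R w →
        ∃ (i : ↥U.left) (g : W' ⟶ V i), (yon S).map g ≫ j i = (yon S).map w ≫ t := by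
    intro T t
    let O : ↥U.left → T.left.Opens := fun i =>
      ⟨Points.ofPt t ⁻¹' Set.range (Points.map (j i)),
        (isOpen_range_map_of_isOpenImmersion (j i) (hj i)).preimage (Points.continuous_ofPt t)⟩
    have hO : TopologicalSpace.IsOpenCover O := by
      refine TopologicalSpace.IsOpenCover.mk ?_
      ext τ
      simp only [TopologicalSpace.Opens.coe_iSup, Set.mem_iUnion, TopologicalSpace.Opens.coe_top,
        Set.mem_univ, iff_true]
      obtain ⟨u, hu⟩ := hsurj (Points.ofPt t τ)
      refine ⟨u, ?_⟩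
      change Points.ofPt t τ ∈ Set.range (Points.map (j u))
      rw [← hu]
      exact hmem u
    let 𝒰 : Scheme.OpenCover.{u} T.left := T.left.openCoverOfIsOpenCover O hO
    obtain ⟨R, hR, hl⟩ := Groth.Agent.H53.cover_of_atlas (𝟙 ((yon S).obj T)) 𝒰 T (𝟙 _)
    refine ⟨R, hR, fun W' w hw => ?_⟩
    obtain ⟨i, g, hg⟩ := hl w hw
    rw [Category.comp_id, Category.comp_id] at hg
    -- the restriction of `t` to `O i` factors through `j i`
    have hfac : ∃ g' : (yon S).obj (Groth.Agent.H53.overOf T (𝒰.f i)) ⟶ (yon S).obj (V i),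
        g' ≫ j i = (yon S).map (Groth.Agent.H53.overHom T (𝒰.f i)) ≫ t := by
      rw [exists_factor_iff_of_isOpenImmersion' (j i) (hj i)]
      rintro _ ⟨x, rfl⟩
      obtain ⟨τ, rfl⟩ := (Points.schemeHomeo _).surjective x
      rw [← ofPt_eq_map_schemeHomeo, ofPt_map_comp]
      have hτ : (Groth.Agent.H53.overHom T (𝒰.f i)).left τ ∈ (O i : Set T.left) := by
        change (O i).ι τ ∈ (O i : Set T.left)
        exact τ.2
      exact hτ
    obtain ⟨g', hg'⟩ := hfac
    obtain ⟨g'', rfl⟩ := (yon S).map_surjective g'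
    refine ⟨i, g ≫ g'', ?_⟩
    rw [Functor.map_comp, Category.assoc, hg', ← Category.assoc, hg]
  obtain ⟨e, -⟩ := SpGlue.exists_iso_yon hj hcov
  exact ⟨_, ⟨e⟩⟩

end Groth.Agent.H51
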