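import Groth.Agent.H51.SpBasic
import Groth.Agent.H50.QCMor

/-! Trace of an open subspace `j : V ⟶ Y` on a chart `b : h_W ⟶ Y`: an open subscheme of `W`,
dense if `|V|` is dense and `b` is étale, retrocompact if `j` is quasi-compact. -/

set_option autoImplicit false
universe u

open CategoryTheory CategoryTheory.Limits AlgebraicGeometry Opposite MorphismProperty
open AlgSp Groth.Agent.H50

namespace Groth.Agent.H51

variable {S : Scheme.{u}}

/-- Trace of an open subspace on a chart. -/
theorem exists_open_trace {V Y : Sp S} (j : V ⟶ Y) (hj : RepWith @IsOpenImmersion j)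
    {W : Over S} (b : (yon S).obj W ⟶ Y) :
    ∃ (W' : Over S) (ι : W' ⟶ W) (b' : (yon S).obj W' ⟶ V),
      IsPullback b' ((yon S).map ι) j b ∧ IsOpenImmersion ι.left ∧
      ∀ w : ↥W.left, Points.ofPt b w ∈ Set.range (Points.map j) ↔ w ∈ Set.range ι.left := by
  obtain ⟨W', ι, b', sq⟩ := hj.rep b
  refine ⟨W', ι, b', sq, hj.property b b' ι sq, fun w => ⟨?_, ?_⟩⟩
  · rintro ⟨v, hv⟩
    rw [ofPt_eq_map_schemeHomeo] at hv
    obtain ⟨z, hz1, hz2⟩ := points_exists_of_isPullback sq v _ hv
    obtain ⟨w', rfl⟩ := (Points.schemeHomeo W').surjective z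
    rw [Points.map_yon_map_apply] at hz2
    exact ⟨w', (Points.schemeHomeo W).injective hz2⟩
  · rintro ⟨w', rfl⟩
    refine ⟨Points.ofPt b' w', ?_⟩
    rw [Points.map_ofPt, sq.w, ofPt_map_comp]

/-- The trace of a dense open subspace on an étale chart is dense. -/
theorem dense_range_of_open_trace {V Y : Sp S} (j : V ⟶ Y)
    (hd : Dense (Set.range (Points.map j)))
    {W W' : Over S} (b : (yon S).obj W ⟶ Y) (hb : RepWith @Etale b) (ι : W' ⟶ W)
    (hι : ∀ w : ↥W.left, Points.ofPt b w ∈ Set.range (Points.map j) ↔ w ∈ Set.range ι.left) :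
    Dense (Set.range ι.left) := by
  have h1 := hd.preimage (isOpenMap_ofPt_of_etale b hb)
  have h2 : Points.ofPt b ⁻¹' Set.range (Points.map j) = Set.range ι.left := by
    ext w
    exact hι w
  rwa [h2] at h1

/-- The range of a quasi-compact open immersion is retrocompact. -/
theorem isRetrocompact_range_of_quasiCompact {A B : Scheme.{u}} (i : A ⟶ B) [IsOpenImmersion i]
    [QuasiCompact i] : IsRetrocompact (Set.range i) := by
  intro K hK hKo
  have h1 : IsCompact (i ⁻¹' K) := QuasiCompact.isCompact_preimage K hKo hK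
  have h2 : Set.range i ∩ K = i '' (i ⁻¹' K) := by
    rw [Set.image_preimage_eq_inter_range, Set.inter_comm]
  rw [h2]
  exact h1.image i.continuous

/-- The trace of a quasi-compact open subspace on a chart is retrocompact. -/
theorem isRetrocompact_range_of_open_trace {V Y : Sp S} (j : V ⟶ Y)
    (hj : RepWith @IsOpenImmersion j) (hqc : IsQuasiCompactMor j)
    {W W' : Over S} (b : (yon S).obj W ⟶ Y) (ι : W' ⟶ W) (b' : (yon S).obj W' ⟶ V)
    (sq : IsPullback b' ((yon S).map ι) j b) :
    IsRetrocompact (Set.range ι.left) := by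
  have h1 : RepWith @QuasiCompact j := repWith_quasiCompact_of_isQuasiCompactMor j hj.rep hqc
  have : QuasiCompact ι.left := h1.property b b' ι sq
  have : IsOpenImmersion ι.left := hj.property b b' ι sq
  exact isRetrocompact_range_of_quasiCompact ι.left

end Groth.Agent.H51
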