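import Groth.Agent.H52.Diag
import Groth.Agent.H49.AlgSpSep
import Mathlib.AlgebraicGeometry.Morphisms.Separated
import Mathlib.RingTheory.TensorProduct.Maps

set_option autoImplicit false
universe u
open CategoryTheory CategoryTheory.Limits AlgebraicGeometry Opposite MorphismProperty

namespace Groth.Agent.H51

open AlgSp

variable {S : Scheme.{u}}

/-- A closed immersion `P ⟶ Z` into an affine scheme with projections to affine `U`, `V`:
if the induced map to the fibre product over the terminal scheme is a closed immersion, then `P` is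
affine and `Γ(U) ⊗_ℤ Γ(V) ⟶ Γ(P)` is surjective. -/
theorem surjective_productMap_of_isClosedImmersion {U V P : Scheme.{u}} [IsAffine U] [IsAffine V]
    (f : P ⟶ U) (g : P ⟶ V)
    (hc : IsClosedImmersion (pullback.lift f g (terminal.hom_ext _ _) :
      P ⟶ pullback (terminal.from U) (terminal.from V))) :
    IsAffine P ∧ Function.Surjective
      (Algebra.TensorProduct.productMap f.appTop.hom.toIntAlgHom g.appTop.hom.toIntAlgHom) := by
  set c' : P ⟶ pullback (terminal.from U) (terminal.from V) :=
    pullback.lift f g (terminal.hom_ext _ _) with hc'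
  haveI : IsAffine P := (IsClosedImmersion.isAffine_surjective_of_isAffine c').1
  refine ⟨inferInstance, ?_⟩
  let A : CommRingCat.{u} := Γ(U, ⊤)
  let B : CommRingCat.{u} := Γ(V, ⊤)
  let C : CommRingCat.{u} := Γ(P, ⊤)
  let m := Algebra.TensorProduct.productMap f.appTop.hom.toIntAlgHom g.appTop.hom.toIntAlgHom
  let D : Subalgebra ℤ C := m.range
  let jD : CommRingCat.of D ⟶ C := CommRingCat.ofHom D.val.toRingHom
  let gA : A ⟶ CommRingCat.of D := CommRingCat.ofHom
    ((f.appTop.hom.toIntAlgHom.codRestrict D (fun x => ⟨x ⊗ₜ 1, by simp [m]⟩)).toRingHom)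
  let gB : B ⟶ CommRingCat.of D := CommRingCat.ofHom
    ((g.appTop.hom.toIntAlgHom.codRestrict D (fun x => ⟨1 ⊗ₜ x, by simp [m]⟩)).toRingHom)
  have hA : gA ≫ jD = f.appTop := by ext x; rfl
  have hB : gB ≫ jD = g.appTop := by ext x; rfl
  let q : Spec (CommRingCat.of D) ⟶ pullback (terminal.from U) (terminal.from V) :=
    pullback.lift (Spec.map gA ≫ U.isoSpec.inv) (Spec.map gB ≫ V.isoSpec.inv)
      (terminal.hom_ext _ _)
  have hq : (P.isoSpec.hom ≫ Spec.map jD) ≫ q = c' := by
    apply pullback.hom_ext
    · simp only [Category.assoc, pullback.lift_fst, q, c']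
      rw [← Spec.map_comp_assoc, hA, Scheme.isoSpec_hom_naturality_assoc, Iso.hom_inv_id,
        Category.comp_id]
    · simp only [Category.assoc, pullback.lift_snd, q, c']
      rw [← Spec.map_comp_assoc, hB, Scheme.isoSpec_hom_naturality_assoc, Iso.hom_inv_id,
        Category.comp_id]
  haveI : IsClosedImmersion ((P.isoSpec.hom ≫ Spec.map jD) ≫ q) := by rw [hq]; exact hc
  haveI h1 : IsClosedImmersion (P.isoSpec.hom ≫ Spec.map jD) := IsClosedImmersion.of_comp _ q
  have h2 : IsClosedImmersion (Spec.map jD) :=
    (MorphismProperty.cancel_left_of_respectsIso @IsClosedImmersion P.isoSpec.hom _).1 h1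
  have h3 : Function.Surjective (Spec.map jD).appTop :=
    (IsClosedImmersion.isAffine_surjective_of_isAffine (Spec.map jD)).2
  have h4 : Function.Surjective jD := by
    have e : jD = (Scheme.ΓSpecIso _).inv ≫ (Spec.map jD).appTop ≫ (Scheme.ΓSpecIso _).hom := by
      rw [Scheme.ΓSpecIso_naturality, Iso.inv_hom_id_assoc]
    rw [e]
    simp only [CommRingCat.hom_comp, RingHom.coe_comp]
    exact ((ConcreteCategory.bijective_of_isIso (Scheme.ΓSpecIso C).hom).2.comp h3).comp
      (ConcreteCategory.bijective_of_isIso (Scheme.ΓSpecIso (CommRingCat.of D)).inv).2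
  intro x
  obtain ⟨⟨d, hd⟩, rfl⟩ := h4 x
  exact hd

end Groth.Agent.H51

namespace Groth.Agent.H51
open AlgSp
variable {S : Scheme.{u}}

theorem s10187 [S.IsSeparated]
    (X : Sp S) (hX : AlgSp.IsSeparatedSp X) (U V P : Over S) (a : (AlgSp.yon S).obj U ⟶ X)
    (b : (AlgSp.yon S).obj V ⟶ X) (fst : P ⟶ U) (snd : P ⟶ V)
    (hU : IsAffine U.left) (hV : IsAffine V.left)
    (h : IsPullback ((AlgSp.yon S).map fst) ((AlgSp.yon S).map snd) a b) :
    IsAffine P.left ∧ Function.Surjective
      (Algebra.TensorProduct.productMap fst.left.appTop.hom.toIntAlgHom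
        snd.left.appTop.hom.toIntAlgHom) := by
  have hc : IsClosedImmersion (prod.lift fst snd).left :=
    Groth.Agent.H52.prop_prod_lift_of_repWith_diag hX h
  have hpb : IsPullback (prod.fst : U ⨯ V ⟶ U).left (prod.snd : U ⨯ V ⟶ V).left U.hom V.hom :=
    Over.isPullback_of_binaryFan_isLimit (BinaryFan.mk prod.fst prod.snd) (prodIsProd U V)
  let t := terminal.from S
  let d : (U ⨯ V).left ⟶ pullback (U.hom ≫ t) (V.hom ≫ t) :=
    hpb.isoPullback.hom ≫ pullback.mapDesc U.hom V.hom t
  haveI : IsClosedImmersion d := inferInstance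
  let e : pullback (U.hom ≫ t) (V.hom ≫ t) ≅ pullback (terminal.from U.left) (terminal.from V.left) :=
    pullback.congrHom (terminal.hom_ext _ _) (terminal.hom_ext _ _)
  apply surjective_productMap_of_isClosedImmersion
  have : pullback.lift fst.left snd.left (terminal.hom_ext _ _) =
      (prod.lift fst snd).left ≫ d ≫ e.hom := by
    apply pullback.hom_ext
    · simp only [pullback.lift_fst, Category.assoc, d, e, pullback.congrHom_hom, pullback.map,
        pullback.mapDesc, Category.comp_id, IsPullback.isoPullback_hom_fst]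
      rw [← Over.comp_left, prod.lift_fst]
    · simp only [pullback.lift_snd, Category.assoc, d, e, pullback.congrHom_hom, pullback.map,
        pullback.mapDesc, Category.comp_id, IsPullback.isoPullback_hom_snd]
      rw [← Over.comp_left, prod.lift_snd]
  rw [this]
  infer_instance

end Groth.Agent.H51

namespace Groth.Agent.H51
open AlgSp
variable {S : Scheme.{u}}

/-- Converse: for affine `P, U, V`, if `Γ(U) ⊗_ℤ Γ(V) ⟶ Γ(P)` is surjective, then `P ⟶ U × V`
(fibre product over the terminal scheme) is a closed immersion. -/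
theorem isClosedImmersion_of_surjective_productMap {U V P : Scheme.{u}} [IsAffine U] [IsAffine V]
    [IsAffine P] (f : P ⟶ U) (g : P ⟶ V)
    (h : Function.Surjective
      (Algebra.TensorProduct.productMap f.appTop.hom.toIntAlgHom g.appTop.hom.toIntAlgHom)) :
    IsClosedImmersion (pullback.lift f g (terminal.hom_ext _ _) :
      P ⟶ pullback (terminal.from U) (terminal.from V)) := by
  set c' : P ⟶ pullback (terminal.from U) (terminal.from V) :=
    pullback.lift f g (terminal.hom_ext _ _) with hc'
  apply IsClosedImmersion.of_surjective_of_isAffine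
  let pr₁ := pullback.fst (terminal.from U) (terminal.from V)
  let pr₂ := pullback.snd (terminal.from U) (terminal.from V)
  have h1 : f.appTop = pr₁.appTop ≫ c'.appTop := by
    rw [← Scheme.Hom.comp_appTop]; congr 1; exact (pullback.lift_fst _ _ _).symm
  have h2 : g.appTop = pr₂.appTop ≫ c'.appTop := by
    rw [← Scheme.Hom.comp_appTop]; congr 1; exact (pullback.lift_snd _ _ _).symm
  have key : Algebra.TensorProduct.productMap f.appTop.hom.toIntAlgHom g.appTop.hom.toIntAlgHom =
      c'.appTop.hom.toIntAlgHom.comp
        (Algebra.TensorProduct.productMap pr₁.appTop.hom.toIntAlgHom pr₂.appTop.hom.toIntAlgHom) := by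
    apply Algebra.TensorProduct.ext'
    intro a b
    simp only [Algebra.TensorProduct.productMap_apply_tmul, AlgHom.comp_apply, map_mul]
    rw [h1, h2]
    rfl
  intro x
  obtain ⟨y, hy⟩ := h x
  rw [key] at hy
  exact ⟨_, hy⟩

end Groth.Agent.H51

namespace Groth.Agent.H51
open AlgSp
variable {S : Scheme.{u}}

/-- Closed immersion criterion for `P ⟶ U × V` in `Over S` with all three affine. -/
theorem isClosedImmersion_prod_lift_of_surjective {U V P : Over S} (fst : P ⟶ U) (snd : P ⟶ V)
    (hU : IsAffine U.left) (hV : IsAffine V.left) (hP : IsAffine P.left)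
    (h : Function.Surjective (Algebra.TensorProduct.productMap fst.left.appTop.hom.toIntAlgHom
        snd.left.appTop.hom.toIntAlgHom)) :
    IsClosedImmersion (prod.lift fst snd).left := by
  have hpb : IsPullback (prod.fst : U ⨯ V ⟶ U).left (prod.snd : U ⨯ V ⟶ V).left U.hom V.hom :=
    Over.isPullback_of_binaryFan_isLimit (BinaryFan.mk prod.fst prod.snd) (prodIsProd U V)
  let t := terminal.from S
  let d : (U ⨯ V).left ⟶ pullback (U.hom ≫ t) (V.hom ≫ t) :=
    hpb.isoPullback.hom ≫ pullback.mapDesc U.hom V.hom t
  let e : pullback (U.hom ≫ t) (V.hom ≫ t) ≅ pullback (terminal.from U.left) (terminal.from V.left) :=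
    pullback.congrHom (terminal.hom_ext _ _) (terminal.hom_ext _ _)
  have hmono : Mono (pullback.mapDesc U.hom V.hom t) := by
    have := pullback_map_diagonal_isPullback U.hom V.hom t
    exact (MorphismProperty.of_isPullback (P := MorphismProperty.monomorphisms Scheme.{u}) this
      (MorphismProperty.monomorphisms.infer_property _))
  haveI : Mono (d ≫ e.hom) := by
    haveI : Mono d := mono_comp _ _
    exact mono_comp _ _
  have hcomp : pullback.lift fst.left snd.left (terminal.hom_ext _ _) =
      (prod.lift fst snd).left ≫ d ≫ e.hom := by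
    apply pullback.hom_ext
    · simp only [pullback.lift_fst, Category.assoc, d, e, pullback.congrHom_hom, pullback.map,
        pullback.mapDesc, Category.comp_id, IsPullback.isoPullback_hom_fst]
      rw [← Over.comp_left, prod.lift_fst]
    · simp only [pullback.lift_snd, Category.assoc, d, e, pullback.congrHom_hom, pullback.map,
        pullback.mapDesc, Category.comp_id, IsPullback.isoPullback_hom_snd]
      rw [← Over.comp_left, prod.lift_snd]
  have hci := isClosedImmersion_of_surjective_productMap fst.left snd.left h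
  rw [hcomp] at hci
  exact IsClosedImmersion.of_comp _ (d ≫ e.hom)

theorem s10186 (X : Sp S) (hX : IsAlgSpace X)
    (h : ∀ (U V P : Over S) (a : (AlgSp.yon S).obj U ⟶ X) (b : (AlgSp.yon S).obj V ⟶ X)
      (fst : P ⟶ U) (snd : P ⟶ V),
      IsAffine U.left → IsAffine V.left →
      IsPullback ((AlgSp.yon S).map fst) ((AlgSp.yon S).map snd) a b →
        IsAffine P.left ∧ Function.Surjective
          (Algebra.TensorProduct.productMap fst.left.appTop.hom.toIntAlgHom
            snd.left.appTop.hom.toIntAlgHom)) :
    AlgSp.IsSeparatedSp X := by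
  refine Groth.Agent.H49.repWith_of_affine_test @IsClosedImmersion (Limits.diag X) hX.diag ?_
  intro T V hT ζ fst snd sq
  set a : (yon S).obj T ⟶ X := ζ ≫ prod.fst with ha
  set b : (yon S).obj T ⟶ X := ζ ≫ prod.snd with hb
  obtain ⟨P, p₂, fst', sqP⟩ := Functor.relativelyRepresentable.of_diag hX.diag a b
  obtain ⟨p₁, rfl⟩ := (yon S).map_surjective fst'
  obtain ⟨hPaff, hsurj⟩ := h T T P a b p₁ p₂ hT hT sqP
  have hci : IsClosedImmersion (prod.lift p₁ p₂).left :=
    isClosedImmersion_prod_lift_of_surjective p₁ p₂ hT hT hPaff hsurj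
  have e1 : prod.lift ((yon S).map p₁) ((yon S).map p₂) =
      (yon S).map (prod.lift p₁ p₂) ≫ prodComparison (yon S) T T := by
    apply Limits.prod.hom_ext
    · rw [Category.assoc, prodComparison_fst, ← Functor.map_comp, prod.lift_fst, prod.lift_fst]
    · rw [Category.assoc, prodComparison_snd, ← Functor.map_comp, prod.lift_snd, prod.lift_snd]
  have hrep : RepWith @IsClosedImmersion (prod.lift ((yon S).map p₁) ((yon S).map p₂)) := by
    rw [e1, MorphismProperty.cancel_right_of_respectsIso (RepWith (S := S) @IsClosedImmersion)]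
    exact (repWith_yon_map_iff @IsClosedImmersion _).2 hci
  have sqR := Groth.Agent.H52.isPullback_diag_prodMap sqP
  have hζ : ζ = Limits.diag ((yon S).obj T) ≫ prod.map a b := by
    apply Limits.prod.hom_ext
    · simp only [Category.assoc, prod.map_fst, Limits.diag, prod.lift_fst_assoc, Category.id_comp]; rfl
    · simp only [Category.assoc, prod.map_snd, Limits.diag, prod.lift_snd_assoc, Category.id_comp]; rfl
  have hw : fst ≫ Limits.diag X = ((yon S).map snd ≫ Limits.diag ((yon S).obj T)) ≫ prod.map a b := by
    rw [Category.assoc, ← hζ]; exact sq.w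
  let g := sqR.lift fst ((yon S).map snd ≫ Limits.diag ((yon S).obj T)) hw
  have sqL : IsPullback g ((yon S).map snd) (prod.lift ((yon S).map p₁) ((yon S).map p₂))
      (Limits.diag ((yon S).obj T)) := by
    refine IsPullback.of_right ?_ (sqR.lift_snd _ _ hw) sqR
    rw [sqR.lift_fst, ← hζ]
    exact sq
  exact hrep.property _ _ _ sqL

end Groth.Agent.H51
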