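import Groth.Agent.H51.CartierComplRad
import Groth.Agent.H51.SpCartierChart
import Groth.Agent.H51.SpOpenTrace
import Groth.Agent.H51.SpSepAffine
import Groth.Agent.H51.SpCover
import Groth.Agent.H51.SpGlue2
import Groth.Agent.H51.SpEtReduced
import Groth.Agent.H51.SpEtale
import Groth.Agent.H20.EtaleRegular
import Groth.Agent.H53.NoethFppf
import Groth.Agent.S2821
import Groth.Agent.S10192

/-! The complement of a dense affine open subspace of a Noetherian separated regular algebraic space
is (the support of) an effective Cartier divisor. -/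

set_option autoImplicit false
universe u

open CategoryTheory CategoryTheory.Limits AlgebraicGeometry Opposite MorphismProperty
open AlgSp Groth.Agent.H50

namespace Groth.Agent.H51

variable {S : Scheme.{u}}

/-- Points criterion for the trace of a subspace on a chart. -/
theorem mem_range_iff_of_isPullback_trace {V Y : Sp S} (j : V ⟶ Y)
    {W W' : Over S} (b : (yon S).obj W ⟶ Y) (ι : W' ⟶ W) (b' : (yon S).obj W' ⟶ V)
    (sq : IsPullback b' ((yon S).map ι) j b) (w : ↥W.left) :
    Points.ofPt b w ∈ Set.range (Points.map j) ↔ w ∈ Set.range ι.left := by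
  constructor
  · rintro ⟨v, hv⟩
    rw [ofPt_eq_map_schemeHomeo] at hv
    obtain ⟨z, hz1, hz2⟩ := points_exists_of_isPullback sq v _ hv
    obtain ⟨w', rfl⟩ := (Points.schemeHomeo W').surjective z
    rw [Points.map_yon_map_apply] at hz2
    exact ⟨w', (Points.schemeHomeo W).injective hz2⟩
  · rintro ⟨w', rfl⟩
    refine ⟨Points.ofPt b' w', ?_⟩
    rw [Points.map_ofPt, sq.w, ofPt_map_comp]

/-- The trace of a closed subspace on a chart, in ideal sheaf form. -/
theorem exists_ker_isPullback {X D : Sp S} (i : D ⟶ X) (hi : RepWith @IsClosedImmersion i)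
    {V : Over S} (ψ : (yon S).obj V ⟶ X) :
    ∃ (Z : Over S) (ι : Z ⟶ V) (fstZ : (yon S).obj Z ⟶ D),
      IsPullback fstZ ((yon S).map ι) i ψ ∧ IsClosedImmersion ι.left ∧
      ∃ fst : (yon S).obj (Over.mk (ι.left.ker.subschemeι ≫ V.hom)) ⟶ D,
        IsPullback fst ((yon S).map (Over.homMk ι.left.ker.subschemeι rfl :
          Over.mk (ι.left.ker.subschemeι ≫ V.hom) ⟶ V)) i ψ := by
  let Z : Over S := hi.rep.pullback ψ
  let ι : Z ⟶ V := hi.rep.snd ψ
  have sqZ : IsPullback (hi.rep.fst ψ) ((yon S).map ι) i ψ := hi.rep.isPullback ψ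
  haveI hι : IsClosedImmersion ι.left := hi.property ψ _ ι sqZ
  refine ⟨Z, ι, hi.rep.fst ψ, sqZ, hι, ?_⟩
  let I : V.left.IdealSheafData := ι.left.ker
  haveI : IsIso ι.left.toImage := inferInstance
  let e : Over.mk (I.subschemeι ≫ V.hom) ⟶ Z :=
    Over.homMk (inv ι.left.toImage) (by
      change inv ι.left.toImage ≫ Z.hom = I.subschemeι ≫ V.hom
      rw [IsIso.inv_comp_eq, ← Category.assoc, Scheme.Hom.toImage_imageι, Over.w ι])
  have he : e ≫ ι = (Over.homMk I.subschemeι rfl : Over.mk (I.subschemeι ≫ V.hom) ⟶ V) := by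
    ext
    change inv ι.left.toImage ≫ ι.left = I.subschemeι
    rw [IsIso.inv_comp_eq, Scheme.Hom.toImage_imageι]
  refine ⟨(yon S).map e ≫ hi.rep.fst ψ, ?_⟩
  haveI : IsIso e := by
    have : IsIso ((CategoryTheory.Over.forget S).map e) := by
      change IsIso (inv ι.left.toImage)
      infer_instance
    exact isIso_of_reflects_iso e (CategoryTheory.Over.forget S)
  have hiso : IsPullback ((yon S).map e)
      ((yon S).map (Over.homMk I.subschemeι rfl : Over.mk (I.subschemeι ≫ V.hom) ⟶ V))
      ((yon S).map ι) (𝟙 _) := by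
    refine IsPullback.of_horiz_isIso ⟨?_⟩
    rw [Category.comp_id, ← Functor.map_comp, he]
  have := IsPullback.paste_horiz hiso sqZ
  rwa [Category.id_comp] at this

/-- Regularity on one etale surjective chart gives regularity on every etale chart. -/
theorem regular_of_etaleLocally_regular {X : Sp S}
    (hreg : EtaleLocally (fun U => IsLocallyNoetherian U ∧
      ∀ u : ↥U, IsRegularLocalRing ↥(U.presheaf.stalk u)) X)
    (U : Over S) (a : (yon S).obj U ⟶ X) (ha : RepWith @Etale a) :
    IsLocallyNoetherian U.left ∧ ∀ u : ↥U.left, IsRegularLocalRing ↥(U.left.presheaf.stalk u) := by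
  obtain ⟨W, p, hp, hps, hWn, hWr⟩ := hreg
  haveI : IsLocallyNoetherian W.left := hWn
  have sq := hp.rep.isPullback' a
  haveI hr1 : Etale (hp.rep.snd a).left := hp.property_snd a
  haveI hr2 : Surjective (hp.rep.snd a).left := hps.property_snd a
  haveI hq : Etale (hp.rep.fst' a).left := ha.property p _ _ sq.flip
  haveI hQ : IsLocallyNoetherian (hp.rep.pullback a).left :=
    LocallyOfFiniteType.isLocallyNoetherian (hp.rep.fst' a).left
  haveI hU : IsLocallyNoetherian U.left :=
    Groth.Agent.H53.isLocallyNoetherian_of_fppf_surjective (hp.rep.snd a).left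
  refine ⟨hU, fun u => ?_⟩
  obtain ⟨z, rfl⟩ := (hp.rep.snd a).left.surjective u
  exact (Groth.Agent.H20.isRegularLocalRing_stalk_iff_of_etale (hp.rep.snd a).left z).1
    ((Groth.Agent.H20.isRegularLocalRing_stalk_iff_of_etale (hp.rep.fst' a).left z).2 (hWr _))

end Groth.Agent.H51
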