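import Groth.Agent.H51.SpCartierCompl

/-! S10800: the complement of a dense affine open subspace of a Noetherian separated regular
algebraic space is the support of an effective Cartier divisor. -/

set_option autoImplicit false
universe u

open CategoryTheory CategoryTheory.Limits AlgebraicGeometry Opposite MorphismProperty
open AlgSp Groth.Agent.H50

namespace Groth.Agent.H51

variable {S : Scheme.{u}}

theorem exists_effCartier_compl [S.IsSeparated] (X : AlgSp.Space S)
    (hreg : EtaleLocally (fun U => IsLocallyNoetherian U ∧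
      ∀ u : ↥U, IsRegularLocalRing ↥(U.presheaf.stalk u)) X.obj)
    (hqc : IsQuasiCompactSp X.obj) (hsep : IsSeparatedSp X.obj)
    (T : Over S) [IsAffine T.left] (j : (yon S).obj T ⟶ X.obj) (hj : RepWith @IsOpenImmersion j)
    (hdense : Dense (Set.range (Points.ofPt j))) :
    ∃ (D : AlgSp.Space S) (i : D ⟶ X), IsEffCartierSub i.hom ∧
      Set.range (Points.map i.hom) = (Set.range (Points.ofPt j))ᶜ := by
  have hopen : IsOpen (Set.range (Points.ofPt j)) := by
    rw [← range_map_eq_range_ofPt]; exact isOpen_range_map_of_isOpenImmersion j hj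
  obtain ⟨D, i, hi, hrange, hred⟩ := Groth.Agent.S10192.result X _ hopen.isClosed_compl
  refine ⟨D, i, ?_, hrange⟩
  obtain ⟨V, φ, hVaff, hφe, hφs⟩ := isQuasiCompactSp_iff_exists_affine_atlas.1 hqc
  haveI := hVaff
  obtain ⟨hVn, hVr⟩ := regular_of_etaleLocally_regular hreg V φ hφe
  haveI := hVn
  -- the open trace of `j`
  obtain ⟨W, ι, b', sqW, hιo, hιpt⟩ := exists_open_trace j hj φ
  haveI := hιo
  let b₀ : W ⟶ T := (yon S).preimage b'
  have hb₀ : (yon S).map b₀ = b' := (yon S).map_preimage b'
  have sqW' : IsPullback ((yon S).map b₀) ((yon S).map ι) j φ := by rw [hb₀]; exact sqW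
  haveI hWaff : IsAffine W.left :=
    (s10187 X.obj hsep T V W j φ b₀ ι inferInstance hVaff sqW').1
  have hdW : Dense (Set.range ι.left) :=
    dense_range_of_open_trace j (by rwa [range_map_eq_range_ofPt]) φ hφe ι hιpt
  let U₀ : V.left.Opens := ι.left.opensRange
  have hU₀ : IsAffineOpen U₀ := isAffineOpen_opensRange ι.left
  haveI : IsAffine (U₀ : Scheme) := hU₀
  haveI : IsAffineHom U₀.ι := inferInstance
  -- the closed trace of `i`
  obtain ⟨Z, ιZ, fstZ, sqZ, hcl, fst, sq⟩ := exists_ker_isPullback i.hom hi φ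
  haveI := hcl
  have hfstZ : RepWith @Etale fstZ := (RepWith @Etale).of_isPullback sqZ.flip hφe
  haveI hZred : AlgebraicGeometry.IsReduced Z.left :=
    isReduced_of_isReducedSp hred (EtOver.mk fstZ hfstZ)
  have hsupp : ((ιZ.left.ker.support : Set V.left)) = (U₀ : Set V.left)ᶜ := by
    rw [Scheme.Hom.support_ker, hcl.base_closed.isClosed_range.closure_eq]
    ext v
    rw [← mem_range_iff_of_isPullback_trace i.hom φ ιZ fstZ sqZ v, hrange, Set.mem_compl_iff,
      Set.mem_compl_iff, ← range_map_eq_range_ofPt, hιpt v]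
    rfl
  refine ⟨hi, V, φ, ιZ.left.ker, fst, hφe, hφs, sq, ?_⟩
  refine isEffCartier_of_radical_support_compl U₀ hdW ?_ _
    (fun V' => isRadical_ker_ideal_of_isReduced ιZ.left V') hsupp
  intro x _
  haveI := hVr x
  exact Groth.Agent.S2821.result _

end Groth.Agent.H51
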