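import Groth.Agent.H51.SpCartierSum
import Groth.Agent.H51.SpEtLocRinged

set_option autoImplicit false
set_option backward.isDefEq.respectTransparency false
universe u
open CategoryTheory CategoryTheory.Limits AlgebraicGeometry Opposite Topology

namespace Groth.Agent.H51
open AlgSp
variable {S : Scheme.{u}}

/-- If a product of two ideals is generated by a nonzerodivisor, each factor is, near any prime,
generated by a nonzerodivisor (spread-out form). -/
theorem exists_spread_of_mul_eq_span {A : Type*} [CommRing A] (I J : Ideal A) (f : A)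
    (hf : f ∈ nonZeroDivisors A) (hIJ : I * J = Ideal.span {f}) (p : Ideal A) [p.IsPrime] :
    ∃ s ∉ p, ∃ a₀ ∈ I, (∀ b ∈ I, s * b ∈ Ideal.span {a₀}) ∧ ∀ r : A, r * a₀ = 0 → s * r = 0 := by
  have hcancel : ∀ x y : A, f * x = f * y → x = y := fun x y h =>
    (mul_cancel_left_mem_nonZeroDivisors hf).1 h
  obtain ⟨a, ha, b, hb, c, hc, hab⟩ : ∃ a ∈ I, ∃ b ∈ J, ∃ c, c ∉ p ∧ a * b = f * c := by
    by_contra hcon
    push Not at hcon
    have hle : I * J ≤ Ideal.span {f} * p := by
      rw [Ideal.mul_le]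
      intro a ha b hb
      have : a * b ∈ Ideal.span {f} := hIJ ▸ Ideal.mul_mem_mul ha hb
      obtain ⟨c, hc⟩ := Ideal.mem_span_singleton'.1 this
      have hcp : c ∈ p := by
        by_contra hcp
        exact hcon a ha b hb c hcp (by rw [← hc, mul_comm])
      rw [← hc, mul_comm c f]
      exact Ideal.mul_mem_mul (Ideal.mem_span_singleton_self f) hcp
    have hfm : f ∈ Ideal.span {f} * p := hle (hIJ ▸ Ideal.mem_span_singleton_self f)
    obtain ⟨z, hz, hfz⟩ := Ideal.mem_span_singleton_mul.1 hfm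
    have : z = 1 := hcancel z 1 (by rw [hfz, mul_one])
    rw [this] at hz
    exact (Ideal.IsPrime.ne_top inferInstance) ((Ideal.eq_top_iff_one p).2 hz)
  refine ⟨c, hc, a, ha, ?_, ?_⟩
  · intro a' ha'
    have : a' * b ∈ Ideal.span {f} := hIJ ▸ Ideal.mul_mem_mul ha' hb
    obtain ⟨d, hd⟩ := Ideal.mem_span_singleton'.1 this
    rw [Ideal.mem_span_singleton']
    refine ⟨d, ?_⟩
    apply hcancel
    calc f * (d * a) = a * (d * f) := by ring
      _ = a * (a' * b) := by rw [hd]
      _ = (a * b) * a' := by ring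
      _ = f * (c * a') := by rw [hab]; ring
  · intro r hr
    apply hcancel
    calc f * (c * r) = r * (f * c) := by ring
      _ = r * (a * b) := by rw [hab]
      _ = (r * a) * b := by ring
      _ = f * 0 := by rw [hr]; ring

end Groth.Agent.H51

namespace Groth.Agent.H51
open AlgSp
variable {S : Scheme.{u}}

/-- If the closed subspace cut out by a product `I J` of quasi-coherent ideals is an effective
Cartier divisor then so is the closed subspace cut out by `I`. -/
theorem isEffCartierSub_of_cutOut_mul_left {X Z D : Sp S} (hX : IsAlgSpace X) (iZ : Z ⟶ X)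
    (iD : D ⟶ X) (I J : IdealEt X) (hI : I.IsQCoh) (hZ : IsCutOutBy I iZ)
    (hD : IsCutOutBy (I * J) iD) (hDc : IsEffCartierSub iD) : IsEffCartierSub iZ := by
  obtain ⟨hiZ, hIZ⟩ := hZ
  obtain ⟨hiD, hID⟩ := hD
  refine isEffCartierSub_of_forall_chart hX iZ hiZ ?_
  intro U φ hφ _ I₀ fst₀ sq₀ u
  -- the ideal of `D` on the chart
  have sqD := hiD.rep.isPullback φ
  haveI : IsClosedImmersion (hiD.rep.snd φ).left := hiD.property φ _ _ sqD
  obtain ⟨fD, sqKD⟩ := exists_isPullback_ker iD φ (hiD.rep.snd φ) _ sqD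
  have hKD := isEffCartierIdeal_of_isEffCartierSub iD hDc U φ hφ _ fD sqKD
  obtain ⟨U', huU', t, ht, hKt⟩ := hKD u
  obtain ⟨t', ht', hKt'⟩ := Groth.Agent.H50.comap_ι_ideal_top_of_span _ U' t ht hKt
  -- the affine chart `E` on `U'`
  have ha : RepWith @Etale ((yon S).map (Groth.Agent.H50.opensOvι U U'.1) ≫ φ) :=
    Groth.Agent.H53.repWith_etale_map_comp (Groth.Agent.H50.opensOvι U U'.1)
      (inferInstance : Etale U'.1.ι) φ hφ
  let E : EtOver X := EtOver.mk ((yon S).map (Groth.Agent.H50.opensOvι U U'.1) ≫ φ) ha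
  haveI hE : IsAffine E.obj.left.left := U'.2
  obtain ⟨gD, sqgD⟩ := exists_isPullback_comap iD φ _ fD sqKD (Groth.Agent.H50.opensOvι U U'.1)
  have hED : (idealOfRep hiD.1).ideal E hE = Ideal.span {t'} :=
    (idealOfRep_ideal_eq_of_isPullback iD hiD E hE _ gD sqgD).trans hKt'
  have hmul : I.ideal E hE * J.ideal E hE = Ideal.span {t'} := by
    rw [← hED, hID]
    rfl
  -- algebra
  let u' : E.obj.left.left := ⟨u, huU'⟩
  obtain ⟨c, hc, a₀, ha₀, h1, h2⟩ := exists_spread_of_mul_eq_span _ _ t' ht' hmul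
    (primeAtPt E.obj.left.left u')
  -- the basic open chart
  let W : E.obj.left.left.Opens := E.obj.left.left.basicOpen c
  have hW : IsAffineOpen W := (isAffineOpen_top _).basicOpen c
  let E' : EtOver X := EtOver.ofOpen E W
  let g : E' ⟶ E := EtOver.ofOpenι E W
  haveI hE' : IsAffine E'.obj.left.left := hW
  haveI hloc := AlgebraicGeometry.Γ_restrict_isLocalization E.obj.left.left c
  obtain ⟨hnzd, hmap⟩ := Groth.Agent.H68.CD.principal_of_spread (I.ideal E hE) c a₀ ha₀ h1 h2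
    Γ(E.obj.left.left.basicOpen c, ⊤)
  have hIE' : I.ideal E' hE' = Ideal.span {W.ι.appTop.hom a₀} := by
    have h3 : I.ideal E' hE' = (I.ideal E hE).map W.ι.appTop.hom :=
      le_antisymm (hI g hE hE') (I.map_le g hE hE')
    rw [h3]
    exact hmap
  -- identify with `I₀`
  let hl : E'.obj.left.left ⟶ U.left := W.ι ≫ U'.1.ι
  let h : E'.obj.left ⟶ U := Over.homMk hl (by
    change (W.ι ≫ U'.1.ι) ≫ U.hom = W.ι ≫ U'.1.ι ≫ U.hom
    rw [Category.assoc])
  obtain ⟨gZ, sqgZ⟩ := exists_isPullback_comap iZ φ I₀ fst₀ sq₀ h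
  have hhom : (yon S).map h ≫ φ = E'.obj.hom := by
    change _ = (yon S).map (Over.homMk (U := Over.mk (W.ι ≫ E.obj.left.hom)) (V := E.obj.left) W.ι rfl) ≫
      (yon S).map (Groth.Agent.H50.opensOvι U U'.1) ≫ φ
    rw [← Category.assoc, ← Functor.map_comp]
    rfl
  rw [hhom] at sqgZ
  have hIE'' : (idealOfRep hiZ.1).ideal E' hE' = (I₀.comap hl).ideal ⟨⊤, isAffineOpen_top _⟩ :=
    idealOfRep_ideal_eq_of_isPullback iZ hiZ E' hE' _ gZ sqgZ
  have hfin : (I₀.comap hl).ideal ⟨⊤, isAffineOpen_top _⟩ = Ideal.span {W.ι.appTop.hom a₀} := by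
    rw [← hIE'', hIZ, hIE']
  obtain ⟨hs', hJ'⟩ := Groth.Agent.H50.ideal_image_of_comap_span hl I₀ ⟨⊤, isAffineOpen_top _⟩ _
    hnzd hfin
  refine ⟨⟨hl ''ᵁ ⊤, (isAffineOpen_top _).image_of_isOpenImmersion hl⟩, ?_, _, hs', hJ'⟩
  have hcu : u' ∈ W := by
    by_contra hcu
    exact hc ((mem_primeAtPt_iff _ u' c).2 hcu)
  exact ⟨⟨u', hcu⟩, trivial, rfl⟩

end Groth.Agent.H51
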