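import Mathlib
import Groth.Agent.H11.ReflS2
import Groth.Agent.H49.SyntSk

/-!
# Normal locally Noetherian schemes are `(S_2)` in the stalkwise `min`-form (helper51)
-/

set_option autoImplicit false
set_option linter.style.haveILetI false
universe u
open CategoryTheory CategoryTheory.Limits AlgebraicGeometry IsLocalRing

namespace Groth.Agent.H51

/-- closed-point form of `(S_2)` for a normal Noetherian local domain. -/
theorem min_two_le_depth_of_normal (A : Type u) [CommRing A] [IsLocalRing A] [IsNoetherianRing A]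
    [IsDomain A] [IsIntegrallyClosed A] :
    min ((2 : ℕ) : WithBot ℕ∞) (ringKrullDim A) ≤
      ((LocCoh.depth A A : ℕ∞) : WithBot ℕ∞) := by
  have h := Groth.Agent.H49.SyntSk.skClosed_of_hasSk 2 A
    (Groth.Agent.H11.ReflS2.hasSk_two_self (R := A))
  have h1 : min ((2 : ℕ) : ℕ∞) (maximalIdeal A).height ≤
      LocCoh.idealDepth (maximalIdeal A) A := h
  rw [← IsLocalRing.maximalIdeal_height_eq_ringKrullDim]
  unfold LocCoh.depth
  have h2 : ((min ((2 : ℕ) : ℕ∞) (maximalIdeal A).height : ℕ∞) : WithBot ℕ∞) ≤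
      ((LocCoh.idealDepth (maximalIdeal A) A : ℕ∞) : WithBot ℕ∞) := by
    exact_mod_cast h1
  refine le_trans (le_of_eq ?_) h2
  rw [WithBot.coe_min]
  rfl

theorem min_two_le_depth_stalk_of_normal (U : Scheme.{u}) [IsLocallyNoetherian U]
    (hn : ∀ x : U, IsDomain (U.presheaf.stalk x) ∧ IsIntegrallyClosed (U.presheaf.stalk x)) (x : U) :
    min ((2 : ℕ) : WithBot ℕ∞) (ringKrullDim (U.presheaf.stalk x)) ≤
      ((LocCoh.depth (U.presheaf.stalk x) (U.presheaf.stalk x) : ℕ∞) : WithBot ℕ∞) := by
  haveI := (hn x).1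
  haveI := (hn x).2
  exact min_two_le_depth_of_normal _

end Groth.Agent.H51
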