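import Groth.Agent.H51.CartierDescentPt
import Groth.Agent.H51.SpCartierChart
import Groth.Agent.H51.SpBasic

set_option autoImplicit false
set_option backward.isDefEq.respectTransparency false
universe u
open CategoryTheory CategoryTheory.Limits AlgebraicGeometry Opposite Topology

namespace Groth.Agent.H51
open AlgSp
variable {S : Scheme.{u}}

open Scheme.IdealSheafData in
/-- Away from its support an ideal sheaf is generated by `1`. -/
theorem exists_generator_of_notMem_support {V : Scheme.{u}} (I : V.IdealSheafData) (v : V)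
    (hv : v ∉ I.support) :
    ∃ V' : V.affineOpens, v ∈ V'.1 ∧
      ∃ f : Γ(V, V'.1), f ∈ nonZeroDivisors Γ(V, V'.1) ∧ I.ideal V' = Ideal.span {f} := by
  let O : V.Opens := ⟨(I.support : Set V)ᶜ, I.support.isClosed.isOpen_compl⟩
  obtain ⟨V', hV', hvV', hV'O⟩ := exists_isAffineOpen_mem_and_subset (x := v) (U := O) hv
  haveI : IsAffine V'.toScheme := hV'
  have htop : I.comap V'.ι = ⊤ := by
    rw [← support_eq_bot_iff]
    ext y
    rw [support_comap]
    constructor
    · intro hy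
      exact (hV'O y.2 hy).elim
    · intro hy
      exact hy.elim
  have hideal : (I.comap V'.ι).ideal ⟨⊤, isAffineOpen_top _⟩ = Ideal.span {1} := by
    rw [htop, Ideal.span_singleton_one]
    rfl
  obtain ⟨h1, h2⟩ := Groth.Agent.H50.ideal_image_of_comap_span V'.ι I ⟨⊤, isAffineOpen_top _⟩ 1
    (one_mem _) hideal
  exact ⟨⟨V'.ι ''ᵁ ⊤, (isAffineOpen_top _).image_of_isOpenImmersion V'.ι⟩,
    ⟨⟨v, hvV'⟩, trivial, rfl⟩, _, h1, h2⟩

/-- An effective Cartier divisor has pointed affine charts with a global equation. -/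
theorem exists_pointed_chart_of_isEffCartierSub {X D : Sp S} (i : D ⟶ X) (hD : IsEffCartierSub i)
    (x : Points D) :
    ∃ (U : Over S) (_ : IsAffine U.left) (a : (yon S).obj U ⟶ X) (u : ↥U.left)
      (f : Γ(U.left, ⊤)) (I : U.left.IdealSheafData)
      (fst : (yon S).obj (Over.mk (I.subschemeι ≫ U.hom)) ⟶ D),
      RepWith @Etale a ∧ Points.ofPt a u = Points.map i x ∧
        f ∈ nonZeroDivisors Γ(U.left, ⊤) ∧
        I.ideal ⟨⊤, isAffineOpen_top U.left⟩ = Ideal.span {f} ∧
        IsPullback fst ((yon S).map (Over.homMk I.subschemeι rfl :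
          Over.mk (I.subschemeι ≫ U.hom) ⟶ U)) i a := by
  obtain ⟨hi, V, ψ, IV, fstV, hψ1, hψ2, sqV, hIV⟩ := hD
  obtain ⟨v, hv⟩ := surjective_ofPt_of_surjective ψ hψ2 (Points.map i x)
  obtain ⟨V', hvV', t, ht, hIV'⟩ := hIV v
  obtain ⟨t₁, ht₁, hD₁⟩ := Groth.Agent.H50.comap_ι_ideal_top_of_span IV V' t ht hIV'
  obtain ⟨fst, sq⟩ := exists_isPullback_comap i ψ IV fstV sqV (Groth.Agent.H50.opensOvι V V'.1)
  refine ⟨Groth.Agent.H50.opensOv V V'.1, V'.2,
    (yon S).map (Groth.Agent.H50.opensOvι V V'.1) ≫ ψ, ⟨v, hvV'⟩, t₁, IV.comap V'.1.ι, fst,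
    ?_, ?_, ht₁, hD₁, sq⟩
  · exact Groth.Agent.H53.repWith_etale_map_comp (Groth.Agent.H50.opensOvι V V'.1)
      (inferInstance : Etale V'.1.ι) ψ hψ1
  · rw [Groth.Agent.H53.ofPt_yon_map_comp]
    exact hv

/-- A closed subspace with pointed affine charts with a global equation at all of its points is
an effective Cartier divisor. -/
theorem isEffCartierSub_of_pointed_charts {X D : Sp S} (hX : IsAlgSpace X) (i : D ⟶ X)
    (hi : RepWith @IsClosedImmersion i)
    (H : ∀ x : Points D,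
      ∃ (U : Over S) (_ : IsAffine U.left) (a : (yon S).obj U ⟶ X) (u : ↥U.left)
        (f : Γ(U.left, ⊤)) (I : U.left.IdealSheafData)
        (fst : (yon S).obj (Over.mk (I.subschemeι ≫ U.hom)) ⟶ D),
        RepWith @Etale a ∧ Points.ofPt a u = Points.map i x ∧
          f ∈ nonZeroDivisors Γ(U.left, ⊤) ∧
          I.ideal ⟨⊤, isAffineOpen_top U.left⟩ = Ideal.span {f} ∧
          IsPullback fst ((yon S).map (Over.homMk I.subschemeι rfl :
            Over.mk (I.subschemeι ≫ U.hom) ⟶ U)) i a) :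
    IsEffCartierSub i := by
  refine isEffCartierSub_of_forall_chart hX i hi ?_
  intro U₀ φ hφ _ I₀ fst₀ sq₀ v
  by_cases hv : v ∈ I₀.support
  · have hv' : v ∈ Set.range I₀.subschemeι := by
      rw [Scheme.IdealSheafData.range_subschemeι]; exact hv
    obtain ⟨z, hz⟩ := hv'
    obtain ⟨U, hU, a, u, f, I, fst, ha, hau, hf, hIf, sq⟩ := H (Points.ofPt fst₀ z)
    have hxv : Points.map i (Points.ofPt fst₀ z) = Points.ofPt φ v := by
      rw [Points.map_ofPt, sq₀.w, Groth.Agent.H53.ofPt_yon_map_comp]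
      congr 1
    let W : Over S := ha.rep.pullback φ
    let q : W ⟶ U₀ := ha.rep.snd φ
    obtain ⟨p, hp⟩ := (yon S).map_surjective (ha.rep.fst φ)
    have sqW : IsPullback ((yon S).map p) ((yon S).map q) a φ := by
      rw [hp]; exact ha.rep.isPullback φ
    haveI hq1 : Etale q.left := ha.property φ _ q sqW
    haveI hp1 : Etale p.left := hφ.property a _ p sqW.flip
    obtain ⟨w, hw1, hw2⟩ := exists_of_ofPt_eq sqW u v (hau.trans hxv)
    have hI : BlowUp.IsEffCartierIdeal I :=
      fun _ => ⟨⟨⊤, isAffineOpen_top _⟩, trivial, f, hf, hIf⟩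
    obtain ⟨f₁, sq₁⟩ := exists_isPullback_comap i a I fst sq p
    obtain ⟨f₂, sq₂⟩ := exists_isPullback_comap i φ I₀ fst₀ sq₀ q
    rw [sqW.w] at sq₁
    have heq : I.comap p.left = I₀.comap q.left :=
      idealSheafData_eq_of_isPullback i _ _ _ f₁ f₂ sq₁ sq₂
    have h1 : BlowUp.IsEffCartierIdeal (I₀.comap q.left) := by
      rw [← heq]
      exact Groth.Agent.S10855.result p.left I hI
    obtain ⟨U', hU', g, hg, hIg⟩ :=
      exists_generator_of_comap_of_flat q.left q.left.isOpenMap I₀ h1 w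
    rw [hw2] at hU'
    exact ⟨U', hU', g, hg, hIg⟩
  · exact exists_generator_of_notMem_support I₀ v hv

end Groth.Agent.H51
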