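import Groth.Agent.H51.SpCartierSum
import Groth.Agent.S1685

set_option autoImplicit false
set_option backward.isDefEq.respectTransparency false
universe u
open CategoryTheory CategoryTheory.Limits AlgebraicGeometry Opposite Topology

namespace Groth.Agent.H51
open AlgSp
variable {S : Scheme.{u}}

/-- Transfer of an etale-local property of the ambient space to an effective Cartier divisor,
through a scheme-level statement about effective Cartier ideals. -/
theorem etaleLocally_of_isEffCartierSub {X D : Sp S} (i : D ⟶ X) (hD : IsEffCartierSub i)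
    (P Q : Scheme.{u} → Prop)
    (hPQ : ∀ (U : Scheme.{u}) (K : U.IdealSheafData), P U → BlowUp.IsEffCartierIdeal K →
      Q K.subscheme)
    (hX : EtaleLocally P X) : EtaleLocally Q D := by
  obtain ⟨U, p, hp1, hp2, hP⟩ := hX
  have hi := hD.1
  have sqZ := hi.rep.isPullback p
  haveI : IsClosedImmersion (hi.rep.snd p).left := hi.property p _ _ sqZ
  obtain ⟨f₁, sq₁⟩ := exists_isPullback_ker i p (hi.rep.snd p) _ sqZ
  have hK := isEffCartierIdeal_of_isEffCartierSub i hD U p hp1 _ f₁ sq₁
  exact ⟨_, f₁, MorphismProperty.of_isPullback sq₁.flip hp1,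
    MorphismProperty.of_isPullback sq₁.flip hp2, hPQ U.left _ hP hK⟩

end Groth.Agent.H51
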