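import Groth.Agent.H51.SpCartierPointed

set_option autoImplicit false
set_option backward.isDefEq.respectTransparency false
universe u
open CategoryTheory CategoryTheory.Limits AlgebraicGeometry Opposite Topology

namespace Groth.Agent.H51
open AlgSp
variable {S : Scheme.{u}}

/-- The kernel ideal sheaf of a closed immersion representing a pullback again represents it. -/
theorem exists_isPullback_ker {X D : Sp S} (i : D ⟶ X) {V Z : Over S} (ψ : (yon S).obj V ⟶ X)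
    (ι : Z ⟶ V) (fstZ : (yon S).obj Z ⟶ D) (sqZ : IsPullback fstZ ((yon S).map ι) i ψ)
    [IsClosedImmersion ι.left] :
    ∃ fst : (yon S).obj (Over.mk (ι.left.ker.subschemeι ≫ V.hom)) ⟶ D,
      IsPullback fst ((yon S).map (Over.homMk ι.left.ker.subschemeι rfl :
        Over.mk (ι.left.ker.subschemeι ≫ V.hom) ⟶ V)) i ψ := by
  haveI : IsIso ι.left.toImage := inferInstance
  let e : Over.mk (ι.left.ker.subschemeι ≫ V.hom) ⟶ Z :=
    Over.homMk (inv ι.left.toImage) (by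
      change inv ι.left.toImage ≫ Z.hom = ι.left.ker.subschemeι ≫ V.hom
      rw [IsIso.inv_comp_eq, ← Category.assoc, Scheme.Hom.toImage_imageι, Over.w ι])
  have he : e ≫ ι = (Over.homMk ι.left.ker.subschemeι rfl :
      Over.mk (ι.left.ker.subschemeι ≫ V.hom) ⟶ V) := by
    ext
    change inv ι.left.toImage ≫ ι.left = ι.left.ker.subschemeι
    rw [IsIso.inv_comp_eq, Scheme.Hom.toImage_imageι]
  haveI : IsIso e := by
    have : IsIso ((CategoryTheory.Over.forget S).map e) := by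
      change IsIso (inv ι.left.toImage)
      infer_instance
    exact isIso_of_reflects_iso e (CategoryTheory.Over.forget S)
  have hiso : IsPullback ((yon S).map e)
      ((yon S).map (Over.homMk ι.left.ker.subschemeι rfl :
        Over.mk (ι.left.ker.subschemeι ≫ V.hom) ⟶ V))
      ((yon S).map ι) (𝟙 _) := by
    refine IsPullback.of_horiz_isIso ⟨?_⟩
    rw [Category.comp_id, ← Functor.map_comp, he]
  have := IsPullback.paste_horiz hiso sqZ
  rw [Category.id_comp] at this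
  exact ⟨_, this⟩

/-- The value of the ideal sheaf of a closed subspace on an affine object of the site is the
ideal of global sections of any ideal sheaf on the chart cutting out the inverse image. -/
theorem idealOfRep_ideal_eq_of_isPullback {X D : Sp S} (i : D ⟶ X)
    (hi : RepWith @IsClosedImmersion i) (E : EtOver X) (hE : IsAffine E.obj.left.left)
    (K : E.obj.left.left.IdealSheafData)
    (fst : (yon S).obj (Over.mk (K.subschemeι ≫ E.obj.left.hom)) ⟶ D)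
    (sq : IsPullback fst ((yon S).map (Over.homMk K.subschemeι rfl :
      Over.mk (K.subschemeι ≫ E.obj.left.hom) ⟶ E.obj.left)) i E.obj.hom) :
    (idealOfRep hi.1).ideal E hE = K.ideal ⟨⊤, isAffineOpen_top _⟩ := by
  have sqZ := EtOver.isPullback_bcObj hi.1 E
  haveI hι : IsClosedImmersion (EtOver.bcπ hi.1 E).left := hi.property E.obj.hom _ _ sqZ
  obtain ⟨fst', sq'⟩ := exists_isPullback_ker i E.obj.hom (EtOver.bcπ hi.1 E) _ sqZ
  have heq : (EtOver.bcπ hi.1 E).left.ker = K :=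
    idealSheafData_eq_of_isPullback i _ _ _ fst' fst sq' sq
  rw [← heq, Scheme.Hom.ker_apply]
  rfl

open Scheme.IdealSheafData in
/-- Flat pullback between affine schemes of an ideal with a global nonzerodivisor generator. -/
theorem comap_ideal_top_of_flat_of_span {T' T : Scheme.{u}} [IsAffine T'] [IsAffine T]
    (f : T' ⟶ T) [Flat f] (K : T.IdealSheafData) (t : Γ(T, ⊤)) (ht : t ∈ nonZeroDivisors Γ(T, ⊤))
    (hK : K.ideal ⟨⊤, isAffineOpen_top _⟩ = Ideal.span {t}) :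
    f.appTop.hom t ∈ nonZeroDivisors Γ(T', ⊤) ∧
      (K.comap f).ideal ⟨⊤, isAffineOpen_top _⟩ = Ideal.span {f.appTop.hom t} := by
  constructor
  · have hflat : f.appTop.hom.Flat := HasRingHomProperty.appTop (P := @Flat) f inferInstance
    algebraize [f.appTop.hom]
    have hreg := Module.Flat.isSMulRegular_of_nonZeroDivisors (M := Γ(T', ⊤)) ht
    rw [mem_nonZeroDivisors_iff_right]
    intro z hz
    apply hreg
    simp only [smul_zero]
    rw [Algebra.smul_def, mul_comm]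
    exact hz
  · rw [Groth.Agent.H54.comap_ideal_top_of_isAffine f K, hK, Ideal.map_span, Set.image_singleton]

open Scheme.IdealSheafData in
/-- Two effective Cartier ideals have global generators on a common affine open neighbourhood
of a given point. -/
theorem exists_common_generators {V : Scheme.{u}} (K₁ K₂ : V.IdealSheafData)
    (h₁ : BlowUp.IsEffCartierIdeal K₁) (h₂ : BlowUp.IsEffCartierIdeal K₂) (v : V) :
    ∃ (O : V.affineOpens) (_ : v ∈ O.1) (s₁ s₂ : Γ(O.1.toScheme, ⊤)),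
      s₁ ∈ nonZeroDivisors Γ(O.1.toScheme, ⊤) ∧ s₂ ∈ nonZeroDivisors Γ(O.1.toScheme, ⊤) ∧
      (K₁.comap O.1.ι).ideal ⟨⊤, isAffineOpen_top _⟩ = Ideal.span {s₁} ∧
      (K₂.comap O.1.ι).ideal ⟨⊤, isAffineOpen_top _⟩ = Ideal.span {s₂} := by
  obtain ⟨V₁, hvV₁, t₁, ht₁, hI₁⟩ := h₁ v
  obtain ⟨V₂, hvV₂, hV₂V₁, t₂, ht₂, hI₂⟩ :=
    Groth.Agent.H50.exists_small_generator K₂ h₂ v V₁.1 hvV₁
  obtain ⟨t₁', ht₁', hD₁⟩ := Groth.Agent.H50.comap_ι_ideal_top_of_span K₁ V₁ t₁ ht₁ hI₁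
  obtain ⟨t₂', ht₂', hD₂⟩ := Groth.Agent.H50.comap_ι_ideal_top_of_span K₂ V₂ t₂ ht₂ hI₂
  haveI : IsAffine V₁.1.toScheme := V₁.2
  haveI : IsAffine V₂.1.toScheme := V₂.2
  have hcomap : (K₁.comap V₁.1.ι).comap (V.homOfLE hV₂V₁) = K₁.comap V₂.1.ι := by
    rw [← comap_comp, Scheme.homOfLE_ι]
  obtain ⟨hn, hid⟩ := comap_ideal_top_of_flat_of_span (V.homOfLE hV₂V₁) (K₁.comap V₁.1.ι) t₁' ht₁' hD₁
  rw [hcomap] at hid
  exact ⟨V₂, hvV₂, _, t₂', hn, ht₂', hid, hD₂⟩

end Groth.Agent.H51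

namespace Groth.Agent.H51
open AlgSp
variable {S : Scheme.{u}}

/-- The sum of two effective Cartier divisors on an algebraic space is an effective Cartier
divisor. -/
theorem isEffCartierSub_of_cutOut_mul {X D₁ D₂ D : Sp S} (hX : IsAlgSpace X) (i₁ : D₁ ⟶ X)
    (i₂ : D₂ ⟶ X) (i : D ⟶ X) (I₁ I₂ : IdealEt X) (h₁ : IsCutOutBy I₁ i₁) (h₂ : IsCutOutBy I₂ i₂)
    (hD : IsCutOutBy (I₁ * I₂) i) (e₁ : IsEffCartierSub i₁) (e₂ : IsEffCartierSub i₂) :
    IsEffCartierSub i := by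
  obtain ⟨hi₁, hI₁⟩ := h₁
  obtain ⟨hi₂, hI₂⟩ := h₂
  obtain ⟨hi, hI⟩ := hD
  refine isEffCartierSub_of_pointed_charts hX i hi ?_
  intro x
  obtain ⟨V, ψ, hψ1, hψ2⟩ := hX.atlas
  obtain ⟨v, hv⟩ := surjective_ofPt_of_surjective ψ hψ2 (Points.map i x)
  -- the ideals of `D₁`, `D₂` on the atlas
  have sqZ₁ := hi₁.rep.isPullback ψ
  haveI : IsClosedImmersion (hi₁.rep.snd ψ).left := hi₁.property ψ _ _ sqZ₁
  obtain ⟨f₁, sq₁⟩ := exists_isPullback_ker i₁ ψ (hi₁.rep.snd ψ) _ sqZ₁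
  have hK₁ := isEffCartierIdeal_of_isEffCartierSub i₁ e₁ V ψ hψ1 _ f₁ sq₁
  have sqZ₂ := hi₂.rep.isPullback ψ
  haveI : IsClosedImmersion (hi₂.rep.snd ψ).left := hi₂.property ψ _ _ sqZ₂
  obtain ⟨f₂, sq₂⟩ := exists_isPullback_ker i₂ ψ (hi₂.rep.snd ψ) _ sqZ₂
  have hK₂ := isEffCartierIdeal_of_isEffCartierSub i₂ e₂ V ψ hψ1 _ f₂ sq₂
  obtain ⟨O, hvO, s₁, s₂, hs₁, hs₂, hid₁, hid₂⟩ := exists_common_generators _ _ hK₁ hK₂ v
  -- the chart
  have ha : RepWith @Etale ((yon S).map (Groth.Agent.H50.opensOvι V O.1) ≫ ψ) :=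
    Groth.Agent.H53.repWith_etale_map_comp (Groth.Agent.H50.opensOvι V O.1)
      (inferInstance : Etale O.1.ι) ψ hψ1
  let E : EtOver X := EtOver.mk ((yon S).map (Groth.Agent.H50.opensOvι V O.1) ≫ ψ) ha
  haveI hE : IsAffine E.obj.left.left := O.2
  obtain ⟨g₁, sqg₁⟩ := exists_isPullback_comap i₁ ψ _ f₁ sq₁ (Groth.Agent.H50.opensOvι V O.1)
  obtain ⟨g₂, sqg₂⟩ := exists_isPullback_comap i₂ ψ _ f₂ sq₂ (Groth.Agent.H50.opensOvι V O.1)
  have hE₁ : (idealOfRep hi₁.1).ideal E hE = Ideal.span {s₁} :=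
    (idealOfRep_ideal_eq_of_isPullback i₁ hi₁ E hE _ g₁ sqg₁).trans hid₁
  have hE₂ : (idealOfRep hi₂.1).ideal E hE = Ideal.span {s₂} :=
    (idealOfRep_ideal_eq_of_isPullback i₂ hi₂ E hE _ g₂ sqg₂).trans hid₂
  have hEI : (idealOfRep hi.1).ideal E hE = Ideal.span {s₁ * s₂} := by
    rw [hI]
    change I₁.ideal E hE * I₂.ideal E hE = _
    rw [← hI₁, ← hI₂, hE₁, hE₂, Ideal.span_singleton_mul_span_singleton]
  -- the ideal sheaf of `D` on the chart
  have sqZ := EtOver.isPullback_bcObj hi.1 E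
  haveI : IsClosedImmersion (EtOver.bcπ hi.1 E).left := hi.property _ _ _ sqZ
  obtain ⟨fst, sq⟩ := exists_isPullback_ker i E.obj.hom (EtOver.bcπ hi.1 E) _ sqZ
  have hKD : ((EtOver.bcπ hi.1 E).left.ker).ideal ⟨⊤, isAffineOpen_top _⟩ =
      Ideal.span {s₁ * s₂} :=
    (idealOfRep_ideal_eq_of_isPullback i hi E hE _ fst sq).symm.trans hEI
  refine ⟨E.obj.left, hE, E.obj.hom, ⟨v, hvO⟩, s₁ * s₂, _, fst, ha, ?_, mul_mem hs₁ hs₂, hKD, sq⟩
  change Points.ofPt ((yon S).map (Groth.Agent.H50.opensOvι V O.1) ≫ ψ) _ = _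
  rw [Groth.Agent.H53.ofPt_yon_map_comp]
  exact hv

end Groth.Agent.H51
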