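import Groth.Agent.H51.CartierNzd
import Groth.Agent.H50.EffCartier

set_option autoImplicit false
set_option backward.isDefEq.respectTransparency false
universe u
open CategoryTheory CategoryTheory.Limits AlgebraicGeometry Opposite Topology

namespace Groth.Agent.H51
open AlgSp
variable {S : Scheme.{u}}

/-- The inverse image of an effective Cartier divisor under a morphism of algebraic spaces which
maps no weakly associated point into the divisor is an effective Cartier divisor. -/
theorem isEffCartierSub_of_isPullback_weakAss {X Y D P : Sp S} (hX : IsAlgSpace X)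
    (hY : IsAlgSpace Y) (f : X ⟶ Y) (i : D ⟶ Y) (hD : IsEffCartierSub i)
    (hW : ∀ x ∈ WeakAssEt (unitModEt X), Points.map f x ∉ Set.range (Points.map i))
    (fst : P ⟶ D) (snd : P ⟶ X) (sq : IsPullback fst snd i f) : IsEffCartierSub snd := by
  obtain ⟨hi, V₀, φ, I, fst₀, hφ1, hφ2, sq₀, hI⟩ := hD
  refine ⟨MorphismProperty.of_isPullback sq hi, ?_⟩
  have sqV := IsPullback.of_hasPullback f φ
  have hXV : IsAlgSpace (pullback f φ) :=
    Groth.Agent.H49.isAlgSpace_of_isPullback sqV hY.diag hX (IsAlgSpace.yon_obj V₀)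
  obtain ⟨U, c, hc1, hc2⟩ := hXV.atlas
  have hfst1 : RepWith @Etale (pullback.fst f φ) := MorphismProperty.of_isPullback sqV.flip hφ1
  have hfst2 : RepWith @Surjective (pullback.fst f φ) :=
    MorphismProperty.of_isPullback sqV.flip hφ2
  have hψ1 : RepWith @Etale (c ≫ pullback.fst f φ) := (RepWith @Etale).comp_mem _ _ hc1 hfst1
  have hψ2 : RepWith @Surjective (c ≫ pullback.fst f φ) :=
    (RepWith @Surjective).comp_mem _ _ hc2 hfst2
  obtain ⟨h, hh⟩ := (yon S).map_surjective (c ≫ pullback.snd f φ)
  have comm : (c ≫ pullback.fst f φ) ≫ f = (yon S).map h ≫ φ := by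
    rw [Category.assoc, pullback.condition, ← Category.assoc, hh]
  have hI' : BlowUp.IsEffCartierIdeal (I.comap h.left) := by
    refine isEffCartierIdeal_comap_of_weakAss h.left I hI ?_
    intro O hO s J hJ u hu hmem
    have hb : RepWith @Etale ((yon S).map (Groth.Agent.H50.opensOvι U O) ≫ c ≫ pullback.fst f φ) :=
      Groth.Agent.H53.repWith_etale_map_comp (Groth.Agent.H50.opensOvι U O)
        (inferInstance : Etale O.ι) _ hψ1
    let E : EtOver X := EtOver.mk ((yon S).map (Groth.Agent.H50.opensOvι U O) ≫ c ≫ pullback.fst f φ) hb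
    haveI hE : IsAffine E.obj.left.left := hO
    let s' : sectModEt (unitModEt X) E := (ULift.up s : ULift.{u + 1} Γ(E.obj.left.left, ⊤))
    have hann : annSect s' = J := by
      ext a
      rw [mem_annSect_unit_iff, hJ]
    have hx : Points.ofPt E.obj.hom u ∈ WeakAssEt (unitModEt X) :=
      ⟨E, hE, u, rfl, s', hann ▸ hu⟩
    apply hW _ hx
    have hmem' : (Over.Hom.left h) (O.ι u) ∈ Set.range I.subschemeι := by
      rw [Scheme.IdealSheafData.range_subschemeι]
      exact hmem
    obtain ⟨z, hz⟩ := hmem'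
    refine ⟨Points.ofPt fst₀ z, ?_⟩
    rw [Points.map_ofPt, Points.map_ofPt, sq₀.w]
    change _ = Points.ofPt (((yon S).map (Groth.Agent.H50.opensOvι U O) ≫ c ≫ pullback.fst f φ) ≫ f) u
    rw [Category.assoc, comm, ← Category.assoc, ← Functor.map_comp,
      Groth.Agent.H53.ofPt_yon_map_comp, Groth.Agent.H53.ofPt_yon_map_comp]
    congr 1
  have sqSch := Groth.Agent.H50.isPullback_subschemeι_comap h.left I
  let k : Over.mk ((I.comap h.left).subschemeι ≫ U.hom) ⟶ Over.mk (I.subschemeι ≫ V₀.hom) :=
    Over.homMk ((I.comapIso h.left).hom ≫ pullback.snd h.left I.subschemeι) (by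
      change ((I.comapIso h.left).hom ≫ pullback.snd h.left I.subschemeι) ≫ I.subschemeι ≫ V₀.hom =
        (I.comap h.left).subschemeι ≫ U.hom
      rw [← Category.assoc, sqSch.w, Category.assoc, Over.w h])
  have sqS : IsPullback k
      (Over.homMk (I.comap h.left).subschemeι rfl :
        Over.mk ((I.comap h.left).subschemeι ≫ U.hom) ⟶ U)
      (Over.homMk I.subschemeι rfl : Over.mk (I.subschemeι ≫ V₀.hom) ⟶ V₀) h := by
    refine IsPullback.of_map (CategoryTheory.Over.forget S) ?_ ?_
    · ext
      exact sqSch.w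
    · exact sqSch
  have sqS' := sqS.map (yon S)
  have outer := IsPullback.paste_horiz sqS' sq₀
  rw [← comm] at outer
  have hl : ((yon S).map k ≫ fst₀) ≫ i =
      ((yon S).map (Over.homMk (I.comap h.left).subschemeι rfl :
        Over.mk ((I.comap h.left).subschemeι ≫ U.hom) ⟶ U) ≫ c ≫ pullback.fst f φ) ≫ f := by
    rw [Category.assoc _ _ f]; exact outer.w
  refine ⟨U, c ≫ pullback.fst f φ, I.comap h.left, sq.lift _ _ hl, hψ1, hψ2, ?_, hI'⟩
  refine IsPullback.of_right ?_ (sq.lift_snd _ _ hl) sq
  rw [sq.lift_fst]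
  exact outer

end Groth.Agent.H51
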