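import Groth.Agent.H51.SpCartierSum
import Groth.Agent.H50.LocPClass

set_option autoImplicit false
set_option backward.isDefEq.respectTransparency false
universe u
open CategoryTheory CategoryTheory.Limits AlgebraicGeometry Opposite Topology

namespace Groth.Agent.H51
open AlgSp
variable {S : Scheme.{u}}

/-- A closed immersion into an affine scheme is locally of finite presentation iff the kernel on
global sections is finitely generated. -/
theorem lfp_iff_ker_fg {Z T : Scheme.{u}} [IsAffine T] (ι : Z ⟶ T) [IsClosedImmersion ι] :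
    LocallyOfFinitePresentation ι ↔ (RingHom.ker ι.appTop.hom).FG := by
  obtain ⟨hZ, hsurj⟩ := IsClosedImmersion.isAffine_surjective_of_isAffine ι
  haveI := hZ
  rw [HasRingHomProperty.iff_of_isAffine (P := @LocallyOfFinitePresentation)]
  constructor
  · intro h
    algebraize [ι.appTop.hom]
    exact Algebra.FinitePresentation.ker_fG_of_surjective (Algebra.ofId Γ(T, ⊤) Γ(Z, ⊤)) hsurj
  · exact RingHom.FinitePresentation.of_surjective _ hsurj

/-- Two objects representing the same pullback are isomorphic over the base. -/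
theorem exists_iso_of_isPullback {X D : Sp S} (i : D ⟶ X) {W Z₁ Z₂ : Over S}
    (c : (yon S).obj W ⟶ X) (ι₁ : Z₁ ⟶ W) (ι₂ : Z₂ ⟶ W) (f₁ : (yon S).obj Z₁ ⟶ D)
    (f₂ : (yon S).obj Z₂ ⟶ D) (sq₁ : IsPullback f₁ ((yon S).map ι₁) i c)
    (sq₂ : IsPullback f₂ ((yon S).map ι₂) i c) :
    ∃ e : Z₁ ≅ Z₂, e.hom ≫ ι₂ = ι₁ := by
  let e' := sq₁.isoIsPullback _ _ sq₂
  have he' : e'.hom ≫ (yon S).map ι₂ = (yon S).map ι₁ := sq₁.isoIsPullback_hom_snd _ _ sq₂
  refine ⟨(yon S).preimageIso e', ?_⟩
  apply (yon S).map_injective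
  rw [Functor.map_comp, Functor.preimageIso_hom, Functor.map_preimage]
  exact he'

end Groth.Agent.H51

namespace Groth.Agent.H51
open AlgSp
variable {S : Scheme.{u}}

/-- If the ideal of a closed subspace is of finite type on all affine etale charts, then its
inverse image in every etale chart is locally of finite presentation over the chart. -/
theorem lfp_snd_of_forall_fg {Z X : Sp S} (i : Z ⟶ X) (hi : RepWith @IsClosedImmersion i)
    (H : ∀ (E : EtOver X) (hE : IsAffine E.obj.left.left), ((idealOfRep hi.1).ideal E hE).FG)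
    {V : Over S} (b : (yon S).obj V ⟶ X) (hb : RepWith @Etale b) :
    LocallyOfFinitePresentation (hi.rep.snd b).left := by
  have sqZ := hi.rep.isPullback b
  rw [IsZariskiLocalAtTarget.iff_of_openCover (P := @LocallyOfFinitePresentation)
    V.left.affineCover]
  intro j
  let Vj : Over S := Groth.Agent.H53.overOf V (V.left.affineCover.f j)
  let vj : Vj ⟶ V := Groth.Agent.H53.overHom V (V.left.affineCover.f j)
  have hVj : IsAffine Vj.left := inferInstanceAs (IsAffine (V.left.affineCover.X j))
  have hvj : Etale vj.left := inferInstanceAs (Etale (V.left.affineCover.f j))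
  let E : EtOver X := EtOver.mk ((yon S).map vj ≫ b)
    (Groth.Agent.H53.repWith_etale_map_comp vj hvj b hb)
  have sq1 := IsPullback.of_hasPullback (hi.rep.snd b) vj
  have sq1y := (sq1.map (yon S)).paste_horiz sqZ
  have sq2 := EtOver.isPullback_bcObj hi.1 E
  obtain ⟨e, he⟩ := exists_iso_of_isPullback i ((yon S).map vj ≫ b)
    (pullback.snd (hi.rep.snd b) vj) (EtOver.bcπ hi.1 E) _ _ sq1y sq2
  haveI : IsClosedImmersion (EtOver.bcπ hi.1 E).left := hi.property _ _ _ sq2
  haveI : IsAffine E.obj.left.left := hVj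
  have h2 : LocallyOfFinitePresentation (EtOver.bcπ hi.1 E).left :=
    (lfp_iff_ker_fg _).2 (H E hVj)
  have h1 : LocallyOfFinitePresentation (pullback.snd (hi.rep.snd b) vj).left := by
    rw [← he, Over.comp_left]
    infer_instance
  have sq1' := sq1.map (CategoryTheory.Over.forget S)
  have h3 : sq1'.isoPullback.hom ≫ pullback.snd (hi.rep.snd b).left (V.left.affineCover.f j) =
      (pullback.snd (hi.rep.snd b) vj).left := sq1'.isoPullback_hom_snd
  change LocallyOfFinitePresentation (pullback.snd (hi.rep.snd b).left (V.left.affineCover.f j))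
  refine (MorphismProperty.cancel_left_of_respectsIso @LocallyOfFinitePresentation
    sq1'.isoPullback.hom _).1 ?_
  rw [h3]
  exact h1

end Groth.Agent.H51

namespace Groth.Agent.H51
open AlgSp
variable {S : Scheme.{u}}

theorem locP_lfp_of_forall_fg {Z X : Sp S} (i : Z ⟶ X) (hi : RepWith @IsClosedImmersion i)
    (H : ∀ (E : EtOver X) (hE : IsAffine E.obj.left.left), ((idealOfRep hi.1).ideal E hE).FG) :
    LocP @LocallyOfFinitePresentation i := by
  intro U V a b h ha hb hcomm
  have sq := hi.rep.isPullback b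
  have hP : LocallyOfFinitePresentation (hi.rep.snd b).left := lfp_snd_of_forall_fg i hi H b hb
  have hfst : RepWith @Etale (hi.rep.fst b) := MorphismProperty.of_isPullback sq.flip hb
  obtain ⟨k, hk1, hk2⟩ := sq.exists_lift a ((yon S).map h) hcomm
  obtain ⟨k, rfl⟩ := (yon S).map_surjective k
  have hk : Etale k.left :=
    Groth.Agent.H53.etale_left_of_repWith_etale a (hi.rep.fst b) ha hfst k hk1
  rw [← Functor.map_comp] at hk2
  have hk2' : k ≫ hi.rep.snd b = h := (yon S).map_injective hk2
  rw [← hk2', Over.comp_left]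
  infer_instance

theorem forall_fg_of_locP_lfp {Z X : Sp S} (hX : IsAlgSpace X) (i : Z ⟶ X)
    (hi : RepWith @IsClosedImmersion i) (h : LocP @LocallyOfFinitePresentation i)
    (E : EtOver X) (hE : IsAffine E.obj.left.left) : ((idealOfRep hi.1).ideal E hE).FG := by
  have hrep : RepWith @LocallyOfFinitePresentation i :=
    Groth.Agent.H50.goodClass_lfp.repWith_of_locP hX i hi.1 h
  have sq2 := EtOver.isPullback_bcObj hi.1 E
  haveI : IsClosedImmersion (EtOver.bcπ hi.1 E).left := hi.property _ _ _ sq2
  have h2 : LocallyOfFinitePresentation (EtOver.bcπ hi.1 E).left := hrep.property _ _ _ sq2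
  exact (lfp_iff_ker_fg _).1 h2

end Groth.Agent.H51
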