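import Groth.Agent.H51.GenericHit
import Groth.Agent.H50.QCImage2
import Groth.Agent.H49.FibreGeneric

set_option autoImplicit false
universe u
open CategoryTheory CategoryTheory.Limits AlgebraicGeometry Opposite MorphismProperty

namespace Groth.Agent.H51
open AlgSp
variable {S : Scheme.{u}}

/-- For a quasi-compact morphism of algebraic spaces with dense image, every codimension `0` point
of the target is the image of a codimension `0` point of the source. -/
theorem exists_codimZero_lift_of_dense {Y X' : Sp S} (g : Y ⟶ X')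
    (hg : IsQuasiCompactMor g) (hd : Dense (Set.range (Points.map g))) (x' : Points X')
    (hx' : HasAt (fun U u => ringKrullDim ↥(U.presheaf.stalk u) = 0) X' x') :
    ∃ y : Points Y, HasAt (fun U u => ringKrullDim ↥(U.presheaf.stalk u) = 0) Y y ∧
      Points.map g y = x' := by
  obtain ⟨U, p, u, hp, hpu, hdim⟩ := hx'
  obtain ⟨D, hD, huD⟩ : ∃ D : U.left.Opens, IsAffineOpen D ∧ u ∈ D := by
    obtain ⟨_, ⟨D, hD, rfl⟩, huD, -⟩ := U.left.isBasis_affineOpens.exists_subset_of_mem_open
      (Set.mem_univ u) isOpen_univ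
    exact ⟨D, hD, huD⟩
  haveI : IsAffine (Groth.Agent.H50.opensOv U D).left := hD
  set b : (yon S).obj (Groth.Agent.H50.opensOv U D) ⟶ X' :=
    (yon S).map (Groth.Agent.H50.opensOvι U D) ≫ p with hb_def
  have hb : RepWith @Etale b :=
    Groth.Agent.H53.repWith_etale_map_comp (Groth.Agent.H50.opensOvι U D)
      (inferInstance : Etale D.ι) p hp
  obtain ⟨AD⟩ := Groth.Agent.H50.QCAtlas.exists_of_isQuasiCompactMor hg b
  let u' : ↥(Groth.Agent.H50.opensOv U D).left := ⟨u, huD⟩
  have hu' : Points.ofPt b u' = x' := by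
    rw [hb_def, Groth.Agent.H53.ofPt_yon_map_comp]
    exact hpu
  -- the local ring of `D` at `u'` has dimension zero
  have hdim0 := (Groth.Agent.H52.CZ.stalk_dim_zero_iff u).1 hdim
  have hdim' : ringKrullDim ((Groth.Agent.H50.opensOv U D).left.presheaf.stalk u') = 0 := by
    rw [Groth.Agent.H52.CZ.stalk_dim_zero_iff]
    intro z hz
    have h1 : D.ι z ⤳ D.ι u' := hz.map D.ι.continuous
    have h2 : D.ι z = u := hdim0 _ h1
    exact Subtype.ext h2
  have sq : IsPullback (pullback.fst g b) (pullback.snd g b) g b := IsPullback.of_hasPullback g b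
  -- `u'` is in the closure of the image of the atlas
  have hcl : u' ∈ closure (Set.range AD.g.left) := by
    rw [mem_closure_iff]
    intro O hO huO
    have hO' : IsOpen (Points.ofPt b '' O) := isOpenMap_ofPt_of_etale b hb O hO
    obtain ⟨_, ⟨d, hdO, rfl⟩, ⟨ξ, hξ⟩⟩ := hd.inter_open_nonempty _ hO' ⟨_, u', huO, rfl⟩
    rw [Points.ofPt_eq_map_ofScheme] at hξ
    obtain ⟨π, -, hπ2⟩ := Groth.Agent.H50.points_exists_of_isPullback sq ξ
      (Points.ofScheme _ d) hξ
    obtain ⟨υ, hυ⟩ := surjective_ofPt_of_surjective AD.u AD.surj π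
    refine ⟨AD.g.left υ, ?_, ⟨υ, rfl⟩⟩
    have e1 : Points.map (pullback.snd g b) (Points.ofPt AD.u υ) =
        Points.ofScheme _ (AD.g.left υ) := by
      rw [Points.map_ofPt, AD.u_snd, Points.ofPt_eq_map_ofScheme]
      exact Points.map_yon_map_apply AD.g υ
    rw [hυ, hπ2] at e1
    have e2 : d = AD.g.left υ := (Points.schemeEquiv _).injective e1
    rw [← e2]
    exact hdO
  haveI := AD.qc
  obtain ⟨υ, hυ⟩ := mem_range_of_mem_closure_of_dim_zero AD.g.left u' hdim' hcl
  obtain ⟨v', hv's, hv'd⟩ :=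
    Groth.Agent.H49.FibreGeneric.exists_specializes_ringKrullDim_stalk_eq_zero AD.U.left υ
  have hgv' : AD.g.left v' = u' := by
    have h1 : AD.g.left v' ⤳ AD.g.left υ := hv's.map AD.g.left.continuous
    rw [hυ] at h1
    exact (Groth.Agent.H52.CZ.stalk_dim_zero_iff u').1 hdim' _ h1
  -- the chart of `Y`
  have ha : RepWith @Etale AD.a := by
    rw [← AD.u_fst]
    refine (RepWith @Etale).comp_mem _ _ AD.etale ?_
    exact MorphismProperty.of_isPullback (P := RepWith @Etale) sq.flip hb
  refine ⟨Points.ofPt AD.a v', ⟨AD.U, AD.a, v', ha, rfl, hv'd⟩, ?_⟩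
  rw [Points.map_ofPt, AD.comm, Groth.Agent.H53.ofPt_yon_map_comp, hgv']
  exact hu'

end Groth.Agent.H51
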