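import Groth.Agent.H49.AlgSpCoprod2
import Groth.Agent.H51.SpBasic

set_option autoImplicit false
universe u
open CategoryTheory CategoryTheory.Limits AlgebraicGeometry Opposite MorphismProperty

namespace Groth.Agent.H51

open AlgSp Groth.Agent.H50 Groth.Agent.H49

variable {S : Scheme.{u}} {ι : Type u}

/-- An atlas of a coproduct of sheaves from charts of the summands (extracted from
`H49.isAlgSpace_coprod`). -/
theorem exists_atlas_coprod {F : ι → Sp S} {c : Cofan F} (hc : IsColimit c)
    (U : ι → Over S) (pi : ∀ i, (yon S).obj (U i) ⟶ F i) (hpE : ∀ i, RepWith @Etale (pi i))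
    (hpS : ∀ i, RepWith @Surjective (pi i)) :
    ∃ (dU : Cofan U) (_ : IsColimit dU) (p : (yon S).obj dU.pt ⟶ c.pt),
      (∀ i, (yon S).map (dU.inj i) ≫ p = pi i ≫ c.inj i) ∧
      RepWith @Etale p ∧ RepWith @Surjective p := by
  let dU : Cofan U := colimit.cocone (Discrete.functor U)
  have hdU : IsColimit dU := colimit.isColimit _
  obtain ⟨hY⟩ := nonempty_isColimit_yon_mapCocone hdU
  let s : Cocone (Discrete.functor U ⋙ yon S) :=
    { pt := c.pt
      ι := Discrete.natTrans (fun i => pi i.as ≫ c.inj i.as) }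
  let p : (yon S).obj dU.pt ⟶ c.pt := hY.desc s
  have hp : ∀ i, (yon S).map (dU.inj i) ≫ p = pi i ≫ c.inj i := fun i => hY.fac s ⟨i⟩
  have sqU := isPullback_inj_desc hc hdU pi p hp
  refine ⟨dU, hdU, p, hp, ?_, ?_⟩
  · apply MorphismProperty.relative.of_exists
    intro T' b
    obtain ⟨V, fst, snd, sq, P, B, inj, jB, bi, p1, p2, sqP, hsnd, hoi, hcov, hjB, hcovB⟩ :=
      exists_rep_of_decomp hc p b U dU.inj pi sqU (fun i => (hpE i).rep)
    refine ⟨V, (yon S).map fst, snd, sq, ?_⟩
    change Etale snd.left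
    let 𝒰 : V.left.OpenCover :=
      { I₀ := ι
        X := fun i => (P i).left
        f := fun i => (inj i).left
        mem₀ := by
          rw [Scheme.presieve₀_mem_precoverage_iff]
          exact ⟨fun v => hcov v, hoi⟩ }
    rw [IsZariskiLocalAtSource.iff_of_openCover (P := @Etale) 𝒰]
    intro i
    change Etale ((inj i).left ≫ snd.left)
    have e : (inj i).left ≫ snd.left = (p2 i).left ≫ (jB i).left :=
      congrArg CommaMorphism.left (hsnd i)
    rw [e]
    have h1 : Etale (p2 i).left := (hpE i).property _ _ _ (sqP i)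
    have := hjB i
    infer_instance
  · apply MorphismProperty.relative.of_exists
    intro T' b
    obtain ⟨V, fst, snd, sq, P, B, inj, jB, bi, p1, p2, sqP, hsnd, hoi, hcov, hjB, hcovB⟩ :=
      exists_rep_of_decomp hc p b U dU.inj pi sqU (fun i => (hpE i).rep)
    refine ⟨V, (yon S).map fst, snd, sq, ?_⟩
    change Surjective snd.left
    refine ⟨fun t => ?_⟩
    obtain ⟨i, y, hy⟩ := hcovB t
    have h1 : Surjective (p2 i).left := (hpS i).property _ _ _ (sqP i)
    obtain ⟨z, hz⟩ := h1.surj y
    refine ⟨(inj i).left z, ?_⟩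
    have e : (inj i).left ≫ snd.left = (p2 i).left ≫ (jB i).left :=
      congrArg CommaMorphism.left (hsnd i)
    rw [← Scheme.Hom.comp_apply, e, Scheme.Hom.comp_apply, hz, hy]

/-- A finite coproduct (in `Over S`) of quasi-compact schemes is quasi-compact. -/
theorem compactSpace_cofan_pt [Finite ι] {U : ι → Over S} {dU : Cofan U} (hdU : IsColimit dU)
    (h : ∀ i, CompactSpace ↥(U i).left) : CompactSpace ↥dU.pt.left := by
  constructor
  have : (Set.univ : Set ↥dU.pt.left) = ⋃ i, Set.range (dU.inj i).left := by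
    ext z
    simp only [Set.mem_univ, Set.mem_iUnion, Set.mem_range, true_iff]
    exact exists_inj_left_eq hdU z
  rw [this]
  exact isCompact_iUnion fun i => isCompact_range (dU.inj i).left.continuous

/-- **S10228**. -/
theorem s10228 [Finite ι] (Xi : ι → AlgSp.Space S)
    (X : AlgSp.Space S) (c : Cofan fun i => (Xi i).obj) (hc : IsColimit c) (hX : c.pt = X.obj)
    (hqc : ∀ i, AlgSp.IsQuasiCompactSp (Xi i).obj) :
    AlgSp.IsQuasiCompactSp X.obj := by
  rw [← hX]
  choose U pi hpE hpS hU using hqc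
  obtain ⟨dU, hdU, p, -, hE, hS⟩ := exists_atlas_coprod hc U pi hpE hpS
  exact ⟨dU.pt, p, hE, hS, compactSpace_cofan_pt hdU hU⟩

end Groth.Agent.H51
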