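import Groth.Agent.H51.SpCoprod
import Mathlib.AlgebraicGeometry.Morphisms.Finite

set_option autoImplicit false
universe u
open CategoryTheory CategoryTheory.Limits AlgebraicGeometry Opposite MorphismProperty

namespace Groth.Agent.H51

open AlgSp Groth.Agent.H50 Groth.Agent.H49

/-- A morphism of affine schemes which is finite on each member of a finite open cover of the
source is finite. -/
theorem isFinite_of_finite_openCover {W' Z : Scheme.{u}} [IsAffine W'] [IsAffine Z] (f' : W' ⟶ Z)
    (𝒰 : W'.OpenCover) [Finite 𝒰.I₀] (h : ∀ i, IsFinite (𝒰.f i ≫ f')) : IsFinite f' := by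
  classical
  rw [IsFinite.iff_isIntegralHom_and_locallyOfFiniteType]
  constructor
  · rw [HasAffineProperty.iff_of_isAffine (P := @IsIntegralHom)]
    refine ⟨inferInstance, ?_⟩
    intro b
    haveI : Fintype 𝒰.I₀ := Fintype.ofFinite _
    have key : ∀ i, ∃ P : Polynomial Γ(Z, ⊤), P.Monic ∧
        Polynomial.eval₂ ((𝒰.f i ≫ f').app ⊤).hom ((𝒰.f i).app ⊤ b) P = 0 := by
      intro i
      have h1 : IsIntegralHom (𝒰.f i ≫ f') := by
        have := h i
        infer_instance
      have h2 : RingHom.IsIntegral ((𝒰.f i ≫ f').app ⊤).hom :=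
        ((HasAffineProperty.iff_of_isAffine (P := @IsIntegralHom)).1 h1).2
      exact h2 _
    choose P hPm hP using key
    refine ⟨∏ i, P i, Polynomial.monic_prod_of_monic _ _ (fun i _ => hPm i), ?_⟩
    refine 𝒰.ext_elem _ _ (fun i => ?_)
    rw [map_zero]
    have e : ((𝒰.f i).app ⊤).hom.comp (f'.app ⊤).hom = ((𝒰.f i ≫ f').app ⊤).hom := by
      rw [Scheme.Hom.comp_app]
      rfl
    have := Polynomial.hom_eval₂ (∏ i, P i) (f'.app ⊤).hom ((𝒰.f i).app ⊤).hom b
    erw [this, e, Polynomial.eval₂_finset_prod]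
    exact Finset.prod_eq_zero (Finset.mem_univ i) (hP i)
  · rw [IsZariskiLocalAtSource.iff_of_openCover (P := @LocallyOfFiniteType) 𝒰]
    intro i
    have := h i
    infer_instance

end Groth.Agent.H51

namespace Groth.Agent.H51
open AlgSp Groth.Agent.H50 Groth.Agent.H49
variable {S : Scheme.{u}}

/-- A finite disjoint union of sheaves finite over `Y` is finite over `Y`. -/
theorem isFiniteMor_cofan_desc {ι : Type u} [Finite ι] {F : ι → Sp S} {Y : Sp S}
    (g : ∀ i, F i ⟶ Y) (hg : ∀ i, IsFiniteMor (g i)) (c : Cofan F) (hc : IsColimit c)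
    (d : c.pt ⟶ Y) (hd : ∀ i, c.inj i ≫ d = g i) : IsFiniteMor d := by
  intro Z hZ γ
  choose W ιW fstW sq hWaff hWfin using fun i : ι => hg i hZ γ
  let dW : Cofan W := colimit.cocone (Discrete.functor W)
  have hdW : IsColimit dW := colimit.isColimit _
  obtain ⟨hY⟩ := nonempty_isColimit_yon_mapCocone hdW
  let i' : dW.pt ⟶ Z := Cofan.IsColimit.desc hdW ιW
  have hi' : ∀ i, dW.inj i ≫ i' = ιW i := fun i => Cofan.IsColimit.fac hdW ιW i
  let s : Cocone (Discrete.functor W ⋙ yon S) :=
    { pt := c.pt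
      ι := Discrete.natTrans (fun i => fstW i.as ≫ c.inj i.as) }
  let fst' : (yon S).obj dW.pt ⟶ c.pt := hY.desc s
  have hfst' : ∀ i, (yon S).map (dW.inj i) ≫ fst' = fstW i ≫ c.inj i := fun i => hY.fac s ⟨i⟩
  have hw : fst' ≫ d = (yon S).map i' ≫ γ := by
    apply hY.hom_ext
    rintro ⟨i⟩
    change (yon S).map (dW.inj i) ≫ fst' ≫ d = (yon S).map (dW.inj i) ≫ (yon S).map i' ≫ γ
    rw [← Category.assoc, hfst', Category.assoc, hd, (sq i).w, ← Category.assoc,
      ← Functor.map_comp, hi']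
  have sqP := IsPullback.of_hasPullback d γ
  let l : (yon S).obj dW.pt ⟶ pullback d γ := sqP.lift fst' ((yon S).map i') hw
  let c'' : Cocone (Discrete.functor W ⋙ yon S) :=
    { pt := pullback d γ
      ι := Discrete.natTrans (fun i => (yon S).map (dW.inj i.as) ≫ l) }
  have hsq : ∀ i : Discrete ι, IsPullback (c''.ι.app i) (fstW i.as) (pullback.fst d γ)
      (c.ι.app i) := by
    rintro ⟨i⟩
    change IsPullback ((yon S).map (dW.inj i) ≫ l) (fstW i) (pullback.fst d γ) (c.inj i)
    refine IsPullback.of_right ?_ ?_ sqP.flip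
    · rw [Category.assoc, sqP.lift_snd, ← Functor.map_comp, hi', hd]
      exact (sq i).flip
    · rw [Category.assoc, sqP.lift_fst, hfst']
  obtain ⟨hc''⟩ := nonempty_isColimit_of_isPullback (F := Discrete.functor F) hc c''
    (fun i => fstW i.as) (pullback.fst d γ) hsq
  let e : (yon S).obj dW.pt ≅ pullback d γ := hY.coconePointUniqueUpToIso hc''
  have he : e.hom = l := by
    apply hY.hom_ext
    rintro ⟨i⟩
    rw [hY.comp_coconePointUniqueUpToIso_hom hc'' ⟨i⟩]
    rfl
  have sq' : IsPullback fst' ((yon S).map i') d γ := by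
    refine IsPullback.of_iso sqP e.symm (Iso.refl _) (Iso.refl _) (Iso.refl _) ?_ ?_ ?_ ?_
    · simp only [Iso.symm_hom, Iso.refl_hom, Category.comp_id]
      rw [Iso.eq_inv_comp, he, sqP.lift_fst]
    · simp only [Iso.symm_hom, Iso.refl_hom, Category.comp_id]
      rw [Iso.eq_inv_comp, he, sqP.lift_snd]
    · simp
    · simp
  refine ⟨dW.pt, i', fst', sq', ?_, ?_⟩
  · obtain ⟨ε, -⟩ := exists_sigma_iso hdW
    haveI : ∀ i, IsAffine (W i).left := hWaff
    exact IsAffine.of_isIso ε.inv
  · haveI : IsAffine dW.pt.left := by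
      obtain ⟨ε, -⟩ := exists_sigma_iso hdW
      haveI : ∀ i, IsAffine (W i).left := hWaff
      exact IsAffine.of_isIso ε.inv
    haveI : IsAffine Z.left := hZ
    let 𝒰 : dW.pt.left.OpenCover :=
      { I₀ := ι
        X := fun i => (W i).left
        f := fun i => (dW.inj i).left
        mem₀ := by
          rw [Scheme.presieve₀_mem_precoverage_iff]
          exact ⟨fun v => exists_inj_left_eq hdW v, isOpenImmersion_inj_left hdW⟩ }
    haveI : Finite 𝒰.I₀ := inferInstanceAs (Finite ι)
    refine isFinite_of_finite_openCover i'.left 𝒰 (fun i => ?_)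
    change IsFinite ((dW.inj i).left ≫ i'.left)
    rw [← Over.comp_left, hi']
    exact hWfin i

end Groth.Agent.H51

namespace Groth.Agent.H51
open AlgSp Groth.Agent.H50 Groth.Agent.H49
variable {S : Scheme.{u}}

/-- **S10325**. -/
theorem s10325 {n : ℕ} (X : Fin n → AlgSp.Space S) (Y : AlgSp.Space S)
    (g : ∀ i, X i ⟶ Y) (hg : ∀ i, AlgSp.IsFiniteMor (g i).hom) (c : Cofan fun i => (X i).obj)
    (hc : IsColimit c) (d : c.pt ⟶ Y.obj) (hd : ∀ i, c.inj i ≫ d = (g i).hom) :
    AlgSp.IsFiniteMor d := by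
  let F' : ULift.{u} (Fin n) → Sp S := fun i => (X i.down).obj
  let c' : Cofan F' := Cofan.mk c.pt (fun i => c.inj i.down)
  have hc' : IsColimit c' :=
    mkCofanColimit c' (fun s => Cofan.IsColimit.desc hc (fun i => s.inj ⟨i⟩))
      (fun s i => Cofan.IsColimit.fac hc _ i.down)
      (fun s m hm => Cofan.IsColimit.hom_ext hc _ _ (fun i => by
        rw [Cofan.IsColimit.fac]
        exact hm ⟨i⟩))
  exact isFiniteMor_cofan_desc (F := F') (fun i : ULift.{u} (Fin n) => (g i.down).hom)
    (fun i : ULift.{u} (Fin n) => hg i.down) c' hc' d (fun i : ULift.{u} (Fin n) => hd i.down)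

end Groth.Agent.H51
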