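import Groth.Prelude.Def_AlgSpOX3
import Groth.Agent.H53.Glue

set_option autoImplicit false
universe u
open CategoryTheory CategoryTheory.Limits AlgebraicGeometry Opposite MorphismProperty
namespace Groth.Agent.H51
open AlgSp
variable {S : Scheme.{u}}

theorem exists_hom_appTop_eq {X Y : Scheme.{u}} [IsAffine Y] (ψ : Γ(Y, ⊤) ⟶ Γ(X, ⊤)) :
    ∃ g : X ⟶ Y, g.appTop = ψ := by
  refine ⟨X.toSpecΓ ≫ Spec.map ψ ≫ Y.isoSpec.inv, ?_⟩
  have h1 : Y.isoSpec.inv.appTop = (Scheme.ΓSpecIso Γ(Y, ⊤)).inv := by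
    have h2 : Y.isoSpec.hom.appTop = (Scheme.ΓSpecIso Γ(Y, ⊤)).hom := Scheme.toSpecΓ_appTop Y
    have h3 : Y.isoSpec.inv.appTop ≫ Y.isoSpec.hom.appTop = 𝟙 _ := by
      rw [← Scheme.Hom.comp_appTop, Iso.hom_inv_id, Scheme.Hom.id_appTop]
    rw [h2] at h3
    exact (Iso.comp_hom_eq_id _).1 h3
  rw [Scheme.Hom.comp_appTop, Scheme.Hom.comp_appTop, h1, Scheme.toSpecΓ_appTop, Category.assoc,
    Scheme.ΓSpecIso_naturality, Iso.inv_hom_id_assoc]

section
variable (hS : IsTerminal S) (X : AlgSp.Space S) (T : Over S) [IsAffine T.left]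
  (φ : Γ(T.left, ⊤) →+* ↥(gsectEt (OEt X.obj)))

/-- The ring map to the functions on `E` defined by `φ`. -/
noncomputable def psiE (E : EtOver X.obj) : Γ(T.left, ⊤) ⟶ Γ(E.obj.left.left, ⊤) :=
  CommRingCat.ofHom ((ULift.ringEquiv (R := Γ(E.obj.left.left, ⊤))).toRingHom.comp
    ((limit.π (OEt X.obj).obj (op E)).hom.comp φ))

theorem psiE_apply (E : EtOver X.obj) (r : Γ(T.left, ⊤)) :
    (psiE X T φ E) r = ((limit.π (OEt X.obj).obj (op E)) (φ r)).down := rfl

theorem psiE_comp {E' E : EtOver X.obj} (h : E' ⟶ E) :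
    psiE X T φ E ≫ h.hom.left.left.appTop = psiE X T φ E' := by
  ext r
  change h.hom.left.left.appTop.hom ((limit.π (OEt X.obj).obj (op E)) (φ r)).down =
    ((limit.π (OEt X.obj).obj (op E')) (φ r)).down
  have hw := limit.w (OEt X.obj).obj h.op
  rw [← hw]
  rfl

/-- The morphism `E ⟶ T` defined by `φ`. -/
noncomputable def gE (E : EtOver X.obj) : E.obj.left.left ⟶ T.left :=
  (exists_hom_appTop_eq (psiE X T φ E)).choose

theorem gE_appTop (E : EtOver X.obj) : (gE X T φ E).appTop = psiE X T φ E :=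
  (exists_hom_appTop_eq (psiE X T φ E)).choose_spec

include hS in
theorem gE_w (E : EtOver X.obj) : gE X T φ E ≫ T.hom = E.obj.left.hom := hS.hom_ext _ _

/-- The same as a morphism over `S` (the base is terminal). -/
noncomputable def gO (E : EtOver X.obj) : E.obj.left ⟶ T := Over.homMk (gE X T φ E) (gE_w hS X T φ E)

theorem gO_comp {E' E : EtOver X.obj} (h : E' ⟶ E) : h.hom.left ≫ gO hS X T φ E = gO hS X T φ E' := by
  apply Over.OverMorphism.ext
  change h.hom.left.left ≫ gE X T φ E = gE X T φ E'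
  apply ext_of_isAffine
  rw [Scheme.Hom.comp_appTop, gE_appTop, gE_appTop, psiE_comp]

/-- Two maps to a chart with the same image in `X` are equalised by the morphisms `gO`. -/
theorem gO_cocycle {U : Over S} (a : (yon S).obj U ⟶ X.obj) (hae : RepWith @Etale a)
    {W : Over S} (g₁ g₂ : W ⟶ U) (h : (yon S).map g₁ ≫ a = (yon S).map g₂ ≫ a) :
    g₁ ≫ gO hS X T φ (EtOver.mk a hae) = g₂ ≫ gO hS X T φ (EtOver.mk a hae) := by
  let EU : EtOver X.obj := EtOver.mk a hae
  let k : W ⟶ (EtOver.prodObj EU EU).obj.left := EU.property.1.lift' g₂ g₁ h.symm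
  have k1 : k ≫ (EtOver.prodFst EU EU).hom.left = g₁ :=
    Functor.relativelyRepresentable.lift'_snd _ _ _ _
  have k2 : k ≫ (EtOver.prodSnd EU EU).hom.left = g₂ :=
    Functor.relativelyRepresentable.lift'_fst _ _ _ _
  calc g₁ ≫ gO hS X T φ EU = k ≫ ((EtOver.prodFst EU EU).hom.left ≫ gO hS X T φ EU) := by
        rw [← Category.assoc, k1]
    _ = k ≫ ((EtOver.prodSnd EU EU).hom.left ≫ gO hS X T φ EU) := by
        rw [gO_comp, gO_comp]
    _ = g₂ ≫ gO hS X T φ EU := by rw [← Category.assoc, k2]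

/-- On every object of the site, a morphism `f` extending the chart map restricts to `gO`. -/
theorem hom_comp_eq_gO {U : Over S} (a : (yon S).obj U ⟶ X.obj) (hae : RepWith @Etale a)
    (has : RepWith @Surjective a) (f : X.obj ⟶ (yon S).obj T)
    (hf : a ≫ f = (yon S).map (gO hS X T φ (EtOver.mk a hae))) (E : EtOver X.obj) :
    E.obj.hom ≫ f = (yon S).map (gO hS X T φ E) := by
  let EU : EtOver X.obj := EtOver.mk a hae
  let pF := EtOver.prodFst E EU
  let pS := EtOver.prodSnd E EU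
  have hpb := hae.1.isPullback E.obj.hom
  have het : Etale pF.hom.left.left := hae.2 _ _ _ hpb
  have hsu : Surjective pF.hom.left.left := has.2 _ _ _ hpb
  haveI : Epi ((yon S).map pF.hom.left) :=
    Groth.Agent.H53.epi_of_repWith_etale_surjective _ ((repWith_yon_map_iff _ _).2 het)
      ((repWith_yon_map_iff _ _).2 hsu)
  rw [← cancel_epi ((yon S).map pF.hom.left)]
  have e1 : (yon S).map pF.hom.left ≫ E.obj.hom = (yon S).map pS.hom.left ≫ a :=
    (EtOver.w pF).trans (EtOver.w pS).symm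
  calc (yon S).map pF.hom.left ≫ E.obj.hom ≫ f
      = ((yon S).map pS.hom.left ≫ a) ≫ f := by rw [← Category.assoc, e1]
    _ = (yon S).map pS.hom.left ≫ (yon S).map (gO hS X T φ EU) := by rw [Category.assoc, hf]
    _ = (yon S).map (pS.hom.left ≫ gO hS X T φ EU) := by rw [Functor.map_comp]
    _ = (yon S).map (pF.hom.left ≫ gO hS X T φ E) := by rw [gO_comp, gO_comp]
    _ = (yon S).map pF.hom.left ≫ (yon S).map (gO hS X T φ E) := by rw [Functor.map_comp]

include hS in
theorem existsUnique_hom_to_affine :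
    ∃! f : X.obj ⟶ (yon S).obj T,
      ∀ (E : EtOver X.obj) (r : Γ(T.left, ⊤)),
        ((limit.π (OEt X.obj).obj (op E)) (φ r)).down =
          ((yon S).preimage (E.obj.hom ≫ f)).left.appTop r := by
  obtain ⟨U, a, hae, has⟩ := X.property.atlas
  haveI : Epi a := Groth.Agent.H53.epi_of_repWith_etale_surjective a hae has
  obtain ⟨f, hf⟩ := Groth.Agent.H53.desc_of_epi a ((yon S).map (gO hS X T φ (EtOver.mk a hae)))
    (fun W g₁ g₂ _ h => by
      rw [← Functor.map_comp, ← Functor.map_comp, gO_cocycle hS X T φ a hae g₁ g₂ h])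
  refine ⟨f, fun E r => ?_, fun f' hf' => ?_⟩
  · have h1 := hom_comp_eq_gO hS X T φ a hae has f hf E
    have h2 : (yon S).preimage (E.obj.hom ≫ f) = gO hS X T φ E := by
      rw [h1, Functor.preimage_map]
    rw [h2]
    change _ = (gE X T φ E).appTop r
    rw [gE_appTop]
    rfl
  · rw [← cancel_epi a, hf]
    have h3 : ((yon S).preimage (a ≫ f')).left = gE X T φ (EtOver.mk a hae) := by
      apply ext_of_isAffine
      rw [gE_appTop]
      ext r
      exact (hf' (EtOver.mk a hae) r).symm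
    have h4 : (yon S).preimage (a ≫ f') = gO hS X T φ (EtOver.mk a hae) :=
      Over.OverMorphism.ext h3
    rw [← h4, Functor.map_preimage]

end

end Groth.Agent.H51
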