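import Groth.Agent.H51.SpEtModQCoh

set_option autoImplicit false
set_option backward.isDefEq.respectTransparency false
universe u
open CategoryTheory CategoryTheory.Limits AlgebraicGeometry Opposite MorphismProperty

namespace Groth.Agent.H51
open AlgSp
variable {S : Scheme.{u}} {X : Sp S}

/-- Isomorphisms in the small étale site from isomorphisms of schemes over `S`. -/
noncomputable def EtOver.isoMk' {E E' : EtOver X} (e : E.obj.left ≅ E'.obj.left)
    (w : (yon S).map e.hom ≫ E'.obj.hom = E.obj.hom) : E ≅ E' where
  hom := EtOver.homMk e.hom w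
  inv := EtOver.homMk e.inv (by
    rw [← w, ← Category.assoc, ← Functor.map_comp, e.inv_hom_id]
    exact ((congrArg (· ≫ E'.obj.hom) ((yon S).map_id _)).trans (Category.id_comp _) :))
  hom_inv_id := EtOver.hom_ext _ _ e.hom_inv_id
  inv_hom_id := EtOver.hom_ext _ _ e.inv_hom_id

variable {U : Over S} (p : (yon S).obj U ⟶ X) (hp : RepWith @Etale p)

/-- The chart as an object of the small étale site. -/
noncomputable abbrev chartObj : EtOver X := EtOver.mk p hp

noncomputable abbrev chartPc : EtOver ((yon S).obj U) ⥤ EtOver X :=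
  EtOver.postcomp p (isEtaleMor_of_repWith p hp)

/-- The structure morphism `postcomp V ⟶ (U, p)` in the small étale site of `X`. -/
noncomputable def chartι (V : EtOver ((yon S).obj U)) : (chartPc p hp).obj V ⟶ chartObj p hp :=
  EtOver.homMk ((yon S).preimage V.obj.hom) (by
    change (yon S).map ((yon S).preimage V.obj.hom) ≫ p = V.obj.hom ≫ p
    rw [Functor.map_preimage])

theorem chartι_left (V : EtOver ((yon S).obj U)) :
    (yon S).map (chartι p hp V).hom.left = V.obj.hom := (yon S).map_preimage _

theorem chartι_naturality {V V' : EtOver ((yon S).obj U)} (g : V ⟶ V') :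
    (chartPc p hp).map g ≫ chartι p hp V' = chartι p hp V := by
  refine EtOver.hom_ext _ _ ((yon S).map_injective ?_)
  change (yon S).map (g.hom.left ≫ (chartι p hp V').hom.left) = _
  rw [Functor.map_comp, chartι_left, chartι_left]
  exact EtOver.w g

/-- `EtOver (h_U) ⥤ Over (U, p)`. -/
noncomputable def chartΦ : EtOver ((yon S).obj U) ⥤ Over (chartObj p hp) where
  obj V := Over.mk (chartι p hp V)
  map g := Over.homMk ((chartPc p hp).map g) (chartι_naturality p hp g)
  map_id V := by ext : 1; exact (chartPc p hp).map_id V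
  map_comp g h := by ext : 1; exact (chartPc p hp).map_comp g h

/-- `Over (U, p) ⥤ EtOver (h_U)`. -/
noncomputable def chartΨ : Over (chartObj p hp) ⥤ EtOver ((yon S).obj U) where
  obj W := EtOver.mk ((yon S).map W.hom.hom.left)
    ((repWith_yon_map_iff _ _).2 (EtOver.etale_left W.hom))
  map {W W'} k := EtOver.homMk k.left.hom.left (by
    change (yon S).map k.left.hom.left ≫ (yon S).map W'.hom.hom.left = (yon S).map W.hom.hom.left
    rw [← Functor.map_comp]
    congr 1
    exact congrArg (fun t => t.hom.left) (Over.w k))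
  map_id W := EtOver.hom_ext _ _ rfl
  map_comp k k' := EtOver.hom_ext _ _ rfl

end Groth.Agent.H51

namespace Groth.Agent.H51
open AlgSp
variable {S : Scheme.{u}} {X : Sp S} {U : Over S} (p : (yon S).obj U ⟶ X) (hp : RepWith @Etale p)

noncomputable def chartUnitIso : 𝟭 (EtOver ((yon S).obj U)) ≅ chartΦ p hp ⋙ chartΨ p hp :=
  NatIso.ofComponents
    (fun V => EtOver.isoMk' (Iso.refl _) (by
      change (yon S).map (𝟙 _) ≫ (yon S).map (chartι p hp V).hom.left = V.obj.hom
      rw [chartι_left]
      exact ((congrArg (· ≫ V.obj.hom) ((yon S).map_id _)).trans (Category.id_comp _) :)))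
    (by
      intro V V' g
      refine EtOver.hom_ext _ _ ?_
      change g.hom.left ≫ 𝟙 _ = 𝟙 _ ≫ g.hom.left
      rw [Category.comp_id, Category.id_comp])

noncomputable def chartCounitIso : chartΨ p hp ⋙ chartΦ p hp ≅ 𝟭 (Over (chartObj p hp)) :=
  NatIso.ofComponents
    (fun W => Over.isoMk (EtOver.isoMk' (Iso.refl _) (by
        change (yon S).map (𝟙 _) ≫ W.left.obj.hom = (yon S).map W.hom.hom.left ≫ p
        rw [(yon S).map_id]
        exact (Category.id_comp _).trans (EtOver.w W.hom).symm)) (by
      refine EtOver.hom_ext _ _ ((yon S).map_injective ?_)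
      change (yon S).map (𝟙 _ ≫ W.hom.hom.left) =
        (yon S).map (chartι p hp ((chartΨ p hp).obj W)).hom.left
      rw [chartι_left, Category.id_comp]
      rfl))
    (by
      intro W W' k
      ext : 1
      refine EtOver.hom_ext _ _ ?_
      change k.left.hom.left ≫ 𝟙 _ = 𝟙 _ ≫ k.left.hom.left
      rw [Category.comp_id, Category.id_comp])

noncomputable def chartEquiv : EtOver ((yon S).obj U) ≌ Over (chartObj p hp) where
  functor := chartΦ p hp
  inverse := chartΨ p hp
  unitIso := chartUnitIso p hp
  counitIso := chartCounitIso p hp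
  functor_unitIso_comp V := by
    ext : 1
    refine EtOver.hom_ext _ _ ?_
    exact Category.id_comp (𝟙 V.obj.left)

end Groth.Agent.H51
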