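import Groth.Agent.H51.SpEtChartEquiv
import Mathlib.CategoryTheory.Sites.Equivalence

set_option autoImplicit false
set_option backward.isDefEq.respectTransparency false
universe u
open CategoryTheory CategoryTheory.Limits AlgebraicGeometry Opposite MorphismProperty

namespace Groth.Agent.H51
open AlgSp
variable {S : Scheme.{u}} {X : Sp S} {U : Over S} (p : (yon S).obj U ⟶ X) (hp : RepWith @Etale p)

instance chartΦ_isCocontinuous :
    (chartΦ p hp).IsCocontinuous (etTop ((yon S).obj U)) ((etTop X).over (chartObj p hp)) where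
  cover_lift {V} T hT := by
    rw [GrothendieckTopology.mem_over_iff] at hT
    haveI := postcomp_isCocontinuous p (isEtaleMor_of_repWith p hp)
    have h1 := (chartPc p hp).cover_lift (etTop ((yon S).obj U)) (etTop X) hT
    refine (etTop ((yon S).obj U)).superset_covering ?_ h1
    intro V' g hg
    change (Sieve.overEquiv _ T) ((chartPc p hp).map g) at hg
    change T ((chartΦ p hp).map g)
    have h2 : ((Sieve.overEquiv ((chartΦ p hp).obj V)).symm (Sieve.overEquiv _ T))
        ((chartΦ p hp).map g) := (Sieve.overEquiv_symm_iff _ _).2 hg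
    rwa [OrderIso.symm_apply_apply] at h2

theorem chartΦ_coverPreserving :
    CoverPreserving (etTop ((yon S).obj U)) ((etTop X).over (chartObj p hp)) (chartΦ p hp) where
  cover_preserve {V} T hT := by
    rw [GrothendieckTopology.mem_over_iff]
    haveI := postcomp_isContinuous p (isEtaleMor_of_repWith p hp)
    have h1 := (CoverPreserving.of_isContinuous (chartPc p hp) (etTop ((yon S).obj U))
      (etTop X)).cover_preserve hT
    refine (etTop X).superset_covering ?_ h1
    rintro Z f ⟨V', s, k, hs, rfl⟩
    rw [Sieve.overEquiv_iff]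
    refine ⟨V', s, Over.homMk k ?_, hs, ?_⟩
    · change k ≫ chartι p hp V' = (k ≫ (chartPc p hp).map s) ≫ chartι p hp V
      rw [Category.assoc, chartι_naturality]
    · ext : 1
      rfl

instance chartΨ_isCocontinuous :
    (chartΨ p hp).IsCocontinuous ((etTop X).over (chartObj p hp)) (etTop ((yon S).obj U)) :=
  ((chartEquiv p hp).symm.toAdjunction.isCocontinuous_iff_coverPreserving _ _).2
    (chartΦ_coverPreserving p hp)

end Groth.Agent.H51

namespace Groth.Agent.H51
open AlgSp
variable {S : Scheme.{u}} {X : Sp S} {U : Over S} (p : (yon S).obj U ⟶ X) (hp : RepWith @Etale p)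

instance chartΦ_isContinuous :
    (chartΦ p hp).IsContinuous (etTop ((yon S).obj U)) ((etTop X).over (chartObj p hp)) :=
  haveI : (chartEquiv p hp).symm.functor.IsCocontinuous ((etTop X).over (chartObj p hp))
      (etTop ((yon S).obj U)) := chartΨ_isCocontinuous p hp
  (chartEquiv p hp).symm.toAdjunction.isContinuous_of_isCocontinuous _ _

instance chartΨ_isContinuous :
    (chartΨ p hp).IsContinuous ((etTop X).over (chartObj p hp)) (etTop ((yon S).obj U)) :=
  haveI : (chartEquiv p hp).functor.IsCocontinuous (etTop ((yon S).obj U))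
      ((etTop X).over (chartObj p hp)) := chartΦ_isCocontinuous p hp
  (chartEquiv p hp).toAdjunction.isContinuous_of_isCocontinuous _ _

/-- The ring sheaf on the slice. -/
noncomputable abbrev chartOverRing : Sheaf ((etTop X).over (chartObj p hp)) RingCat.{u + 1} :=
  (OEtRing X).over (chartObj p hp)

noncomputable def chartφ : OEtRing ((yon S).obj U) ⟶
    ((chartΦ p hp).sheafPushforwardContinuous RingCat.{u + 1} (etTop ((yon S).obj U))
      ((etTop X).over (chartObj p hp))).obj (chartOverRing p hp) :=
  ObjectProperty.homMk (𝟙 _)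

noncomputable def chartψ : chartOverRing p hp ⟶
    ((chartΨ p hp).sheafPushforwardContinuous RingCat.{u + 1} ((etTop X).over (chartObj p hp))
      (etTop ((yon S).obj U))).obj (OEtRing ((yon S).obj U)) :=
  ObjectProperty.homMk (𝟙 _)

end Groth.Agent.H51

namespace Groth.Agent.H51
open AlgSp
variable {S : Scheme.{u}} {X : Sp S} {U : Over S} (p : (yon S).obj U ⟶ X) (hp : RepWith @Etale p)

instance chartEquiv_functor_isContinuous :
    (chartEquiv p hp).functor.IsContinuous (etTop ((yon S).obj U))
      ((etTop X).over (chartObj p hp)) := chartΦ_isContinuous p hp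

instance chartEquiv_inverse_isContinuous :
    (chartEquiv p hp).inverse.IsContinuous ((etTop X).over (chartObj p hp))
      (etTop ((yon S).obj U)) := chartΨ_isContinuous p hp

theorem chart_H₁ :
    Functor.whiskerRight (NatTrans.op (chartEquiv p hp).counit) (chartOverRing p hp).obj =
      (chartψ p hp).hom ≫ (chartEquiv p hp).inverse.op.whiskerLeft (chartφ p hp).hom := by
  ext W : 2
  change (chartOverRing p hp).obj.map ((chartEquiv p hp).counit.app W.unop).op = 𝟙 _ ≫ 𝟙 _
  rw [Category.id_comp]
  change (forget₂ CommRingCat RingCat).map ((BigSite.O Scheme.etalePrecoverage S).obj.map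
    (𝟙 _)) = _
  exact (congrArg (forget₂ CommRingCat RingCat).map
    ((BigSite.O Scheme.etalePrecoverage S).obj.map_id _)).trans
    ((forget₂ CommRingCat RingCat).map_id _)

theorem chart_H₂ :
    (chartφ p hp).hom ≫ (chartEquiv p hp).functor.op.whiskerLeft (chartψ p hp).hom ≫
      Functor.whiskerRight (NatTrans.op (chartEquiv p hp).unit) (OEtRing ((yon S).obj U)).obj =
        𝟙 (OEtRing ((yon S).obj U)).obj := by
  ext V : 2
  change 𝟙 _ ≫ 𝟙 _ ≫ (OEtRing ((yon S).obj U)).obj.map ((chartEquiv p hp).unit.app V.unop).op = 𝟙 _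
  rw [Category.id_comp, Category.id_comp]
  change (forget₂ CommRingCat RingCat).map ((BigSite.O Scheme.etalePrecoverage S).obj.map
    (𝟙 _)) = _
  exact (congrArg (forget₂ CommRingCat RingCat).map
    ((BigSite.O Scheme.etalePrecoverage S).obj.map_id _)).trans
    ((forget₂ CommRingCat RingCat).map_id _)

/-- The equivalence of module categories. -/
noncomputable def chartModEquiv :
    SheafOfModules.{u + 1} (chartOverRing p hp) ≌ ModEt ((yon S).obj U) :=
  SheafOfModules.pushforwardPushforwardEquivalence (chartEquiv p hp) (chartφ p hp) (chartψ p hp)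
    (chart_H₁ p hp) (chart_H₂ p hp)

end Groth.Agent.H51

namespace Groth.Agent.H51
open AlgSp
variable {S : Scheme.{u}} {X : Sp S} {U : Over S} (p : (yon S).obj U ⟶ X) (hp : RepWith @Etale p)

theorem chart_coversTop (hs : RepWith @Surjective p) :
    (etTop X).CoversTop (fun _ : PUnit.{u + 2} => chartObj p hp) := by
  intro W
  have h1 : Sieve.ofArrows (fun _ : PUnit.{1} => EtOver.prodObj W (chartObj p hp))
      (fun _ => EtOver.prodFst W (chartObj p hp)) ∈ etTop X W := by
    refine ofArrows_mem_etTop _ _ fun x => ?_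
    have hsurj : Surjective (hp.1.snd W.obj.hom).left :=
      hs.property W.obj.hom (hp.1.fst _) (hp.1.snd _) (hp.1.isPullback W.obj.hom)
    obtain ⟨y, hy⟩ := hsurj.surj x
    exact ⟨PUnit.unit, y, hy⟩
  refine (etTop X).superset_covering ?_ h1
  rintro Z g ⟨Z', k, _, ⟨_⟩, rfl⟩
  exact ⟨PUnit.unit, ⟨k ≫ EtOver.prodSnd W (chartObj p hp)⟩⟩

end Groth.Agent.H51

namespace Groth.Agent.H51
open AlgSp
variable {S : Scheme.{u}} {X : Sp S} {U : Over S} (p : (yon S).obj U ⟶ X) (hp : RepWith @Etale p)

instance isIso_chartψ : IsIso (chartψ p hp) := by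
  have : IsIso ((sheafToPresheaf _ _).map (chartψ p hp)) := by
    change IsIso (𝟙 _)
    infer_instance
  exact isIso_of_reflects_iso _ (sheafToPresheaf _ _)

theorem chartΨ_preservesOneHypercovers :
    Functor.PreservesOneHypercovers.{u + 1} (chartΨ p hp) ((etTop X).over (chartObj p hp))
      (etTop ((yon S).obj U)) :=
  haveI : (chartΨ p hp).IsEquivalence := (chartEquiv p hp).isEquivalence_inverse
  Functor.PreservesOneHypercovers.of_coverPreserving
    (CoverPreserving.of_isContinuous _ _ _)

theorem isQuasicoherent_pushforward_chartψ (M : ModEt ((yon S).obj U)) (hM : M.IsQuasicoherent) :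
    ((SheafOfModules.pushforward.{u + 1} (chartψ p hp)).obj M).IsQuasicoherent := by
  haveI : (chartΨ p hp).IsEquivalence := (chartEquiv p hp).isEquivalence_inverse
  haveI h1 : Functor.PreservesOneHypercovers.{u + 1} (chartΨ p hp)
      ((etTop X).over (chartObj p hp)) (etTop ((yon S).obj U)) :=
    chartΨ_preservesOneHypercovers p hp
  exact SheafOfModules.isQuasicoherent_pushforward_of_isLeftAdjoint (chartΨ p hp)
    (chartψ p hp) (Iso.refl _)

end Groth.Agent.H51

namespace Groth.Agent.H51
open AlgSp
variable {S : Scheme.{u}} {X : Sp S} {U : Over S} (p : (yon S).obj U ⟶ X) (hp : RepWith @Etale p)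

include hp in
theorem isQuasicoherent_of_pullModEt_chart (hs : RepWith @Surjective p) (hrep : Representable p)
    [(SheafOfModules.pushforward.{u + 1} (bcRingHom hrep)).IsRightAdjoint]
    (F : ModEt X) (hF : ((pullModEt hrep).obj F).IsQuasicoherent) : F.IsQuasicoherent := by
  have hfp := isEtaleMor_of_repWith p hp
  have h1 : ((resPostcompModEt p hfp).obj F).IsQuasicoherent :=
    (SheafOfModules.isQuasicoherent.{u + 1, u, u + 1} (OEtRing ((yon S).obj U))).prop_of_iso
      ((pullModEtIso p hfp hrep).app F) hF
  have h2 := isQuasicoherent_pushforward_chartψ p hp _ h1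
  have h3 : (F.over (chartObj p hp)).IsQuasicoherent :=
    (SheafOfModules.isQuasicoherent.{u + 1, u, u + 1} (chartOverRing p hp)).prop_of_iso
      ((chartModEquiv p hp).unitIso.app (F.over (chartObj p hp))).symm h2
  haveI : ∀ i : PUnit.{u + 2}, (F.over ((fun _ => chartObj p hp) i)).IsQuasicoherent := fun _ => h3
  exact SheafOfModules.IsQuasicoherent.of_coversTop F _ (chart_coversTop p hp hs)

end Groth.Agent.H51
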