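import Groth.Agent.H51.SpEtModRes

set_option autoImplicit false
set_option backward.isDefEq.respectTransparency false
universe u
open CategoryTheory CategoryTheory.Limits AlgebraicGeometry Opposite MorphismProperty


namespace Groth.Agent.H51
open AlgSp
variable {S : Scheme.{u}} {X Y : Sp S} (f : X ⟶ Y) (hf : IsEtaleMor f) (hrep : Representable f)

instance isIso_postcompRingHom : IsIso (postcompRingHom f hf) := by
  have : IsIso ((sheafToPresheaf _ _).map (postcompRingHom f hf)) := by
    change IsIso (𝟙 _)
    infer_instance
  exact isIso_of_reflects_iso _ (sheafToPresheaf _ _)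

include hrep in
theorem postcomp_isLeftAdjoint_of_rep : (EtOver.postcomp f hf).IsLeftAdjoint :=
  (postcompBcAdj f hf hrep).isLeftAdjoint

theorem postcomp_preservesOneHypercovers :
    Functor.PreservesOneHypercovers.{u + 1} (EtOver.postcomp f hf) (etTop X) (etTop Y) :=
  Functor.PreservesOneHypercovers.of_coverPreserving
    (CoverPreserving.of_isContinuous _ _ _)

end Groth.Agent.H51

namespace Groth.Agent.H51
open AlgSp
variable {S : Scheme.{u}} {X Y : Sp S} (f : X ⟶ Y) (hf : IsEtaleMor f) (hrep : Representable f)

include hrep in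
theorem isQuasicoherent_resPostcompModEt (F : ModEt Y) (hF : F.IsQuasicoherent) :
    ((resPostcompModEt f hf).obj F).IsQuasicoherent := by
  haveI := postcomp_isLeftAdjoint_of_rep f hf hrep
  haveI h1 : Functor.PreservesOneHypercovers.{u + 1} (EtOver.postcomp f hf) (etTop X) (etTop Y) :=
    postcomp_preservesOneHypercovers f hf
  haveI : (EtOver.postcomp f hf).IsCocontinuous (etTop X) (etTop Y) := postcomp_isCocontinuous f hf
  exact SheafOfModules.isQuasicoherent_pushforward_of_isLeftAdjoint (EtOver.postcomp f hf)
    (postcompRingHom f hf) (Iso.refl _)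

include hf in
theorem isQuasicoherent_pullModEt_of_etale
    [(SheafOfModules.pushforward.{u + 1} (bcRingHom hrep)).IsRightAdjoint]
    (F : ModEt Y) (hF : F.IsQuasicoherent) :
    ((pullModEt hrep).obj F).IsQuasicoherent :=
  (SheafOfModules.isQuasicoherent.{u + 1, u, u + 1} (OEtRing X)).prop_of_iso
    ((pullModEtIso f hf hrep).app F).symm
    (isQuasicoherent_resPostcompModEt f hf hrep F hF)

end Groth.Agent.H51
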