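import Groth.Agent.H51.SpEtPostcomp
import Groth.Prelude.Def_AlgSpOX2
import Groth.Prelude.Def_AlgSpD

set_option autoImplicit false
set_option backward.isDefEq.respectTransparency false
universe u
open CategoryTheory CategoryTheory.Limits AlgebraicGeometry Opposite MorphismProperty

namespace Groth.Agent.H51

open AlgSp

variable {S : Scheme.{u}} {X Y : Sp S} (f : X ⟶ Y) (hf : IsEtaleMor f) (hrep : Representable f)

/-- Hom-set bijection for `postcomp ⊣ bc`. -/
noncomputable def postcompBcHomEquiv (E : EtOver X) (V : EtOver Y) :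
    ((EtOver.postcomp f hf).obj E ⟶ V) ≃ (E ⟶ (EtOver.bc hrep).obj V) where
  toFun g := EtOver.homMk (hrep.lift E.obj.hom g.hom.left (EtOver.w g).symm) (hrep.lift_fst _ _ _)
  invFun k := EtOver.homMk (k.hom.left ≫ EtOver.bcπ hrep V) (by
    change (yon S).map (k.hom.left ≫ hrep.snd V.obj.hom) ≫ V.obj.hom = E.obj.hom ≫ f
    rw [Functor.map_comp, Category.assoc, ← hrep.w, ← Category.assoc]
    congr 1
    exact EtOver.w k)
  left_inv g := EtOver.hom_ext _ _ (hrep.lift_snd _ _ _)
  right_inv k := EtOver.hom_ext _ _ (hrep.hom_ext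
    ((hrep.lift_fst _ _ _).trans (EtOver.w k).symm) (hrep.lift_snd _ _ _))

noncomputable def postcompBcAdj : EtOver.postcomp f hf ⊣ EtOver.bc hrep :=
  Adjunction.mkOfHomEquiv
    { homEquiv := postcompBcHomEquiv f hf hrep
      homEquiv_naturality_left_symm := by
        intro E' E V g k
        exact EtOver.hom_ext _ _ (Category.assoc _ _ _)
      homEquiv_naturality_right := by
        intro E V V' g k
        refine EtOver.hom_ext _ _ (hrep.hom_ext ?_ ?_)
        · change (yon S).map (hrep.lift _ _ _) ≫ hrep.fst _ =
            (yon S).map (hrep.lift _ _ _ ≫ (EtOver.bcMap hrep k).hom.left) ≫ hrep.fst _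
          rw [hrep.lift_fst, Functor.map_comp, Category.assoc, EtOver.map_bcMap_fst, hrep.lift_fst]
        · change hrep.lift _ _ _ ≫ hrep.snd _ =
            (hrep.lift _ _ _ ≫ (EtOver.bcMap hrep k).hom.left) ≫ hrep.snd _
          rw [hrep.lift_snd, Category.assoc, EtOver.bcMap_snd, ← Category.assoc, hrep.lift_snd]
          rfl }

end Groth.Agent.H51

namespace Groth.Agent.H51
open AlgSp
variable {S : Scheme.{u}} {X Y : Sp S} (f : X ⟶ Y) (hf : IsEtaleMor f) (hrep : Representable f)

/-- The identification `O_X = j^{-1} O_Y` for the localisation functor `j = postcomp f`. -/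
noncomputable def postcompRingHom
    [(EtOver.postcomp f hf).IsContinuous (etTop X) (etTop Y)] :
    OEtRing X ⟶ ((EtOver.postcomp f hf).sheafPushforwardContinuous RingCat.{u + 1} (etTop X)
      (etTop Y)).obj (OEtRing Y) :=
  ObjectProperty.homMk (𝟙 _)

end Groth.Agent.H51

namespace Groth.Agent.H51
open AlgSp
variable {S : Scheme.{u}} {X Y : Sp S} (f : X ⟶ Y) (hf : IsEtaleMor f)
  (hrep : Representable f)

instance postcomp_isContinuous_inst :
    (EtOver.postcomp f hf).IsContinuous (etTop X) (etTop Y) :=
  postcomp_isContinuous f hf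

theorem postcompBcAdj_counit_app (V : EtOver Y) :
    (postcompBcAdj f hf hrep).counit.app V =
      EtOver.homMk (EtOver.bcπ hrep V) (hrep.w V.obj.hom).symm :=
  EtOver.hom_ext _ _ (Category.id_comp _)

theorem postcompBcAdj_unit_app_snd (E : EtOver X) :
    ((postcompBcAdj f hf hrep).unit.app E).hom.left ≫
      hrep.snd ((EtOver.postcomp f hf).obj E).obj.hom = 𝟙 _ :=
  hrep.lift_snd _ _ _

/-- Restriction of modules along `postcomp` is left adjoint to the direct image. -/
noncomputable def resPushAdjModEt :
    SheafOfModules.pushforward.{u + 1} (postcompRingHom f hf) ⊣ pushModEt hrep :=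
  SheafOfModules.pushforwardPushforwardAdj (postcompBcAdj f hf hrep)
    (postcompRingHom f hf) (bcRingHom hrep)
    (by
      ext V : 2
      change (OEtRing Y).obj.map ((postcompBcAdj f hf hrep).counit.app V.unop).op = _
      rw [postcompBcAdj_counit_app]
      exact (Category.comp_id _).symm)
    (by
      ext E : 2
      change (𝟙 _ ≫ (bcRingHom hrep).hom.app (op ((EtOver.postcomp f hf).obj E.unop))) ≫
        (OEtRing X).obj.map ((postcompBcAdj f hf hrep).unit.app E.unop).op = 𝟙 _
      rw [Category.id_comp]
      change (forget₂ CommRingCat RingCat).map ((BigSite.O Scheme.etalePrecoverage S).obj.map _) ≫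
        (forget₂ CommRingCat RingCat).map ((BigSite.O Scheme.etalePrecoverage S).obj.map _) = _
      rw [← Functor.map_comp, ← Functor.map_comp]
      change (forget₂ CommRingCat RingCat).map ((BigSite.O Scheme.etalePrecoverage S).obj.map
        ((hrep.snd ((EtOver.postcomp f hf).obj E.unop).obj.hom).op ≫
          (((postcompBcAdj f hf hrep).unit.app E.unop).hom.left).op)) = _
      rw [← op_comp, postcompBcAdj_unit_app_snd, op_id]
      exact (congrArg (forget₂ CommRingCat RingCat).map
        ((BigSite.O Scheme.etalePrecoverage S).obj.map_id _)).trans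
        ((forget₂ CommRingCat RingCat).map_id _))

end Groth.Agent.H51

namespace Groth.Agent.H51
open AlgSp
variable {S : Scheme.{u}} {X Y : Sp S} (f : X ⟶ Y) (hf : IsEtaleMor f)
  (hrep : Representable f)

/-- Restriction of modules along the localisation functor. -/
noncomputable abbrev resPostcompModEt : ModEt Y ⥤ ModEt X :=
  SheafOfModules.pushforward.{u + 1} (postcompRingHom f hf)

noncomputable def pullModEtIso
    [(SheafOfModules.pushforward.{u + 1} (bcRingHom hrep)).IsRightAdjoint] :
    pullModEt hrep ≅ resPostcompModEt f hf :=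
  (pullPushAdjModEt hrep).leftAdjointUniq (resPushAdjModEt f hf hrep)

noncomputable instance preservesFiniteLimits_resPostcompModEt :
    PreservesFiniteLimits (resPostcompModEt f hf) := by
  have h1 : PreservesFiniteLimits (resPostcompModEt f hf ⋙ SheafOfModules.toSheaf.{u + 1} _) := by
    change PreservesFiniteLimits (SheafOfModules.toSheaf.{u + 1} _ ⋙
      (EtOver.postcomp f hf).sheafPushforwardContinuous AddCommGrpCat.{u + 1} (etTop X)
        (etTop Y))
    infer_instance
  have h2 : ReflectsFiniteLimits (SheafOfModules.toSheaf.{u + 1} (OEtRing X)) := inferInstance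
  exact preservesFiniteLimits_of_reflects_of_preserves (resPostcompModEt f hf)
    (SheafOfModules.toSheaf.{u + 1} _)

include hf in
theorem preservesFiniteLimits_pullModEt_of_etale
    [(SheafOfModules.pushforward.{u + 1} (bcRingHom hrep)).IsRightAdjoint] :
    PreservesFiniteLimits (pullModEt hrep) :=
  preservesFiniteLimits_of_natIso (pullModEtIso f hf hrep).symm

end Groth.Agent.H51
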