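import Groth.Agent.H51.SpEtStalk2


set_option autoImplicit false
universe u
open CategoryTheory CategoryTheory.Limits AlgebraicGeometry Opposite MorphismProperty
namespace Groth.Agent.H51
open AlgSp Groth.Agent.H52
variable {S : Scheme.{u}}

section
variable {X Y : Sp S} (f : X ⟶ Y) (hf : IsEtaleMor f)

theorem postcomp_comp_toScheme : EtOver.postcomp f hf ⋙ EtOver.toScheme Y = EtOver.toScheme X := rfl

noncomputable def postcompPullbackIsLimit {E₁ E₂ E₀ : EtOver X} (g₁ : E₁ ⟶ E₀) (g₂ : E₂ ⟶ E₀) :
    IsLimit (PullbackCone.mk ((EtOver.postcomp f hf).map (EtOver.pullbackFst g₁ g₂))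
      ((EtOver.postcomp f hf).map (EtOver.pullbackSnd g₁ g₂))
      (by rw [← Functor.map_comp, ← Functor.map_comp, EtOver.pullback_condition])) :=
  PullbackCone.IsLimit.mk _
    (fun s => EtOver.homMk (pullback.lift s.fst.hom.left s.snd.hom.left
        (congrArg (fun k => k.hom.left) s.condition)) (by
      change (yon S).map _ ≫ ((yon S).map (pullback.fst g₁.hom.left g₂.hom.left) ≫ E₁.obj.hom) ≫ f =
        s.pt.obj.hom
      rw [← Category.assoc, ← Category.assoc, ← Functor.map_comp, pullback.lift_fst, Category.assoc]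
      exact EtOver.w s.fst))
    (fun s => EtOver.hom_ext _ _ (pullback.lift_fst _ _ _))
    (fun s => EtOver.hom_ext _ _ (pullback.lift_snd _ _ _))
    (fun s m h₁ h₂ => EtOver.hom_ext _ _ (pullback.hom_ext
      ((congrArg (fun k => k.hom.left) h₁).trans (pullback.lift_fst _ _ _).symm)
      ((congrArg (fun k => k.hom.left) h₂).trans (pullback.lift_snd _ _ _).symm)))

instance postcomp_preservesLimit_cospan {E₁ E₂ E₀ : EtOver X} (g₁ : E₁ ⟶ E₀) (g₂ : E₂ ⟶ E₀) :
    PreservesLimit (cospan g₁ g₂) (EtOver.postcomp f hf) :=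
  preservesLimit_of_preserves_limit_cone (EtOver.pullbackIsLimit g₁ g₂)
    ((isLimitMapConePullbackConeEquiv _ _).symm (postcompPullbackIsLimit f hf g₁ g₂))

instance postcomp_preservesPullbacks :
    PreservesLimitsOfShape WalkingCospan (EtOver.postcomp f hf) where
  preservesLimit {K} := preservesLimit_of_iso_diagram _ (diagramIsoCospan K).symm

theorem postcomp_isContinuous :
    (EtOver.postcomp f hf).IsContinuous (etTop X) (etTop Y) := by
  unfold etTop
  refine Functor.isContinuous_toGrothendieck_of_pullbacksPreservedBy (EtOver.postcomp f hf) (etPre X)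
    (etPre Y) (le_of_eq ?_)
  unfold etPre
  rw [← Precoverage.comap_comp, postcomp_comp_toScheme]

theorem postcomp_isCocontinuous :
    (EtOver.postcomp f hf).IsCocontinuous (etTop X) (etTop Y) := by
  refine ⟨fun {U} R hR => ?_⟩
  refine mem_etTop_of_forall_geometric _ fun p hp e => ?_
  -- the image geometric point of `Y` and its lift
  have hp' : (p.map f).IsGeometric := hp
  let e' : (FieldPt.liftsTo (p.map f)).obj ((EtOver.postcomp f hf).obj U) :=
    ⟨e.1, by
      change (yon S).map e.1 ≫ U.obj.hom ≫ f = (p.map f).toHom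
      rw [FieldPt.toHom_map, ← Category.assoc, e.2]⟩
  obtain ⟨V, g, hg, y, hy⟩ := liftsTo_jointly_surjective (p.map f) hp' R hR e'
  have hy' : y.1 ≫ g.hom.left = e.1 := congrArg Subtype.val hy
  haveI : Etale g.hom.left.left := EtOver.etale_left g
  -- `V` with its structure map to `X`
  let V' : EtOver X := EtOver.mk ((yon S).map g.hom.left ≫ U.obj.hom)
    ((repWith_isMultiplicative (S := S) @Etale).comp_mem _ _
      ((repWith_yon_map_iff _ _).2 (show Etale g.hom.left.left from inferInstance)) U.property)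
  let g' : V' ⟶ U := EtOver.homMk g.hom.left rfl
  let ι : (EtOver.postcomp f hf).obj V' ⟶ V := EtOver.homMk (𝟙 _) (by
    change (yon S).map (𝟙 _) ≫ V.obj.hom = ((yon S).map g.hom.left ≫ U.obj.hom) ≫ f
    rw [(yon S).map_id, Category.id_comp, Category.assoc]
    exact (EtOver.w g).symm)
  have hι : (EtOver.postcomp f hf).map g' = ι ≫ g := EtOver.hom_ext _ _ (Category.id_comp _).symm
  refine ⟨V', g', ?_, ⟨y.1, ?_⟩, Subtype.ext hy'⟩
  · change R ((EtOver.postcomp f hf).map g')
    rw [hι]
    exact R.downward_closed hg ι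
  · change (yon S).map y.1 ≫ (yon S).map g.hom.left ≫ U.obj.hom = p.toHom
    rw [← Category.assoc, ← Functor.map_comp, hy']
    exact e.2

end

end Groth.Agent.H51
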