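import Groth.Agent.H51.EtSource
import Groth.Agent.H51.SpEtale

set_option autoImplicit false
universe u
open CategoryTheory CategoryTheory.Limits AlgebraicGeometry Opposite MorphismProperty

namespace Groth.Agent.H51

open AlgSp Groth.Agent.H50

variable {S : Scheme.{u}}

/-- Source-side comparison: for representable `φ'` and `χ : U ⟶ U'`, the chosen pullback of
`h_χ ≫ φ'` along `g` is the base change of `χ` along the first projection of the chosen pullback of
`φ'`. -/
theorem exists_isPullback_fst_comp {X : Sp S} {U U' : Over S} (χ : U ⟶ U')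
    (φ' : (yon S).obj U' ⟶ X) (hφ : Representable φ')
    (hc : Representable ((yon S).map χ ≫ φ')) {T : Over S} (g : (yon S).obj T ⟶ X) :
    ∃ k : hc.pullback g ⟶ hφ.pullback g, k ≫ hφ.snd g = hc.snd g ∧
      IsPullback k (hc.fst' g) (hφ.fst' g) χ := by
  have hw : (yon S).map (hc.fst' g ≫ χ) ≫ φ' = (yon S).map (hc.snd g) ≫ g := by
    rw [Functor.map_comp, Category.assoc]
    exact (hc.isPullback' g).w
  have h1 : hφ.lift' _ _ hw ≫ hφ.fst' g = hc.fst' g ≫ χ := hφ.lift'_fst _ _ hw
  have h2 : hφ.lift' _ _ hw ≫ hφ.snd g = hc.snd g := hφ.lift'_snd _ _ hw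
  refine ⟨hφ.lift' _ _ hw, h2, ?_⟩
  refine IsPullback.of_map (yon S) h1 ?_
  refine IsPullback.of_right ?_ (by rw [← Functor.map_comp, ← Functor.map_comp, h1])
    (hφ.isPullback' g).flip
  rw [← Functor.map_comp, h2]
  exact (hc.isPullback' g).flip

/-- Sp-level version of `s10212`. -/
theorem repWith_etale_of_comp_etale_surjective {X : Sp S} (hX : IsAlgSpace X) {U U' : Over S}
    (χ : U ⟶ U') [Etale χ.left] [Surjective χ.left] (φ' : (AlgSp.yon S).obj U' ⟶ X)
    (h : AlgSp.RepWith @Etale ((AlgSp.yon S).map χ ≫ φ')) :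
    AlgSp.RepWith @Etale φ' := by
  have hφ : Representable φ' := hX.representable_from_yon φ'
  refine ⟨hφ, ?_⟩
  intro T W g fst snd sq
  change Etale snd.left
  rw [prop_snd_iff_of_isPullback @Etale hφ g fst snd sq]
  obtain ⟨k, hk, sqk⟩ := exists_isPullback_fst_comp χ φ' hφ h.rep g
  have sq' := (sqk.map (Over.forget S)).flip
  have hk1 : Etale k.left :=
    MorphismProperty.of_isPullback (P := @Etale) sq' (inferInstanceAs (Etale χ.left))
  have hk2 : Surjective k.left :=
    MorphismProperty.of_isPullback (P := @Surjective) sq' (inferInstanceAs (Surjective χ.left))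
  refine etale_of_comp_etale_surjective k.left (hφ.snd g).left ?_
  rw [← Over.comp_left, hk]
  exact h.property_snd g

theorem s10212 (X : AlgSp.Space S) {U U' : Over S}
    (χ : U ⟶ U') [Etale χ.left] [Surjective χ.left] (φ' : (AlgSp.yon S).obj U' ⟶ X.obj)
    (h : AlgSp.RepWith @Etale ((AlgSp.yon S).map χ ≫ φ')) :
    AlgSp.RepWith @Etale φ' :=
  repWith_etale_of_comp_etale_surjective X.property χ φ' h

end Groth.Agent.H51
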