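import Groth.Agent.H51.SpEtSrc
import Groth.Agent.H53.Charts

set_option autoImplicit false
universe u
open CategoryTheory CategoryTheory.Limits AlgebraicGeometry Opposite MorphismProperty

namespace Groth.Agent.H51

open AlgSp Groth.Agent.H50

variable {S : Scheme.{u}}

/-- Sp-level version of `s10208`: etaleness via one chart square with surjective source chart. -/
theorem isEtaleMor_of_chart {X Y : Sp S} (hY : IsAlgSpace Y) (f : X ⟶ Y) {U V : Over S}
    (a : (AlgSp.yon S).obj U ⟶ X) (ha : AlgSp.RepWith @Etale a) (has : AlgSp.RepWith @Surjective a)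
    (b : (AlgSp.yon S).obj V ⟶ Y) (hb : AlgSp.RepWith @Etale b) (h : U ⟶ V) (hh : Etale h.left)
    (w : a ≫ f = (AlgSp.yon S).map h ≫ b) :
    AlgSp.IsEtaleMor f := by
  intro T φ hφ
  have sq := ha.rep.isPullback' φ
  have hp1 : Etale (ha.rep.snd φ).left := ha.property_snd φ
  have hp2 : Surjective (ha.rep.snd φ).left := has.property_snd φ
  have hq : Etale (ha.rep.fst' φ).left := hφ.property a _ _ sq.flip
  refine repWith_etale_of_comp_etale_surjective hY (ha.rep.snd φ) (φ ≫ f) ?_
  have : (yon S).map (ha.rep.snd φ) ≫ φ ≫ f = (yon S).map (ha.rep.fst' φ ≫ h) ≫ b := by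
    rw [← Category.assoc, ← sq.w, Category.assoc, w, Functor.map_comp, Category.assoc]
  rw [this]
  exact Groth.Agent.H53.repWith_etale_map_comp _ (by rw [Over.comp_left]; infer_instance) b hb

theorem s10208 {X Y : AlgSp.Space S} (f : X ⟶ Y) {U V : Over S}
    (a : (AlgSp.yon S).obj U ⟶ X.obj) (ha : AlgSp.RepWith @Etale a) (has : AlgSp.RepWith @Surjective a)
    (b : (AlgSp.yon S).obj V ⟶ Y.obj) (hb : AlgSp.RepWith @Etale b) (h : U ⟶ V) [Etale h.left]
    (w : a ≫ f.hom = (AlgSp.yon S).map h ≫ b) :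
    AlgSp.IsEtaleMor f.hom :=
  isEtaleMor_of_chart Y.property f.hom a ha has b hb h inferInstance w

/-- Sp-level version of `s10209`: base change of an etale morphism. -/
theorem isEtaleMor_of_isPullback {X Y Z P : Sp S} (hX : IsAlgSpace X) (hZ : IsAlgSpace Z)
    {f : X ⟶ Y} {g : Z ⟶ Y} {fst : P ⟶ Z} {snd : P ⟶ X} (h : IsPullback fst snd g f)
    (hf : AlgSp.IsEtaleMor f) : AlgSp.IsEtaleMor fst := by
  intro T φ hφ
  obtain ⟨U, a, ha, has⟩ := hX.atlas
  have haf : RepWith @Etale (a ≫ f) := hf a ha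
  let PU := pullback g (a ≫ f)
  let q : PU ⟶ Z := pullback.fst _ _
  let r : PU ⟶ (yon S).obj U := pullback.snd _ _
  have sqPU : IsPullback q r g (a ≫ f) := IsPullback.of_hasPullback _ _
  have hq : RepWith @Etale q := (RepWith @Etale).of_isPullback sqPU.flip haf
  have hw : q ≫ g = (r ≫ a) ≫ f := by rw [sqPU.w, Category.assoc]
  let m : PU ⟶ P := h.lift q (r ≫ a) hw
  have hm1 : m ≫ fst = q := h.lift_fst _ _ hw
  have hm2 : m ≫ snd = r ≫ a := h.lift_snd _ _ hw
  have sqm : IsPullback r m a snd := by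
    refine IsPullback.of_bot ?_ hm2.symm h.flip
    rw [hm1]
    exact sqPU.flip
  have hme : RepWith @Etale m := (RepWith @Etale).of_isPullback sqm ha
  have hms : RepWith @Surjective m := (RepWith @Surjective).of_isPullback sqm has
  have hp1 : Etale (hme.rep.snd φ).left := hme.property_snd φ
  have hp2 : Surjective (hme.rep.snd φ).left := hms.property_snd φ
  have hψ : RepWith @Etale (hme.rep.fst φ) := repWith_fst hme.rep φ hφ
  have hψq : RepWith @Etale (hme.rep.fst φ ≫ q) := (RepWith @Etale).comp_mem _ _ hψ hq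
  refine repWith_etale_of_comp_etale_surjective hZ (hme.rep.snd φ) (φ ≫ fst) ?_
  have : (yon S).map (hme.rep.snd φ) ≫ φ ≫ fst = hme.rep.fst φ ≫ q := by
    rw [← hm1, ← Category.assoc, ← Category.assoc, hme.rep.w]
  rw [this]
  exact hψq

theorem s10209 {X Y Z P : AlgSp.Space S} (f : X ⟶ Y) (g : Z ⟶ Y)
    (fst : P ⟶ Z) (snd : P ⟶ X) (h : IsPullback fst.hom snd.hom g.hom f.hom)
    (hf : AlgSp.IsEtaleMor f.hom) : AlgSp.IsEtaleMor fst.hom :=
  isEtaleMor_of_isPullback X.property Z.property h hf

/-- A representable morphism from an algebraic space which is etale (`IsEtaleMor`) is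
representable etale. -/
theorem repWith_etale_of_isEtaleMor {X Y : Sp S} (hX : IsAlgSpace X) {f : X ⟶ Y}
    (hf : Representable f) (h : AlgSp.IsEtaleMor f) : RepWith @Etale f := by
  refine ⟨hf, ?_⟩
  intro T W g fst snd sq
  change Etale snd.left
  rw [prop_snd_iff_of_isPullback @Etale hf g fst snd sq]
  obtain ⟨U, a, ha, has⟩ := hX.atlas
  have haf : RepWith @Etale (a ≫ f) := h a ha
  have sqL := (ha.rep.isPullback' (hf.fst g)).flip
  have sqR := (hf.isPullback g).flip
  have big := sqL.paste_horiz sqR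
  have h1 : Etale (ha.rep.snd (hf.fst g)).left := ha.property_snd _
  have h2 : Surjective (ha.rep.snd (hf.fst g)).left := has.property_snd _
  rw [← Functor.map_comp] at big
  have h3 : Etale (ha.rep.snd (hf.fst g) ≫ hf.snd g).left := haf.property g _ _ big.flip
  rw [Over.comp_left] at h3
  exact etale_of_comp_etale_surjective _ _ h3

/-- A representable etale monomorphism is an open immersion. -/
theorem repWith_isOpenImmersion_of_etale_of_mono {F G : Sp S} {m : F ⟶ G}
    (h1 : RepWith @Etale m) (h2 : RepWith (MorphismProperty.monomorphisms Scheme.{u}) m) :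
    RepWith @IsOpenImmersion m := by
  refine ⟨h1.rep, fun T V g fst snd sq => ?_⟩
  have a1 : Etale snd.left := h1.property g fst snd sq
  have a2 : Mono snd.left := h2.property g fst snd sq
  exact IsOpenImmersion.of_flat_of_mono snd.left

end Groth.Agent.H51
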