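import Groth.Agent.H51.SpEtPoint
import Mathlib.CategoryTheory.Sites.Point.Skyscraper

set_option autoImplicit false
universe u
open CategoryTheory CategoryTheory.Limits AlgebraicGeometry Opposite MorphismProperty
namespace Groth.Agent.H51
open AlgSp
variable {S : Scheme.{u}}

theorem ab5_addCommGrp : AB5OfSize.{u, u} AddCommGrpCat.{u + 1} :=
  AB5OfSize_of_univLE.{u, u, u + 1, u + 1} AddCommGrpCat.{u + 1}

theorem ab5_type : AB5OfSize.{u, u} (Type (u + 1)) :=
  AB5OfSize_of_univLE.{u, u, u + 1, u + 1} (Type (u + 1))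

theorem geomPoint_presheafFiber_ab (X : AlgSp.Space S) (p : FieldPt X.obj) (hp : p.IsGeometric) :
    (geomPoint X p hp).presheafFiber (A := AddCommGrpCat.{u + 1}) =
      stalkEtPshFunctor AddCommGrpCat.{u + 1} p := rfl

theorem geomPoint_presheafFiber_type (X : AlgSp.Space S) (p : FieldPt X.obj) (hp : p.IsGeometric) :
    (geomPoint X p hp).presheafFiber (A := Type (u + 1)) = stalkEtPshFunctor (Type (u + 1)) p := rfl

theorem geomPoint_sheafFiber_ab (X : AlgSp.Space S) (p : FieldPt X.obj) (hp : p.IsGeometric) :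
    (geomPoint X p hp).sheafFiber (A := AddCommGrpCat.{u + 1}) =
      stalkEtFunctor AddCommGrpCat.{u + 1} p := rfl

theorem geomPoint_sheafFiber_type (X : AlgSp.Space S) (p : FieldPt X.obj) (hp : p.IsGeometric) :
    (geomPoint X p hp).sheafFiber (A := Type (u + 1)) = stalkEtFunctor (Type (u + 1)) p := rfl

theorem stalkEtPsh_preservesFiniteLimits_ab (X : AlgSp.Space S) (p : FieldPt X.obj)
    (hp : p.IsGeometric) : PreservesFiniteLimits (stalkEtPshFunctor AddCommGrpCat.{u + 1} p) :=
  haveI := ab5_addCommGrp.{u}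
  inferInstanceAs
    (PreservesFiniteLimits ((geomPoint X p hp).presheafFiber (A := AddCommGrpCat.{u + 1})))

theorem stalkEtPsh_preservesFiniteColimits_ab (X : AlgSp.Space S) (p : FieldPt X.obj)
    (hp : p.IsGeometric) : PreservesFiniteColimits (stalkEtPshFunctor AddCommGrpCat.{u + 1} p) := by
  haveI : PreservesColimitsOfSize.{u, u} (stalkEtPshFunctor AddCommGrpCat.{u + 1} p) :=
    inferInstanceAs (PreservesColimitsOfSize.{u, u}
      ((geomPoint X p hp).presheafFiber (A := AddCommGrpCat.{u + 1})))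
  exact PreservesColimitsOfSize.preservesFiniteColimits _

theorem isIso_stalkEtPsh_toSheafify (X : AlgSp.Space S) (p : FieldPt X.obj) (hp : p.IsGeometric)
    (P : (EtOver X.obj)ᵒᵖ ⥤ Type (u + 1)) :
    IsIso ((stalkEtPshFunctor (Type (u + 1)) p).map (toSheafify (etTop X.obj) P)) := by
  have h := (geomPoint X p hp).W_isInvertedBy_presheafFiber' (A := Type (u + 1))
  exact h _ (GrothendieckTopology.W_toSheafify _ P)

theorem stalkEt_preservesFiniteLimits_ab (X : AlgSp.Space S) (p : FieldPt X.obj)
    (hp : p.IsGeometric) : PreservesFiniteLimits (stalkEtFunctor AddCommGrpCat.{u + 1} p) :=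
  haveI := ab5_addCommGrp.{u}
  inferInstanceAs
    (PreservesFiniteLimits ((geomPoint X p hp).sheafFiber (A := AddCommGrpCat.{u + 1})))

theorem stalkEt_preservesFiniteLimits_type (X : AlgSp.Space S) (p : FieldPt X.obj)
    (hp : p.IsGeometric) : PreservesFiniteLimits (stalkEtFunctor (Type (u + 1)) p) :=
  haveI := ab5_type.{u}
  inferInstanceAs
    (PreservesFiniteLimits ((geomPoint X p hp).sheafFiber (A := Type (u + 1))))

theorem stalkEt_preservesFiniteColimits_ab (X : AlgSp.Space S) (p : FieldPt X.obj)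
    (hp : p.IsGeometric) : PreservesFiniteColimits (stalkEtFunctor AddCommGrpCat.{u + 1} p) :=
  inferInstanceAs
    (PreservesFiniteColimits ((geomPoint X p hp).sheafFiber (A := AddCommGrpCat.{u + 1})))

theorem stalkEt_preservesFiniteColimits_type (X : AlgSp.Space S) (p : FieldPt X.obj)
    (hp : p.IsGeometric) : PreservesFiniteColimits (stalkEtFunctor (Type (u + 1)) p) :=
  inferInstanceAs
    (PreservesFiniteColimits ((geomPoint X p hp).sheafFiber (A := Type (u + 1))))

end Groth.Agent.H51
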