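import Groth.Agent.H51.SpEtStalk2
import Groth.Prelude.Def_AlgSpOX3

set_option autoImplicit false
universe u
open CategoryTheory CategoryTheory.Limits AlgebraicGeometry Opposite MorphismProperty
namespace Groth.Agent.H51
open AlgSp Groth.Agent.H52
variable {S : Scheme.{u}}

theorem preservesFilteredColimits_forget_ab :
    PreservesFilteredColimitsOfSize.{u, u} (forget AddCommGrpCat.{u + 1}) :=
  preservesFilteredColimitsOfSize_of_univLE.{u + 1, u + 1, u, u} _

theorem isZero_of_forall_stalkEt_isZero (X : AlgSp.Space S) (A : AbEt X.obj)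
    (h : ∀ p : FieldPt X.obj, p.IsGeometric → IsZero ((stalkEtFunctor AddCommGrpCat.{u + 1} p).obj A)) :
    IsZero A := by
  haveI := preservesFilteredColimits_forget_ab.{u}
  rw [IsZero.iff_id_eq_zero]
  apply Sheaf.hom_ext
  ext U s
  change s = 0
  have hsep : Presieve.IsSeparated (etTop X.obj) (A.obj ⋙ forget AddCommGrpCat.{u + 1}) :=
    Presieve.IsSheaf.isSeparated ((isSheaf_iff_isSheaf_of_type _ _).1
      ((Presheaf.isSheaf_iff_isSheaf_forget (etTop X.obj) A.obj (forget _)).1 A.property))
  refine (hsep _ (mem_etTop_of_forall_geometric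
    (Presheaf.equalizerSieve (F := A.obj) s 0) fun p hp e => ?_)).ext fun Y f hf => hf
  let Φ := geomPoint X p hp
  have h1 : Φ.toPresheafFiber U.unop e A.obj s = Φ.toPresheafFiber U.unop e A.obj 0 :=
    (AddCommGrpCat.subsingleton_of_isZero (h p hp)).elim _ _
  obtain ⟨Y, f, y, hy, hf⟩ := (Φ.toPresheafFiber_eq_iff' U.unop e s 0).1 h1
  exact ⟨Y, f, hf, y, hy⟩


theorem exact_iff_stalkEt (X : AlgSp.Space S) (C : ShortComplex (AbEt X.obj)) :
    C.Exact ↔ ∀ p : FieldPt X.obj, p.IsGeometric →
      ∀ y : ↥((stalkEtFunctor AddCommGrpCat.{u + 1} p).obj C.X₂),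
        ((stalkEtFunctor AddCommGrpCat.{u + 1} p).map C.g) y = 0 →
          ∃ x : ↥((stalkEtFunctor AddCommGrpCat.{u + 1} p).obj C.X₁),
            ((stalkEtFunctor AddCommGrpCat.{u + 1} p).map C.f) x = y := by
  have key : ∀ (p : FieldPt X.obj) (hp : p.IsGeometric),
      ∃ (_ : (stalkEtFunctor AddCommGrpCat.{u + 1} p).PreservesZeroMorphisms),
        (stalkEtFunctor AddCommGrpCat.{u + 1} p).PreservesHomology := by
    intro p hp
    haveI := stalkEt_preservesFiniteLimits_ab X p hp
    haveI := stalkEt_preservesFiniteColimits_ab X p hp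
    haveI : (stalkEtFunctor AddCommGrpCat.{u + 1} p).PreservesZeroMorphisms :=
      Functor.preservesZeroMorphisms_of_preserves_terminal_object
    exact ⟨inferInstance, inferInstance⟩
  constructor
  · intro hC p hp
    obtain ⟨_, _⟩ := key p hp
    exact (ShortComplex.ab_exact_iff _).1 (hC.map (stalkEtFunctor AddCommGrpCat.{u + 1} p))
  · intro h
    refine C.exact_iff_isZero_homology.2 (isZero_of_forall_stalkEt_isZero X C.homology fun p hp => ?_)
    obtain ⟨_, _⟩ := key p hp
    have hE : (C.map (stalkEtFunctor AddCommGrpCat.{u + 1} p)).Exact :=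
      (ShortComplex.ab_exact_iff _).2 (h p hp)
    exact IsZero.of_iso ((C.map _).exact_iff_isZero_homology.1 hE)
      (C.mapHomologyIso (stalkEtFunctor AddCommGrpCat.{u + 1} p)).symm

end Groth.Agent.H51
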