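import Groth.Agent.H51.SpEtSupport2
import Groth.Agent.H51.SpEtLocRinged


set_option autoImplicit false
universe u
open CategoryTheory CategoryTheory.Limits AlgebraicGeometry Opposite MorphismProperty
namespace Groth.Agent.H51
open AlgSp Groth.Agent.H52
variable {S : Scheme.{u}}

theorem existsUnique_open_of_subsingleton (X : AlgSp.Space S) (F : EtSh X.obj (Type (u + 1)))
    (hF : ∀ E : EtOver X.obj, Subsingleton (F.obj.obj (op E))) :
    ∃! W : Set (Points X.obj), IsOpen W ∧
      ∀ E : EtOver X.obj, Nonempty (F.obj.obj (op E)) ↔ Set.range (Points.ofPt E.obj.hom) ⊆ W := by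
  let W : Set (Points X.obj) :=
    {x | ∃ E : EtOver X.obj, Nonempty (F.obj.obj (op E)) ∧ x ∈ Set.range (Points.ofPt E.obj.hom)}
  have hWo : IsOpen W := by
    rw [isOpen_iff_forall_mem_open]
    rintro x ⟨E, hE, hx⟩
    exact ⟨Set.range (Points.ofPt E.obj.hom), fun y hy => ⟨E, hE, hy⟩,
      (isOpenMap_ofPt_of_etale E.obj.hom E.property).isOpen_range, hx⟩
  have hsh : Presieve.IsSheaf (etTop X.obj) F.obj := (isSheaf_iff_isSheaf_of_type _ _).1 F.property
  have hW : ∀ E : EtOver X.obj,
      Nonempty (F.obj.obj (op E)) ↔ Set.range (Points.ofPt E.obj.hom) ⊆ W := by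
    intro E
    constructor
    · intro hE x hx
      exact ⟨E, hE, hx⟩
    · intro hsub
      -- the sieve of arrows whose source has a section
      let R : Sieve E :=
        { arrows := fun V _ => Nonempty (F.obj.obj (op V))
          downward_closed := fun {V V'} g ⟨s⟩ h => ⟨F.obj.map h.op s⟩ }
      have hR : R ∈ etTop X.obj E := by
        refine mem_etTop_of_forall_geometric R fun p hp e => ?_
        obtain ⟨E', hE', hx'⟩ := hsub ⟨e.1.left (default : Spec (CommRingCat.of p.K)), rfl⟩
        rw [ofPt_lift_eq p e] at hx'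
        obtain ⟨u', hu'⟩ := exists_lift_of_mem_range p hp E'.obj.hom E'.property hx'
        let e' : (FieldPt.liftsTo p).obj E' := ⟨u', hu'⟩
        let w0 : p.pt ⟶ (EtOver.prodObj E E').obj.left :=
          E'.property.1.lift' e'.1 e.1 (by rw [e.2, e'.2])
        have h1 : w0 ≫ (EtOver.prodFst E E').hom.left = e.1 :=
          Functor.relativelyRepresentable.lift'_snd _ _ _ _
        have hw : (yon S).map w0 ≫ (EtOver.prodObj E E').obj.hom = p.toHom := by
          rw [← EtOver.w (EtOver.prodFst E E'), ← Category.assoc, ← Functor.map_comp, h1]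
          exact e.2
        obtain ⟨s'⟩ := hE'
        exact ⟨EtOver.prodObj E E', EtOver.prodFst E E',
          ⟨F.obj.map (EtOver.prodSnd E E').op s'⟩, ⟨w0, hw⟩, Subtype.ext h1⟩
      let x : Presieve.FamilyOfElements F.obj R.arrows := fun V g hg => hg.some
      have hx : x.Compatible := fun _ _ Z _ _ _ _ _ _ _ => (hF Z).elim _ _
      exact ⟨(hsh R hR).amalgamate x hx⟩
  refine ⟨W, ⟨hWo, hW⟩, fun W' ⟨hW'o, hW'⟩ => ?_⟩
  apply Set.Subset.antisymm
  · intro x hx
    obtain ⟨U, a, hae, has⟩ := X.property.atlas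
    obtain ⟨u, rfl⟩ := surjective_ofPt_of_surjective a has x
    let O : U.left.Opens := ⟨Points.ofPt a ⁻¹' W', hW'o.preimage (Points.continuous_ofPt a)⟩
    let E : EtOver X.obj := EtOver.ofOpen (EtOver.mk a hae) O
    have hsub : Set.range (Points.ofPt E.obj.hom) ⊆ W' := by
      rintro _ ⟨z, rfl⟩
      have h1 := ofPt_yon_map_comp (Over.homMk (U := Over.mk (O.ι ≫ U.hom)) (V := U) O.ι rfl) a z
      have h2 : Points.ofPt E.obj.hom z = Points.ofPt a (O.ι z) := h1
      rw [h2]
      have h3 := Set.mem_range_self (f := O.ι) z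
      rw [Scheme.Opens.range_ι] at h3
      exact h3
    have hE := (hW' E).2 hsub
    refine ⟨E, hE, ⟨⟨u, hx⟩, ?_⟩⟩
    exact ofPt_yon_map_comp (Over.homMk (U := Over.mk (O.ι ≫ U.hom)) (V := U) O.ι rfl) a ⟨u, hx⟩
  · rintro x ⟨E, hE, hx⟩
    exact (hW' E).1 hE hx

end Groth.Agent.H51
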