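import Groth.Agent.S10678
import Groth.Agent.H50.ProperImage
import Groth.Agent.H17.Chev.Main
import Groth.Agent.H51.ResTrdeg2

/-! Semicontinuity of fibre dimension for morphisms of algebraic spaces (S10680). -/

set_option autoImplicit false
universe u
open CategoryTheory CategoryTheory.Limits AlgebraicGeometry Opposite MorphismProperty

namespace Groth.Agent.H51
open AlgSp
variable {S : Scheme.{u}}

/-- Chevalley's upper semicontinuity on the source, for algebraic spaces. -/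
theorem isOpen_setOf_hasAtMor_fibreDimAt_le {X Y : AlgSp.Space S} (f : X ⟶ Y)
    (hf : LocP @LocallyOfFiniteType f.hom) (n : ℕ) :
    IsOpen {x : Points X.obj |
      HasAtMor (fun _ _ h u => FlatMor.fibreDimAt h u ≤ (n : WithBot ℕ∞)) f.hom x} := by
  obtain ⟨V, b, hb, hbs⟩ := Y.property.atlas
  obtain ⟨U, a, h, ha, has, e⟩ := Groth.Agent.H49.exists_chart_lift X.property f.hom b hb hbs
  have : LocallyOfFiniteType h.left := hf a b h ha hb e
  have hset : {x : Points X.obj |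
      HasAtMor (fun _ _ h u => FlatMor.fibreDimAt h u ≤ (n : WithBot ℕ∞)) f.hom x} =
      Points.ofPt a '' {u | FlatMor.fibreDimAt h.left u ≤ n} := by
    ext x
    constructor
    · rintro ⟨U₁, V₁, a₁, b₁, h₁, u₁, ha₁, hb₁, e₁, hu₁, hd₁⟩
      obtain ⟨u, hu⟩ := surjective_ofPt_of_surjective a has x
      refine ⟨u, ?_, hu⟩
      change FlatMor.fibreDimAt h.left u ≤ n
      rw [Groth.Agent.H53.fibreDimAt_chart_indep f.hom a b h a₁ b₁ h₁ ha hb ha₁ hb₁ e e₁ u u₁
        (hu.trans hu₁.symm)]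
      exact hd₁
    · rintro ⟨u, hu, rfl⟩
      exact ⟨U, V, a, b, h, u, ha, hb, e, rfl, hu⟩
  rw [hset]
  exact isOpenMap_ofPt_of_etale a ha _ (Groth.Agent.H17.Chev.isOpen_setOf_fibreDimAt_le h.left n)

theorem lt_iff_of_withBot_enat (x d : WithBot ℕ∞) :
    x < d ↔ (x = ⊥ ∧ ⊥ < d) ∨ ∃ n : ℕ, x ≤ (n : WithBot ℕ∞) ∧ (n : WithBot ℕ∞) < d := by
  constructor
  · intro h
    induction x using WithBot.recBotCoe with
    | bot => exact Or.inl ⟨rfl, h⟩
    | coe e =>
      right
      induction e using ENat.recTopCoe with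
      | top =>
        exfalso
        have : d ≤ ((⊤ : ℕ∞) : WithBot ℕ∞) := le_top
        exact absurd (lt_of_lt_of_le h this) (lt_irrefl _)
      | coe m => exact ⟨m, le_rfl, h⟩
  · rintro (⟨rfl, h⟩ | ⟨n, h1, h2⟩)
    · exact h
    · exact lt_of_le_of_lt h1 h2

/-- **S10680**. -/
theorem s10680 {X Y : AlgSp.Space S} (f : X ⟶ Y) (hf : AlgSp.IsProperMor f.hom) (d : WithBot ℕ∞) :
    IsOpen {y : AlgSp.Points Y.obj | ∀ (k : AlgSp.FieldPt Y.obj), AlgSp.Points.mk k = y →
      ∀ (Xk : AlgSp.Sp S) (fst : Xk ⟶ X.obj) (snd : Xk ⟶ (AlgSp.yon S).obj k.pt),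
        IsPullback fst snd f.hom k.toHom → AlgSp.dim Xk < d} := by
  obtain ⟨-, hft, huc⟩ := hf
  have hcl : IsClosedMap (Points.map f.hom) :=
    Groth.Agent.H50.isClosedMap_of_isUnivClosedMor Y.property f.hom huc
  rw [isOpen_iff_forall_mem_open]
  intro y hy
  induction y using Points.ind with
  | h k₀ =>
  have sq₀ := IsPullback.of_hasPullback f.hom k₀.toHom
  have h₀ := hy k₀ rfl _ _ _ sq₀
  have key₀ := Groth.Agent.S10678.result f hft (Points.mk k₀) k₀ rfl _ _ _ sq₀
  rcases (lt_iff_of_withBot_enat _ _).1 h₀ with ⟨hbot, hd⟩ | ⟨n, hn, hd⟩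
  · refine ⟨(Set.range (Points.map f.hom))ᶜ, ?_, ?_, key₀.1.1 hbot⟩
    · intro y' hy' k hk Xk fst snd sq
      have key := Groth.Agent.S10678.result f hft y' k hk Xk fst snd sq
      rw [key.1.2 hy']
      exact hd
    · rw [← Set.image_univ]
      exact (hcl _ isClosed_univ).isOpen_compl
  · set C : Set (Points X.obj) := {x : Points X.obj |
      HasAtMor (fun _ _ h u => FlatMor.fibreDimAt h u ≤ (n : WithBot ℕ∞)) f.hom x}ᶜ with hC
    have hCcl : IsClosed C := (isOpen_setOf_hasAtMor_fibreDimAt_le f hft.1 n).isClosed_compl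
    refine ⟨(Points.map f.hom '' C)ᶜ, ?_, (hcl _ hCcl).isOpen_compl, ?_⟩
    · intro y' hy' k hk Xk fst snd sq
      have key := Groth.Agent.S10678.result f hft y' k hk Xk fst snd sq
      refine lt_of_le_of_lt ((key.2 n).2 ?_) hd
      intro x hx
      by_contra hcon
      exact hy' ⟨x, hcon, hx⟩
    · rintro ⟨x, hxC, hx⟩
      exact hxC ((key₀.2 n).1 hn x hx)

end Groth.Agent.H51
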