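import Groth.Agent.H50.LocPBase
import Groth.Agent.H50.LocPClass
import Groth.Agent.H49.AlgSpRep

set_option autoImplicit false
universe u
open CategoryTheory CategoryTheory.Limits AlgebraicGeometry Opposite MorphismProperty

namespace Groth.Agent.H51
open AlgSp
variable {S : Scheme.{u}}

/-- An algebraic space locally of finite type over the spectrum of a field is locally Noetherian. -/
theorem isLocNoethSp_of_locP_lft_field {P : Sp S} (hP : IsAlgSpace P) {K : Type u} [Field K]
    (w : Spec (CommRingCat.of K) ⟶ S) (snd : P ⟶ (yon S).obj (Over.mk w))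
    (h : LocP @LocallyOfFiniteType snd) : IsLocNoethSp P := by
  obtain ⟨U, a, ha1, ha2⟩ := hP.atlas
  refine ⟨U, a, ha1, ha2, ?_⟩
  obtain ⟨m, hm⟩ := (yon S).map_surjective (a ≫ snd)
  have h1 : LocallyOfFiniteType m.left :=
    h a (𝟙 _) m ha1 (repWith_id _ _) (by rw [hm, Category.comp_id])
  have : IsLocallyNoetherian (Over.mk w).left :=
    inferInstanceAs (IsLocallyNoetherian (Spec (CommRingCat.of K)))
  exact LocallyOfFiniteType.isLocallyNoetherian m.left

theorem s10802 (X Y : AlgSp.Space S) (f : X ⟶ Y)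
    (hf : AlgSp.LocP @LocallyOfFiniteType f.hom) (p : AlgSp.FieldPt Y.obj)
    {P : AlgSp.Sp S} (fst : P ⟶ X.obj) (snd : P ⟶ (AlgSp.yon S).obj p.pt) (hP : IsPullback fst snd f.hom p.toHom) :
    AlgSp.IsLocNoethSp P := by
  have hPs : IsAlgSpace P :=
    Groth.Agent.H49.isAlgSpace_of_isPullback hP Y.property.diag X.property (IsAlgSpace.yon_obj _)
  have h1 : LocP @LocallyOfFiniteType snd :=
    Groth.Agent.H50.goodClass_lft.locP_of_isPullback X.property Y.property (IsAlgSpace.yon_obj _)
      f.hom p.toHom fst snd hP hf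
  exact isLocNoethSp_of_locP_lft_field hPs p.str snd h1

end Groth.Agent.H51
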