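import Groth.Agent.H53.Charts
import Groth.Agent.H53.NoethFppf
import Groth.Agent.H13.NoethDescent
import Groth.Agent.H49.AlgSpRep
import Groth.Agent.H52.MonoPoint
import Groth.Agent.H50.LocPBase
import Groth.Agent.H50.LocPClass
import Groth.Agent.H51.SpEtale

set_option autoImplicit false
universe u
open CategoryTheory CategoryTheory.Limits AlgebraicGeometry Opposite MorphismProperty

namespace Groth.Agent.H51
open AlgSp
variable {S : Scheme.{u}}

/-- Every étale scheme chart of a locally Noetherian sheaf is locally Noetherian. -/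
theorem isLocallyNoetherian_of_isLocNoethSp {P : Sp S} (hP : IsLocNoethSp P) {W : Over S}
    (c : (yon S).obj W ⟶ P) (hc : RepWith @Etale c) : IsLocallyNoetherian W.left := by
  obtain ⟨V₀, b, hb1, hb2, hN⟩ := hP
  obtain ⟨W', p, q, sqW'⟩ := Groth.Agent.H53.exists_pullback_yon c b hb1.rep
  have hp1 : Etale p.left := Groth.Agent.H53.prop_of_isPullback_yon sqW' hb1
  have hp2 : Surjective p.left := Groth.Agent.H53.prop_of_isPullback_yon sqW' hb2
  have hq : Etale q.left := Groth.Agent.H53.prop_of_isPullback_yon sqW'.flip hc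
  have : IsLocallyNoetherian V₀.left := hN
  have : IsLocallyNoetherian W'.left := LocallyOfFiniteType.isLocallyNoetherian q.left
  exact Groth.Agent.H53.isLocallyNoetherian_of_fppf_surjective p.left

/-- Local Noetherianity of an algebraic space descends along the base change by a flat, surjective,
quasi-compact morphism of schemes. -/
theorem isLocNoethSp_of_baseChange {Q P : Sp S} (hQ : IsAlgSpace Q) {T₀ T : Over S} (m : T ⟶ T₀)
    (hm1 : Flat m.left) (hm2 : Surjective m.left) (hm3 : QuasiCompact m.left)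
    (qsnd : Q ⟶ (yon S).obj T₀) (g : P ⟶ Q) (psnd : P ⟶ (yon S).obj T)
    (sq : IsPullback g psnd qsnd ((yon S).map m)) (hP : IsLocNoethSp P) : IsLocNoethSp Q := by
  obtain ⟨U, a, ha1, ha2⟩ := hQ.atlas
  refine ⟨U, a, ha1, ha2, ?_⟩
  have hmrep : Representable ((yon S).map m) := ((repWith_yon_map_iff @Flat m).2 hm1).rep
  obtain ⟨W, w₁, w₂, sqW⟩ := Groth.Agent.H53.exists_pullback_yon (a ≫ qsnd) ((yon S).map m) hmrep
  have hw1 : Flat w₁.left :=
    Groth.Agent.H53.prop_of_isPullback_yon sqW ((repWith_yon_map_iff @Flat m).2 hm1)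
  have hw2 : Surjective w₁.left :=
    Groth.Agent.H53.prop_of_isPullback_yon sqW ((repWith_yon_map_iff @Surjective m).2 hm2)
  have hw3 : QuasiCompact w₁.left :=
    Groth.Agent.H53.prop_of_isPullback_yon sqW ((repWith_yon_map_iff @QuasiCompact m).2 hm3)
  let c : (yon S).obj W ⟶ P := sq.lift ((yon S).map w₁ ≫ a) ((yon S).map w₂)
    (by rw [Category.assoc]; exact sqW.w)
  have hc1 : c ≫ g = (yon S).map w₁ ≫ a := sq.lift_fst _ _ _
  have hc2 : c ≫ psnd = (yon S).map w₂ := sq.lift_snd _ _ _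
  have sqc : IsPullback c ((yon S).map w₁) g a := by
    refine IsPullback.of_right ?_ hc1 sq.flip
    rw [hc2]; exact sqW.flip
  have hce : RepWith @Etale c := MorphismProperty.of_isPullback sqc.flip ha1
  have : IsLocallyNoetherian W.left := isLocallyNoetherian_of_isLocNoethSp hP c hce
  exact Groth.Agent.H13.isLocallyNoetherian_of_flat_surjective_quasiCompact w₁.left

end Groth.Agent.H51

namespace Groth.Agent.H51
open AlgSp
variable {S : Scheme.{u}}

theorem surjective_of_field_target {A : Scheme.{u}} [Nonempty ↥A] {K : Type u} [Field K]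
    (g : A ⟶ Spec (CommRingCat.of K)) : Surjective g := by
  refine ⟨fun y => ?_⟩
  obtain ⟨a⟩ := ‹Nonempty ↥A›
  have : Subsingleton ↥(Spec (CommRingCat.of K)) := inferInstanceAs (Subsingleton (PrimeSpectrum K))
  exact ⟨a, Subsingleton.elim _ _⟩

theorem s10804 (X Y : AlgSp.Space S) (f : X ⟶ Y)
    (p p₀ : AlgSp.FieldPt Y.obj) (hpp : AlgSp.Points.mk p = AlgSp.Points.mk p₀) (hmono : Mono p₀.toHom)
    (hNoeth : ∀ ⦃P : AlgSp.Sp S⦄ (fst : P ⟶ X.obj) (snd : P ⟶ (AlgSp.yon S).obj p.pt),
      IsPullback fst snd f.hom p.toHom → AlgSp.IsLocNoethSp P)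
    {Q : AlgSp.Sp S} (qfst : Q ⟶ X.obj) (qsnd : Q ⟶ (AlgSp.yon S).obj p₀.pt)
    (hQ : IsPullback qfst qsnd f.hom p₀.toHom) :
    AlgSp.IsLocNoethSp Q := by
  have hrep : Representable p₀.toHom := Y.property.representable_from_yon _
  obtain ⟨c, hc⟩ := Groth.Agent.H52.exists_factor_of_mono p₀ p hmono hrep hpp
  have hQs : IsAlgSpace Q :=
    Groth.Agent.H49.isAlgSpace_of_isPullback hQ Y.property.diag X.property (IsAlgSpace.yon_obj _)
  have sq := IsPullback.of_hasPullback qsnd ((yon S).map c)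
  have hP : IsLocNoethSp (pullback qsnd ((yon S).map c)) := by
    refine hNoeth (pullback.fst qsnd ((yon S).map c) ≫ qfst) (pullback.snd qsnd ((yon S).map c)) ?_
    have := sq.paste_horiz hQ
    rwa [hc] at this
  have key1 : ∀ {A : Scheme.{u}} (g : A ⟶ Spec (CommRingCat.of p₀.K)), Flat g :=
    fun g => inferInstance
  have key3 : ∀ (g : Spec (CommRingCat.of p.K) ⟶ Spec (CommRingCat.of p₀.K)), QuasiCompact g :=
    fun g => inferInstance
  have h1 : Flat c.left := key1 c.left
  have h2 : Surjective c.left :=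
    surjective_of_field_target (A := Spec (CommRingCat.of p.K)) (K := p₀.K) c.left
  have h3 : QuasiCompact c.left := key3 c.left
  exact isLocNoethSp_of_baseChange hQs c h1 h2 h3 qsnd _ _ sq hP

end Groth.Agent.H51

namespace Groth.Agent.H51
open AlgSp Groth.Agent.H52 Groth.Agent.H50
variable {S : Scheme.{u}}

/-- The source of a morphism of algebraic spaces, locally of finite type, with locally Noetherian
target is locally Noetherian (sheaf-level form). -/
theorem isLocNoethSp_of_locP_lft {R P : Sp S} (hR : IsAlgSpace R) (r : R ⟶ P)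
    (hr : LocP @LocallyOfFiniteType r) (hP : IsLocNoethSp P) : IsLocNoethSp R := by
  obtain ⟨V₀, p₀, hp1, hp2, hN⟩ := hP
  obtain ⟨U₀, a₀, ha1, ha2⟩ := hR.atlas
  obtain ⟨W, w₁, w₂, sq⟩ := Groth.Agent.H53.exists_pullback_yon (a₀ ≫ r) p₀ hp1.rep
  have hw : Etale w₁.left := Groth.Agent.H53.prop_of_isPullback_yon sq hp1
  have hws : Surjective w₁.left := Groth.Agent.H53.prop_of_isPullback_yon sq hp2
  have hc1 : RepWith @Etale ((yon S).map w₁ ≫ a₀) :=
    Groth.Agent.H53.repWith_etale_map_comp w₁ hw a₀ ha1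
  have hc2 : RepWith @Surjective ((yon S).map w₁ ≫ a₀) :=
    (RepWith @Surjective).comp_mem _ _ ((repWith_yon_map_iff _ _).2 hws) ha2
  have hft : LocallyOfFiniteType w₂.left :=
    hr ((yon S).map w₁ ≫ a₀) p₀ w₂ hc1 hp1 (by rw [Category.assoc]; exact sq.w)
  have : IsLocallyNoetherian V₀.left := hN
  exact ⟨W, _, hc1, hc2, LocallyOfFiniteType.isLocallyNoetherian w₂.left⟩

theorem s10803 (X Y : AlgSp.Space S) (f : X ⟶ Y)
    (y : AlgSp.Points Y.obj) (p : AlgSp.FieldPt Y.obj) (hp : AlgSp.Points.mk p = y)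
    (hNoeth : ∀ ⦃P : AlgSp.Sp S⦄ (fst : P ⟶ X.obj) (snd : P ⟶ (AlgSp.yon S).obj p.pt),
      IsPullback fst snd f.hom p.toHom → AlgSp.IsLocNoethSp P)
    (V : Over S) (b : (AlgSp.yon S).obj V ⟶ Y.obj) (hb : AlgSp.RepWith @Etale b) (v : ↥V.left)
    (hv : AlgSp.Points.ofPt b v = y)
    {Q : AlgSp.Sp S} (qfst : Q ⟶ X.obj) (qsnd : Q ⟶ (AlgSp.yon S).obj (AlgSp.FieldPt.ofPt b v).pt)
    (hQ : IsPullback qfst qsnd f.hom (AlgSp.FieldPt.ofPt b v).toHom) :
    AlgSp.IsLocNoethSp Q := by
  -- the fibre of the chart over `p`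
  obtain ⟨E, e₁, e₂, sqE⟩ := Groth.Agent.H53.exists_pullback_yon p.toHom b hb.rep
  have he₁ : Etale e₁.left := Groth.Agent.H53.prop_of_isPullback_yon sqE hb
  -- a point of the fibre over `v`
  obtain ⟨e, -, hev⟩ := Groth.Agent.H53.exists_pt_of_isPullback_yon sqE
    (IsLocalRing.closedPoint p.K) v (by rw [Points.ofPt_toHom, hp, hv])
  -- the fibre is discrete, so `e` is a closed point
  have hdisc : DiscreteTopology ↥E.left := by
    have key : ∀ {A : Scheme.{u}} (g : A ⟶ Spec (CommRingCat.of p.K)) [LocallyQuasiFinite g],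
        DiscreteTopology ↥A := by
      intro A g _
      have h := g.isDiscrete_preimage_singleton (IsLocalRing.closedPoint p.K)
      have : Subsingleton ↥(Spec (CommRingCat.of p.K)) :=
        inferInstanceAs (Subsingleton (PrimeSpectrum p.K))
      have huniv : (Set.univ : Set ↥A) ⊆ g ⁻¹' {IsLocalRing.closedPoint p.K} :=
        fun a _ => Subsingleton.elim _ _
      exact isDiscrete_univ_iff.1 (h.mono huniv)
    haveI : LocallyQuasiFinite e₁.left := locallyQuasiFinite_of_formallyUnramified e₁.left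
    exact key e₁.left
  have hcl : IsClosed ({e} : Set ↥E.left) := isClosed_discrete _
  have hci : IsClosedImmersion (E.left.fromSpecResidueField e) :=
    isClosed_singleton_iff_isClosedImmersion.mp hcl
  -- the residue field point
  let ε := ptHom E e
  obtain ⟨v', m₂₀, hv', hm₂₀⟩ := exists_factor_ptHom (ε ≫ e₂)
  have hvv : v' = v := by
    rw [hv', ← hev]
    change e₂.left ((E.left.fromSpecResidueField e) _) = _
    rw [Scheme.fromSpecResidueField_apply]
  subst hvv
  obtain ⟨m₂, hm₂⟩ : ∃ m : Over.mk (E.left.fromSpecResidueField e ≫ E.hom) ⟶ (FieldPt.ofPt b v').pt,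
      m ≫ ofPtHom b v' = ε ≫ e₂ := ⟨m₂₀, hm₂₀⟩
  -- the two projections
  have hm₁ : LocallyOfFiniteType (ε ≫ e₁).left := by
    change LocallyOfFiniteType (E.left.fromSpecResidueField e ≫ e₁.left)
    infer_instance
  have hcomm : (yon S).map m₂ ≫ (FieldPt.ofPt b v').toHom = (yon S).map (ε ≫ e₁) ≫ p.toHom := by
    rw [toHom_ofPt', ← Category.assoc, ← Functor.map_comp, hm₂, Functor.map_comp,
      Functor.map_comp, Category.assoc, Category.assoc, sqE.w]
  -- the base change of `Q`
  have hQs : IsAlgSpace Q :=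
    Groth.Agent.H49.isAlgSpace_of_isPullback hQ Y.property.diag X.property (IsAlgSpace.yon_obj _)
  have sqR := IsPullback.of_hasPullback qsnd ((yon S).map m₂)
  have hRs : IsAlgSpace (pullback qsnd ((yon S).map m₂)) :=
    Groth.Agent.H49.isAlgSpace_of_isPullback sqR (IsAlgSpace.yon_obj _).diag hQs
      (IsAlgSpace.yon_obj _)
  have big : IsPullback (pullback.fst qsnd ((yon S).map m₂) ≫ qfst)
      (pullback.snd qsnd ((yon S).map m₂)) f.hom ((yon S).map (ε ≫ e₁) ≫ p.toHom) := by
    have := sqR.paste_horiz hQ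
    rwa [hcomm] at this
  -- the fibre over `p`
  have sqX := IsPullback.of_hasPullback f.hom p.toHom
  have hXp : IsLocNoethSp (pullback f.hom p.toHom) := hNoeth _ _ sqX
  have hXps : IsAlgSpace (pullback f.hom p.toHom) :=
    Groth.Agent.H49.isAlgSpace_of_isPullback sqX Y.property.diag X.property (IsAlgSpace.yon_obj _)
  let r : pullback qsnd ((yon S).map m₂) ⟶ pullback f.hom p.toHom :=
    sqX.lift (pullback.fst qsnd ((yon S).map m₂) ≫ qfst)
      (pullback.snd qsnd ((yon S).map m₂) ≫ (yon S).map (ε ≫ e₁))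
      (by rw [Category.assoc]; exact big.w)
  have hr1 : r ≫ pullback.fst f.hom p.toHom = pullback.fst qsnd ((yon S).map m₂) ≫ qfst :=
    sqX.lift_fst _ _ _
  have hr2 : r ≫ pullback.snd f.hom p.toHom =
      pullback.snd qsnd ((yon S).map m₂) ≫ (yon S).map (ε ≫ e₁) := sqX.lift_snd _ _ _
  have sqr : IsPullback r (pullback.snd qsnd ((yon S).map m₂)) (pullback.snd f.hom p.toHom)
      ((yon S).map (ε ≫ e₁)) := by
    refine IsPullback.of_right ?_ hr2 sqX
    rw [hr1]; exact big
  have hrl : LocP @LocallyOfFiniteType r :=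
    goodClass_lft.locP_of_isPullback (IsAlgSpace.yon_obj _) (IsAlgSpace.yon_obj _) hXps
      ((yon S).map (ε ≫ e₁)) (pullback.snd f.hom p.toHom) (pullback.snd qsnd ((yon S).map m₂)) r
      sqr.flip (goodClass_lft.locP_yon_map (ε ≫ e₁) hm₁)
  have hR : IsLocNoethSp (pullback qsnd ((yon S).map m₂)) :=
    isLocNoethSp_of_locP_lft hRs r hrl hXp
  -- descend
  have key1 : ∀ {A : Scheme.{u}} (g : A ⟶ Spec (CommRingCat.of (FieldPt.ofPt b v').K)), Flat g :=
    fun g => inferInstance
  have key3 : ∀ (g : Spec (E.left.residueField e) ⟶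
      Spec (CommRingCat.of (FieldPt.ofPt b v').K)), QuasiCompact g := fun g => inferInstance
  have h1 : Flat m₂.left := key1 m₂.left
  have h2 : Surjective m₂.left :=
    surjective_of_field_target (A := Spec (E.left.residueField e))
      (K := (FieldPt.ofPt b v').K) m₂.left
  have h3 : QuasiCompact m₂.left := key3 m₂.left
  exact isLocNoethSp_of_baseChange hQs m₂ h1 h2 h3 qsnd _ _ sqR hR

end Groth.Agent.H51
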