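import Groth.Agent.H51.SpField2
import Mathlib.AlgebraicGeometry.Morphisms.UniversallyInjective

set_option autoImplicit false
universe u
open CategoryTheory CategoryTheory.Limits AlgebraicGeometry Opposite MorphismProperty

namespace Groth.Agent.H51

open AlgSp Groth.Agent.H50 Groth.Agent.H49

variable {S : Scheme.{u}}

/-- A scheme etale over the spectrum of a field is discrete. -/
theorem discreteTopology_of_etale_field {k : Type u} [Field k] {U : Scheme.{u}}
    (g : U ⟶ Spec (CommRingCat.of k)) [Etale g] : DiscreteTopology ↥U := by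
  haveI : LocallyQuasiFinite g := locallyQuasiFinite_of_formallyUnramified g
  rw [← isDiscrete_univ_iff]
  let y : ↥(Spec (CommRingCat.of k)) := (default : PrimeSpectrum k)
  have h := Scheme.Hom.isDiscrete_preimage_singleton g y
  have : g ⁻¹' {y} = Set.univ := by
    ext x
    simp only [Set.mem_preimage, Set.mem_singleton_iff, Set.mem_univ, iff_true]
    exact Subsingleton.elim (α := PrimeSpectrum k) _ _
  rwa [this] at h

/-- A scheme finite over the spectrum of a field has finitely many points. -/
theorem finite_of_isFinite_field {K : Type u} [Field K] {P : Scheme.{u}}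
    (g : P ⟶ Spec (CommRingCat.of K)) [IsFinite g] : Finite ↥P := by
  let y : ↥(Spec (CommRingCat.of K)) := (default : PrimeSpectrum K)
  have h := Scheme.Hom.finite_preimage_singleton g y
  have : g ⁻¹' {y} = Set.univ := by
    ext x
    simp only [Set.mem_preimage, Set.mem_singleton_iff, Set.mem_univ, iff_true]
    exact Subsingleton.elim (α := PrimeSpectrum K) _ _
  rw [this] at h
  exact Set.finite_univ_iff.1 h

end Groth.Agent.H51

namespace Groth.Agent.H51
open AlgSp Groth.Agent.H50 Groth.Agent.H49
variable {S : Scheme.{u}}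

/-- A sheaf over `Spec k` with an etale surjective chart from the spectrum of a finite extension
field is the spectrum of a field. -/
theorem exists_iso_spec_field_of_chart {Z : Sp S} {k : Type u} [Field k]
    {str : Spec (CommRingCat.of k) ⟶ S} (f : Z ⟶ (yon S).obj (Over.mk str))
    {K : Type u} [Field K] {strK : Spec (CommRingCat.of K) ⟶ S}
    (b : (yon S).obj (Over.mk strK) ⟶ Z) (hb : RepWith @Etale b) (hbs : RepWith @Surjective b)
    (ψ : Over.mk strK ⟶ Over.mk str) (hψ : (yon S).map ψ = b ≫ f) [IsFinite ψ.left] :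
    ∃ (p : FieldPt Z) (c : Over.mk strK ⟶ p.pt), (yon S).map c ≫ p.toHom = b ∧ IsIso p.toHom := by
  let q : FieldPt Z := Groth.Agent.H52.fieldPtOfHom strK b
  have hq : q.toHom = b := Groth.Agent.H52.toHom_fieldPtOfHom strK b
  let U : Over S := Over.mk strK
  let R : Over S := hb.rep.pullback b
  let pr₁ : R ⟶ U := hb.rep.fst' b
  let pr₂ : R ⟶ U := hb.rep.snd b
  have sq : IsPullback ((yon S).map pr₁) ((yon S).map pr₂) b b := hb.rep.isPullback' b
  have hE : Etale pr₁.left := hb.property _ _ _ sq.flip
  -- the monomorphism `R ⟶ Spec K ×_k Spec K`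
  have hw : pr₁ ≫ ψ = pr₂ ≫ ψ := by
    apply (yon S).map_injective
    rw [Functor.map_comp, Functor.map_comp, hψ, ← Category.assoc, ← Category.assoc, sq.w]
  have hw' : pr₁.left ≫ ψ.left = pr₂.left ≫ ψ.left := by
    rw [← Over.comp_left, ← Over.comp_left, hw]
  let m : R.left ⟶ pullback ψ.left ψ.left := pullback.lift pr₁.left pr₂.left hw'
  haveI : Mono m := by
    refine ⟨fun {Z'} x y hxy => ?_⟩
    have h1 : x ≫ pr₁.left = y ≫ pr₁.left := by
      have := congrArg (· ≫ pullback.fst ψ.left ψ.left) hxy
      simp only [Category.assoc, m] at this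
      rwa [pullback.lift_fst] at this
    have h2 : x ≫ pr₂.left = y ≫ pr₂.left := by
      have := congrArg (· ≫ pullback.snd ψ.left ψ.left) hxy
      simp only [Category.assoc, m] at this
      rwa [pullback.lift_snd] at this
    have hy : y ≫ R.hom = x ≫ R.hom := by
      rw [← CategoryTheory.Over.w pr₁, ← Category.assoc, ← Category.assoc, h1]
    let xo : Over.mk (x ≫ R.hom) ⟶ R := Over.homMk x rfl
    let yo : Over.mk (x ≫ R.hom) ⟶ R := Over.homMk y hy
    have : xo = yo := by
      apply (yon S).map_injective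
      apply sq.hom_ext
      · rw [← Functor.map_comp, ← Functor.map_comp]
        congr 1
        ext
        exact h1
      · rw [← Functor.map_comp, ← Functor.map_comp]
        congr 1
        ext
        exact h2
    exact congrArg (fun z => z.left) this
  haveI : Finite ↥(pullback ψ.left ψ.left) :=
    finite_of_isFinite_field (K := K) (pullback.fst ψ.left ψ.left)
  haveI : Finite ↥R.left := Finite.of_injective _ m.injective
  haveI : CompactSpace ↥R.left := Finite.compactSpace
  haveI : IsFinite pr₁.left := isFinite_of_etale_of_compact (k := K) pr₁.left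
  have sq' : IsPullback ((yon S).map pr₁) ((yon S).map pr₂) q.toHom q.toHom := by rw [hq]; exact sq
  obtain ⟨p', c, h1, hiso, -, -⟩ := exists_iso_spec_field_of_finite q (hq ▸ hb) (hq ▸ hbs)
    pr₁ pr₂ sq'
  exact ⟨p', c, by rw [h1, hq], hiso⟩

end Groth.Agent.H51

namespace Groth.Agent.H51
open AlgSp Groth.Agent.H50 Groth.Agent.H49
variable {S : Scheme.{u}}

/-- Every point of an algebraic space etale over a field has an open neighbourhood which is the
spectrum of a field. -/
theorem exists_open_spec_field {X : Sp S} (hX : IsAlgSpace X) {k : Type u} [Field k]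
    {str : Spec (CommRingCat.of k) ⟶ S} (f : X ⟶ (yon S).obj (Over.mk str))
    (hf : IsEtaleMor f) {U : Over S} (a : (yon S).obj U ⟶ X) (ha : RepWith @Etale a) (u : ↥U.left) :
    ∃ (V : Over S) (j : (yon S).obj V ⟶ X), RepWith @IsOpenImmersion j ∧
      Points.ofPt a u ∈ Set.range (Points.map j) := by
  obtain ⟨φ, hφ⟩ := (yon S).map_surjective (a ≫ f)
  have hφE : Etale φ.left := by
    have := hf a ha
    rw [← hφ] at this
    exact (repWith_yon_map_iff _ _).1 this
  haveI : DiscreteTopology ↥U.left := discreteTopology_of_etale_field (k := k) φ.left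
  let Vu : U.left.Opens := ⟨{u}, isOpen_discrete _⟩
  haveI : Subsingleton ↥Vu.toScheme := ⟨fun x y => Subtype.ext (x.2.trans y.2.symm)⟩
  haveI : Nonempty ↥Vu.toScheme := ⟨⟨u, rfl⟩⟩
  let g : Vu.toScheme ⟶ Spec (CommRingCat.of k) := Vu.ι ≫ φ.left
  haveI : Etale g := inferInstanceAs (Etale (Vu.ι ≫ φ.left))
  obtain ⟨K, _, e, hfin⟩ := exists_iso_spec_field_of_subsingleton (k := k) g
  let strK : Spec (CommRingCat.of K) ⟶ S := (e.hom ≫ Vu.ι) ≫ U.hom
  let iK : Over.mk strK ⟶ U := Over.homMk (e.hom ≫ Vu.ι) rfl
  haveI : IsOpenImmersion iK.left := inferInstanceAs (IsOpenImmersion (e.hom ≫ Vu.ι))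
  have hiK : ∀ z, iK.left z = u := fun z => (e.hom z).2
  let b : (yon S).obj (Over.mk strK) ⟶ X := (yon S).map iK ≫ a
  have hb : RepWith @Etale b :=
    (RepWith @Etale).comp_mem _ _ ((repWith_yon_map_iff _ _).2 (inferInstance : Etale iK.left)) ha
  have hbpt : ∀ z, Points.ofPt b z = Points.ofPt a u := fun z => by
    rw [ofPt_map_comp, hiK]
  let W : Set (Points X) := {Points.ofPt a u}
  have hW : IsOpen W := by
    have := isOpenMap_ofPt_of_etale a ha {u} (isOpen_discrete _)
    rwa [Set.image_singleton] at this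
  have hXu := isAlgSpace_openSubSp hX W hW
  have hj := repWith_isOpenImmersion_openSubι W hW
  have himage : Set.range (Points.map (openSubι X W)) = Set.range (Points.ofPt b) := by
    rw [range_map_openSubι]
    ext x
    constructor
    · intro hx
      exact ⟨e.inv ⟨u, rfl⟩, (hbpt _).trans hx.symm⟩
    · rintro ⟨z, rfl⟩
      exact hbpt z
  obtain ⟨b', hb'j, hb'e, hb's, -⟩ := isPresentation_of_open_image b hb (openSubι X W) hj himage
  let ψ : Over.mk strK ⟶ Over.mk str := iK ≫ φ
  have hψ : (yon S).map ψ = b' ≫ (openSubι X W ≫ f) := by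
    rw [← Category.assoc, hb'j, Functor.map_comp, hφ, Category.assoc]
  haveI : IsFinite ψ.left := hfin
  obtain ⟨p, c, h1, hiso⟩ := exists_iso_spec_field_of_chart (openSubι X W ≫ f) b' hb'e hb's ψ hψ
  refine ⟨p.pt, p.toHom ≫ openSubι X W,
    (RepWith @IsOpenImmersion).comp_mem _ _ ((RepWith @IsOpenImmersion).of_isIso p.toHom) hj, ?_⟩
  let z : ↥(Spec (CommRingCat.of K)) := e.inv ⟨u, rfl⟩
  refine ⟨Points.map ((yon S).map c) (Points.schemeHomeo _ z), ?_⟩
  rw [← Points.map_comp, ← Category.assoc, h1, hb'j, ← ofPt_eq_map_schemeHomeo]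
  exact hbpt z

/-- **S10206**: an algebraic space etale over the spectrum of a field is a scheme. -/
theorem s10206 (X : AlgSp.Space S)
    (k : Type u) [Field k] (str : Spec (CommRingCat.of k) ⟶ S)
    (f : X.obj ⟶ (AlgSp.yon S).obj (Over.mk str)) (hf : AlgSp.IsEtaleMor f) :
    X.obj.obj.IsRepresentable := by
  obtain ⟨U, a, ha, has⟩ := X.property.atlas
  obtain ⟨G, ⟨e⟩⟩ := exists_iso_yon_of_forall_point a has
    (fun u => exists_open_spec_field X.property f hf a ha u)
  exact isRepresentable_of_iso e

end Groth.Agent.H51
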