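import Groth.Agent.H51.SpProper
import Groth.Agent.S9947
import Groth.Prelude.Def_AlgSpMor5
import Mathlib.AlgebraicGeometry.Noetherian

set_option autoImplicit false
universe u
open CategoryTheory CategoryTheory.Limits AlgebraicGeometry Opposite MorphismProperty

namespace Groth.Agent.H51

open AlgSp Groth.Agent.H50 Groth.Agent.H49

variable {S : Scheme.{u}}

theorem flat_case : (@Flat : MorphismProperty Scheme.{u}) = @LocallyOfFiniteType ∨
    (@Flat : MorphismProperty Scheme.{u}) = @LocallyOfFinitePresentation ∨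
    (@Flat : MorphismProperty Scheme.{u}) = @Flat ∨
    (@Flat : MorphismProperty Scheme.{u}) = @Smooth ∨
    (@Flat : MorphismProperty Scheme.{u}) = @Etale ∨
      (∀ ⦃A B : Scheme.{u}⦄ (g : A ⟶ B), Flat g ↔
        (LocallyQuasiFinite g ∧ LocallyOfFiniteType g)) ∨
      (∀ ⦃A B : Scheme.{u}⦄ (g : A ⟶ B), Flat g ↔
        (LocallyOfFiniteType g ∧ FormallyUnramified g)) := Or.inr (Or.inr (Or.inl rfl))

theorem lfp_case : (@LocallyOfFinitePresentation : MorphismProperty Scheme.{u}) = @LocallyOfFiniteType ∨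
    (@LocallyOfFinitePresentation : MorphismProperty Scheme.{u}) = @LocallyOfFinitePresentation ∨
    (@LocallyOfFinitePresentation : MorphismProperty Scheme.{u}) = @Flat ∨
    (@LocallyOfFinitePresentation : MorphismProperty Scheme.{u}) = @Smooth ∨
    (@LocallyOfFinitePresentation : MorphismProperty Scheme.{u}) = @Etale ∨
      (∀ ⦃A B : Scheme.{u}⦄ (g : A ⟶ B), LocallyOfFinitePresentation g ↔
        (LocallyQuasiFinite g ∧ LocallyOfFiniteType g)) ∨
      (∀ ⦃A B : Scheme.{u}⦄ (g : A ⟶ B), LocallyOfFinitePresentation g ↔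
        (LocallyOfFiniteType g ∧ FormallyUnramified g)) := Or.inr (Or.inl rfl)

theorem s10294 {X Y : AlgSp.Space S} (f : X ⟶ Y) :
    (AlgSp.IsFinLocFreeMor f.hom ↔
      (AlgSp.IsFiniteMor f.hom ∧ AlgSp.LocP @Flat f.hom ∧
        AlgSp.LocP @LocallyOfFinitePresentation f.hom)) ∧
    (AlgSp.IsLocNoethSp Y.obj →
      (AlgSp.IsFinLocFreeMor f.hom ↔ (AlgSp.IsFiniteMor f.hom ∧ AlgSp.LocP @Flat f.hom))) := by
  have part1 : AlgSp.IsFinLocFreeMor f.hom ↔
      (AlgSp.IsFiniteMor f.hom ∧ AlgSp.LocP @Flat f.hom ∧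
        AlgSp.LocP @LocallyOfFinitePresentation f.hom) := by
    constructor
    · intro h
      have hrep : Representable f.hom := h.rep
      have r1 : RepWith @IsFinite f.hom := ⟨hrep, fun T V g fst snd sq => (h.property g fst snd sq).1⟩
      have r2 : RepWith @Flat f.hom := ⟨hrep, fun T V g fst snd sq => (h.property g fst snd sq).2.1⟩
      have r3 : RepWith @LocallyOfFinitePresentation f.hom :=
        ⟨hrep, fun T V g fst snd sq => (h.property g fst snd sq).2.2⟩
      exact ⟨(s10267 f).2.2 r1, (Groth.Agent.S9948.result @Flat flat_case f hrep).2 r2,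
        (Groth.Agent.S9948.result @LocallyOfFinitePresentation lfp_case f hrep).2 r3⟩
    · rintro ⟨h1, h2, h3⟩
      have r1 : RepWith @IsFinite f.hom := (s10267 f).2.1 h1
      have r2 : RepWith @Flat f.hom := (Groth.Agent.S9948.result @Flat flat_case f r1.rep).1 h2
      have r3 : RepWith @LocallyOfFinitePresentation f.hom :=
        (Groth.Agent.S9948.result @LocallyOfFinitePresentation lfp_case f r1.rep).1 h3
      exact ⟨r1.rep, fun T V g fst snd sq =>
        ⟨r1.property g fst snd sq, r2.property g fst snd sq, r3.property g fst snd sq⟩⟩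
  refine ⟨part1, fun hY => ⟨fun h => ⟨(part1.1 h).1, (part1.1 h).2.1⟩, fun ⟨h1, h2⟩ => ?_⟩⟩
  refine part1.2 ⟨h1, h2, ?_⟩
  obtain ⟨V, p, hp, hps, hV⟩ := hY
  have : IsLocallyNoetherian V.left := hV
  have r1 : RepWith @IsFinite f.hom := (s10267 f).2.1 h1
  have sq := r1.rep.isPullback p
  have hfst : RepWith @Etale (r1.rep.fst p) := (RepWith @Etale).of_isPullback sq.flip hp
  have hfsts : RepWith @Surjective (r1.rep.fst p) := (RepWith @Surjective).of_isPullback sq.flip hps
  have hfin : IsFinite (r1.rep.snd p).left := r1.property_snd p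
  have hlfp : LocallyOfFinitePresentation (r1.rep.snd p).left :=
    LocallyOfFinitePresentation.iff_locallyOfFiniteType.2 inferInstance
  exact Groth.Agent.S9947.result @LocallyOfFinitePresentation lfp_case f (r1.rep.fst p) p
    (r1.rep.snd p) hfst hfsts hp sq.w hlfp

end Groth.Agent.H51
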