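import Groth.Agent.H51.SpAffine
import Groth.Agent.H49.AlgSpClosed
import Mathlib.AlgebraicGeometry.Morphisms.Proper

set_option autoImplicit false
universe u
open CategoryTheory CategoryTheory.Limits AlgebraicGeometry Opposite MorphismProperty

namespace Groth.Agent.H51

open AlgSp Groth.Agent.H50

variable {S : Scheme.{u}}

theorem representable_of_isAffineMor {X Y : Sp S} {f : X ⟶ Y} (h : IsAffineMor f) :
    Representable f :=
  representable_of_affine_test f (fun Z hZ g => by
    obtain ⟨W, i, fst, sq, -⟩ := h hZ g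
    exact ⟨W, i, fst, sq⟩)

theorem s10270 {X Y : AlgSp.Space S} (f : X ⟶ Y) :
    AlgSp.IsIntegralMor f.hom ↔ (AlgSp.IsAffineMor f.hom ∧ AlgSp.IsUnivClosedMor f.hom) := by
  constructor
  · intro h
    refine ⟨fun Z hZ g => ?_, ?_⟩
    · obtain ⟨W, i, fst, sq, hW, -⟩ := h hZ g
      exact ⟨W, i, fst, sq, hW⟩
    · have h1 : RepWith @IsIntegralHom f.hom := (s10267 f).1.1 h
      exact Groth.Agent.H49.isUnivClosedMor_of_repWith (Groth.Agent.H49.repWith_of_le
        (fun _ _ g hg => by
          have : IsIntegralHom g := hg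
          exact (IsIntegralHom.iff_universallyClosed_and_isAffineHom.1 this).1) h1)
  · rintro ⟨haff, huc⟩ Z hZ g
    have hrep : Representable f.hom := representable_of_isAffineMor haff
    have hUC : RepWith @UniversallyClosed f.hom :=
      Groth.Agent.H49.repWith_universallyClosed_of_isUnivClosedMor hrep huc
    obtain ⟨W, i, fst, sq, hW⟩ := haff hZ g
    have : UniversallyClosed i.left := hUC.property g fst i sq
    have : IsAffineHom i.left := isAffineHom_of_isAffine _
    exact ⟨W, i, fst, sq, hW, IsIntegralHom.iff_universallyClosed_and_isAffineHom.2 ⟨‹_›, ‹_›⟩⟩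

/-- Cancellation for representable properties containing closed immersions. -/
theorem repWith_of_comp_of_isSeparatedMor (Q : MorphismProperty Scheme.{u})
    [Q.IsStableUnderBaseChange] [Q.IsMultiplicative]
    (hQ : (@IsClosedImmersion : MorphismProperty Scheme.{u}) ≤ Q) {X Y Z : Sp S} (f : X ⟶ Y)
    (g : Y ⟶ Z) (hg : IsSeparatedMor g) (hfg : RepWith Q (f ≫ g)) : RepWith Q f := by
  have sq1 : IsPullback (pullback.fst (f ≫ g) g) (pullback.snd (f ≫ g) g) (f ≫ g) g :=
    IsPullback.of_hasPullback _ _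
  have h1 : RepWith Q (pullback.snd (f ≫ g) g) := (RepWith Q).of_isPullback sq1 hfg
  have sq2 := pullback_lift_diagonal_isPullback f g
  have h2 : RepWith @IsClosedImmersion (pullback.lift (𝟙 X) f (by simp) : X ⟶ pullback (f ≫ g) g) :=
    (RepWith @IsClosedImmersion).of_isPullback sq2 hg
  have h3 := (RepWith Q).comp_mem _ _ (Groth.Agent.H49.repWith_of_le hQ h2) h1
  rwa [pullback.lift_snd] at h3

theorem s10272 {X Y Z : AlgSp.Space S} (f : X ⟶ Y) (g : Y ⟶ Z)
    (hg : AlgSp.IsSeparatedMor g.hom) :
    (AlgSp.IsFiniteMor (f ≫ g).hom → AlgSp.IsFiniteMor f.hom) ∧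
    (AlgSp.IsIntegralMor (f ≫ g).hom → AlgSp.IsIntegralMor f.hom) := by
  constructor
  · intro h
    have h1 : RepWith @IsFinite (f.hom ≫ g.hom) := (s10267 (f ≫ g)).2.1 h
    exact (s10267 f).2.2 (repWith_of_comp_of_isSeparatedMor @IsFinite (fun _ _ k hk => by
      have : IsClosedImmersion k := hk
      exact (inferInstance : IsFinite k)) f.hom g.hom hg h1)
  · intro h
    have h1 : RepWith @IsIntegralHom (f.hom ≫ g.hom) := (s10267 (f ≫ g)).1.1 h
    exact (s10267 f).1.2 (repWith_of_comp_of_isSeparatedMor @IsIntegralHom (fun _ _ k hk => by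
      have : IsClosedImmersion k := hk
      exact (inferInstance : IsIntegralHom k)) f.hom g.hom hg h1)

end Groth.Agent.H51
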