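import Groth.Agent.H51.FlatValLift
import Groth.Agent.H50.LocPBase
import Groth.Agent.H51.SpBasic
import Groth.Agent.H49.AlgSpRep
import Groth.Agent.H52.Points

set_option autoImplicit false
universe u
open CategoryTheory CategoryTheory.Limits AlgebraicGeometry Opposite MorphismProperty

namespace Groth.Agent.H51

open AlgSp Groth.Agent.H50 Groth.Agent.H49

variable {S : Scheme.{u}}

/-- **S10292**. -/
theorem s10292 {X Y : AlgSp.Space S} (f : X ⟶ Y)
    (hf : AlgSp.LocP @Flat f.hom) (A : Type u) [CommRing A] [IsDomain A] [ValuationRing A]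
    (str : Spec (.of A) ⟶ S) (b : (AlgSp.yon S).obj (Over.mk str) ⟶ Y.obj)
    (hb : AlgSp.Points.ofPt b (IsLocalRing.closedPoint A) ∈ Set.range (AlgSp.Points.map f.hom)) :
    ∃ (A' : Type u) (_ : CommRing A') (_ : IsDomain A') (_ : ValuationRing A') (φ : A →+* A'),
      Function.Injective φ ∧ IsLocalHom φ ∧
      ∃ l : (AlgSp.yon S).obj (Over.mk (Spec.map (CommRingCat.ofHom φ) ≫ str)) ⟶ X.obj,
        l ≫ f.hom = (AlgSp.yon S).map (Over.homMk (Spec.map (CommRingCat.ofHom φ)) rfl :
          Over.mk (Spec.map (CommRingCat.ofHom φ) ≫ str) ⟶ Over.mk str) ≫ b := by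
  let ptA : Over S := Over.mk str
  have sq : IsPullback (pullback.fst f.hom b) (pullback.snd f.hom b) f.hom b :=
    IsPullback.of_hasPullback _ _
  have hP : IsAlgSpace (pullback f.hom b) :=
    isAlgSpace_of_isPullback sq Y.property.diag X.property (IsAlgSpace.yon_obj ptA)
  have hf' : LocP @Flat (pullback.snd f.hom b) :=
    goodClass_flat.locP_of_isPullback X.property Y.property (IsAlgSpace.yon_obj ptA) f.hom b
      (pullback.fst f.hom b) (pullback.snd f.hom b) sq hf
  obtain ⟨U', a', ha', has'⟩ := hP.atlas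
  obtain ⟨ψ, hψ⟩ := (yon S).map_surjective (a' ≫ pullback.snd f.hom b)
  have hψflat : Flat ψ.left :=
    hf' a' (𝟙 _) ψ ha' (repWith_id _ _) (by rw [Category.comp_id, hψ])
  -- a point of `U'` over the closed point
  obtain ⟨x, hx⟩ := hb
  obtain ⟨z, hz1, hz2⟩ := Groth.Agent.H52.exists_point_of_isPullback sq x
    (Points.schemeHomeo ptA (IsLocalRing.closedPoint A))
    (by rw [hx, ofPt_eq_map_schemeHomeo])
  obtain ⟨u', hu'⟩ := surjective_ofPt_of_surjective a' has' z
  have hu'cl : ψ.left u' = IsLocalRing.closedPoint A := by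
    apply (Points.schemeHomeo ptA).injective
    rw [← hz2, ← hu', Points.map_ofPt, ← hψ, ofPt_eq_map_schemeHomeo, Points.map_yon_map_apply]
  obtain ⟨A', _, _, _, φ, m, hφi, hφl, hm⟩ :=
    exists_lift_valuationRing_of_flat_scheme (A := A) ψ.left u' hu'cl
  refine ⟨A', inferInstance, inferInstance, inferInstance, φ, hφi, hφl, ?_⟩
  have hmO : m ≫ U'.hom = Spec.map (CommRingCat.ofHom φ) ≫ str := by
    rw [← CategoryTheory.Over.w ψ, ← Category.assoc, hm]
    rfl
  let mO : Over.mk (Spec.map (CommRingCat.ofHom φ) ≫ str) ⟶ U' := Over.homMk m hmO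
  refine ⟨(yon S).map mO ≫ a' ≫ pullback.fst f.hom b, ?_⟩
  rw [Category.assoc, Category.assoc, sq.w, ← Category.assoc a', ← hψ, ← Category.assoc,
    ← Functor.map_comp]
  congr 2
  ext
  exact hm

end Groth.Agent.H51
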