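import Groth.Agent.H53.Glue
import Groth.Agent.H50.Mor
import Mathlib.AlgebraicGeometry.Gluing
import Mathlib.AlgebraicGeometry.Sites.Representability

set_option autoImplicit false
universe u
open CategoryTheory CategoryTheory.Limits AlgebraicGeometry Opposite MorphismProperty

namespace Groth.Agent.H51

open AlgSp Groth.Agent.H50

variable {S : Scheme.{u}}

namespace SpGlue

variable {F : Sp S} {ι : Type u} {W : ι → Over S} {j : ∀ i, (yon S).obj (W i) ⟶ F}
  (hj : ∀ i, RepWith @IsOpenImmersion (j i))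

include hj in
theorem mono_j (i : ι) : Mono (j i) :=
  mono_of_repWith (P := @IsOpenImmersion) (fun _ _ g hg => by
    have : IsOpenImmersion g := hg
    exact (inferInstance : Mono g)) (j i) (hj i)

theorem fst'_self_eq_snd (i : ι) : (hj i).rep.fst' (j i) = (hj i).rep.snd (j i) := by
  have := mono_j hj i
  apply (yon S).map_injective
  rw [← cancel_mono (j i), ((hj i).rep.isPullback' (j i)).w]

theorem isIso_fst'_self (i : ι) : IsIso ((hj i).rep.fst' (j i)) := by
  have := mono_j hj i
  have := ((hj i).rep.isPullback' (j i)).isIso_fst_of_mono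
  exact (Functor.FullyFaithful.ofFullyFaithful (yon S)).isIso_of_isIso_map _

theorem isOpenImmersion_fst' (i k : ι) : IsOpenImmersion ((hj i).rep.fst' (j k)).left :=
  (hj k).property _ _ _ ((hj i).1.isPullback' (j k)).flip

set_option backward.isDefEq.respectTransparency false in
open Functor.relativelyRepresentable in
/-- The glue data in `Over S`. -/
noncomputable def glueDataOver : CategoryTheory.GlueData (Over S) where
  J := ι
  U := W
  V := fun (i, k) ↦ (hj i).rep.pullback (j k)
  f i k := (hj i).rep.fst' (j k)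
  f_mono i k := by
    have := isOpenImmersion_fst' hj i k
    have : Mono ((hj i).rep.fst' (j k)).left := inferInstance
    exact Over.mono_of_mono_left _
  f_id i := isIso_fst'_self hj i
  t i k := (hj i).rep.symmetry (hj k).rep
  t_id i := by apply (hj i).rep.hom_ext' <;> simp [fst'_self_eq_snd hj i]
  t' i k l := lift₃ _ _ _ (pullback₃.p₂ _ _ _) (pullback₃.p₃ _ _ _) (pullback₃.p₁ _ _ _)
    (by simp) (by simp)
  t_fac i k l := (hj k).rep.hom_ext' (by simp) (by simp)
  cocycle i k l := pullback₃.hom_ext (by simp) (by simp) (by simp)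

/-- The glue data of schemes. -/
noncomputable def glueData : Scheme.GlueData.{u} :=
  { (glueDataOver hj).mapGlueData (Over.forget S) with
    f_open := fun i k => isOpenImmersion_fst' hj i k }

/-- The structure morphism of the glued scheme. -/
noncomputable def gluedHom : (glueData hj).glued ⟶ S :=
  Multicoequalizer.desc (glueData hj).diagram S (fun i => (W i).hom) (by
    rintro ⟨i, k⟩
    change ((hj i).rep.fst' (j k)).left ≫ (W i).hom =
      (((hj i).rep.symmetry (hj k).rep).left ≫ ((hj k).rep.fst' (j i)).left) ≫ (W k).hom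
    rw [Category.assoc, CategoryTheory.Over.w, CategoryTheory.Over.w, CategoryTheory.Over.w])

theorem ι_gluedHom (i : ι) : (glueData hj).ι i ≫ gluedHom hj = (W i).hom :=
  Multicoequalizer.π_desc _ _ _ _ _

/-- The glued scheme as an object over `S`. -/
noncomputable def glued : Over S := Over.mk (gluedHom hj)

/-- The inclusion of the `i`-th piece. -/
noncomputable def ιO (i : ι) : W i ⟶ glued hj := Over.homMk ((glueData hj).ι i) (ι_gluedHom hj i)

theorem fst'_comp_ιO (i k : ι) :
    (hj i).rep.fst' (j k) ≫ ιO hj i = (hj i).rep.snd (j k) ≫ ιO hj k := by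
  ext
  have := (glueData hj).glue_condition i k
  change ((hj i).rep.symmetry (hj k).rep).left ≫ ((hj k).rep.fst' (j i)).left ≫
    (glueData hj).ι k = ((hj i).rep.fst' (j k)).left ≫ (glueData hj).ι i at this
  change ((hj i).rep.fst' (j k)).left ≫ (glueData hj).ι i =
    ((hj i).rep.snd (j k)).left ≫ (glueData hj).ι k
  rw [← this, ← Category.assoc, ← Over.comp_left, Functor.relativelyRepresentable.symmetry_fst]

/-- Compatibility for the map `F ⟶ h_W`. -/
theorem compat_M {T : Over S} {i k : ι} (g₁ : T ⟶ W i) (g₂ : T ⟶ W k)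
    (h : (yon S).map g₁ ≫ j i = (yon S).map g₂ ≫ j k) :
    (yon S).map g₁ ≫ (yon S).map (ιO hj i) = (yon S).map g₂ ≫ (yon S).map (ιO hj k) := by
  rw [← Functor.map_comp, ← Functor.map_comp]
  congr 1
  rw [← (hj i).rep.lift'_fst g₁ g₂ h, Category.assoc]
  conv_rhs => rw [← (hj i).rep.lift'_snd g₁ g₂ h, Category.assoc]
  rw [fst'_comp_ιO]

/-- Compatibility for the map `h_W ⟶ F`. -/
theorem compat_L {T : Over S} {i k : ι} (g₁ : T ⟶ W i) (g₂ : T ⟶ W k)
    (h : (yon S).map g₁ ≫ (yon S).map (ιO hj i) = (yon S).map g₂ ≫ (yon S).map (ιO hj k)) :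
    (yon S).map g₁ ≫ j i = (yon S).map g₂ ≫ j k := by
  rw [← Functor.map_comp, ← Functor.map_comp] at h
  have h' : g₁ ≫ ιO hj i = g₂ ≫ ιO hj k := (yon S).map_injective h
  have h'' : g₁.left ≫ (glueData hj).ι i = g₂.left ≫ (glueData hj).ι k :=
    congrArg (fun φ => φ.left) h'
  have hsym : ((hj i).rep.symmetry (hj k).rep).left ≫ ((hj k).rep.fst' (j i)).left =
      ((hj i).rep.snd (j k)).left := by
    rw [← Over.comp_left, Functor.relativelyRepresentable.symmetry_fst]
  obtain ⟨v, hv1, hv2⟩ : ∃ v : T.left ⟶ ((hj i).rep.pullback (j k)).left,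
      v ≫ ((hj i).rep.fst' (j k)).left = g₁.left ∧ v ≫ ((hj i).rep.snd (j k)).left = g₂.left := by
    obtain ⟨v, hv1, hv2⟩ := PullbackCone.IsLimit.lift'
      ((glueData hj).vPullbackConeIsLimit i k) g₁.left g₂.left h''
    refine ⟨v, hv1, ?_⟩
    rw [← hsym]
    exact hv2
  have hvO : v ≫ ((hj i).rep.pullback (j k)).hom = T.hom := by
    rw [← CategoryTheory.Over.w ((hj i).rep.fst' (j k)), ← Category.assoc, hv1,
      CategoryTheory.Over.w]
  let vO : T ⟶ (hj i).rep.pullback (j k) := Over.homMk v hvO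
  have e1 : vO ≫ (hj i).rep.fst' (j k) = g₁ := by ext; exact hv1
  have e2 : vO ≫ (hj i).rep.snd (j k) = g₂ := by ext; exact hv2
  rw [← e1, ← e2, Functor.map_comp, Functor.map_comp, Category.assoc, Category.assoc,
    ((hj i).rep.isPullback' (j k)).w]

theorem cover_glued (V : Over S) (t : (yon S).obj V ⟶ (yon S).obj (glued hj)) :
    ∃ R : Sieve V, R ∈ J S V ∧ ∀ ⦃W' : Over S⦄ (w : W' ⟶ V), R w →
      ∃ (i : ι) (g : W' ⟶ W i), (yon S).map g ≫ (yon S).map (ιO hj i) = (yon S).map w ≫ t := by
  obtain ⟨R, hR, h⟩ := Groth.Agent.H53.cover_of_atlas (𝟙 ((yon S).obj (glued hj)))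
    (glueData hj).openCover V t
  refine ⟨R, hR, fun W' w hw => ?_⟩
  obtain ⟨i, g, hg⟩ := h w hw
  have hg' : g.left ≫ (W i).hom = W'.hom := by
    have h1 := CategoryTheory.Over.w g
    have h2 : (Groth.Agent.H53.overOf (glued hj) ((glueData hj).openCover.f i)).hom = (W i).hom :=
      ι_gluedHom hj i
    rw [← h2]; exact h1
  refine ⟨i, Over.homMk g.left hg', ?_⟩
  rw [← hg, Category.comp_id, ← Functor.map_comp, ← Functor.map_comp]
  congr 1

/-- **Zariski gluing**: a sheaf covered by open subfunctors representable by schemes is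
representable by a scheme. -/
theorem exists_iso_yon
    (hcov : ∀ (V : Over S) (t : (yon S).obj V ⟶ F), ∃ R : Sieve V, R ∈ J S V ∧
      ∀ ⦃W' : Over S⦄ (w : W' ⟶ V), R w →
        ∃ (i : ι) (g : W' ⟶ W i), (yon S).map g ≫ j i = (yon S).map w ≫ t) :
    ∃ e : (yon S).obj (glued hj) ≅ F, ∀ i, (yon S).map (ιO hj i) ≫ e.hom = j i := by
  obtain ⟨L, hL⟩ := Groth.Agent.H53.desc_of_family W (fun i => (yon S).map (ιO hj i))
    (cover_glued hj) j (fun T i k g₁ g₂ h => compat_L hj g₁ g₂ h)
  obtain ⟨M, hM⟩ := Groth.Agent.H53.desc_of_family W j hcov (fun i => (yon S).map (ιO hj i))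
    (fun T i k g₁ g₂ h => compat_M hj g₁ g₂ h)
  refine ⟨⟨L, M, ?_, ?_⟩, hL⟩
  · exact Groth.Agent.H53.hom_ext_of_family W (fun i => (yon S).map (ιO hj i)) (cover_glued hj)
      _ _ (fun i => by rw [← Category.assoc, hL, hM, Category.comp_id])
  · exact Groth.Agent.H53.hom_ext_of_family W j hcov _ _
      (fun i => by rw [← Category.assoc, hM, hL, Category.comp_id])

end SpGlue

end Groth.Agent.H51
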