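import Groth.Agent.H51.SpHomogDim
import Groth.Agent.H50.Gpd

/-! S10135: a groupoid in algebraic spaces on the spectrum of a field is equidimensional. -/

set_option autoImplicit false
universe u
open CategoryTheory CategoryTheory.Limits AlgebraicGeometry Opposite MorphismProperty

namespace Groth.Agent.H51
open AlgSp Groth.Agent.H50
variable {S : Scheme.{u}}

theorem subsingleton_points_of_iso_field {U : Sp S} {k : Type u} [Field k]
    (σ : Spec (CommRingCat.of k) ⟶ S) (eU : U ≅ (yon S).obj (Over.mk σ)) :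
    Subsingleton (Points U) := by
  constructor
  intro a b
  have h1 : Points.map eU.hom a = Points.map eU.hom b := by
    apply (Points.schemeEquiv (Over.mk σ)).symm.injective
    exact (inferInstance : Subsingleton (Spec (CommRingCat.of k))).elim _ _
  have h2 := congrArg (Points.map eU.inv) h1
  rwa [← Points.map_comp, ← Points.map_comp, eU.hom_inv_id, Points.map_id, Points.map_id] at h2

theorem s10135 (B : AlgSp.Sp S)
    (G : AlgSp.GroupoidSp B) (hR : AlgSp.IsAlgSpace G.R) (k : Type u) [Field k]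
    (σ : Spec (CommRingCat.of k) ⟶ S) (eU : G.U ≅ (AlgSp.yon S).obj (Over.mk σ))
    (hs : AlgSp.LocP @LocallyOfFiniteType G.s) (r : AlgSp.Points G.R) :
    AlgSp.HasAt (fun V v => FlatMor.localDim ↥V v = AlgSp.dim G.R) G.R r := by
  haveI := subsingleton_points_of_iso_field σ eU
  set u₀ : Points G.U :=
    Points.map eU.inv (Points.ofScheme (Over.mk σ) (IsLocalRing.closedPoint k)) with hu₀
  refine hasAt_localDim_eq_dim_of_homogeneous σ hR (G.s ≫ eU.hom) ?_ (Points.map G.e u₀) ?_ r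
  · intro V a m ha hm
    refine hs a eU.inv m ha (MorphismProperty.of_isIso (RepWith @Etale) eU.inv) ?_
    rw [← hm, Category.assoc, Category.assoc, eU.hom_inv_id, Category.comp_id]
  · intro p
    set ρ := p.toHom with hρ
    have hγt : (ρ ≫ G.i) ≫ G.t = ρ ≫ G.s := by rw [Category.assoc, G.i_t]
    have hγs : (ρ ≫ G.i) ≫ G.s = ρ ≫ G.t := by rw [Category.assoc, G.i_s]
    have sq₁ : IsPullback (pullback.snd (ρ ≫ G.s) G.s) (pullback.fst (ρ ≫ G.s) G.s)
        (G.s ≫ eU.hom) ((ρ ≫ G.s) ≫ eU.hom) :=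
      IsPullback.of_iso (IsPullback.of_hasPullback (ρ ≫ G.s) G.s).flip (Iso.refl _) (Iso.refl _)
        (Iso.refl _) eU (by simp) (by simp) (by simp) (by simp)
    have sq₂ : IsPullback (pullback.snd (ρ ≫ G.t) G.s) (pullback.fst (ρ ≫ G.t) G.s)
        (G.s ≫ eU.hom) ((ρ ≫ G.t) ≫ eU.hom) :=
      IsPullback.of_iso (IsPullback.of_hasPullback (ρ ≫ G.t) G.s).flip (Iso.refl _) (Iso.refl _)
        (Iso.refl _) eU (by simp) (by simp) (by simp) (by simp)
    let φ : pullback (ρ ≫ G.s) G.s ≅ pullback (ρ ≫ G.t) G.s :=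
      ⟨rtrans G (ρ ≫ G.i) _ _ hγt hγs,
        rtrans G ((ρ ≫ G.i) ≫ G.i) _ _ (by rw [Category.assoc, G.i_t, hγs])
          (by rw [Category.assoc, G.i_s, hγt]),
        rtrans_rtrans_inv G (ρ ≫ G.i) _ _ hγt hγs, rtrans_inv_rtrans G (ρ ≫ G.i) _ _ hγt hγs⟩
    let ℓ : (yon S).obj p.pt ⟶ pullback (ρ ≫ G.s) G.s :=
      pullback.lift (𝟙 _) ρ (Category.id_comp _)
    set pt₀ : Points ((yon S).obj p.pt) := Points.ofScheme p.pt (IsLocalRing.closedPoint p.K)
    refine ⟨_, _, _, _, _, _, _, _, sq₁, sq₂, φ, Points.map ℓ pt₀, ?_, ?_⟩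
    · rw [← Points.map_comp, pullback.lift_snd, ← Points.ofPt_eq_map_ofScheme]
      exact Points.ofPt_toHom p _
    · rw [← Points.map_comp, ← Points.map_comp]
      have e1 : ℓ ≫ φ.hom ≫ pullback.snd (ρ ≫ G.t) G.s = ρ ≫ G.t ≫ G.e := by
        change ℓ ≫ rtrans G (ρ ≫ G.i) _ _ hγt hγs ≫ pullback.snd (ρ ≫ G.t) G.s = _
        rw [rtrans_snd, precomp_gcomp]
        have h1 : ℓ ≫ pullback.snd (ρ ≫ G.s) G.s = ρ := pullback.lift_snd _ _ _
        have h2 : ℓ ≫ pullback.fst (ρ ≫ G.s) G.s ≫ ρ ≫ G.i = ρ ≫ G.i := by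
          rw [← Category.assoc, pullback.lift_fst, Category.id_comp]
        rw [gcomp_congr G h1 h2]
        exact gcomp_i G ρ
      rw [e1, ← Category.assoc, Points.map_comp]
      congr 1
      exact Subsingleton.elim _ _

end Groth.Agent.H51
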