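import Groth.Agent.H50.GpdRestrict
import Groth.Agent.H50.GpdComp
import Groth.Agent.H50.UnivOpen
import Groth.Agent.H50.AffineMor
import Groth.Agent.H50.AffineLocal2
import Groth.Agent.H50.LocPBase
import Groth.Agent.H51.SpBasic
import Groth.Agent.H52.BaseChangeField

set_option autoImplicit false
universe u
open CategoryTheory CategoryTheory.Limits AlgebraicGeometry Opposite MorphismProperty TopologicalSpace

namespace Groth.Agent.H51
open AlgSp Groth.Agent.H50
variable {S : Scheme.{u}}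

/-- The bundle of properties in S10132. -/
def SFU {X Y : Sp S} (f : X ⟶ Y) : Prop :=
  IsSurjectiveMor f ∧ LocP @Flat f ∧ LocP @UniversallyOpen f

theorem SFU.of_isPullback {X Y Y' X' : Sp S} (hX : IsAlgSpace X) (hY : IsAlgSpace Y)
    (hY' : IsAlgSpace Y') {f : X ⟶ Y} {g : Y' ⟶ Y} {fst : X' ⟶ X} {f' : X' ⟶ Y'}
    (sq : IsPullback fst f' f g) (hf : SFU f) : SFU f' := by
  refine ⟨fun y' => ?_, goodClass_flat.locP_of_isPullback hX hY hY' f g fst f' sq hf.2.1,
    goodClass_univOpen.locP_of_isPullback hX hY hY' f g fst f' sq hf.2.2⟩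
  obtain ⟨x, hx⟩ := hf.1 (Points.map g y')
  obtain ⟨z, -, hz⟩ := Groth.Agent.H50.points_exists_of_isPullback sq x y' hx
  exact ⟨z, hz⟩

theorem SFU.comp {X Y Z : Sp S} (hY : IsAlgSpace Y) {f : X ⟶ Y} {g : Y ⟶ Z} (hf : SFU f)
    (hg : SFU g) : SFU (f ≫ g) := by
  refine ⟨fun z => ?_, goodClass_flat.locP_comp hY f g hf.2.1 hg.2.1,
    goodClass_univOpen.locP_comp hY f g hf.2.2 hg.2.2⟩
  obtain ⟨y, rfl⟩ := hg.1 z
  obtain ⟨x, rfl⟩ := hf.1 y
  exact ⟨x, Points.map_comp f g x⟩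

theorem SFU.out {X Y : Sp S} (hX : IsAlgSpace X) (hY : IsAlgSpace Y) {f : X ⟶ Y} (hf : SFU f) :
    IsSurjectiveMor f ∧ LocP @Flat f ∧ IsUnivOpenMor f :=
  ⟨hf.1, hf.2.1, isUnivOpenMor_of_locP_univOpen hX hY f hf.2.2⟩

/-- Any surjective morphism to (a sheaf isomorphic to) the spectrum of a field has the bundle. -/
theorem SFU.to_field {X U : Sp S} (k : Type u) [Field k] (σ : Spec (CommRingCat.of k) ⟶ S)
    (eU : U ≅ (yon S).obj (Over.mk σ)) (f : X ⟶ U) (hs : IsSurjectiveMor f) : SFU f :=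
  ⟨hs, locP_of_comp_iso _ f eU (locP_flat_to_field k σ _),
    locP_of_comp_iso _ f eU (locP_univOpen_to_field k σ _)⟩

end Groth.Agent.H51

namespace Groth.Agent.H51
open AlgSp Groth.Agent.H50 AlgSp.GroupoidSp
variable {S : Scheme.{u}}

theorem isAffineMor_of_isIso' {F G : Sp S} (e : F ≅ G) : IsAffineMor e.hom := by
  intro Z hZ g
  refine ⟨Z, 𝟙 Z, g ≫ e.inv, ?_, hZ⟩
  rw [CategoryTheory.Functor.map_id]
  exact IsPullback.of_vert_isIso ⟨by simp⟩

theorem isSurjectiveMor_of_section {X Y : Sp S} (f : X ⟶ Y) (e : Y ⟶ X) (h : e ≫ f = 𝟙 Y) :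
    IsSurjectiveMor f := by
  intro y
  refine ⟨Points.map e y, ?_⟩
  rw [← Points.map_comp, h, Points.map_id]

theorem s10132 (B : Sp S) (G G' : GroupoidSp B) (hR : IsAlgSpace G.R) (hR' : IsAlgSpace G'.R)
    (k k' : Type u) [Field k] [Field k'] [Algebra k k'] (σ : Spec (CommRingCat.of k) ⟶ S)
    (eU : G.U ≅ ((yon S).obj (Over.mk σ)))
    (eU' : G'.U ≅ ((yon S).obj (Over.mk (Spec.map (CommRingCat.ofHom (algebraMap k k')) ≫ σ))))
    (φ : GroupoidSp.Hom G' G) (hφ : φ.IsRestriction)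
    (hfU : φ.fU = eU'.hom ≫ (yon S).map (Over.homMk (Spec.map (CommRingCat.ofHom (algebraMap k k'))) rfl :
      Over.mk (Spec.map (CommRingCat.ofHom (algebraMap k k')) ≫ σ) ⟶ Over.mk σ) ≫ eU.inv) :
    (∀ f ∈ [G.s, G.t], IsSurjectiveMor f ∧ LocP @Flat f ∧ IsUnivOpenMor f) ∧
      (∀ f ∈ [G'.s, G'.t], IsSurjectiveMor f ∧ LocP @Flat f ∧ IsUnivOpenMor f) ∧
      (IsSurjectiveMor φ.fU ∧ LocP @Flat φ.fU ∧ IsUnivOpenMor φ.fU) ∧
      (IsSurjectiveMor φ.fR ∧ LocP @Flat φ.fR ∧ IsUnivOpenMor φ.fR ∧ IsAffineMor φ.fR) := by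
  have hU : IsAlgSpace G.U := (IsAlgSpace.yon_obj (Over.mk σ)).of_iso eU.symm
  have hU' : IsAlgSpace G'.U := (IsAlgSpace.yon_obj (Over.mk _)).of_iso eU'.symm
  have hs : SFU G.s := SFU.to_field k σ eU _ (isSurjectiveMor_of_section _ _ G.e_s)
  have ht : SFU G.t := SFU.to_field k σ eU _ (isSurjectiveMor_of_section _ _ G.e_t)
  have hs' : SFU G'.s := SFU.to_field k' _ eU' _ (isSurjectiveMor_of_section _ _ G'.e_s)
  have ht' : SFU G'.t := SFU.to_field k' _ eU' _ (isSurjectiveMor_of_section _ _ G'.e_t)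
  -- fU
  have hsubU : Subsingleton (Points G.U) := by
    have := Groth.Agent.H52.subsingleton_points_spec_field (S := S) σ
    have hinj : Function.Injective (Points.map eU.hom) := by
      intro x y hxy
      have := congrArg (Points.map eU.inv) hxy
      rwa [← Points.map_comp, ← Points.map_comp, Iso.hom_inv_id, Points.map_id, Points.map_id] at this
    exact hinj.subsingleton
  have hneU' : Nonempty (Points G'.U) := by
    obtain ⟨z⟩ := Groth.Agent.H52.nonempty_points_spec_field (S := S)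
      (Spec.map (CommRingCat.ofHom (algebraMap k k')) ≫ σ)
    exact ⟨Points.map eU'.inv z⟩
  have hfUs : IsSurjectiveMor φ.fU := by
    intro y
    obtain ⟨z⟩ := hneU'
    exact ⟨z, Subsingleton.elim _ _⟩
  have hfU' : SFU φ.fU := SFU.to_field k σ eU _ hfUs
  have hfUa : IsAffineMor φ.fU := by
    rw [hfU]
    refine isAffineMor_comp (isAffineMor_of_isIso' eU') (isAffineMor_comp ?_ (isAffineMor_of_isIso' eU.symm))
    exact isAffineMor_yon_map_of_isAffine _ (by dsimp; infer_instance) (by dsimp; infer_instance)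
  -- fR
  have sq1 := isPullback_restriction_s φ hφ
  have sq2 := IsPullback.of_hasPullback G.s φ.fU
  have hP : IsAlgSpace (pullback G.s φ.fU) :=
    Groth.Agent.H49.isAlgSpace_of_isPullback sq2 hU.diag hR hU'
  -- first factor: base change of fU along (fst ≫ t)
  have h1 : SFU (pullback.lift φ.fR G'.s φ.comm_s : G'.R ⟶ pullback G.s φ.fU) :=
    SFU.of_isPullback hU' hU hP sq1 hfU'
  have h1a : IsAffineMor (pullback.lift φ.fR G'.s φ.comm_s : G'.R ⟶ pullback G.s φ.fU) :=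
    isAffineMor_of_isPullback sq1 hfUa
  -- second factor: base change of fU along s
  have h2 : SFU (pullback.fst G.s φ.fU) := SFU.of_isPullback hU' hU hR sq2.flip hfU'
  have h2a : IsAffineMor (pullback.fst G.s φ.fU) := isAffineMor_of_isPullback sq2.flip hfUa
  have hfR : φ.fR = (pullback.lift φ.fR G'.s φ.comm_s : G'.R ⟶ pullback G.s φ.fU) ≫
      pullback.fst G.s φ.fU := (pullback.lift_fst _ _ _).symm
  have h3 : SFU φ.fR := by rw [hfR]; exact SFU.comp hP h1 h2
  have h3a : IsAffineMor φ.fR := by rw [hfR]; exact isAffineMor_comp h1a h2a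
  refine ⟨?_, ?_, hfU'.out hU' hU, ?_⟩
  · intro f hf
    simp only [List.mem_cons, List.not_mem_nil, or_false] at hf
    rcases hf with rfl | rfl
    · exact hs.out hR hU
    · exact ht.out hR hU
  · intro f hf
    simp only [List.mem_cons, List.not_mem_nil, or_false] at hf
    rcases hf with rfl | rfl
    · exact hs'.out hR' hU'
    · exact ht'.out hR' hU'
  · obtain ⟨a, b, c⟩ := h3.out hR' hR
    exact ⟨a, b, c, h3a⟩

end Groth.Agent.H51
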