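import Groth.Agent.S10130
import Groth.Agent.H51.SpOpen
import Groth.Agent.H51.SpBasic

set_option autoImplicit false
universe u
open CategoryTheory CategoryTheory.Limits AlgebraicGeometry Opposite MorphismProperty TopologicalSpace

namespace Groth.Agent.H51
open AlgSp
variable {S : Scheme.{u}}

theorem s10131 (B : AlgSp.Sp S) (hB : AlgSp.IsAlgSpace B)
    (G : AlgSp.GroupoidSp B) (hU : AlgSp.IsAlgSpace G.U) (hR : AlgSp.IsAlgSpace G.R)
    (hs : AlgSp.IsOpenMor G.s ∧ AlgSp.IsQuasiCompactMor G.s) (ht : AlgSp.IsOpenMor G.t ∧ AlgSp.IsQuasiCompactMor G.t)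
    (x : AlgSp.Points G.U) :
    ∃ (W : AlgSp.Sp S) (w : W ⟶ G.U), AlgSp.RepWith @IsOpenImmersion w ∧ G.IsInvariant w ∧
      AlgSp.IsQuasiCompactSp W ∧ x ∈ Set.range (AlgSp.Points.map w) := by
  obtain ⟨A, a, ha, has⟩ := hU.atlas
  obtain ⟨u, rfl⟩ := surjective_ofPt_of_surjective a has x
  obtain ⟨A₀, hA₀, huA₀, -⟩ := exists_isAffineOpen_mem_and_subset (x := u) (U := ⊤) trivial
  -- the quasi-compact open neighbourhood W₀
  let a₀ : (yon S).obj (overOpen A A₀) ⟶ G.U := (yon S).map (overOpenι A A₀) ≫ a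
  have ha₀ : RepWith @Etale a₀ := repWith_etale_restrict a ha A₀
  have hopen₀ : IsOpen (Set.range (Points.ofPt a₀)) := (isOpenMap_ofPt_of_etale a₀ ha₀).isOpen_range
  let W₀ := openSubSp G.U (Set.range (Points.ofPt a₀))
  let w₀ : W₀ ⟶ G.U := openSubι G.U _
  have hw₀ : RepWith @IsOpenImmersion w₀ := repWith_isOpenImmersion_openSubι _ hopen₀
  have hrange₀ : Set.range (Points.map w₀) = Set.range (Points.ofPt a₀) := range_map_openSubι _
  have hW₀alg : IsAlgSpace W₀ := isAlgSpace_openSubSp hU _ hopen₀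
  obtain ⟨a', ha'j, he', hs', -⟩ := isPresentation_of_open_image a₀ ha₀ w₀ hw₀ hrange₀
  haveI : IsAffine (overOpen A A₀).left := hA₀
  have hW₀qc : IsQuasiCompactSp W₀ := ⟨overOpen A A₀, a', he', hs', inferInstance⟩
  have hxW₀ : Points.ofPt a u ∈ Set.range (Points.map w₀) := by
    rw [hrange₀]
    exact ⟨⟨u, huA₀⟩, ofPt_restrict a A₀ _⟩
  -- the saturation
  let T : Set (Points G.U) := Points.map G.s '' (Points.map G.t ⁻¹' Set.range (Points.map w₀))
  have hTopen : IsOpen T := by
    refine hs.1 _ (IsOpen.preimage (Points.continuous_map G.t) ?_)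
    rw [hrange₀]; exact hopen₀
  let W := openSubSp G.U T
  let w : W ⟶ G.U := openSubι G.U T
  have hw : RepWith @IsOpenImmersion w := repWith_isOpenImmersion_openSubι _ hTopen
  have hrange : Set.range (Points.map w) = T := range_map_openSubι _
  have hWalg : IsAlgSpace W := isAlgSpace_openSubSp hU _ hTopen
  refine ⟨W, w, hw, ?_, ?_, ?_⟩
  · exact Groth.Agent.S10130.result S B hB G hU hR hs.1 ht.1 W₀ W w₀ w hw₀ hw hrange
  · -- quasi-compactness
    have sqP := IsPullback.of_hasPullback G.t w₀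
    have hPqc : IsQuasiCompactSp (pullback G.t w₀) :=
      ht.2 hW₀alg hW₀qc w₀ (pullback.fst G.t w₀) (pullback.snd G.t w₀) sqP
    have hPalg : IsAlgSpace (pullback G.t w₀) :=
      Groth.Agent.H49.isAlgSpace_of_representable_to (pullback.fst G.t w₀)
        ((RepWith @IsOpenImmersion).of_isPullback sqP.flip hw₀).rep hR
    haveI hPc : CompactSpace (Points (pullback G.t w₀)) := (isQuasiCompactSp_iff hPalg).1 hPqc
    -- the map P → U factors through W
    have hsub : Set.range (Points.map (pullback.fst G.t w₀ ≫ G.s)) ⊆ Set.range (Points.map w) := by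
      rintro _ ⟨z, rfl⟩
      rw [hrange, Points.map_comp]
      refine ⟨Points.map (pullback.fst G.t w₀) z, ?_, rfl⟩
      refine ⟨Points.map (pullback.snd G.t w₀) z, ?_⟩
      rw [← Points.map_comp, ← sqP.w, Points.map_comp]
    obtain ⟨q, hq⟩ := (exists_factor_iff_of_isOpenImmersion' w hw _).2 hsub
    haveI : Mono w := Groth.Agent.H49.mono_of_repWith_mono isOpenImmersion_le_mono w hw
    have hqsurj : Function.Surjective (Points.map q) := by
      intro y
      have hy : Points.map w y ∈ T := hrange ▸ ⟨y, rfl⟩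
      obtain ⟨ρ, ⟨y₀, hy₀⟩, hρ⟩ := hy
      obtain ⟨z, hz1, -⟩ := Groth.Agent.H50.points_exists_of_isPullback sqP ρ y₀ hy₀.symm
      refine ⟨z, injective_map_of_mono w ?_⟩
      rw [← Points.map_comp, hq, Points.map_comp]
      change Points.map G.s (Points.map (pullback.fst G.t w₀) z) = _
      rw [hz1, hρ]
    rw [isQuasiCompactSp_iff hWalg]
    exact ⟨by
      rw [← Set.range_eq_univ.2 hqsurj]
      exact isCompact_range (Points.continuous_map q)⟩
  · rw [hrange]
    refine ⟨Points.map G.e (Points.ofPt a u), ?_, ?_⟩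
    · rw [Set.mem_preimage, ← Points.map_comp, G.e_t, Points.map_id]
      exact hxW₀
    · rw [← Points.map_comp, G.e_s, Points.map_id]

end Groth.Agent.H51
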