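import Groth.Agent.H51.SpGpdDim
import Groth.Agent.H51.GrpTranslate

/-! S10136: a group algebraic space locally of finite type over a field is equidimensional. -/

set_option autoImplicit false
universe u
open CategoryTheory CategoryTheory.Limits AlgebraicGeometry Opposite MorphismProperty
open MonoidalCategory CartesianMonoidalCategory MonObj GrpObj

namespace Groth.Agent.H51
open AlgSp

theorem s10136 (k : Type u) [Field k]
    (G : Over ((AlgSp.yon (Spec (CommRingCat.of k))).obj (Over.mk (𝟙 _)))) [GrpObj G]
    (hG : AlgSp.IsAlgSpace G.left)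
    (hlft : AlgSp.LocP @LocallyOfFiniteType G.hom) (g : AlgSp.Points G.left) :
    AlgSp.HasAt (fun V v => FlatMor.localDim ↥V v = AlgSp.dim G.left) G.left g := by
  haveI : Subsingleton (Points ((AlgSp.yon (Spec (CommRingCat.of k))).obj (Over.mk (𝟙 _)))) :=
    subsingleton_points_of_iso_field (S := Spec (CommRingCat.of k)) (𝟙 _) (Iso.refl _)
  set u₀ : Points ((AlgSp.yon (Spec (CommRingCat.of k))).obj (Over.mk (𝟙 _))) :=
    Points.ofScheme (Over.mk (𝟙 _)) (IsLocalRing.closedPoint k) with hu₀
  refine hasAt_localDim_eq_dim_of_homogeneous (S := Spec (CommRingCat.of k)) (𝟙 _) hG G.hom ?_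
    (Points.map η[G].left u₀) ?_ g
  · intro V a m ha hm
    refine hlft a (𝟙 _) m ha (MorphismProperty.of_isIso (RepWith @Etale) (𝟙 _)) ?_
    rw [hm, Category.comp_id]
  · intro p
    set ρ₀ := p.toHom with hρ₀
    set T : Over ((AlgSp.yon (Spec (CommRingCat.of k))).obj (Over.mk (𝟙 _))) :=
      Over.mk (ρ₀ ≫ G.hom) with hT
    set ρ : T ⟶ G := Over.homMk ρ₀ rfl with hρ
    obtain ⟨φ, -, hφ⟩ := exists_translation_iso G ρ
    have sq : IsPullback (snd T G).left (fst T G).left G.hom T.hom :=
      (IsPullback.of_hasPullback T.hom G.hom).flip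
    set pt₀ : Points ((yon _).obj p.pt) := Points.ofScheme p.pt (IsLocalRing.closedPoint p.K)
    refine ⟨_, _, _, _, _, _, _, _, sq, sq, (CategoryTheory.Over.forget _).mapIso φ,
      Points.map (lift (𝟙 T) ρ).left pt₀, ?_, ?_⟩
    · rw [← Points.map_comp, ← Over.comp_left, lift_snd]
      change Points.map ρ₀ pt₀ = _
      rw [← Points.ofPt_eq_map_ofScheme]
      exact Points.ofPt_toHom p _
    · change Points.map (snd T G).left (Points.map φ.hom.left _) = _
      rw [← Points.map_comp, ← Points.map_comp, ← Over.comp_left, ← Over.comp_left,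
        ← Category.assoc, hφ, lift_snd, Over.comp_left, Points.map_comp]
      congr 1
      exact (inferInstance : Subsingleton (Points ((AlgSp.yon (Spec (CommRingCat.of k))).obj
        (Over.mk (𝟙 _))))).elim _ _

end Groth.Agent.H51
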