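import Groth.Agent.H51.GrpFieldDim
import Groth.Agent.H51.SpDim2
import Groth.Agent.H51.SpBasic
import Groth.Agent.H53.Charts
import Groth.Agent.H53.Points
import Groth.Agent.H52.Points

/-! Homogeneity of dimension for sheaves over the spectrum of a field: base change of charts along a
field point and the abstract equidimensionality argument. -/

set_option autoImplicit false
universe u
open CategoryTheory CategoryTheory.Limits AlgebraicGeometry Opposite MorphismProperty

namespace Groth.Agent.H51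
open AlgSp
variable {S : Scheme.{u}}

/-- Base change of an étale chart along a field point of `Spec k`: if `P = R ×_{Spec k} Spec K` and
`(V, v)` is an étale chart of `R` (with `V` locally of finite type over `k`) under a point `z` of
`P`, then there is an étale chart `(W, w)` of `P` at `z` with the same local dimension. -/
theorem exists_chart_baseChange_field {k : Type u} [Field k] (σ : Spec (CommRingCat.of k) ⟶ S)
    {R P : Sp S} (sU : R ⟶ (yon S).obj (Over.mk σ)) {K : Type u} [Field K]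
    (τ : Spec (CommRingCat.of K) ⟶ S) (x : (yon S).obj (Over.mk τ) ⟶ (yon S).obj (Over.mk σ))
    (pR : P ⟶ R) (pT : P ⟶ (yon S).obj (Over.mk τ)) (h : IsPullback pR pT sU x)
    {V : Over S} (a : (yon S).obj V ⟶ R) (ha : RepWith @Etale a) (m : V ⟶ Over.mk σ)
    (hm : a ≫ sU = (yon S).map m) [LocallyOfFiniteType m.left] (v : ↥V.left) (z : Points P)
    (hz : Points.map pR z = Points.ofPt a v) :
    ∃ (W : Over S) (aW : (yon S).obj W ⟶ P) (w : ↥W.left), RepWith @Etale aW ∧
      Points.ofPt aW w = z ∧ FlatMor.localDim ↥W.left w = FlatMor.localDim ↥V.left v := by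
  obtain ⟨π, rfl⟩ := (yon S).map_surjective x
  obtain ⟨W, p, q, sqW⟩ := Groth.Agent.H53.exists_pullback_yon (a ≫ sU) ((yon S).map π)
    (representable_yon_map π)
  obtain ⟨aW, haW1, haW2⟩ := h.exists_lift ((yon S).map p ≫ a) ((yon S).map q)
    (by rw [Category.assoc]; exact sqW.w)
  have sqA : IsPullback aW ((yon S).map p) pR a := by
    refine IsPullback.of_right ?_ haW1 h.flip
    rw [haW2]
    exact sqW.flip
  have haWE : RepWith @Etale aW := MorphismProperty.of_isPullback sqA.flip ha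
  have hz' : Points.map pR z = Points.map a (Points.ofScheme V v) := by
    rw [hz, Points.ofPt_eq_map_ofScheme]
  obtain ⟨w', hw'1, hw'2⟩ := Groth.Agent.H53.exists_point_of_isPullback sqA z _ hz'
  refine ⟨W, aW, Points.toScheme W w', haWE, ?_, ?_⟩
  · rw [Points.ofPt_eq_map_ofScheme, Points.ofScheme_toScheme, hw'1]
  · have hpv : p.left (Points.toScheme W w') = v := by
      apply (Points.schemeEquiv V).injective
      change Points.ofScheme V (p.left (Points.toScheme W w')) = Points.ofScheme V v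
      rw [← hw'2]
      conv_rhs => rw [← Points.ofScheme_toScheme W w']
      exact (Points.map_yon_map_apply p (Points.toScheme W w')).symm
    have sqS : IsPullback p.left q.left m.left π.left := by
      rw [hm] at sqW
      exact (IsPullback.of_map (yon S) (by
        apply (yon S).map_injective
        rw [Functor.map_comp, Functor.map_comp]
        exact sqW.w) sqW).map (Over.forget S)
    rw [← hpv]
    exact localDim_of_isPullback_field k (Iso.refl _) m.left π.left p.left q.left sqS _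

/-- The abstract equidimensionality argument. -/
theorem hasAt_localDim_eq_dim_of_homogeneous {k : Type u} [Field k]
    (σ : Spec (CommRingCat.of k) ⟶ S) {R : Sp S} (hR : IsAlgSpace R)
    (sU : R ⟶ (yon S).obj (Over.mk σ))
    (hlft : ∀ (V : Over S) (a : (yon S).obj V ⟶ R) (m : V ⟶ Over.mk σ), RepWith @Etale a →
      a ≫ sU = (yon S).map m → LocallyOfFiniteType m.left)
    (r₀ : Points R)
    (H : ∀ p : FieldPt R, ∃ (P₁ P₂ : Sp S) (pR₁ : P₁ ⟶ R) (pT₁ : P₁ ⟶ (yon S).obj p.pt)
      (x₁ : (yon S).obj p.pt ⟶ (yon S).obj (Over.mk σ)) (pR₂ : P₂ ⟶ R)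
      (pT₂ : P₂ ⟶ (yon S).obj p.pt) (x₂ : (yon S).obj p.pt ⟶ (yon S).obj (Over.mk σ)),
      IsPullback pR₁ pT₁ sU x₁ ∧ IsPullback pR₂ pT₂ sU x₂ ∧ ∃ (φ : P₁ ≅ P₂) (z₁ : Points P₁),
        Points.map pR₁ z₁ = Points.mk p ∧ Points.map pR₂ (Points.map φ.hom z₁) = r₀)
    (r : Points R) :
    HasAt (fun V v => FlatMor.localDim ↥V v = AlgSp.dim R) R r := by
  obtain ⟨V₀, a₀, ha₀, ha₀s⟩ := hR.atlas
  obtain ⟨v₀, hv₀⟩ := surjective_ofPt_of_surjective a₀ ha₀s r₀
  obtain ⟨m₀, hm₀⟩ := (yon S).map_surjective (a₀ ≫ sU)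
  haveI : LocallyOfFiniteType m₀.left := hlft V₀ a₀ m₀ ha₀ hm₀.symm
  -- every chart has the local dimension of the reference chart
  have key : ∀ (V : Over S) (a : (yon S).obj V ⟶ R), RepWith @Etale a → ∀ v : ↥V.left,
      FlatMor.localDim ↥V.left v = FlatMor.localDim ↥V₀.left v₀ := by
    intro V a ha v
    obtain ⟨m, hm⟩ := (yon S).map_surjective (a ≫ sU)
    haveI : LocallyOfFiniteType m.left := hlft V a m ha hm.symm
    obtain ⟨P₁, P₂, pR₁, pT₁, x₁, pR₂, pT₂, x₂, h₁, h₂, φ, z₁, hz₁, hz₂⟩ :=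
      H (FieldPt.ofPt a v)
    obtain ⟨W, aW, w, haW, hw, hdW⟩ := exists_chart_baseChange_field σ sU _ x₁ pR₁ pT₁ h₁ a ha m
      hm.symm v z₁ hz₁
    obtain ⟨W₀, aW₀, w₀, haW₀, hw₀, hdW₀⟩ := exists_chart_baseChange_field σ sU _ x₂ pR₂ pT₂ h₂ a₀
      ha₀ m₀ hm₀.symm v₀ (Points.map φ.hom z₁) (hz₂.trans hv₀.symm)
    rw [← hdW, ← hdW₀]
    have haWφ : RepWith @Etale (aW ≫ φ.hom) :=
      (RepWith @Etale).comp_mem _ _ haW (MorphismProperty.of_isIso (RepWith @Etale) φ.hom)
    refine localDim_chart_indep (aW ≫ φ.hom) haWφ aW₀ haW₀ w w₀ ?_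
    rw [← Points.map_ofPt, hw, hw₀]
  obtain ⟨v, hv⟩ := surjective_ofPt_of_surjective a₀ ha₀s r
  refine ⟨V₀, a₀, v, ha₀, hv, ?_⟩
  change FlatMor.localDim ↥V₀.left v = AlgSp.dim R
  rw [key V₀ a₀ ha₀ v]
  apply le_antisymm
  · refine le_trans (Groth.Agent.H17.Chev.localDim_le_dim v₀) ?_
    exact le_iSup_of_le V₀ (le_iSup_of_le a₀ (le_iSup_of_le ha₀ le_rfl))
  · unfold AlgSp.dim
    refine iSup_le fun V => iSup_le fun a => iSup_le fun ha => ?_
    rw [Groth.Agent.H17.Chev.topologicalKrullDim_eq_iSup_localDim]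
    exact iSup_le fun v' => (key V a ha v').le

end Groth.Agent.H51
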