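import Groth.Agent.H51.SchIrred
import Groth.Agent.H51.SpDim

set_option autoImplicit false
universe u
open CategoryTheory CategoryTheory.Limits AlgebraicGeometry Opposite MorphismProperty Topology

namespace Groth.Agent.H51

open AlgSp Groth.Agent.H50

variable {S : Scheme.{u}}

/-- (M1) chart independence. -/
theorem pIrr_chart_of_etaleLocally {X : Sp S} (h : EtaleLocally PIrr X) {U : Over S}
    (a : (yon S).obj U ⟶ X) (ha : RepWith @Etale a) : PIrr U.left := by
  obtain ⟨U₀, p, hpe, hps, hU₀⟩ := h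
  have sq := hpe.rep.isPullback' a
  haveI : Etale (hpe.rep.fst' a).left := ha.property _ _ _ sq.flip
  haveI : Etale (hpe.rep.snd a).left := hpe.property _ _ _ sq
  have hs : Surjective (hpe.rep.snd a).left := hps.property _ _ _ sq
  exact pIrr_of_etale_surjective (hpe.rep.snd a).left hs.surj
    (pIrr_of_etale (hpe.rep.fst' a).left hU₀)

/-- `⊤` version of `PIrr` for compact schemes. -/
theorem finite_irreducibleComponents_of_pIrr {V : Scheme.{u}} [CompactSpace ↥V] (h : PIrr V) :
    (irreducibleComponents ↥V).Finite := by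
  have h1 := h ⊤ (by simpa using isCompact_univ)
  exact finite_irreducibleComponents_of_surjective (fun x : ↥(⊤ : V.Opens) => x.1)
    continuous_subtype_val (fun x => ⟨⟨x, trivial⟩, rfl⟩) h1

theorem finite_maxPts_of_pIrr {V : Scheme.{u}} [CompactSpace ↥V] (h : PIrr V) :
    {v : V | IsMaxPt v}.Finite :=
  finite_irreducibleComponents_iff.1 (finite_irreducibleComponents_of_pIrr h)

/-- (M2) -/
theorem finite_dimZero_of_pIrr {X Y : AlgSp.Space S} (g : Y ⟶ X)
    (hX : ∀ (U : Over S) (a : (yon S).obj U ⟶ X.obj), RepWith @Etale a → PIrr U.left)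
    (hg : IsEtaleMor g.hom) (hY : IsQuasiCompactSp Y.obj) :
    {y : Points Y.obj |
      HasAt (fun U u => ringKrullDim ↥(U.presheaf.stalk u) = 0) Y.obj y}.Finite := by
  obtain ⟨V, q, hqe, hqs, hV⟩ := hY
  haveI : CompactSpace ↥V.left := hV
  have hPV : PIrr V.left := hX V (q ≫ g.hom) (hg q hqe)
  refine ((finite_maxPts_of_pIrr hPV).image (Points.ofPt q)).subset ?_
  intro y hy
  obtain ⟨v, hv⟩ := surjective_ofPt_of_surjective q hqs y
  refine ⟨v, ?_, hv⟩
  have := (s10248 Y y 0).1 hy V q v hqe hv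
  exact (isMaxPt_iff_ringKrullDim v).2 this

/-- (M4) -/
theorem finite_irreducibleComponents_points_of_pIrr {X Y : AlgSp.Space S} (g : Y ⟶ X)
    (hX : ∀ (U : Over S) (a : (yon S).obj U ⟶ X.obj), RepWith @Etale a → PIrr U.left)
    (hg : IsEtaleMor g.hom) (hY : IsQuasiCompactSp Y.obj) :
    (irreducibleComponents (Points Y.obj)).Finite := by
  obtain ⟨V, q, hqe, hqs, hV⟩ := hY
  haveI : CompactSpace ↥V.left := hV
  have hPV : PIrr V.left := hX V (q ≫ g.hom) (hg q hqe)
  exact finite_irreducibleComponents_of_surjective (Points.ofPt q) (Points.continuous_ofPt q)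
    (surjective_ofPt_of_surjective q hqs) (finite_irreducibleComponents_of_pIrr hPV)

end Groth.Agent.H51

namespace Groth.Agent.H51
open AlgSp Groth.Agent.H50
variable {S : Scheme.{u}}

theorem repWith_id (P : MorphismProperty Scheme.{u}) [P.IsStableUnderBaseChange]
    [P.ContainsIdentities] (T : Over S) : RepWith P (𝟙 ((yon S).obj T)) := by
  rw [← (yon S).map_id T, repWith_yon_map_iff]
  exact P.id_mem _

/-- A quasi-compact open of an etale chart as a quasi-compact algebraic space etale over `X`. -/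
theorem exists_etale_qc_of_open (X : AlgSp.Space S) {U : Over S} (p : (yon S).obj U ⟶ X.obj)
    (hp : RepWith @Etale p) (W : U.left.Opens) (hW : IsCompact (W : Set ↥U.left)) :
    ∃ (g : (⟨(yon S).obj (Over.mk (W.ι ≫ U.hom)), IsAlgSpace.yon_obj _⟩ : AlgSp.Space S) ⟶ X),
      IsEtaleMor g.hom ∧ IsQuasiCompactSp ((yon S).obj (Over.mk (W.ι ≫ U.hom))) := by
  let WO : Over S := Over.mk (W.ι ≫ U.hom)
  let ι : WO ⟶ U := Over.homMk W.ι rfl
  refine ⟨ObjectProperty.homMk ((yon S).map ι ≫ p), ?_, ?_⟩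
  · intro T b hb
    obtain ⟨β, rfl⟩ := (yon S).map_surjective b
    have hβ : Etale β.left := (repWith_yon_map_iff @Etale β).1 hb
    have h1 : RepWith @Etale ((yon S).map (β ≫ ι)) := by
      rw [repWith_yon_map_iff]
      change Etale (β.left ≫ W.ι)
      infer_instance
    have := MorphismProperty.comp_mem (RepWith (S := S) @Etale) _ _ h1 hp
    rw [Functor.map_comp, Category.assoc] at this
    exact this
  · refine ⟨WO, 𝟙 _, repWith_id @Etale WO, repWith_id @Surjective WO, ?_⟩
    exact isCompact_iff_compactSpace.1 hW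

/-- (M5) -/
theorem pIrr_of_finite_irreducibleComponents_points (X : AlgSp.Space S)
    (H : ∀ (Y : AlgSp.Space S) (g : Y ⟶ X), IsEtaleMor g.hom → IsQuasiCompactSp Y.obj →
      (irreducibleComponents (Points Y.obj)).Finite)
    {U : Over S} (p : (yon S).obj U ⟶ X.obj) (hp : RepWith @Etale p) : PIrr U.left := by
  intro W hW
  obtain ⟨g, hg, hqc⟩ := exists_etale_qc_of_open X p hp W hW
  have h1 := H _ g hg hqc
  exact finite_irreducibleComponents_of_surjective
    (Points.schemeHomeo (Over.mk (W.ι ≫ U.hom))).symm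
    (Points.schemeHomeo (Over.mk (W.ι ≫ U.hom))).symm.continuous
    (Points.schemeHomeo (Over.mk (W.ι ≫ U.hom))).symm.surjective h1

/-- (M3) -/
theorem pIrr_of_finite_dimZero (X : AlgSp.Space S)
    (H : ∀ (Y : AlgSp.Space S) (g : Y ⟶ X), IsEtaleMor g.hom → IsQuasiCompactSp Y.obj →
      {y : Points Y.obj |
        HasAt (fun U u => ringKrullDim ↥(U.presheaf.stalk u) = 0) Y.obj y}.Finite)
    {U : Over S} (p : (yon S).obj U ⟶ X.obj) (hp : RepWith @Etale p) : PIrr U.left := by
  intro W hW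
  obtain ⟨g, hg, hqc⟩ := exists_etale_qc_of_open X p hp W hW
  have h1 := H _ g hg hqc
  let WO : Over S := Over.mk (W.ι ≫ U.hom)
  have h2 : {w : ↥W.toScheme | IsMaxPt w}.Finite := by
    refine (h1.preimage (f := Points.ofScheme WO)
      ((Points.schemeEquiv WO).injective.injOn)).subset ?_
    intro w hw
    exact ⟨WO, 𝟙 _, w, repWith_id @Etale WO, rfl, (isMaxPt_iff_ringKrullDim (U := W.toScheme) w).1 hw⟩
  exact (finite_irreducibleComponents_iff (α := ↥W.toScheme)).2 h2

end Groth.Agent.H51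

namespace Groth.Agent.H51
open AlgSp Groth.Agent.H50
variable {S : Scheme.{u}}

theorem s10304 (X : AlgSp.Space S) :
    (AlgSp.EtaleLocally (fun U => ∀ W : U.Opens, IsCompact (W : Set ↥U) → (irreducibleComponents ↥W).Finite) X.obj ↔
      ∀ (U : Over S) (a : (AlgSp.yon S).obj U ⟶ X.obj), AlgSp.RepWith @Etale a →
        ∀ W : U.left.Opens, IsCompact (W : Set ↥U.left) → (irreducibleComponents ↥W).Finite) ∧
    (AlgSp.EtaleLocally (fun U => ∀ W : U.Opens, IsCompact (W : Set ↥U) → (irreducibleComponents ↥W).Finite) X.obj ↔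
      ∀ (Y : AlgSp.Space S) (g : Y ⟶ X), AlgSp.IsEtaleMor g.hom → AlgSp.IsQuasiCompactSp Y.obj →
        {y : AlgSp.Points Y.obj |
          AlgSp.HasAt (fun U u => ringKrullDim ↥(U.presheaf.stalk u) = 0) Y.obj y}.Finite) ∧
    (AlgSp.EtaleLocally (fun U => ∀ W : U.Opens, IsCompact (W : Set ↥U) → (irreducibleComponents ↥W).Finite) X.obj ↔
      ∀ (Y : AlgSp.Space S) (g : Y ⟶ X), AlgSp.IsEtaleMor g.hom → AlgSp.IsQuasiCompactSp Y.obj →
        (irreducibleComponents (AlgSp.Points Y.obj)).Finite) := by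
  have hall : EtaleLocally PIrr X.obj → ∀ (U : Over S) (a : (yon S).obj U ⟶ X.obj),
      RepWith @Etale a → PIrr U.left := fun h U a ha => pIrr_chart_of_etaleLocally h a ha
  have hatlas : (∀ (U : Over S) (a : (yon S).obj U ⟶ X.obj), RepWith @Etale a → PIrr U.left) →
      EtaleLocally PIrr X.obj := by
    intro h
    obtain ⟨U, p, hpe, hps⟩ := X.property.atlas
    exact ⟨U, p, hpe, hps, h U p hpe⟩
  refine ⟨⟨hall, hatlas⟩, ⟨?_, ?_⟩, ⟨?_, ?_⟩⟩
  · intro h Y g hg hY
    exact finite_dimZero_of_pIrr g (hall h) hg hY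
  · intro H
    exact hatlas fun U a ha => pIrr_of_finite_dimZero X H a ha
  · intro h Y g hg hY
    exact finite_irreducibleComponents_points_of_pIrr g (hall h) hg hY
  · intro H
    exact hatlas fun U a ha => pIrr_of_finite_irreducibleComponents_points X H a ha

end Groth.Agent.H51
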