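import Groth.Agent.H51.SchIrredFlat
import Groth.Agent.H51.SpIrred
import Groth.Agent.H49.AlgSpOpen

set_option autoImplicit false
universe u
open CategoryTheory CategoryTheory.Limits AlgebraicGeometry Opposite MorphismProperty Topology

namespace Groth.Agent.H51

open AlgSp Groth.Agent.H50

variable {S : Scheme.{u}}

theorem s10303 {X Y : AlgSp.Space S} (f : X ⟶ Y)
    (hf : AlgSp.LocP @Flat f.hom) (hf' : AlgSp.LocP @LocallyOfFiniteType f.hom)
    (hY : AlgSp.EtaleLocally (fun U => ∀ W : U.Opens, IsCompact (W : Set ↥U) → (irreducibleComponents ↥W).Finite) Y.obj) :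
    AlgSp.EtaleLocally (fun U => ∀ W : U.Opens, IsCompact (W : Set ↥U) → (irreducibleComponents ↥W).Finite) X.obj := by
  obtain ⟨V, q, hqe, hqs, hV⟩ := hY
  obtain ⟨U, p, α, hpe, hps, hcomm⟩ :=
    Groth.Agent.H49.exists_chart_lift X.property f.hom q hqe hqs
  haveI : Flat α.left := hf p q α hpe hqe hcomm
  haveI : LocallyOfFiniteType α.left := hf' p q α hpe hqe hcomm
  exact ⟨U, p, hpe, hps, pIrr_of_flat_lft α.left hV⟩

end Groth.Agent.H51
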