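import Groth.Agent.H51.SpLciYon
import Groth.Agent.H51.SpBasic
import Groth.Agent.H53.LocPBase
import Groth.Agent.H53.FppfOpen
import Groth.Agent.H39.SyntSrcGeom
import Groth.Agent.S9758
import Groth.Agent.H49.AlgSpRep

/-! Local complete intersection morphisms of algebraic spaces: flat base change, and descent along
fpqc coverings of the base. -/

set_option autoImplicit false
universe u

open CategoryTheory CategoryTheory.Limits AlgebraicGeometry Opposite
open AlgSp Groth.Agent.H53

namespace Groth.Agent.H51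

variable {S : Scheme.{u}}

/-- Being a local complete intersection morphism is étale local on the source. -/
theorem etLocSrc_lci : Groth.Agent.H50.EtLocSrc (AlgSp.lci : MorphismProperty Scheme.{u}) := by
  intro A B C e h he hes hP
  haveI := he
  haveI := hes
  have hsynt : Synt.IsSyntomicMor e :=
    (Groth.Agent.S9758.result e).mp ⟨inferInstance, Groth.Agent.H94.LciLocal.lci_of_smooth e⟩
  exact Groth.Agent.H39.SyntSrcGeom.isKoszulAt_of_syntomic_surjective_precomp e hsynt h hP

/-- Descent of `lci` along étale surjective base change. -/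
theorem lci_descends_etale {A B A' B' : Scheme.{u}} (h : A ⟶ B) (v : B' ⟶ B) (u : A' ⟶ A)
    (h' : A' ⟶ B') (sq : IsPullback u h' h v) (hv : Etale v) (hvs : Surjective v)
    (hP : AlgSp.lci h') : AlgSp.lci h := by
  haveI := Groth.Agent.H94.LciLocal.lci_descendsAlong_fppf.{u}
  exact Groth.Agent.H50.descends_etale_of_descendsAlong AlgSp.lci h v u h' sq hv hvs hP

/-- Local complete intersection morphisms of algebraic spaces are stable under flat base
change. -/
theorem isLCIMor_of_isPullback_flat {X Y X' Y' : Sp S} (hX : IsAlgSpace X) (hY : IsAlgSpace Y)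
    (hY' : IsAlgSpace Y') {q : X' ⟶ X} {p : X' ⟶ Y'} {f : X ⟶ Y} {g : Y' ⟶ Y}
    (sq : IsPullback q p f g) (hg : LocP @Flat g) (hf : IsLCIMor f) : IsLCIMor p := by
  obtain ⟨V, b, hb1, hb2⟩ := hY.atlas
  obtain ⟨U₀, a₀, ha1, ha2⟩ := hX.atlas
  obtain ⟨V'₁, b'₁, hb'1, hb'2⟩ := hY'.atlas
  obtain ⟨V', v', k, sqV'⟩ := exists_pullback_yon (b'₁ ≫ g) b hb1.rep
  have hv'1 : Etale v'.left := prop_of_isPullback_yon sqV' hb1
  have hv'2 : Surjective v'.left := prop_of_isPullback_yon sqV' hb2
  have hβ1 : RepWith @Etale ((yon S).map v' ≫ b'₁) := repWith_etale_map_comp _ hv'1 b'₁ hb'1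
  have hβ2 : RepWith @Surjective ((yon S).map v' ≫ b'₁) :=
    (RepWith @Surjective).comp_mem _ _ ((repWith_yon_map_iff _ _).2 hv'2) hb'2
  haveI hk : Flat k.left :=
    hg ((yon S).map v' ≫ b'₁) b k hβ1 hb1 (by rw [Category.assoc]; exact sqV'.w)
  refine Groth.Agent.H50.locP_of_isPullback_atlas AlgSp.lci
    (fun h v u h' sq hv hvs hP => lci_descends_etale h v u h' sq hv hvs hP)
    p V' ((yon S).map v' ≫ b'₁) hβ1 hβ2 (pullback.fst p ((yon S).map v' ≫ b'₁))
    (pullback.snd p ((yon S).map v' ≫ b'₁)) (IsPullback.of_hasPullback _ _) ?_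
  obtain ⟨U, u, h, sqU⟩ := exists_pullback_yon (a₀ ≫ f) b hb1.rep
  have hu : Etale u.left := prop_of_isPullback_yon sqU hb1
  have hPh : AlgSp.lci h.left := hf ((yon S).map u ≫ a₀) b h (repWith_etale_map_comp _ hu a₀ ha1) hb1
    (by rw [Category.assoc]; exact sqU.w)
  have PX : IsPullback (pullback.fst p ((yon S).map v' ≫ b'₁) ≫ q)
      (pullback.snd p ((yon S).map v' ≫ b'₁)) f ((yon S).map k ≫ b) := by
    have := (IsPullback.of_hasPullback p ((yon S).map v' ≫ b'₁)).paste_horiz sq
    rwa [Category.assoc, sqV'.w] at this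
  obtain ⟨φ, hφ1, hφ2, hφ3, -⟩ := exists_chart_of_baseChange f a₀ ha1 ha2 b u h sqU k _ _
    (IsPullback.of_hasPullback h k) _ _ PX
  refine Groth.Agent.H50.locP_of_source_chart etLocSrc_lci _ _ φ hφ1 hφ2 ?_
  rw [hφ3]
  refine (isLCIMor_yon_map_iff _).2 ?_
  have sqs : IsPullback (pullback.fst h k).left (pullback.snd h k).left h.left k.left :=
    (IsPullback.of_hasPullback h k).map (Over.forget S)
  exact Groth.Agent.H94.LciLocal.lci_of_isPullback_flat sqs hPh

/-- Refinement of fpqc data over an étale chart `h_Z ⟶ Y`: the refining schemes can be taken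
affine, flat over `Z`, and étale over the members of the covering. -/
theorem exists_etale_refinement {ι : Type u} {Y : Sp S} (hY : IsAlgSpace Y) (Yi : ι → Sp S)
    (hYi : ∀ i, IsAlgSpace (Yi i)) (g : ∀ i, Yi i ⟶ Y) (hfl : ∀ i, LocP @Flat (g i))
    {Z : Over S} (h : (yon S).obj Z ⟶ Y) (hh : RepWith @Etale h)
    {m : ℕ} (W : Fin m → Over S) (c : ∀ j, W j ⟶ Z) (hW : ∀ j, CompactSpace ↥(W j).left)
    (hs : ∀ z : ↥Z.left, ∃ j, z ∈ Set.range (c j).left)
    (hl : ∀ j, ∃ (i : ι) (l : (yon S).obj (W j) ⟶ Yi i), l ≫ g i = (yon S).map (c j) ≫ h) :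
    ∃ (n : ℕ) (T : Fin n → Over S) (c' : ∀ k, T k ⟶ Z), (∀ k, IsAffine (T k).left) ∧
      (∀ k, Flat (c' k).left) ∧ (∀ z : ↥Z.left, ∃ k, z ∈ Set.range (c' k).left) ∧
      ∀ k, ∃ (i : ι) (l' : (yon S).obj (T k) ⟶ Yi i), RepWith @Etale l' ∧
        l' ≫ g i = (yon S).map (c' k) ≫ h := by
  classical
  choose i l hli using hl
  -- the fibre products `Z_j`
  have sqZ : ∀ j, IsPullback (pullback.fst (g (i j)) h) (pullback.snd (g (i j)) h) (g (i j)) h :=
    fun j => IsPullback.of_hasPullback _ _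
  have hZalg : ∀ j, IsAlgSpace (pullback (g (i j)) h) := fun j =>
    Groth.Agent.H49.isAlgSpace_of_isPullback (sqZ j) hY.diag (hYi _) (IsAlgSpace.yon_obj Z)
  have hπ₁ : ∀ j, RepWith @Etale (pullback.fst (g (i j)) h) := fun j =>
    MorphismProperty.of_isPullback (sqZ j).flip hh
  have hEF : (@Etale : MorphismProperty Scheme.{u}) ≤ @Flat := by
    intro _ _ e he
    haveI : Etale e := he
    exact (inferInstance : Flat e)
  have hπ₂ : ∀ j, LocP @Flat (pullback.snd (g (i j)) h) := fun j =>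
    locP_of_isPullback @Flat hEF etLocSrc_flat (hYi _) hY (IsAlgSpace.yon_obj Z) (sqZ j) (hfl _)
  choose A θ hθE hθS using fun j => (hZalg j).atlas
  choose α hα using fun j => (yon S).map_surjective (θ j ≫ pullback.snd (g (i j)) h)
  have hαfl : ∀ j, Flat (α j).left := fun j =>
    hπ₂ j (θ j) (𝟙 _) (α j) (hθE j) (repWith_id _ _) (by rw [Category.comp_id, hα])
  -- the maps `W_j ⟶ Z_j`
  let μ : ∀ j, (yon S).obj (W j) ⟶ pullback (g (i j)) h := fun j =>
    pullback.lift (l j) ((yon S).map (c j)) (hli j)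
  have hμ2 : ∀ j, μ j ≫ pullback.snd (g (i j)) h = (yon S).map (c j) :=
    fun j => pullback.lift_snd _ _ _
  -- for each `w` choose a preimage in the atlas and an affine open around it
  have hex : ∀ j (w : ↥(W j).left), ∃ O : (A j).left.Opens, IsAffineOpen O ∧
      ∃ a ∈ O, Points.ofPt (θ j) a = Points.ofPt (μ j) w := by
    intro j w
    obtain ⟨a, ha⟩ := surjective_ofPt_of_surjective (θ j) (hθS j) (Points.ofPt (μ j) w)
    obtain ⟨O, hO, haO, -⟩ := exists_isAffineOpen_mem_and_subset (x := a) (U := ⊤) trivial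
    exact ⟨O, hO, a, haO, ha⟩
  choose O hO a haO ha using hex
  -- an open cover of `W_j`
  let N : ∀ j, ↥(W j).left → Set ↥(W j).left := fun j w =>
    Points.ofPt (μ j) ⁻¹' (Points.ofPt (θ j) '' (O j w : Set ↥(A j).left))
  have hNo : ∀ j w, IsOpen (N j w) := fun j w =>
    (isOpenMap_ofPt_of_etale (θ j) (hθE j) _ (O j w).isOpen).preimage
      (Points.continuous_ofPt (μ j))
  have hNm : ∀ j w, w ∈ N j w := fun j w => ⟨a j w, haO j w, ha j w⟩
  have hfin : ∀ j, ∃ t : Finset ↥(W j).left, Set.univ ⊆ ⋃ w ∈ t, N j w := by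
    intro j
    haveI := hW j
    exact isCompact_univ.elim_finite_subcover (N j) (hNo j)
      (fun w _ => Set.mem_iUnion.2 ⟨w, hNm j w⟩)
  choose t ht using hfin
  -- the finite index type
  let I := Σ j : Fin m, {w // w ∈ t j}
  let TI : I → Over S := fun x => overOpen (A x.1) (O x.1 x.2.1)
  let cI : ∀ x : I, TI x ⟶ Z := fun x => overOpenι (A x.1) (O x.1 x.2.1) ≫ α x.1
  have hTaff : ∀ x : I, IsAffine (TI x).left := fun x => hO x.1 x.2.1
  have hcfl : ∀ x : I, Flat (cI x).left := by
    intro x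
    haveI := hαfl x.1
    change Flat ((O x.1 x.2.1).ι ≫ (α x.1).left)
    infer_instance
  have hsurj : ∀ z : ↥Z.left, ∃ x : I, z ∈ Set.range (cI x).left := by
    intro z
    obtain ⟨j, w, rfl⟩ := hs z
    have hw := ht j (Set.mem_univ w)
    simp only [Set.mem_iUnion] at hw
    obtain ⟨w₀, hw₀, a', ha'O, ha'⟩ := hw
    refine ⟨⟨j, ⟨w₀, hw₀⟩⟩, ⟨a', ha'O⟩, ?_⟩
    change (α j).left a' = (c j).left w
    apply (Points.schemeHomeo Z).injective
    rw [← Points.map_yon_map_apply, hα, Points.map_comp, ← ofPt_eq_map_schemeHomeo, ha',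
      Points.map_ofPt, hμ2, ofPt_eq_map_schemeHomeo, Points.map_yon_map_apply]
  have hlift : ∀ x : I, ∃ (i' : ι) (l' : (yon S).obj (TI x) ⟶ Yi i'), RepWith @Etale l' ∧
      l' ≫ g i' = (yon S).map (cI x) ≫ h := by
    intro x
    refine ⟨i x.1, (yon S).map (overOpenι (A x.1) (O x.1 x.2.1)) ≫ θ x.1 ≫
      pullback.fst (g (i x.1)) h, ?_, ?_⟩
    · exact (RepWith @Etale).comp_mem _ _ (repWith_etale_overOpenι _ _)
        ((RepWith @Etale).comp_mem _ _ (hθE x.1) (hπ₁ x.1))
    · rw [Category.assoc, Category.assoc, pullback.condition, ← Category.assoc (θ x.1), ← hα,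
        ← Category.assoc, ← Functor.map_comp]
  -- reindex by `Fin n`
  haveI : Finite I := inferInstance
  let e := Finite.equivFin I
  exact ⟨Nat.card I, fun k => TI (e.symm k), fun k => cI (e.symm k), fun k => hTaff _,
    fun k => hcfl _, fun z => by
      obtain ⟨x, hx⟩ := hsurj z
      obtain ⟨k, rfl⟩ := e.symm.surjective x
      exact ⟨k, hx⟩, fun k => hlift _⟩

/-- Local complete intersection morphisms of algebraic spaces descend along fpqc coverings of the
base. -/
theorem isLCIMor_of_fpqc_cover {ι : Type u} {Y : Sp S} (Yi : ι → Sp S) (g : ∀ i, Yi i ⟶ Y)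
    (hY : IsAlgSpace Y) (hYi : ∀ i, IsAlgSpace (Yi i)) (hcov : IsFpqcCover Yi g) {X : Sp S}
    (f : X ⟶ Y) (hX : IsAlgSpace X) (Xi : ι → Sp S) (p : ∀ i, Xi i ⟶ Yi i) (q : ∀ i, Xi i ⟶ X)
    (sq : ∀ i, IsPullback (q i) (p i) f (g i)) (H : ∀ i, IsLCIMor (p i)) : IsLCIMor f := by
  obtain ⟨V, b, hb1, hb2⟩ := hY.atlas
  obtain ⟨U₀, a₀, ha1, ha2⟩ := hX.atlas
  refine Groth.Agent.H50.locP_of_isPullback_atlas AlgSp.lci
    (fun h v u h' sq hv hvs hP => lci_descends_etale h v u h' sq hv hvs hP)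
    f V b hb1 hb2 (pullback.fst f b) (pullback.snd f b) (IsPullback.of_hasPullback _ _) ?_
  obtain ⟨U, u, h, sqU⟩ := exists_pullback_yon (a₀ ≫ f) b hb1.rep
  have PX0 : IsPullback (pullback.fst f b) (pullback.snd f b) f ((yon S).map (𝟙 V) ≫ b) := by
    rw [CategoryTheory.Functor.map_id, Category.id_comp]
    exact IsPullback.of_hasPullback _ _
  obtain ⟨φ, hφ1, hφ2, hφ3, -⟩ := exists_chart_of_baseChange f a₀ ha1 ha2 b u h sqU (𝟙 V) (𝟙 U) h
    IsPullback.of_id_fst _ _ PX0
  refine Groth.Agent.H50.locP_of_source_chart etLocSrc_lci _ _ φ hφ1 hφ2 ?_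
  rw [hφ3]
  refine (isLCIMor_yon_map_iff _).2 ?_
  -- now a statement about the morphism of schemes `h`
  rw [IsZariskiLocalAtTarget.iff_of_openCover (P := AlgSp.lci) V.left.affineCover]
  intro α
  have hZ : IsAffine (overOf V (V.left.affineCover.f α)).left :=
    Scheme.isAffine_affineCover V.left α
  have hZE : RepWith @Etale ((yon S).map (overHom V (V.left.affineCover.f α)) ≫ b) :=
    repWith_etale_map_comp _ (show Etale (V.left.affineCover.f α) from inferInstance) b hb1
  obtain ⟨m, W, c, hW, hc, hs, hl⟩ :=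
    hcov.2 _ hZ ((yon S).map (overHom V (V.left.affineCover.f α)) ≫ b)
  obtain ⟨n, T, c', hT, hc', hs', hl'⟩ := exists_etale_refinement hY Yi hYi g hcov.1
    ((yon S).map (overHom V (V.left.affineCover.f α)) ≫ b) hZE W c
    (fun j => by haveI := hW j; infer_instance) hs hl
  have : IsAffine ((V.left.affineCover).X α) := hZ
  have : ∀ k, IsAffine ((fun k => (T k).left) k) := hT
  have : ∀ k, Flat ((fun k => (c' k).left) k) := hc'
  refine prop_of_fpqc_family AlgSp.lci _ (fun k => (T k).left) (fun k => (c' k).left) hs'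
    fun k => ?_
  obtain ⟨i, l, hlE, hli⟩ := hl' k
  have PB := IsPullback.of_hasPullback h (c' k ≫ overHom V (V.left.affineCover.f α))
  have PB' := PB.map (Over.forget S)
  have hcomm : (pullback.fst h (c' k ≫ overHom V (V.left.affineCover.f α))).left ≫ h.left =
      ((pullback.snd h (c' k ≫ overHom V (V.left.affineCover.f α))).left ≫ (c' k).left) ≫
        V.left.affineCover.f α := by
    rw [Category.assoc]; exact PB'.w
  obtain ⟨a, ha_1, ha_2⟩ : ∃ a, a ≫ pullback.fst h.left (V.left.affineCover.f α) =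
      (pullback.fst h (c' k ≫ overHom V (V.left.affineCover.f α))).left ∧
      a ≫ pullback.snd h.left (V.left.affineCover.f α) =
        (pullback.snd h (c' k ≫ overHom V (V.left.affineCover.f α))).left ≫ (c' k).left :=
    ⟨pullback.lift _ _ hcomm, pullback.lift_fst _ _ _, pullback.lift_snd _ _ _⟩
  have sqA : IsPullback a (pullback.snd h (c' k ≫ overHom V (V.left.affineCover.f α))).left
      (pullback.snd h.left (V.left.affineCover.f α)) (c' k).left := by
    refine IsPullback.of_right ?_ ha_2 (IsPullback.of_hasPullback h.left (V.left.affineCover.f α))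
    rw [ha_1]
    exact PB'
  refine ⟨_, a, _, sqA, ?_⟩
  -- `lci` for the projection, from a chart diagram of `p i`
  have PXj : IsPullback (pullback.fst (p i) l ≫ q i) (pullback.snd (p i) l) f
      ((yon S).map (c' k ≫ overHom V (V.left.affineCover.f α)) ≫ b) := by
    have := (IsPullback.of_hasPullback (p i) l).paste_horiz (sq i)
    rwa [hli, ← Category.assoc, ← Functor.map_comp] at this
  obtain ⟨ψ, hψ1, -, hψ3, -⟩ := exists_chart_of_baseChange f a₀ ha1 ha2 b u h sqU
    (c' k ≫ overHom V (V.left.affineCover.f α)) _ _ PB _ _ PXj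
  have hfstE : RepWith @Etale (pullback.fst (p i) l) :=
    MorphismProperty.of_isPullback (IsPullback.of_hasPullback (p i) l).flip hlE
  exact H i (ψ ≫ pullback.fst (p i) l) l _ ((RepWith @Etale).comp_mem _ _ hψ1 hfstE) hlE
    (by rw [Category.assoc, pullback.condition, ← Category.assoc, hψ3])

/-- Being a local complete intersection morphism of algebraic spaces is fpqc local on the base. -/
theorem isLocalOnBase_fpqc_isLCIMor : IsLocalOnBase (IsFpqcCover (S := S)) IsLCIMor := by
  intro ι Y Yi g hY hYi hcov X f hX Xi p q hXi sq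
  constructor
  · intro hf i
    exact isLCIMor_of_isPullback_flat hX hY (hYi i) (sq i) (hcov.1 i) hf
  · intro H
    exact isLCIMor_of_fpqc_cover Yi g hY hYi hcov f hX Xi p q sq H

end Groth.Agent.H51
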