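import Groth.Prelude.Def_AlgSpMor6
import Groth.Agent.H94.LciLocal
import Groth.Agent.S9729

/-!
# Local complete intersection morphisms of sheaves, for maps of representables (helper51)
-/

set_option autoImplicit false
set_option linter.style.haveILetI false
universe u
open CategoryTheory CategoryTheory.Limits AlgebraicGeometry

namespace Groth.Agent.H51
open AlgSp
variable {S : Scheme.{u}}

/-- `h_g` is a local complete intersection morphism of sheaves iff `g` is Koszul at every point. -/
theorem isLCIMor_yon_map_iff {U V : Over S} (g : U ⟶ V) :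
    IsLCIMor ((yon S).map g) ↔ AlgSp.lci g.left := by
  constructor
  · intro h
    exact AlgSp.locP_yon_map h
  · intro hg U' V' a b h ha hb w
    obtain ⟨a₀, rfl⟩ := (yon S).map_surjective a
    obtain ⟨b₀, rfl⟩ := (yon S).map_surjective b
    have ha₀ : Etale a₀.left := (repWith_yon_map_iff @Etale a₀).1 ha
    have hb₀ : Etale b₀.left := (repWith_yon_map_iff @Etale b₀).1 hb
    have w' : a₀ ≫ g = h ≫ b₀ := by
      apply (yon S).map_injective
      rw [Functor.map_comp, Functor.map_comp]
      exact w
    have w'' : a₀.left ≫ g.left = h.left ≫ b₀.left := by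
      rw [← Over.comp_left, ← Over.comp_left, w']
    have h1 : AlgSp.lci (a₀.left ≫ g.left) :=
      Groth.Agent.H94.LciLocal.lci_comp _ _ (Groth.Agent.H94.LciLocal.lci_of_smooth _) hg
    rw [w''] at h1
    exact Groth.Agent.S9729.result h.left b₀.left h1

end Groth.Agent.H51
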