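import Groth.Agent.H51.SpAffine
import Groth.Prelude.Def_AlgSpMor5
import Mathlib.AlgebraicGeometry.Normalization

set_option autoImplicit false
universe u
open CategoryTheory CategoryTheory.Limits AlgebraicGeometry Opposite MorphismProperty

namespace Groth.Agent.H51

open AlgSp

variable {S : Scheme.{u}}

theorem isIntegralMor_iff_repWith {X Y : Sp S} (f : X ⟶ Y) :
    IsIntegralMor f ↔ RepWith @IsIntegralHom f :=
  affine_test_iff_repWith @IsIntegralHom (fun g hg => by
    have : IsIntegralHom g := hg
    infer_instance) f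

/-- The relative normalization of schemes is the normalization in the sense of algebraic
spaces. -/
theorem isRelNormalization_yon {V U N : Over S} (g : V ⟶ U)
    [QuasiCompact g.left] [QuasiSeparated g.left] (f' : V ⟶ N) (ν : N ⟶ U)
    (e : N.left ≅ g.left.normalization) (he1 : f'.left ≫ e.hom = g.left.toNormalization)
    (he2 : e.hom ≫ g.left.fromNormalization = ν.left) :
    IsRelNormalization ((yon S).map g) ((yon S).map ν) ((yon S).map f') := by
  have hfν : f' ≫ ν = g := by
    ext : 1
    change f'.left ≫ ν.left = g.left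
    rw [← he2, ← Category.assoc, he1, Scheme.Hom.toNormalization_fromNormalization]
  haveI hνint : IsIntegralHom ν.left := by
    rw [← he2]
    infer_instance
  refine ⟨by rw [← Functor.map_comp, hfν], ?_, ?_⟩
  · rw [isIntegralMor_iff_repWith]
    exact (repWith_yon_map_iff _ _).2 hνint
  · intro Z hZ π gg hπ hgg
    rw [isIntegralMor_iff_repWith] at hπ
    -- Z is representable
    have sq := hπ.rep.isPullback (𝟙 ((yon S).obj U))
    set T := hπ.rep.pullback (𝟙 ((yon S).obj U)) with hT
    set snd : T ⟶ U := hπ.rep.snd (𝟙 ((yon S).obj U)) with hsnd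
    set fst : (yon S).obj T ⟶ Z := hπ.rep.fst (𝟙 ((yon S).obj U)) with hfst
    haveI : IsIso fst := sq.isIso_fst_of_isIso
    have hfst_π : fst ≫ π = (yon S).map snd := by rw [sq.w, Category.comp_id]
    haveI hsnd_int : IsIntegralHom snd.left := hπ.property_snd _
    obtain ⟨g₁, hg₁⟩ := (yon S).map_surjective (gg ≫ inv fst)
    have hg₁snd : g₁ ≫ snd = g := by
      apply (yon S).map_injective
      rw [Functor.map_comp, hg₁, ← hfst_π, Category.assoc, IsIso.inv_hom_id_assoc, hgg]
    have H : g.left = g₁.left ≫ snd.left := by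
      rw [← Over.comp_left, hg₁snd]
    let d : g.left.normalization ⟶ T.left := g.left.normalizationDesc g₁.left snd.left H
    have hd1 : g.left.toNormalization ≫ d = g₁.left :=
      Scheme.Hom.toNormalization_normalizationDesc _ _ _ H
    have hd2 : d ≫ snd.left = g.left.fromNormalization :=
      Scheme.Hom.normalizationDesc_comp _ _ _ H
    let h₀ : N ⟶ T := Over.homMk (e.hom ≫ d) (by
      rw [← Over.w snd, Category.assoc, ← Category.assoc d, hd2, ← Category.assoc, he2]
      exact Over.w ν)
    have hh₀1 : f' ≫ h₀ = g₁ := by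
      ext : 1
      change f'.left ≫ e.hom ≫ d = g₁.left
      rw [← Category.assoc, he1, hd1]
    have hh₀2 : h₀ ≫ snd = ν := by
      ext : 1
      change (e.hom ≫ d) ≫ snd.left = ν.left
      rw [Category.assoc, hd2, he2]
    refine ⟨(yon S).map h₀ ≫ fst, ⟨?_, ?_⟩, ?_⟩
    · rw [← Category.assoc, ← Functor.map_comp, hh₀1, hg₁, Category.assoc, IsIso.inv_hom_id,
        Category.comp_id]
    · rw [Category.assoc, hfst_π, ← Functor.map_comp, hh₀2]
    · rintro h' ⟨hh'1, hh'2⟩
      obtain ⟨h₁, hh₁⟩ := (yon S).map_surjective (h' ≫ inv fst)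
      have e1 : f' ≫ h₁ = g₁ := by
        apply (yon S).map_injective
        rw [Functor.map_comp, hh₁, ← Category.assoc, hh'1, hg₁]
      have e2 : h₁ ≫ snd = ν := by
        apply (yon S).map_injective
        rw [Functor.map_comp, hh₁, ← hfst_π, Category.assoc, IsIso.inv_hom_id_assoc, hh'2]
      have key : e.inv ≫ h₁.left = d := by
        refine Scheme.Hom.normalization.hom_ext g.left _ _ snd.left ?_ ?_ hd2
        · rw [hd1, ← he1, Category.assoc, e.hom_inv_id_assoc]
          exact congrArg CommaMorphism.left e1
        · rw [Category.assoc, ← Over.comp_left, e2, ← he2, e.inv_hom_id_assoc]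
      have : h₁ = h₀ := by
        ext : 1
        change h₁.left = e.hom ≫ d
        rw [← key, e.hom_inv_id_assoc]
      rw [← this, hh₁, Category.assoc, IsIso.inv_hom_id, Category.comp_id]

end Groth.Agent.H51
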