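import Groth.Agent.H51.SpFinite
import Groth.Agent.H51.SpNormalization
import Groth.Agent.H49.AlgSpDiag
import Groth.Agent.H49.AlgSpDiagProps

set_option autoImplicit false
universe u
open CategoryTheory CategoryTheory.Limits AlgebraicGeometry Opposite MorphismProperty

namespace Groth.Agent.H51
open AlgSp
variable {S : Scheme.{u}}

theorem isSeparatedMor_of_isIntegralMor {X Y : Sp S} (f : X ⟶ Y) (hf : IsIntegralMor f) :
    IsSeparatedMor f := by
  have h1 : RepWith @IsIntegralHom f := (isIntegralMor_iff_repWith f).1 hf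
  have h2 : RepWith (MorphismProperty.diagonal (@IsClosedImmersion : MorphismProperty Scheme.{u})) f := by
    refine Groth.Agent.H49.repWith_of_le ?_ h1
    intro A B k hk
    have : IsIntegralHom k := hk
    have : IsSeparated k := inferInstance
    exact this.1
  exact (Groth.Agent.H49.repWith_diagonal_iff @IsClosedImmersion f h1.1).2 h2

theorem isIntegralMor_comp {X Y Z : Sp S} (f : X ⟶ Y) (g : Y ⟶ Z) (hf : IsIntegralMor f)
    (hg : IsIntegralMor g) : IsIntegralMor (f ≫ g) :=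
  (isIntegralMor_iff_repWith _).2 ((repWith_isMultiplicative (S := S) @IsIntegralHom).comp_mem _ _
    ((isIntegralMor_iff_repWith f).1 hf) ((isIntegralMor_iff_repWith g).1 hg))

theorem s10296 {Y X X' Z : AlgSp.Space S} (f : Y ⟶ X)
    (ν : X' ⟶ X) (f' : Y ⟶ X')
    (hn : AlgSp.IsRelNormalization f.hom ν.hom f'.hom) (π : Z ⟶ X) (hπ : AlgSp.IsIntegralMor π.hom) (g : Y ⟶ Z)
    (hg : g ≫ π = f) (h : X' ⟶ Z) (h1 : f' ≫ h = g) (h2 : h ≫ π = ν) :
    AlgSp.IsRelNormalization g.hom h.hom f'.hom := by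
  obtain ⟨hn1, hn2, hn3⟩ := hn
  have hsep : IsSeparatedMor π.hom := isSeparatedMor_of_isIntegralMor _ hπ
  have hg' : g.hom ≫ π.hom = f.hom := congrArg (fun k => k.hom) hg
  have h1' : f'.hom ≫ h.hom = g.hom := congrArg (fun k => k.hom) h1
  have h2' : h.hom ≫ π.hom = ν.hom := congrArg (fun k => k.hom) h2
  refine ⟨h1', ?_, ?_⟩
  · exact (s10272 h π hsep).2 (by
      change IsIntegralMor (h.hom ≫ π.hom)
      rw [h2']; exact hn2)
  · intro Z' hZ' π' g' hπ' hg''
    obtain ⟨k, ⟨hk1, hk2⟩, hk3⟩ := hn3 hZ' (π' ≫ π.hom) g' (isIntegralMor_comp _ _ hπ' hπ)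
      (by rw [← Category.assoc, hg'', hg'])
    obtain ⟨k0, -, hk0⟩ := hn3 Z.property π.hom g.hom hπ hg'
    have e1 : k ≫ π' = k0 := hk0 _ ⟨by rw [← Category.assoc, hk1, hg''], by rw [Category.assoc, hk2]⟩
    have e2 : h.hom = k0 := hk0 _ ⟨h1', h2'⟩
    refine ⟨k, ⟨hk1, e1.trans e2.symm⟩, ?_⟩
    rintro k' ⟨hk'1, hk'2⟩
    exact hk3 k' ⟨hk'1, by rw [← Category.assoc, hk'2, h2']⟩

end Groth.Agent.H51
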