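import Groth.Agent.H49.AlgSpCoprod
import Groth.Agent.H50.QCKer2
import Groth.Agent.H50.SchImage
import Groth.Agent.H51.SpOpen
import Groth.Agent.H51.SpRep
import Groth.Agent.H51.SpQc

set_option autoImplicit false
universe u
open CategoryTheory CategoryTheory.Limits AlgebraicGeometry Opposite MorphismProperty

namespace Groth.Agent.H51
open AlgSp Groth.Agent.H50 Groth.Agent.H49
variable {S : Scheme.{u}}

/-- Lifts through a locally surjective map exist fppf locally: pointwise form. -/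
theorem exists_fppf_local_lift {Y : Sp S} {V : Over S} (p : (yon S).obj V ⟶ Y)
    [Sheaf.IsLocallySurjective p] {T : Over S} (x : (yon S).obj T ⟶ Y) (τ : ↥T.left) :
    ∃ (T' : Over S) (g : T' ⟶ T) (v : T' ⟶ V) (τ' : ↥T'.left), Flat g.left ∧
      LocallyOfFinitePresentation g.left ∧ (yon S).map v ≫ p = (yon S).map g ≫ x ∧
      g.left τ' = τ := by
  have hmem := Presheaf.imageSieve_mem (J S) p.hom (U := op T) ((J S).uliftYonedaEquiv x)
  obtain ⟨R', hR', hle⟩ := exists_fppf_cover_of_mem _ hmem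
  have hjs : R' ∈ Scheme.jointlySurjectivePrecoverage T.left := hR'.1
  rw [Scheme.jointlySurjectivePrecoverage, Presieve.mem_comap_jointlySurjectivePrecoverage_iff] at hjs
  obtain ⟨U', g, hg, τ', hτ'⟩ := hjs τ
  have hP : (@Flat ⊓ @LocallyOfFinitePresentation : MorphismProperty Scheme.{u}) g := hR'.2 hg
  obtain ⟨t, ht⟩ := hle g hg
  let T' : Over S := Over.mk (g ≫ T.hom)
  let γ : T' ⟶ T := Over.homMk g
  let η : (yon S).obj T' ⟶ (yon S).obj V := (J S).uliftYonedaEquiv.symm t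
  have hηb : η ≫ p = (yon S).map γ ≫ x := by
    apply (J S).uliftYonedaEquiv.injective
    rw [(J S).uliftYonedaEquiv_comp, Equiv.apply_symm_apply,
      ← (J S).uliftYonedaEquiv_naturality]
    exact ht
  obtain ⟨v, hv⟩ := (yon S).map_surjective η
  exact ⟨T', γ, v, τ', hP.1, hP.2, by rw [hv]; exact hηb, hτ'⟩


/-- A morphism to `V` factors through the open `W` if it does so pointwise. -/
theorem exists_factor_opensOv {T V : Over S} (W : V.left.Opens) (v : T ⟶ V)
    (h : ∀ τ : ↥T.left, v.left τ ∈ W) : ∃ w : T ⟶ opensOv V W, w ≫ opensOvι V W = v := by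
  have hr : Set.range v.left ⊆ Set.range W.ι := by
    rintro _ ⟨τ, rfl⟩
    rw [Scheme.Opens.range_ι]
    exact h τ
  refine ⟨Over.homMk (IsOpenImmersion.lift W.ι v.left hr) ?_, ?_⟩
  · change IsOpenImmersion.lift W.ι v.left hr ≫ W.ι ≫ V.hom = T.hom
    rw [← Category.assoc, IsOpenImmersion.lift_fac]
    exact Over.w v
  · ext
    exact IsOpenImmersion.lift_fac _ _ _

section Core

variable {Y Z : Sp S} (i : Z ⟶ Y) {V : Over S} (p : (yon S).obj V ⟶ Y) (W : V.left.Opens)
  (q : (yon S).obj (opensOv V W) ⟶ Z)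
  (sq : IsPullback q ((yon S).map (opensOvι V W)) i p)

include sq in
/-- A lift to `V` of a map that factors through `i` lands in `W`. -/
theorem mem_of_factor {T T₁ T₂ : Over S} (x : (yon S).obj T ⟶ Y) (a₁ : T₁ ⟶ T) (v : T₁ ⟶ V)
    (hv : (yon S).map v ≫ p = (yon S).map a₁ ≫ x) (a₂ : T₂ ⟶ T) (z : (yon S).obj T₂ ⟶ Z)
    (hz : z ≫ i = (yon S).map a₂ ≫ x) (τ₁ : ↥T₁.left) (τ₂ : ↥T₂.left)
    (h : a₁.left τ₁ = a₂.left τ₂) : v.left τ₁ ∈ W := by
  have sqP := IsPullback.of_hasPullback a₁ a₂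
  have sqP' := sqP.map (Over.forget S)
  obtain ⟨π, hπ1, -⟩ := exists_of_isPullback_scheme sqP' τ₁ τ₂ h
  -- on the fibre product the lift factors through `W`
  have hw : (yon S).map (pullback.snd a₁ a₂) ≫ z ≫ i =
      (yon S).map (pullback.fst a₁ a₂ ≫ v) ≫ p := by
    rw [hz, Functor.map_comp, Category.assoc, hv, ← Category.assoc, ← Category.assoc,
      ← Functor.map_comp, ← Functor.map_comp, sqP.w]
  obtain ⟨ℓ, -, hℓ2⟩ := sq.exists_lift ((yon S).map (pullback.snd a₁ a₂) ≫ z)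
    ((yon S).map (pullback.fst a₁ a₂ ≫ v)) (by rw [Category.assoc]; exact hw)
  obtain ⟨ℓ₀, rfl⟩ := (yon S).map_surjective ℓ
  rw [← Functor.map_comp] at hℓ2
  have hℓ3 : ℓ₀ ≫ opensOvι V W = pullback.fst a₁ a₂ ≫ v := (yon S).map_injective hℓ2
  have hℓ4 : (ℓ₀ ≫ opensOvι V W).left π = (pullback.fst a₁ a₂ ≫ v).left π := by rw [hℓ3]
  have e1 : (pullback.fst a₁ a₂ ≫ v).left π = v.left τ₁ := by
    change v.left ((pullback.fst a₁ a₂).left π) = _
    rw [← hπ1]; rfl
  rw [← e1, ← hℓ4]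
  change W.ι (ℓ₀.left π) ∈ W
  exact (ℓ₀.left π).2

/-- The set of points of `T` over which `x` factors through `i` (seen on a lift to `V`). -/
def factorSet {T : Over S} (x : (yon S).obj T ⟶ Y) : Set ↥T.left :=
  {τ | ∃ (T' : Over S) (g : T' ⟶ T) (v : T' ⟶ V) (τ' : ↥T'.left), Flat g.left ∧
    LocallyOfFinitePresentation g.left ∧ (yon S).map v ≫ p = (yon S).map g ≫ x ∧
    g.left τ' = τ ∧ v.left τ' ∈ W}

theorem isOpen_factorSet {T : Over S} (x : (yon S).obj T ⟶ Y) :
    IsOpen (factorSet p W x) := by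
  rw [isOpen_iff_forall_mem_open]
  rintro τ ⟨T', g, v, τ', hg1, hg2, hv, rfl, hτ'⟩
  refine ⟨g.left '' (v.left ⁻¹' (W : Set ↥V.left)), ?_, ?_, ⟨τ', hτ', rfl⟩⟩
  · rintro _ ⟨τ'', hτ'', rfl⟩
    exact ⟨T', g, v, τ'', hg1, hg2, hv, rfl, hτ''⟩
  · exact g.left.isOpenMap _ (W.2.preimage v.left.continuous)

include sq in
/-- If `x ∘ a` factors through `i`, then `a` lands in the factor set. -/
theorem mem_factorSet_of_factor [Sheaf.IsLocallySurjective p] {T T₂ : Over S}
    (x : (yon S).obj T ⟶ Y) (a₂ : T₂ ⟶ T) (z : (yon S).obj T₂ ⟶ Z)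
    (hz : z ≫ i = (yon S).map a₂ ≫ x) (τ₂ : ↥T₂.left) : a₂.left τ₂ ∈ factorSet p W x := by
  obtain ⟨T', g, v, τ', hg1, hg2, hv, hτ'⟩ := exists_fppf_local_lift p x (a₂.left τ₂)
  exact ⟨T', g, v, τ', hg1, hg2, hv, hτ',
    mem_of_factor i p W q sq x g v hv a₂ z hz τ' τ₂ hτ'⟩

include sq in
/-- Over the factor set, `x` factors through `i`. -/
theorem exists_factor_over_factorSet [Mono i] [Sheaf.IsLocallySurjective p] {T : Over S}
    (x : (yon S).obj T ⟶ Y) (O : T.left.Opens) (hO : (O : Set ↥T.left) = factorSet p W x) :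
    ∃ z : (yon S).obj (opensOv T O) ⟶ Z, z ≫ i = (yon S).map (opensOvι T O) ≫ x := by
  have hmem := Presheaf.imageSieve_mem (J S) p.hom (U := op (opensOv T O))
    ((J S).uliftYonedaEquiv ((yon S).map (opensOvι T O) ≫ x))
  refine exists_lift_of_mono_of_locally i _ _ hmem ?_
  intro T'' ψ hψ
  obtain ⟨t, ht⟩ := hψ
  let η : (yon S).obj T'' ⟶ (yon S).obj V := (J S).uliftYonedaEquiv.symm t
  have hηb : η ≫ p = (yon S).map ψ ≫ (yon S).map (opensOvι T O) ≫ x := by
    apply (J S).uliftYonedaEquiv.injective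
    rw [(J S).uliftYonedaEquiv_comp, Equiv.apply_symm_apply,
      ← (J S).uliftYonedaEquiv_naturality]
    exact ht
  obtain ⟨v, hv⟩ := (yon S).map_surjective η
  rw [← hv] at hηb
  -- `v` lands in `W`
  have hvW : ∀ τ'' : ↥T''.left, v.left τ'' ∈ W := by
    intro τ''
    have hτ : (ψ ≫ opensOvι T O).left τ'' ∈ factorSet p W x := by
      rw [← hO]
      change O.ι (ψ.left τ'') ∈ O
      exact (ψ.left τ'').2
    obtain ⟨T', g, v', τ', -, -, hv', hτ', hW'⟩ := hτ
    -- restrict to the open where `v'` lands in `W`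
    let O' : T'.left.Opens := v'.left ⁻¹ᵁ W
    obtain ⟨w', hw'⟩ := exists_factor_opensOv W (opensOvι T' O' ≫ v') (by
      intro σ
      change v'.left (O'.ι σ) ∈ W
      exact σ.2)
    have hz : ((yon S).map w' ≫ q) ≫ i = (yon S).map (opensOvι T' O' ≫ g) ≫ x := by
      rw [Category.assoc, sq.w, ← Category.assoc, ← Functor.map_comp, hw', Functor.map_comp,
        Category.assoc, hv', ← Category.assoc, ← Functor.map_comp]
    have hv2 : (yon S).map v ≫ p = (yon S).map (ψ ≫ opensOvι T O) ≫ x := by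
      rw [hηb, Functor.map_comp, Category.assoc]
    exact mem_of_factor i p W q sq x (ψ ≫ opensOvι T O) v hv2 (opensOvι T' O' ≫ g)
      ((yon S).map w' ≫ q) hz τ'' ⟨τ', hW'⟩ hτ'.symm
  obtain ⟨w, hw⟩ := exists_factor_opensOv W v hvW
  refine ⟨(yon S).map w ≫ q, ?_⟩
  rw [Category.assoc, sq.w, ← Category.assoc, ← Functor.map_comp, hw, hηb]

include sq in
/-- Open descent: the pullback of `i` along any `x : h_T ⟶ Y` is an open subscheme of `T`. -/
theorem exists_open_isPullback [Mono i] [Sheaf.IsLocallySurjective p] {T : Over S}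
    (x : (yon S).obj T ⟶ Y) :
    ∃ (O : T.left.Opens) (z : (yon S).obj (opensOv T O) ⟶ Z),
      IsPullback z ((yon S).map (opensOvι T O)) i x := by
  let O : T.left.Opens := ⟨factorSet p W x, isOpen_factorSet p W x⟩
  obtain ⟨z, hz⟩ := exists_factor_over_factorSet i p W q sq x O rfl
  refine ⟨O, z, isPullback_of_forall_yon hz ?_⟩
  intro T' a b hab
  obtain ⟨b₀, rfl⟩ := (yon S).map_surjective b
  obtain ⟨c, hc⟩ := exists_factor_opensOv O b₀ (fun τ' =>
    mem_factorSet_of_factor i p W q sq x b₀ a hab τ')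
  haveI : Mono (opensOvι T O) := by
    have : Mono (opensOvι T O).left := (inferInstance : Mono O.ι)
    exact Over.mono_of_mono_left _
  haveI : Mono ((yon S).map (opensOvι T O)) := inferInstance
  refine ⟨(yon S).map c, ⟨?_, ?_⟩, ?_⟩
  · rw [← cancel_mono i, Category.assoc, hz, ← Category.assoc, ← Functor.map_comp, hc, hab]
  · rw [← Functor.map_comp, hc]
  · rintro m ⟨-, hm2⟩
    rw [← cancel_mono ((yon S).map (opensOvι T O)), hm2, ← Functor.map_comp, hc]

include sq in
/-- Open descent: a monomorphism of sheaves which over a locally surjective chart `h_V ⟶ Y`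
becomes the inclusion of an open subscheme is representable by open immersions. -/
theorem repWith_isOpenImmersion_of_chart [Mono i] [Sheaf.IsLocallySurjective p] :
    RepWith @IsOpenImmersion i := by
  have hrep : Representable i := fun T x => by
    obtain ⟨O, z, h⟩ := exists_open_isPullback i p W q sq x
    exact ⟨opensOv T O, opensOvι T O, z, h⟩
  refine ⟨hrep, fun {T T'} g fst snd sq' => ?_⟩
  change IsOpenImmersion snd.left
  obtain ⟨O, z, h⟩ := exists_open_isPullback i p W q sq g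
  rw [prop_snd_iff_of_isPullback @IsOpenImmersion hrep g fst snd sq',
    ← prop_snd_iff_of_isPullback @IsOpenImmersion hrep g z (opensOvι T O) h]
  exact (inferInstance : IsOpenImmersion O.ι)

end Core

end Groth.Agent.H51
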