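import Mathlib.AlgebraicGeometry.Sites.EtalePoint
import Groth.Agent.H51.SpRep
import Groth.Agent.H50.Points
import Mathlib.AlgebraicGeometry.Morphisms.FlatMono
import Mathlib.AlgebraicGeometry.Morphisms.UniversallyInjective

set_option autoImplicit false
universe u
open CategoryTheory CategoryTheory.Limits AlgebraicGeometry Opposite MorphismProperty

namespace Groth.Agent.H51

open AlgSp Groth.Agent.H50

variable {S : Scheme.{u}}

theorem isIso_of_mono_to_spec_field {T : Scheme.{u}} {L : Type u} [Field L]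
    (f : T ⟶ Spec (CommRingCat.of L)) [Mono f] [Nonempty T] : IsIso f := by
  have hs : Subsingleton ↥(Spec (CommRingCat.of L)) :=
    (inferInstance : Subsingleton (PrimeSpectrum L))
  have : Flat f := inferInstance
  have : Surjective f := ⟨fun y => ⟨Classical.arbitrary T, Subsingleton.elim _ _⟩⟩
  have hT : Subsingleton T := f.injective.subsingleton
  have : CompactSpace T := Finite.compactSpace
  have : QuasiCompact f := quasiCompact_of_compactSpace f
  exact Flat.isIso_of_surjective_of_mono f


theorem s10215 (X : AlgSp.Space S) (p q : AlgSp.FieldPt X.obj)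
    (h : AlgSp.Points.mk p = AlgSp.Points.mk q) [Mono p.toHom] :
    ∃! c : q.pt ⟶ p.pt, (AlgSp.yon S).map c ≫ p.toHom = q.toHom := by
  obtain ⟨Ω, _, w, a, b, hab⟩ := Points.mk_eq_mk_iff.1 h
  have hpq : (yon S).map a ≫ p.toHom = (yon S).map b ≫ q.toHom := by
    apply (J S).uliftYonedaEquiv.injective
    rw [← (J S).uliftYonedaEquiv_naturality, ← (J S).uliftYonedaEquiv_naturality,
      FieldPt.uliftYonedaEquiv_toHom, FieldPt.uliftYonedaEquiv_toHom]
    exact hab
  have hrep : Representable p.toHom := X.property.representable_from_yon _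
  have sq := hrep.isPullback' q.toHom
  -- the projection to `Spec L` is a monomorphism
  have hm1 : Mono ((yon S).map (hrep.snd q.toHom)) := by
    refine ⟨fun {Z} x y hxy => sq.hom_ext ?_ hxy⟩
    rw [← cancel_mono p.toHom, Category.assoc, Category.assoc, sq.w, ← Category.assoc,
      ← Category.assoc, hxy]
  have hm2 : Mono (hrep.snd q.toHom) := (yon S).mono_of_mono_map hm1
  have hm3 : Mono (hrep.snd q.toHom).left := inferInstance
  -- the fibre product is nonempty
  obtain ⟨σ, -, -⟩ := sq.exists_lift ((yon S).map a) ((yon S).map b) hpq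
  obtain ⟨σ, rfl⟩ := (yon S).map_surjective σ
  have hne : Nonempty ↥(hrep.pullback q.toHom).left :=
    ⟨σ.left (Classical.arbitrary (PrimeSpectrum Ω))⟩
  have hiso : IsIso (hrep.snd q.toHom).left := isIso_of_mono_to_spec_field _
  have hiso' : IsIso (hrep.snd q.toHom) := by
    have : IsIso ((Over.forget S).map (hrep.snd q.toHom)) := hiso
    exact isIso_of_reflects_iso _ (Over.forget S)
  refine ⟨inv (hrep.snd q.toHom) ≫ hrep.fst' q.toHom, ?_, ?_⟩
  · change (yon S).map (inv (hrep.snd q.toHom) ≫ hrep.fst' q.toHom) ≫ p.toHom = q.toHom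
    rw [Functor.map_comp, Category.assoc, sq.w, ← Category.assoc, ← Functor.map_comp,
      IsIso.inv_hom_id, CategoryTheory.Functor.map_id, Category.id_comp]
  · intro c hc
    apply (yon S).map_injective
    rw [← cancel_mono p.toHom, hc, Functor.map_comp, Category.assoc, sq.w, ← Category.assoc,
      ← Functor.map_comp, IsIso.inv_hom_id, CategoryTheory.Functor.map_id, Category.id_comp]

theorem s10216 {U X : AlgSp.Space S} (φ : U ⟶ X)
    (hφ : AlgSp.IsEtaleMor φ.hom) (xbar : AlgSp.FieldPt X.obj) (hx : xbar.IsGeometric)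
    (u : AlgSp.Points U.obj) (hu : AlgSp.Points.map φ.hom u = AlgSp.Points.mk xbar) :
    ∃ ubar : (AlgSp.yon S).obj xbar.pt ⟶ U.obj,
      ubar ≫ φ.hom = xbar.toHom ∧ AlgSp.Points.ofPt ubar (IsLocalRing.closedPoint xbar.K) = u := by
  have : IsAlgClosed xbar.K := hx
  obtain ⟨W, a, ha, has⟩ := U.property.atlas
  obtain ⟨w₀, rfl⟩ := surjective_ofPt_of_surjective a has u
  have hb : RepWith @Etale (a ≫ φ.hom) := hφ a ha
  have sq := hb.rep.isPullback' xbar.toHom
  have hsnd : Etale (hb.rep.snd xbar.toHom).left := hb.property_snd xbar.toHom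
  have h1 : Points.ofPt (a ≫ φ.hom) w₀ =
      Points.ofPt xbar.toHom (IsLocalRing.closedPoint xbar.K) := by
    rw [Points.ofPt_toHom, ← hu, Points.map_ofPt]
  obtain ⟨t, ht1, ht2⟩ := exists_of_ofPt_eq sq w₀ _ h1
  obtain ⟨l, hl1, hl2⟩ := Scheme.exists_fac_of_etale_of_isSepClosed
    (hb.rep.snd xbar.toHom).left (𝟙 (Spec (CommRingCat.of xbar.K))) t
    (Subsingleton.elim (α := PrimeSpectrum xbar.K) _ _)
  let l' : xbar.pt ⟶ hb.rep.pullback xbar.toHom := Over.homMk l (by
    rw [← CategoryTheory.Over.w (hb.rep.snd xbar.toHom), ← Category.assoc, hl1]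
    exact Category.id_comp _)
  have hl' : l' ≫ hb.rep.snd xbar.toHom = 𝟙 _ := by
    ext1
    exact hl1
  refine ⟨(yon S).map (l' ≫ hb.rep.fst' xbar.toHom) ≫ a, ?_, ?_⟩
  · rw [Category.assoc, Functor.map_comp, Category.assoc, sq.w, ← Category.assoc,
      ← Functor.map_comp, hl', CategoryTheory.Functor.map_id, Category.id_comp]
  · rw [ofPt_map_comp]
    congr 1
    have : IsLocalRing.closedPoint xbar.K = (default : Spec (CommRingCat.of xbar.K)) :=
      Subsingleton.elim (α := PrimeSpectrum xbar.K) _ _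
    rw [this]
    change (hb.rep.fst' xbar.toHom).left (l default) = w₀
    rw [hl2, ht1]

end Groth.Agent.H51
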