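import Groth.Agent.H51.SpFinite
import Groth.Agent.H49.AlgSpSepDescent
import Groth.Agent.S9948
import Groth.Agent.S9984
import Groth.Agent.S9985
import Groth.Agent.S9905

set_option autoImplicit false
universe u
open CategoryTheory CategoryTheory.Limits AlgebraicGeometry Opposite MorphismProperty

namespace Groth.Agent.H51

open AlgSp Groth.Agent.H50

variable {S : Scheme.{u}}

theorem lft_case : (@LocallyOfFiniteType : MorphismProperty Scheme.{u}) = @LocallyOfFiniteType ∨
    (@LocallyOfFiniteType : MorphismProperty Scheme.{u}) = @LocallyOfFinitePresentation ∨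
    (@LocallyOfFiniteType : MorphismProperty Scheme.{u}) = @Flat ∨
    (@LocallyOfFiniteType : MorphismProperty Scheme.{u}) = @Smooth ∨
    (@LocallyOfFiniteType : MorphismProperty Scheme.{u}) = @Etale ∨
      (∀ ⦃A B : Scheme.{u}⦄ (g : A ⟶ B), LocallyOfFiniteType g ↔
        (LocallyQuasiFinite g ∧ LocallyOfFiniteType g)) ∨
      (∀ ⦃A B : Scheme.{u}⦄ (g : A ⟶ B), LocallyOfFiniteType g ↔
        (LocallyOfFiniteType g ∧ FormallyUnramified g)) := Or.inl rfl

theorem s10269 {X Y : AlgSp.Space S} (f : X ⟶ Y) :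
    (AlgSp.IsFiniteMor f.hom → AlgSp.IsIntegralMor f.hom) ∧
    (AlgSp.IsIntegralMor f.hom → AlgSp.LocP @LocallyOfFiniteType f.hom →
      AlgSp.IsFiniteMor f.hom) := by
  constructor
  · intro h Z hZ g
    obtain ⟨W, i, fst, sq, hW, hi⟩ := h hZ g
    have : IsFinite i.left := hi
    exact ⟨W, i, fst, sq, hW, inferInstance⟩
  · intro h1 h2
    have r1 : RepWith @IsIntegralHom f.hom := (s10267 f).1.1 h1
    have r2 : RepWith @LocallyOfFiniteType f.hom :=
      (Groth.Agent.S9948.result @LocallyOfFiniteType lft_case f r1.rep).1 h2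
    refine (s10267 f).2.2 (Groth.Agent.H49.repWith_of_le ?_ (Groth.Agent.H49.repWith_inf r1 r2))
    rintro A B g ⟨hg1, hg2⟩
    exact (IsFinite.iff_isIntegralHom_and_locallyOfFiniteType g).2 ⟨hg1, hg2⟩

theorem s10271 {X Y : AlgSp.Space S} (f : X ⟶ Y) :
    AlgSp.IsFiniteMor f.hom ↔ (AlgSp.IsAffineMor f.hom ∧ AlgSp.IsProperMor f.hom) := by
  constructor
  · intro h
    have r : RepWith @IsFinite f.hom := (s10267 f).2.1 h
    refine ⟨fun Z hZ g => ?_, ?_, ⟨?_, ?_⟩, ?_⟩
    · obtain ⟨W, i, fst, sq, hW, -⟩ := h hZ g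
      exact ⟨W, i, fst, sq, hW⟩
    · exact (Groth.Agent.S9905.result f r.rep).1.2 (Groth.Agent.H49.repWith_of_le
        (fun _ _ g hg => by
          have : IsFinite g := hg
          exact (inferInstance : IsSeparated g)) r)
    · exact (Groth.Agent.S9948.result @LocallyOfFiniteType lft_case f r.rep).2
        (Groth.Agent.H49.repWith_of_le (fun _ _ g hg => by
          have : IsFinite g := hg
          exact (inferInstance : LocallyOfFiniteType g)) r)
    · exact isQuasiCompactMor_of_repWith (P := @IsFinite) (fun _ _ g hg => by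
        have : IsFinite g := hg
        exact (inferInstance : QuasiCompact g)) f.hom r
    · exact Groth.Agent.H49.isUnivClosedMor_of_repWith (Groth.Agent.H49.repWith_of_le
        (fun _ _ g hg => by
          have : IsFinite g := hg
          exact (inferInstance : UniversallyClosed g)) r)
  · rintro ⟨haff, -, ⟨hlft, -⟩, huc⟩
    exact (s10269 f).2 ((s10270 f).2 ⟨haff, huc⟩) hlft

theorem s10275 {X Y Y' X' : AlgSp.Space S} (f : X ⟶ Y) (g : Y' ⟶ Y)
    (fst : X' ⟶ X) (f' : X' ⟶ Y') (sq : IsPullback fst.hom f'.hom f.hom g.hom)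
    (hf : AlgSp.IsProperMor f.hom) : AlgSp.IsProperMor f'.hom := by
  obtain ⟨h1, ⟨h2, h3⟩, h4⟩ := hf
  refine ⟨?_, ⟨?_, ?_⟩, ?_⟩
  · exact MorphismProperty.of_isPullback (P := (RepWith @IsClosedImmersion).diagonal) sq h1
  · exact Groth.Agent.S9984.result @LocallyOfFiniteType lft_case f g fst f' sq h2
  · exact Groth.Agent.H49.isQuasiCompactMor_of_isPullback sq h3
  · exact Groth.Agent.H49.isUnivClosedMor_of_isPullback sq h4

theorem s10276 {X Y Z : AlgSp.Space S} (f : X ⟶ Y) (g : Y ⟶ Z)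
    (hf : AlgSp.IsProperMor f.hom) (hg : AlgSp.IsProperMor g.hom) :
    AlgSp.IsProperMor (f ≫ g).hom := by
  obtain ⟨h1, ⟨h2, h3⟩, h4⟩ := hf
  obtain ⟨g1, ⟨g2, g3⟩, g4⟩ := hg
  refine ⟨?_, ⟨?_, ?_⟩, ?_⟩
  · exact (RepWith @IsClosedImmersion).diagonal.comp_mem f.hom g.hom h1 g1
  · exact Groth.Agent.S9985.result @LocallyOfFiniteType lft_case f g h2 g2
  · exact Groth.Agent.H49.isQuasiCompactMor_comp Y.property Z.property h3 g3
  · exact Groth.Agent.H49.isUnivClosedMor_comp Y.property Z.property.diag h4 g4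

end Groth.Agent.H51
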