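import Groth.Agent.H51.SpProper
import Groth.Agent.S9903
import Groth.Agent.H51.SpUnram

set_option autoImplicit false
universe u
open CategoryTheory CategoryTheory.Limits AlgebraicGeometry Opposite MorphismProperty

namespace Groth.Agent.H51

open AlgSp Groth.Agent.H50 Groth.Agent.H49

variable {S : Scheme.{u}}

/-- An induced map between charts: if `q ≫ a' = a` with `a`, `q` etale then `a'` is etale. -/
theorem repWith_etale_of_comp {P X : Sp S} (hP : IsAlgSpace P) {U : Over S}
    (a' : (yon S).obj U ⟶ P) (q : P ⟶ X) (hq : RepWith @Etale q)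
    (ha : RepWith @Etale (a' ≫ q)) : RepWith @Etale a' := by
  have ha'E : IsEtaleMor a' :=
    isEtaleMor_of_comp (h := q) hP (isEtaleMor_of_repWith_etale ha) (isEtaleMor_of_repWith_etale hq)
  have := ha'E (𝟙 _) (repWith_id _ U)
  rwa [Category.id_comp] at this

/-- `LocP Q` can be tested after base change to affine schemes, for `Q` Zariski local on the
target. -/
theorem locP_of_affine_test (Q : MorphismProperty Scheme.{u}) [IsZariskiLocalAtTarget Q]
    {X Y : Sp S} (hX : IsAlgSpace X) (hY : IsAlgSpace Y) (f : X ⟶ Y)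
    (h : ∀ (Z : Over S), IsAffine Z.left → ∀ (g : (yon S).obj Z ⟶ Y) (P : Sp S)
      (fst : P ⟶ X) (snd : P ⟶ (yon S).obj Z), IsPullback fst snd f g → LocP Q snd) :
    LocP Q f := by
  intro U V a b hh ha hb hcomm
  let 𝒰 := V.left.affineCover
  rw [IsZariskiLocalAtTarget.iff_of_openCover (P := Q) 𝒰]
  intro i
  -- the affine piece of `V`
  let Vi : Over S := Groth.Agent.H53.overOf V (𝒰.f i)
  let vi : Vi ⟶ V := Groth.Agent.H53.overHom V (𝒰.f i)
  have hVi : IsAffine Vi.left := inferInstanceAs (IsAffine (𝒰.X i))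
  have hvi : Etale vi.left := inferInstanceAs (Etale (𝒰.f i))
  -- the piece of `U`
  let Ui : Over S := Groth.Agent.H53.overOf U (pullback.fst hh.left (𝒰.f i))
  let ui : Ui ⟶ U := Groth.Agent.H53.overHom U (pullback.fst hh.left (𝒰.f i))
  have hui : Etale ui.left := inferInstanceAs (Etale (pullback.fst hh.left (𝒰.f i)))
  have hhiS : pullback.snd hh.left (𝒰.f i) ≫ Vi.hom = Ui.hom := by
    change pullback.snd hh.left (𝒰.f i) ≫ 𝒰.f i ≫ V.hom = pullback.fst hh.left (𝒰.f i) ≫ U.hom
    rw [← pullback.condition_assoc, CategoryTheory.Over.w]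
  let hi : Ui ⟶ Vi := Over.homMk (pullback.snd hh.left (𝒰.f i)) hhiS
  have hcommi : ui ≫ hh = hi ≫ vi := by
    ext
    exact pullback.condition
  -- base change of `f` to `Vi`
  let g : (yon S).obj Vi ⟶ Y := (yon S).map vi ≫ b
  have hg : RepWith @Etale g := Groth.Agent.H53.repWith_etale_map_comp vi hvi b hb
  have sq : IsPullback (pullback.fst f g) (pullback.snd f g) f g := IsPullback.of_hasPullback _ _
  have hP : IsAlgSpace (pullback f g) :=
    isAlgSpace_of_isPullback sq hY.diag hX (IsAlgSpace.yon_obj Vi)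
  have hfst : RepWith @Etale (pullback.fst f g) := (RepWith @Etale).of_isPullback sq.flip hg
  have hw : ((yon S).map ui ≫ a) ≫ f = (yon S).map hi ≫ g := by
    rw [Category.assoc, hcomm, ← Category.assoc, ← Functor.map_comp, hcommi, Functor.map_comp,
      Category.assoc]
  let a' : (yon S).obj Ui ⟶ pullback f g := sq.lift _ _ hw
  have ha'1 : a' ≫ pullback.fst f g = (yon S).map ui ≫ a := sq.lift_fst _ _ hw
  have ha'2 : a' ≫ pullback.snd f g = (yon S).map hi := sq.lift_snd _ _ hw
  have ha' : RepWith @Etale a' := by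
    refine repWith_etale_of_comp hP a' _ hfst ?_
    rw [ha'1]
    exact Groth.Agent.H53.repWith_etale_map_comp ui hui a ha
  exact h Vi hVi g _ _ _ sq a' (𝟙 _) hi ha' (repWith_id _ Vi) (by rw [ha'2, Category.comp_id])

theorem isPullback_id_of_snd {P Z : Sp S} (snd : P ⟶ Z) : IsPullback (𝟙 P) snd snd (𝟙 Z) :=
  IsPullback.of_horiz_isIso ⟨by simp⟩

theorem s10273 {X Y : AlgSp.Space S} (f : X ⟶ Y) :
    AlgSp.IsProperMor f.hom ↔
      ∀ (Z : Over S), IsAffine Z.left → ∀ (g : (AlgSp.yon S).obj Z ⟶ Y.obj) (P : AlgSp.Sp S)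
        (fst : P ⟶ X.obj) (snd : P ⟶ (AlgSp.yon S).obj Z), IsPullback fst snd f.hom g →
        AlgSp.IsProperMor snd := by
  constructor
  · intro hf Z hZ g P fst snd sq
    have hP : IsAlgSpace P :=
      isAlgSpace_of_isPullback sq Y.property.diag X.property (IsAlgSpace.yon_obj Z)
    exact s10275 (X' := ⟨P, hP⟩) (Y' := ⟨(yon S).obj Z, IsAlgSpace.yon_obj Z⟩) f
      (ObjectProperty.homMk g) (ObjectProperty.homMk fst) (ObjectProperty.homMk snd) sq hf
  · intro h
    refine ⟨?_, ⟨?_, ?_⟩, ?_⟩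
    · exact (Groth.Agent.S9903.result f).1.2 (fun Z hZ g P fst snd sq => (h Z hZ g P fst snd sq).1)
    · exact locP_of_affine_test @LocallyOfFiniteType X.property Y.property f.hom
        (fun Z hZ g P fst snd sq => (h Z hZ g P fst snd sq).2.1.1)
    · refine (isQuasiCompactMor_iff_affine X.property Y.property f.hom).2
        (fun Z hZ g P fst snd sq => ?_)
      have : IsAffine Z.left := hZ
      exact (h Z hZ g P fst snd sq).2.1.2 (IsAlgSpace.yon_obj Z) (isQuasiCompactSp_yon Z) (𝟙 _)
        (𝟙 P) snd (isPullback_id_of_snd snd)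
    · refine isUnivClosedMor_of_affine f.hom (fun Z hZ g P fst snd sq => ?_)
      exact (h Z hZ g P fst snd sq).2.2 (IsAlgSpace.yon_obj Z) (𝟙 _) (𝟙 P) snd
        (isPullback_id_of_snd snd)

end Groth.Agent.H51
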