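import Groth.Agent.H51.SpProper
import Groth.Agent.H50.Points

set_option autoImplicit false
universe u
open CategoryTheory CategoryTheory.Limits AlgebraicGeometry Opposite MorphismProperty

namespace Groth.Agent.H51
open AlgSp
variable {S : Scheme.{u}}

/-- Points of the base change of a subspace: the image is the preimage of the image. -/
theorem range_points_map_of_isPullback {Z X X' Z' : Sp S} {i : Z ⟶ X} {g' : X' ⟶ X} {q : Z' ⟶ Z}
    {i' : Z' ⟶ X'} (sq : IsPullback q i' i g') :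
    Set.range (Points.map i') = Points.map g' ⁻¹' Set.range (Points.map i) := by
  ext x'
  constructor
  · rintro ⟨z', rfl⟩
    refine ⟨Points.map q z', ?_⟩
    rw [← Points.map_comp, ← Points.map_comp, sq.w]
  · rintro ⟨z, hz⟩
    obtain ⟨z', -, h2⟩ := Groth.Agent.H50.points_exists_of_isPullback sq z x' hz
    exact ⟨z', h2⟩

theorem s10761 {X Y X' Y' Z Z' : AlgSp.Space S}
    (f : X ⟶ Y) (g : Y' ⟶ Y) (f' : X' ⟶ Y') (g' : X' ⟶ X)
    (hsq : IsPullback g'.hom f'.hom f.hom g.hom)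
    (i : Z ⟶ X) (hZ : AlgSp.IsProperMor (i ≫ f).hom)
    (i' : Z' ⟶ X') (q : Z' ⟶ Z) (hsq' : IsPullback q.hom i'.hom i.hom g'.hom) :
    AlgSp.IsProperMor (i' ≫ f').hom ∧
      Set.range (AlgSp.Points.map i'.hom) = AlgSp.Points.map g'.hom ⁻¹' Set.range (AlgSp.Points.map i.hom) := by
  refine ⟨?_, range_points_map_of_isPullback hsq'⟩
  have sq : IsPullback q.hom (i' ≫ f').hom (i ≫ f).hom g.hom := hsq'.paste_vert hsq
  exact s10275 (i ≫ f) g q (i' ≫ f') sq hZ

theorem s10764 {X Y B Z Z' : AlgSp.Space S}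
    (a : X ⟶ B) (b : Y ⟶ B) (f : X ⟶ Y) (hcomm : f ≫ b = a)
    (hfp : AlgSp.IsProperMor f.hom)
    (i : Z ⟶ Y) (hZ : AlgSp.IsProperMor (i ≫ b).hom)
    (i' : Z' ⟶ X) (q : Z' ⟶ Z) (hsq : IsPullback q.hom i'.hom i.hom f.hom) :
    AlgSp.IsProperMor (i' ≫ a).hom ∧
      Set.range (AlgSp.Points.map i'.hom) = AlgSp.Points.map f.hom ⁻¹' Set.range (AlgSp.Points.map i.hom) := by
  refine ⟨?_, range_points_map_of_isPullback hsq⟩
  have hq : IsProperMor q.hom := s10275 f i i' q hsq.flip hfp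
  have h := s10276 q (i ≫ b) hq hZ
  have e : i' ≫ a = q ≫ i ≫ b := by
    rw [← hcomm, ← Category.assoc, ← Category.assoc]
    congr 1
    exact ObjectProperty.hom_ext _ hsq.w.symm
  rw [e]; exact h

end Groth.Agent.H51
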