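import Groth.Agent.H51.SpProper3
import Groth.Agent.H51.SpBasic
import Groth.Agent.H50.Points

set_option autoImplicit false
universe u
open CategoryTheory CategoryTheory.Limits AlgebraicGeometry Opposite MorphismProperty

namespace Groth.Agent.H51
open AlgSp Groth.Agent.H50 Groth.Agent.H49
variable {S : Scheme.{u}}

/-- Surjectivity on points is stable under base change. -/
theorem isSurjectiveMor_of_isPullback {X Y Y' X' : Sp S} {f : X ⟶ Y} {g : Y' ⟶ Y} {fst : X' ⟶ X}
    {f' : X' ⟶ Y'} (sq : IsPullback fst f' f g) (hf : IsSurjectiveMor f) : IsSurjectiveMor f' := by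
  intro y'
  obtain ⟨x, hx⟩ := hf (Points.map g y')
  obtain ⟨z, -, hz⟩ := points_exists_of_isPullback sq x y' hx
  exact ⟨z, hz⟩

/-- If `j` is surjective and `j ≫ g` is universally closed then `g` is universally closed. -/
theorem isUnivClosedMor_of_surjective_comp {W Z T : Sp S} (j : W ⟶ Z) (g : Z ⟶ T)
    (hj : IsSurjectiveMor j) (h : IsUnivClosedMor (j ≫ g)) : IsUnivClosedMor g := by
  intro T' P hT' t fst snd sq
  have sq1 := IsPullback.of_hasPullback j fst
  have sq2 : IsPullback (pullback.fst j fst) (pullback.snd j fst ≫ snd) (j ≫ g) t :=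
    sq1.paste_vert sq
  have hcl : IsClosedMap (Points.map (pullback.snd j fst ≫ snd)) := h hT' t _ _ sq2
  have hsurj : IsSurjectiveMor (pullback.snd j fst) := isSurjectiveMor_of_isPullback sq1 hj
  intro C hC
  have : Points.map snd '' C =
      Points.map (pullback.snd j fst ≫ snd) '' (Points.map (pullback.snd j fst) ⁻¹' C) := by
    ext y
    constructor
    · rintro ⟨c, hc, rfl⟩
      obtain ⟨c', rfl⟩ := hsurj c
      exact ⟨c', hc, Points.map_comp _ _ _⟩
    · rintro ⟨c', hc', rfl⟩
      exact ⟨_, hc', (Points.map_comp _ _ _).symm⟩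
  rw [this]
  exact hcl _ (hC.preimage (Points.continuous_map _))

/-- If `j` is surjective and `j ≫ g` is quasi-compact then `g` is quasi-compact. -/
theorem isQuasiCompactMor_of_surjective_comp {W Z T : Sp S} (hZ : IsAlgSpace Z)
    (hT : Representable (Limits.diag T)) (j : W ⟶ Z) (g : Z ⟶ T)
    (hj : IsSurjectiveMor j) (h : IsQuasiCompactMor (j ≫ g)) : IsQuasiCompactMor g := by
  intro T' P hT' hT'qc t fst snd sq
  have sq1 := IsPullback.of_hasPullback j fst
  have sq2 : IsPullback (pullback.fst j fst) (pullback.snd j fst ≫ snd) (j ≫ g) t :=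
    sq1.paste_vert sq
  have hqc : IsQuasiCompactSp (pullback j fst) := h hT' hT'qc t _ _ sq2
  have hsurj : IsSurjectiveMor (pullback.snd j fst) := isSurjectiveMor_of_isPullback sq1 hj
  have hP : IsAlgSpace P := isAlgSpace_of_isPullback sq hT hZ hT'
  rw [isQuasiCompactSp_iff hP]
  obtain ⟨U, a, ha1, ha2, hU⟩ := hqc
  -- the points of `P` are covered by the compact space `U`
  have hUc : CompactSpace ↥U.left := hU
  have hsurj2 : Function.Surjective (Points.ofPt (a ≫ pullback.snd j fst)) := by
    intro y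
    obtain ⟨x, rfl⟩ := hsurj y
    obtain ⟨u, rfl⟩ := Groth.Agent.H52.ofPt_surjective_of_repWith_surjective a ha2 x
    exact ⟨u, rfl⟩
  constructor
  rw [← Set.range_eq_univ.2 hsurj2]
  exact isCompact_range (Points.continuous_ofPt _)

end Groth.Agent.H51

namespace Groth.Agent.H51
open AlgSp Groth.Agent.H50 Groth.Agent.H49
variable {S : Scheme.{u}}

/-- For a closed immersion `j : W ⟶ Z` and `h : Z ⟶ Y`, the morphism
`j × j : W ×_Y W ⟶ Z ×_Y Z` is a closed immersion, and it intertwines the diagonals. -/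
theorem exists_prod_closedImmersion {W Z Y : Sp S} (j : W ⟶ Z) (h : Z ⟶ Y)
    (hj : RepWith @IsClosedImmersion j) :
    ∃ q : pullback (j ≫ h) (j ≫ h) ⟶ pullback h h, RepWith @IsClosedImmersion q ∧
      j ≫ pullback.diagonal h = pullback.diagonal (j ≫ h) ≫ q := by
  let α : pullback (j ≫ h) (j ≫ h) ⟶ pullback h (j ≫ h) :=
    pullback.lift (pullback.fst _ _ ≫ j) (pullback.snd _ _)
      (by rw [Category.assoc]; exact pullback.condition)
  let β : pullback h (j ≫ h) ⟶ pullback h h :=
    pullback.lift (pullback.fst _ _) (pullback.snd _ _ ≫ j)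
      (by rw [Category.assoc]; exact pullback.condition)
  have hα1 : α ≫ pullback.fst h (j ≫ h) = pullback.fst _ _ ≫ j := pullback.lift_fst _ _ _
  have hα2 : α ≫ pullback.snd h (j ≫ h) = pullback.snd _ _ := pullback.lift_snd _ _ _
  have hβ1 : β ≫ pullback.fst h h = pullback.fst _ _ := pullback.lift_fst _ _ _
  have hβ2 : β ≫ pullback.snd h h = pullback.snd _ _ ≫ j := pullback.lift_snd _ _ _
  have sqα : IsPullback α (pullback.fst (j ≫ h) (j ≫ h)) (pullback.fst h (j ≫ h)) j := by
    refine IsPullback.of_right ?_ hα1 (IsPullback.of_hasPullback h (j ≫ h)).flip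
    rw [hα2]
    exact (IsPullback.of_hasPullback (j ≫ h) (j ≫ h)).flip
  have sqβ : IsPullback β (pullback.snd h (j ≫ h)) (pullback.snd h h) j := by
    refine IsPullback.of_right ?_ hβ2 (IsPullback.of_hasPullback h h)
    rw [hβ1]
    exact IsPullback.of_hasPullback h (j ≫ h)
  have hα : RepWith @IsClosedImmersion α := MorphismProperty.of_isPullback sqα.flip hj
  have hβ : RepWith @IsClosedImmersion β := MorphismProperty.of_isPullback sqβ.flip hj
  refine ⟨α ≫ β, (RepWith @IsClosedImmersion).comp_mem _ _ hα hβ, ?_⟩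
  apply pullback.hom_ext
  · rw [Category.assoc, pullback.diagonal_fst, Category.comp_id, Category.assoc, Category.assoc,
      hβ1, hα1, pullback.diagonal_fst_assoc]
  · rw [Category.assoc, pullback.diagonal_snd, Category.comp_id, Category.assoc, Category.assoc,
      hβ2, ← Category.assoc α, hα2, pullback.diagonal_snd_assoc]

/-- Properness descends along a surjective closed immersion onto the source (for a target
morphism locally of finite type). -/
theorem isProperMor_of_surjective_closedImmersion_comp {W Z Y : AlgSp.Space S} (j : W ⟶ Z)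
    (h : Z ⟶ Y) (hj : RepWith @IsClosedImmersion j.hom) (hjs : IsSurjectiveMor j.hom)
    (hlft : LocP @LocallyOfFiniteType h.hom) (hp : IsProperMor (j ≫ h).hom) :
    IsProperMor h.hom := by
  obtain ⟨hsep, ⟨-, hqc⟩, huc⟩ := hp
  refine ⟨?_, ⟨hlft, ?_⟩, ?_⟩
  · rw [(s10280 h).1]
    obtain ⟨q, hq, hcomm⟩ := exists_prod_closedImmersion j.hom h.hom hj
    have hΔ : RepWith @IsClosedImmersion (pullback.diagonal (j.hom ≫ h.hom)) := hsep
    have hc : RepWith @IsClosedImmersion (pullback.diagonal (j.hom ≫ h.hom) ≫ q) :=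
      (RepWith @IsClosedImmersion).comp_mem _ _ hΔ hq
    have huc' : IsUnivClosedMor (j.hom ≫ pullback.diagonal h.hom) := by
      rw [hcomm]
      exact isUnivClosedMor_of_repWith (repWith_of_le (fun _ _ g hg => by
        have : IsClosedImmersion g := hg
        exact (inferInstance : UniversallyClosed g)) hc)
    exact isUnivClosedMor_of_surjective_comp j.hom _ hjs huc'
  · exact isQuasiCompactMor_of_surjective_comp Z.property Y.property.diag j.hom h.hom hjs hqc
  · exact isUnivClosedMor_of_surjective_comp j.hom h.hom hjs huc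

theorem s10760 {X Y Z Z' : AlgSp.Space S}
    (f : X ⟶ Y) (hf : AlgSp.LocP @LocallyOfFiniteType f.hom)
    (i : Z ⟶ X) (i' : Z' ⟶ X)
    (hi : AlgSp.RepWith @IsClosedImmersion i.hom) (hi' : AlgSp.RepWith @IsClosedImmersion i'.hom)
    (heq : Set.range (AlgSp.Points.map i.hom) = Set.range (AlgSp.Points.map i'.hom))
    (hZ : AlgSp.IsProperMor (i ≫ f).hom) :
    AlgSp.IsProperMor (i' ≫ f).hom := by
  have sq := IsPullback.of_hasPullback i.hom i'.hom
  have hW : IsAlgSpace (pullback i.hom i'.hom) :=
    isAlgSpace_of_isPullback sq X.property.diag Z.property Z'.property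
  let W : AlgSp.Space S := ⟨pullback i.hom i'.hom, hW⟩
  let pr₁ : W ⟶ Z := ObjectProperty.homMk (pullback.fst i.hom i'.hom)
  let pr₂ : W ⟶ Z' := ObjectProperty.homMk (pullback.snd i.hom i'.hom)
  have h1 : RepWith @IsClosedImmersion pr₁.hom := MorphismProperty.of_isPullback sq.flip hi'
  have h2 : RepWith @IsClosedImmersion pr₂.hom := MorphismProperty.of_isPullback sq hi
  have h2s : IsSurjectiveMor pr₂.hom := by
    intro z'
    have : Points.map i'.hom z' ∈ Set.range (Points.map i.hom) := heq ▸ ⟨z', rfl⟩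
    obtain ⟨z, hz⟩ := this
    obtain ⟨w, -, hw⟩ := points_exists_of_isPullback sq z z' hz
    exact ⟨w, hw⟩
  have hcomm : pr₂ ≫ (i' ≫ f) = pr₁ ≫ (i ≫ f) := by
    rw [← Category.assoc, ← Category.assoc]
    congr 1
    exact ObjectProperty.hom_ext _ sq.w.symm
  have hp : IsProperMor (pr₂ ≫ (i' ≫ f)).hom := by
    rw [hcomm]
    exact s10276 pr₁ (i ≫ f) (Groth.Agent.S10277.result pr₁ h1) hZ
  have hlft : LocP @LocallyOfFiniteType (i' ≫ f).hom :=
    goodClass_lft.locP_comp X.property i'.hom f.hom (Groth.Agent.S10277.result i' hi').2.1.1 hf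
  exact isProperMor_of_surjective_closedImmersion_comp pr₂ (i' ≫ f) h2 h2s hlft hp

end Groth.Agent.H51
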