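import Groth.Agent.H51.SpProperSub2
import Groth.Agent.H50.RedInduced

set_option autoImplicit false
universe u
open CategoryTheory CategoryTheory.Limits AlgebraicGeometry Opposite MorphismProperty

namespace Groth.Agent.H51
open AlgSp Groth.Agent.H50 Groth.Agent.H49
variable {S : Scheme.{u}}

/-- A family of morphisms to `Z` is jointly surjective on points. -/
def JointlySurj {ι : Type*} {Z : Sp S} (W : ι → Sp S) (j : ∀ k, W k ⟶ Z) : Prop :=
  ∀ z : Points Z, ∃ (k : ι) (w : Points (W k)), Points.map (j k) w = z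

theorem JointlySurj.baseChange {ι : Type*} {Z P : Sp S} {W : ι → Sp S} {j : ∀ k, W k ⟶ Z}
    (hj : JointlySurj W j) (fst : P ⟶ Z) :
    JointlySurj (fun k => pullback (j k) fst) (fun k => pullback.snd (j k) fst) := by
  intro x
  obtain ⟨k, w, hw⟩ := hj (Points.map fst x)
  obtain ⟨z, -, hz⟩ := points_exists_of_isPullback (IsPullback.of_hasPullback (j k) fst) w x hw
  exact ⟨k, z, hz⟩

/-- Universal closedness descends along a finite jointly surjective family. -/
theorem isUnivClosedMor_of_jointlySurj {ι : Type*} [Finite ι] {Z T : Sp S} (W : ι → Sp S)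
    (j : ∀ k, W k ⟶ Z) (g : Z ⟶ T) (hj : JointlySurj W j)
    (h : ∀ k, IsUnivClosedMor (j k ≫ g)) : IsUnivClosedMor g := by
  intro T' P hT' t fst snd sq
  have hcl : ∀ k, IsClosedMap (Points.map (pullback.snd (j k) fst ≫ snd)) := fun k =>
    h k hT' t _ _ ((IsPullback.of_hasPullback (j k) fst).paste_vert sq)
  have hsurj := hj.baseChange fst
  intro C hC
  have : Points.map snd '' C = ⋃ k, Points.map (pullback.snd (j k) fst ≫ snd) ''
      (Points.map (pullback.snd (j k) fst) ⁻¹' C) := by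
    ext y
    simp only [Set.mem_image, Set.mem_iUnion, Set.mem_preimage]
    constructor
    · rintro ⟨c, hc, rfl⟩
      obtain ⟨k, c', rfl⟩ := hsurj c
      exact ⟨k, c', hc, Points.map_comp _ _ _⟩
    · rintro ⟨k, c', hc', rfl⟩
      exact ⟨_, hc', (Points.map_comp _ _ _).symm⟩
  rw [this]
  exact isClosed_iUnion_of_finite fun k => hcl k _ (hC.preimage (Points.continuous_map _))

/-- Quasi-compactness descends along a finite jointly surjective family. -/
theorem isQuasiCompactMor_of_jointlySurj {ι : Type*} [Finite ι] {Z T : Sp S}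
    (hZ : IsAlgSpace Z) (hT : Representable (Limits.diag T)) (W : ι → Sp S)
    (j : ∀ k, W k ⟶ Z) (g : Z ⟶ T) (hj : JointlySurj W j)
    (h : ∀ k, IsQuasiCompactMor (j k ≫ g)) : IsQuasiCompactMor g := by
  intro T' P hT' hT'qc t fst snd sq
  have hqc : ∀ k, IsQuasiCompactSp (pullback (j k) fst) := fun k =>
    h k hT' hT'qc t _ _ ((IsPullback.of_hasPullback (j k) fst).paste_vert sq)
  have hsurj := hj.baseChange fst
  have hP : IsAlgSpace P := isAlgSpace_of_isPullback sq hT hZ hT'
  rw [isQuasiCompactSp_iff hP]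
  choose U a ha1 ha2 hU using hqc
  have hcov : (⋃ k, Set.range (Points.ofPt (a k ≫ pullback.snd (j k) fst))) = Set.univ := by
    rw [Set.eq_univ_iff_forall]
    intro y
    obtain ⟨k, x, rfl⟩ := hsurj y
    obtain ⟨u, rfl⟩ := Groth.Agent.H52.ofPt_surjective_of_repWith_surjective (a k) (ha2 k) x
    exact Set.mem_iUnion.2 ⟨k, u, rfl⟩
  constructor
  rw [← hcov]
  refine isCompact_iUnion fun k => ?_
  have : CompactSpace ↥(U k).left := hU k
  exact isCompact_range (Points.continuous_ofPt _)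

/-- For a universally closed `j : W ⟶ Z` and `h : Z ⟶ Y`, the morphism
`j × j : W ×_Y W ⟶ Z ×_Y Z` is universally closed, and it intertwines the diagonals. -/
theorem exists_prod_univClosed {W Z Y : Sp S} (hW : IsAlgSpace W) (hZ : IsAlgSpace Z)
    (hY : Representable (Limits.diag Y)) (j : W ⟶ Z) (h : Z ⟶ Y)
    (hj : IsUnivClosedMor j) :
    ∃ q : pullback (j ≫ h) (j ≫ h) ⟶ pullback h h, IsUnivClosedMor q ∧
      j ≫ pullback.diagonal h = pullback.diagonal (j ≫ h) ≫ q := by
  let α : pullback (j ≫ h) (j ≫ h) ⟶ pullback h (j ≫ h) :=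
    pullback.lift (pullback.fst _ _ ≫ j) (pullback.snd _ _)
      (by rw [Category.assoc]; exact pullback.condition)
  let β : pullback h (j ≫ h) ⟶ pullback h h :=
    pullback.lift (pullback.fst _ _) (pullback.snd _ _ ≫ j)
      (by rw [Category.assoc]; exact pullback.condition)
  have hα1 : α ≫ pullback.fst h (j ≫ h) = pullback.fst _ _ ≫ j := pullback.lift_fst _ _ _
  have hα2 : α ≫ pullback.snd h (j ≫ h) = pullback.snd _ _ := pullback.lift_snd _ _ _
  have hβ1 : β ≫ pullback.fst h h = pullback.fst _ _ := pullback.lift_fst _ _ _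
  have hβ2 : β ≫ pullback.snd h h = pullback.snd _ _ ≫ j := pullback.lift_snd _ _ _
  have sqα : IsPullback α (pullback.fst (j ≫ h) (j ≫ h)) (pullback.fst h (j ≫ h)) j := by
    refine IsPullback.of_right ?_ hα1 (IsPullback.of_hasPullback h (j ≫ h)).flip
    rw [hα2]
    exact (IsPullback.of_hasPullback (j ≫ h) (j ≫ h)).flip
  have sqβ : IsPullback β (pullback.snd h (j ≫ h)) (pullback.snd h h) j := by
    refine IsPullback.of_right ?_ hβ2 (IsPullback.of_hasPullback h h)
    rw [hβ1]
    exact IsPullback.of_hasPullback h (j ≫ h)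
  have hα : IsUnivClosedMor α := isUnivClosedMor_of_isPullback sqα.flip hj
  have hβ : IsUnivClosedMor β := isUnivClosedMor_of_isPullback sqβ.flip hj
  have hB : IsAlgSpace (pullback h (j ≫ h)) :=
    isAlgSpace_of_isPullback (IsPullback.of_hasPullback h (j ≫ h)) hY hZ hW
  have hC : IsAlgSpace (pullback h h) :=
    isAlgSpace_of_isPullback (IsPullback.of_hasPullback h h) hY hZ hZ
  refine ⟨α ≫ β, isUnivClosedMor_comp hB hC.diag hα hβ, ?_⟩
  apply pullback.hom_ext
  · rw [Category.assoc, pullback.diagonal_fst, Category.comp_id, Category.assoc, Category.assoc,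
      hβ1, hα1, pullback.diagonal_fst_assoc]
  · rw [Category.assoc, pullback.diagonal_snd, Category.comp_id, Category.assoc, Category.assoc,
      hβ2, ← Category.assoc α, hα2, pullback.diagonal_snd_assoc]

/-- Properness descends along a finite jointly surjective family of universally closed
morphisms of algebraic spaces onto the source. -/
theorem isProperMor_of_jointlySurj {ι : Type*} [Finite ι] {Z Y : AlgSp.Space S}
    (W : ι → AlgSp.Space S) (j : ∀ k, W k ⟶ Z) (h : Z ⟶ Y)
    (hjs : JointlySurj (fun k => (W k).obj) (fun k => (j k).hom))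
    (hj : ∀ k, IsUnivClosedMor (j k).hom)
    (hlft : LocP @LocallyOfFiniteType h.hom) (hp : ∀ k, IsProperMor (j k ≫ h).hom) :
    IsProperMor h.hom := by
  refine ⟨?_, ⟨hlft, ?_⟩, ?_⟩
  · rw [(s10280 h).1]
    refine isUnivClosedMor_of_jointlySurj (fun k => (W k).obj) (fun k => (j k).hom) _ hjs ?_
    intro k
    obtain ⟨q, hq, hcomm⟩ := exists_prod_univClosed (W k).property Z.property Y.property.diag
      (j k).hom h.hom (hj k)
    have hΔ : RepWith @IsClosedImmersion (pullback.diagonal ((j k).hom ≫ h.hom)) := (hp k).1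
    have hΔ' : IsUnivClosedMor (pullback.diagonal ((j k).hom ≫ h.hom)) :=
      isUnivClosedMor_of_repWith (repWith_of_le (fun _ _ g hg => by
        have : IsClosedImmersion g := hg
        exact (inferInstance : UniversallyClosed g)) hΔ)
    have hA : IsAlgSpace (pullback ((j k).hom ≫ h.hom) ((j k).hom ≫ h.hom)) :=
      isAlgSpace_of_isPullback (IsPullback.of_hasPullback _ _) Y.property.diag (W k).property
        (W k).property
    have hC : IsAlgSpace (pullback h.hom h.hom) :=
      isAlgSpace_of_isPullback (IsPullback.of_hasPullback _ _) Y.property.diag Z.property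
        Z.property
    rw [hcomm]
    exact isUnivClosedMor_comp hA hC.diag hΔ' hq
  · exact isQuasiCompactMor_of_jointlySurj Z.property Y.property.diag _ _ h.hom hjs
      (fun k => (hp k).2.1.2)
  · exact isUnivClosedMor_of_jointlySurj _ _ h.hom hjs (fun k => (hp k).2.2)

end Groth.Agent.H51

namespace Groth.Agent.H51
open AlgSp Groth.Agent.H50 Groth.Agent.H49
variable {S : Scheme.{u}}

theorem isUnivClosedMor_of_closedImmersion {F G : Sp S} {f : F ⟶ G}
    (hf : RepWith @IsClosedImmersion f) : IsUnivClosedMor f :=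
  isUnivClosedMor_of_repWith (repWith_of_le (fun _ _ g hg => by
    have : IsClosedImmersion g := hg
    exact (inferInstance : UniversallyClosed g)) hf)

theorem isClosed_range_of_isUnivClosedMor {F G : Sp S} (hG : IsAlgSpace G) {f : F ⟶ G}
    (hf : IsUnivClosedMor f) : IsClosed (Set.range (Points.map f)) := by
  have hcl : IsClosedMap (Points.map f) := hf hG (𝟙 _) (𝟙 _) f (isPullback_id_of_snd f)
  rw [← Set.image_univ]
  exact hcl _ isClosed_univ

/-- The image of a universally closed morphism `g : Z ⟶ Y` with `Z` proper over `B` underlies a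
closed subspace of `Y` proper over `B`. -/
theorem exists_closedSubspace_image_proper {Y B Z : AlgSp.Space S} (b : Y ⟶ B) (g : Z ⟶ Y)
    (hb : LocP @LocallyOfFiniteType b.hom) (hg : IsUnivClosedMor g.hom)
    (hZ : IsProperMor (g ≫ b).hom) :
    IsClosed (Set.range (Points.map g.hom)) ∧
      ∃ (Z' : AlgSp.Space S) (i' : Z' ⟶ Y), RepWith @IsClosedImmersion i'.hom ∧
        Set.range (Points.map i'.hom) = Set.range (Points.map g.hom) ∧
        IsProperMor (i' ≫ b).hom := by
  have hT := isClosed_range_of_isUnivClosedMor Y.property hg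
  refine ⟨hT, ?_⟩
  obtain ⟨Z₀, i₀, hZ₀, hi1, hi2, -⟩ := exists_isRedInduced Y.property _ hT
  let Z' : AlgSp.Space S := ⟨Z₀, hZ₀⟩
  let i' : Z' ⟶ Y := ObjectProperty.homMk i₀
  refine ⟨Z', i', hi1, hi2, ?_⟩
  have sq := IsPullback.of_hasPullback g.hom i₀
  have hW : IsAlgSpace (pullback g.hom i₀) :=
    isAlgSpace_of_isPullback sq Y.property.diag Z.property hZ₀
  let W : AlgSp.Space S := ⟨pullback g.hom i₀, hW⟩
  let pr₁ : W ⟶ Z := ObjectProperty.homMk (pullback.fst g.hom i₀)
  let pr₂ : W ⟶ Z' := ObjectProperty.homMk (pullback.snd g.hom i₀)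
  have h1 : RepWith @IsClosedImmersion pr₁.hom := MorphismProperty.of_isPullback sq.flip hi1
  have h2 : IsUnivClosedMor pr₂.hom := isUnivClosedMor_of_isPullback sq hg
  have hcomm : pr₂ ≫ (i' ≫ b) = pr₁ ≫ (g ≫ b) := by
    rw [← Category.assoc, ← Category.assoc]
    congr 1
    exact ObjectProperty.hom_ext _ sq.w.symm
  have hlft : LocP @LocallyOfFiniteType (i' ≫ b).hom :=
    goodClass_lft.locP_comp Y.property i'.hom b.hom (Groth.Agent.S10277.result i' hi1).2.1.1 hb
  refine isProperMor_of_jointlySurj (ι := Unit) (fun _ => W) (fun _ => pr₂) (i' ≫ b) ?_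
    (fun _ => h2) hlft (fun _ => ?_)
  · intro z'
    have : Points.map i₀ z' ∈ Set.range (Points.map g.hom) := hi2 ▸ ⟨z', rfl⟩
    obtain ⟨z, hz⟩ := this
    obtain ⟨w, -, hw⟩ := points_exists_of_isPullback sq z z' hz
    exact ⟨(), w, hw⟩
  · rw [hcomm]
    exact s10276 pr₁ (g ≫ b) (Groth.Agent.S10277.result pr₁ h1) hZ

theorem image_range_eq {X Y Z : AlgSp.Space S} (i : Z ⟶ X) (f : X ⟶ Y) :
    Points.map f.hom '' Set.range (Points.map i.hom) = Set.range (Points.map (i ≫ f).hom) := by
  rw [← Set.range_comp]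
  congr 1
  funext z
  exact (Points.map_comp _ _ _).symm

theorem s10762 {X Y B Z : AlgSp.Space S}
    (a : X ⟶ B) (b : Y ⟶ B) (f : X ⟶ Y) (hcomm : f ≫ b = a)
    (hb : AlgSp.LocP @LocallyOfFiniteType b.hom)
    (hbs : AlgSp.IsSeparatedMor b.hom)
    (i : Z ⟶ X) (hZ : AlgSp.IsProperMor (i ≫ a).hom) :
    IsClosed (AlgSp.Points.map f.hom '' Set.range (AlgSp.Points.map i.hom)) ∧
      ∃ (Z' : AlgSp.Space S) (i' : Z' ⟶ Y), AlgSp.RepWith @IsClosedImmersion i'.hom ∧
        Set.range (AlgSp.Points.map i'.hom) = AlgSp.Points.map f.hom '' Set.range (AlgSp.Points.map i.hom) ∧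
        AlgSp.IsProperMor (i' ≫ b).hom := by
  subst hcomm
  rw [image_range_eq]
  have hZ' : IsProperMor ((i ≫ f) ≫ b).hom := by rwa [Category.assoc]
  have hg : IsUnivClosedMor (i ≫ f).hom :=
    isUnivClosedMor_of_comp_of_isSeparatedMor Z.property Y.property B.property (i ≫ f).hom b.hom
      hbs hZ'.2.2
  exact exists_closedSubspace_image_proper b (i ≫ f) hb hg hZ'

theorem s10763 {X Y B Z : AlgSp.Space S}
    (a : X ⟶ B) (b : Y ⟶ B) (f : X ⟶ Y) (hcomm : f ≫ b = a)
    (hb : AlgSp.LocP @LocallyOfFiniteType b.hom)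
    (hfc : AlgSp.IsUnivClosedMor f.hom)
    (i : Z ⟶ X) (hi : AlgSp.RepWith @IsClosedImmersion i.hom) (hZ : AlgSp.IsProperMor (i ≫ a).hom) :
    IsClosed (AlgSp.Points.map f.hom '' Set.range (AlgSp.Points.map i.hom)) ∧
      ∃ (Z' : AlgSp.Space S) (i' : Z' ⟶ Y), AlgSp.RepWith @IsClosedImmersion i'.hom ∧
        Set.range (AlgSp.Points.map i'.hom) = AlgSp.Points.map f.hom '' Set.range (AlgSp.Points.map i.hom) ∧
        AlgSp.IsProperMor (i' ≫ b).hom := by
  subst hcomm
  rw [image_range_eq]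
  have hZ' : IsProperMor ((i ≫ f) ≫ b).hom := by rwa [Category.assoc]
  have hg : IsUnivClosedMor (i ≫ f).hom :=
    isUnivClosedMor_comp X.property Y.property.diag (isUnivClosedMor_of_closedImmersion hi) hfc
  exact exists_closedSubspace_image_proper b (i ≫ f) hb hg hZ'

theorem s10765 {X Y : AlgSp.Space S}
    (f : X ⟶ Y) (hf : AlgSp.LocP @LocallyOfFiniteType f.hom)
    {n : ℕ} (Z : Fin n → AlgSp.Space S) (i : ∀ k, Z k ⟶ X)
    (hi : ∀ k, AlgSp.RepWith @IsClosedImmersion (i k).hom) (hZ : ∀ k, AlgSp.IsProperMor (i k ≫ f).hom) :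
    ∃ (W : AlgSp.Space S) (j : W ⟶ X), AlgSp.RepWith @IsClosedImmersion j.hom ∧
      Set.range (AlgSp.Points.map j.hom) = ⋃ k, Set.range (AlgSp.Points.map (i k).hom) ∧
      AlgSp.IsProperMor (j ≫ f).hom := by
  have hT : IsClosed (⋃ k, Set.range (Points.map (i k).hom)) :=
    isClosed_iUnion_of_finite fun k =>
      isClosed_range_of_isUnivClosedMor X.property (isUnivClosedMor_of_closedImmersion (hi k))
  obtain ⟨W₀, j₀, hW₀, hj1, hj2, -⟩ := exists_isRedInduced X.property _ hT
  let W : AlgSp.Space S := ⟨W₀, hW₀⟩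
  let j : W ⟶ X := ObjectProperty.homMk j₀
  refine ⟨W, j, hj1, hj2, ?_⟩
  have sq : ∀ k, IsPullback (pullback.fst (i k).hom j₀) (pullback.snd (i k).hom j₀) (i k).hom j₀ :=
    fun k => IsPullback.of_hasPullback _ _
  have hP : ∀ k, IsAlgSpace (pullback (i k).hom j₀) := fun k =>
    isAlgSpace_of_isPullback (sq k) X.property.diag (Z k).property hW₀
  let P : Fin n → AlgSp.Space S := fun k => ⟨pullback (i k).hom j₀, hP k⟩
  let pr₁ : ∀ k, P k ⟶ Z k := fun k => ObjectProperty.homMk (pullback.fst (i k).hom j₀)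
  let pr₂ : ∀ k, P k ⟶ W := fun k => ObjectProperty.homMk (pullback.snd (i k).hom j₀)
  have h1 : ∀ k, RepWith @IsClosedImmersion (pr₁ k).hom := fun k =>
    MorphismProperty.of_isPullback (sq k).flip hj1
  have h2 : ∀ k, RepWith @IsClosedImmersion (pr₂ k).hom := fun k =>
    MorphismProperty.of_isPullback (sq k) (hi k)
  have hcomm : ∀ k, pr₂ k ≫ (j ≫ f) = pr₁ k ≫ (i k ≫ f) := by
    intro k
    rw [← Category.assoc, ← Category.assoc]
    congr 1
    exact ObjectProperty.hom_ext _ (sq k).w.symm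
  have hlft : LocP @LocallyOfFiniteType (j ≫ f).hom :=
    goodClass_lft.locP_comp X.property j.hom f.hom (Groth.Agent.S10277.result j hj1).2.1.1 hf
  refine isProperMor_of_jointlySurj P pr₂ (j ≫ f) ?_
    (fun k => isUnivClosedMor_of_closedImmersion (h2 k)) hlft (fun k => ?_)
  · intro w
    have : Points.map j₀ w ∈ ⋃ k, Set.range (Points.map (i k).hom) := hj2 ▸ ⟨w, rfl⟩
    obtain ⟨k, z, hz⟩ := Set.mem_iUnion.1 this
    obtain ⟨x, -, hx⟩ := points_exists_of_isPullback (sq k) z w hz
    exact ⟨k, x, hx⟩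
  · rw [hcomm k]
    exact s10276 (pr₁ k) (i k ≫ f) (Groth.Agent.S10277.result (pr₁ k) (h1 k)) (hZ k)

end Groth.Agent.H51
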