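import Groth.Agent.H51.SpOpenDescent
import Groth.Agent.H49.AlgSpQuot
import Groth.Agent.H50.Quot

set_option autoImplicit false
universe u
open CategoryTheory CategoryTheory.Limits AlgebraicGeometry Opposite MorphismProperty

namespace Groth.Agent.H51
open AlgSp Groth.Agent.H50 Groth.Agent.H49
variable {S : Scheme.{u}}

section QuotChart

variable {R U : Over S} (s t : R ⟶ U)

/-- `quotSpπ` factors through `quotMap`. -/
theorem exists_quotMap_comp_eq_quotSpπ :
    ∃ d : QuotSh.quot Scheme.fppfPrecoverage s t ⟶ quotSp ((yon S).map s) ((yon S).map t),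
      quotMap s t ≫ d = quotSpπ ((yon S).map s) ((yon S).map t) :=
  ⟨(quotMapIsColimit s t).desc (Cofork.ofπ (quotSpπ ((yon S).map s) ((yon S).map t))
      (quotSp_condition _ _)),
    Cofork.IsColimit.π_desc (quotMapIsColimit s t)⟩

/-- Points of `U` with the same image in `U/R` are fppf locally related (pre-equivalence
relations). -/
theorem locally_rel_of_comp_quotMap_eq
    (hpre : IsPreEqvRelSp ((yon S).map s) ((yon S).map t))
    {T : Over S} (a b : T ⟶ U)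
    (h : (yon S).map a ≫ quotMap s t = (yon S).map b ≫ quotMap s t) :
    ∃ W : Sieve T, W ∈ J S T ∧ ∀ ⦃T' : Over S⦄ (f : T' ⟶ T), W f →
      ∃ ρ : T' ⟶ R, ρ ≫ t = f ≫ a ∧ ρ ≫ s = f ≫ b := by
  obtain ⟨d, hd⟩ := exists_quotMap_comp_eq_quotSpπ s t
  have h' : (yon S).map a ≫ quotSpπ ((yon S).map s) ((yon S).map t) =
      (yon S).map b ≫ quotSpπ ((yon S).map s) ((yon S).map t) := by
    rw [← hd, reassoc_of% h]
  obtain ⟨W, hW, hW'⟩ := locally_rel_of_comp_quotSpπ_eq _ _ hpre _ _ h'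
  refine ⟨W, hW, fun T' f hf => ?_⟩
  obtain ⟨r, hr1, hr2⟩ := hW' f hf
  obtain ⟨ρ, rfl⟩ := (yon S).map_surjective r
  refine ⟨ρ, (yon S).map_injective ?_, (yon S).map_injective ?_⟩
  · rw [Functor.map_comp, hr1, Functor.map_comp]
  · rw [Functor.map_comp, hr2, Functor.map_comp]

/-- Symmetry/transitivity consequence of a pre-equivalence relation, on scheme points. -/
theorem exists_rel_of_comp_s_eq (hpre : IsPreEqvRelSp ((yon S).map s) ((yon S).map t))
    {T : Over S} (ρ₁ ρ₂ : T ⟶ R) (h : ρ₁ ≫ s = ρ₂ ≫ s) :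
    ∃ ρ : T ⟶ R, ρ ≫ t = ρ₁ ≫ t ∧ ρ ≫ s = ρ₂ ≫ t := by
  have he := hpre T
  have h1 : ∃ r : (yon S).obj T ⟶ (yon S).obj R, r ≫ (yon S).map t = (yon S).map (ρ₁ ≫ t) ∧
      r ≫ (yon S).map s = (yon S).map (ρ₁ ≫ s) :=
    ⟨(yon S).map ρ₁, by rw [Functor.map_comp], by rw [Functor.map_comp]⟩
  have h2 : ∃ r : (yon S).obj T ⟶ (yon S).obj R, r ≫ (yon S).map t = (yon S).map (ρ₂ ≫ t) ∧
      r ≫ (yon S).map s = (yon S).map (ρ₁ ≫ s) :=
    ⟨(yon S).map ρ₂, by rw [Functor.map_comp], by rw [h, Functor.map_comp]⟩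
  obtain ⟨r, hr1, hr2⟩ := he.trans h1 (he.symm h2)
  obtain ⟨ρ, rfl⟩ := (yon S).map_surjective r
  refine ⟨ρ, (yon S).map_injective ?_, (yon S).map_injective ?_⟩
  · rw [Functor.map_comp, hr1]
  · rw [Functor.map_comp, hr2]

variable {R' U' P : Over S} (g : U' ⟶ U) (s' t' : R' ⟶ U')

/-- If related points of `U'` (via `g`) come from `R'`, then `U'/R' ⟶ U/R` is a monomorphism. -/
theorem mono_quot_of_lift (hpre : IsPreEqvRelSp ((yon S).map s) ((yon S).map t))
    (HR' : ∀ (T : Over S) (a b : T ⟶ U') (ρ : T ⟶ R), ρ ≫ t = a ≫ g → ρ ≫ s = b ≫ g →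
      ∃ ρ' : T ⟶ R', ρ' ≫ t' = a ∧ ρ' ≫ s' = b)
    (φ : QuotSh.quot Scheme.fppfPrecoverage s' t' ⟶ QuotSh.quot Scheme.fppfPrecoverage s t)
    (hφ : quotMap s' t' ≫ φ = (yon S).map g ≫ quotMap s t) : Mono φ := by
  apply mono_of_yon_injective
  intro T x y hxy
  obtain ⟨W1, hW1, hW1'⟩ := exists_local_lift_of_epi (quotMap s' t') x
  obtain ⟨W2, hW2, hW2'⟩ := exists_local_lift_of_epi (quotMap s' t') y
  have hE : eqSieve x y ∈ J S T := by
    refine (J S).transitive ((J S).intersection_covering hW1 hW2) _ ?_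
    intro T' k hk
    obtain ⟨a, ha⟩ := hW1' k hk.1
    obtain ⟨b, hb⟩ := hW2' k hk.2
    obtain ⟨a, rfl⟩ := (yon S).map_surjective a
    obtain ⟨b, rfl⟩ := (yon S).map_surjective b
    have hab : (yon S).map (a ≫ g) ≫ quotMap s t = (yon S).map (b ≫ g) ≫ quotMap s t := by
      rw [Functor.map_comp, Functor.map_comp, Category.assoc, Category.assoc, ← hφ,
        reassoc_of% ha, reassoc_of% hb, hxy]
    obtain ⟨W3, hW3, hW3'⟩ := locally_rel_of_comp_quotMap_eq s t hpre _ _ hab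
    refine (J S).superset_covering ?_ hW3
    intro T'' h hh
    obtain ⟨ρ, hr1, hr2⟩ := hW3' h hh
    obtain ⟨ρ', hr'1, hr'2⟩ := HR' T'' (h ≫ a) (h ≫ b) ρ
      (by rw [hr1, Category.assoc]) (by rw [hr2, Category.assoc])
    change (yon S).map (h ≫ k) ≫ x = (yon S).map (h ≫ k) ≫ y
    rw [Functor.map_comp, Category.assoc, Category.assoc, ← ha, ← hb, ← Category.assoc,
      ← Category.assoc, ← Functor.map_comp, ← Functor.map_comp, ← hr'1, ← hr'2,
      Functor.map_comp, Functor.map_comp, Category.assoc, Category.assoc, quotMap_condition]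
  exact hom_ext_of_covering x y _ hE (fun _ _ hg => hg)

/-- Descending `P ⟶ U' ⟶ U'/R'` along the epimorphism `P ⟶ W`. -/
theorem exists_desc_quot (hpre : IsPreEqvRelSp ((yon S).map s) ((yon S).map t))
    (HR' : ∀ (T : Over S) (a b : T ⟶ U') (ρ : T ⟶ R), ρ ≫ t = a ≫ g → ρ ≫ s = b ≫ g →
      ∃ ρ' : T ⟶ R', ρ' ≫ t' = a ∧ ρ' ≫ s' = b)
    (pr₁ : P ⟶ U') (pr₂ : P ⟶ R) (hP : pr₁ ≫ g = pr₂ ≫ t)
    {W : Over S} (ι : W ⟶ U) (hlift : P ⟶ W) (hh : hlift ≫ ι = pr₂ ≫ s)
    [Sheaf.IsLocallySurjective ((yon S).map hlift)] :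
    ∃ q : (yon S).obj W ⟶ QuotSh.quot Scheme.fppfPrecoverage s' t',
      (yon S).map hlift ≫ q = (yon S).map pr₁ ≫ quotMap s' t' := by
  have hepi : Epi ((yon S).map hlift) := (Sheaf.isLocallySurjective_iff_epi _).1 inferInstance
  have hq : IsRegularEpi ((yon S).map hlift) := IsRegularEpiCategory.regularEpiOfEpi _
  refine IsRegularEpi.exists_of_isKernelPair _ (IsKernelPair.of_hasPullback _) _ ?_
  apply GrothendieckTopology.hom_ext_uliftYoneda.{u+1} (J S)
  intro T c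
  obtain ⟨p₁, hp₁⟩ := (yon S).map_surjective (c ≫ pullback.fst _ _)
  obtain ⟨p₂, hp₂⟩ := (yon S).map_surjective (c ≫ pullback.snd _ _)
  have h12 : p₁ ≫ hlift = p₂ ≫ hlift := by
    apply (yon S).map_injective
    rw [Functor.map_comp, Functor.map_comp, hp₁, hp₂, Category.assoc, Category.assoc,
      pullback.condition]
  have hs : (p₁ ≫ pr₂) ≫ s = (p₂ ≫ pr₂) ≫ s := by
    rw [Category.assoc, Category.assoc, ← hh, reassoc_of% h12]
  obtain ⟨ρ, hρ1, hρ2⟩ := exists_rel_of_comp_s_eq s t hpre _ _ hs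
  obtain ⟨ρ', hρ'1, hρ'2⟩ := HR' T (p₁ ≫ pr₁) (p₂ ≫ pr₁) ρ
    (by rw [hρ1, Category.assoc, Category.assoc, hP])
    (by rw [hρ2, Category.assoc, Category.assoc, hP])
  have key : (yon S).map (p₁ ≫ pr₁) ≫ quotMap s' t' = (yon S).map (p₂ ≫ pr₁) ≫ quotMap s' t' := by
    rw [← hρ'1, ← hρ'2, Functor.map_comp, Functor.map_comp, Category.assoc, Category.assoc,
      quotMap_condition]
  calc c ≫ pullback.fst _ _ ≫ (yon S).map pr₁ ≫ quotMap s' t'
      = (yon S).map (p₁ ≫ pr₁) ≫ quotMap s' t' := by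
        rw [Functor.map_comp, hp₁, Category.assoc, Category.assoc]
    _ = (yon S).map (p₂ ≫ pr₁) ≫ quotMap s' t' := key
    _ = c ≫ pullback.snd _ _ ≫ (yon S).map pr₁ ≫ quotMap s' t' := by
        rw [Functor.map_comp, hp₂, Category.assoc, Category.assoc]


/-- **Open charts on quotients.** Let `(s, t) : R ⟶ U × U` be a pre-equivalence relation of
schemes over `S`, `g : U' ⟶ U` a morphism, `(s', t') : R' ⟶ U' × U'` a relation on `U'` containing
the restriction of `R`, `P` the "fibre product" `U' ×_{g, U, t} R` (on points), and assume that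
`P ⟶ R ⟶ U` (second projection followed by `s`) factors through an open `W ⊆ U` by a locally
surjective map. Then `U'/R' ⟶ U/R` is representable by open immersions. -/
theorem repWith_isOpenImmersion_quot_of_chart
    (hpre : IsPreEqvRelSp ((yon S).map s) ((yon S).map t))
    (HR' : ∀ (T : Over S) (a b : T ⟶ U') (ρ : T ⟶ R), ρ ≫ t = a ≫ g → ρ ≫ s = b ≫ g →
      ∃ ρ' : T ⟶ R', ρ' ≫ t' = a ∧ ρ' ≫ s' = b)
    (pr₁ : P ⟶ U') (pr₂ : P ⟶ R) (hP : pr₁ ≫ g = pr₂ ≫ t)
    (HP : ∀ (T : Over S) (a : T ⟶ U') (ρ : T ⟶ R), a ≫ g = ρ ≫ t →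
      ∃ p : T ⟶ P, p ≫ pr₁ = a ∧ p ≫ pr₂ = ρ)
    (W : U.left.Opens) (hlift : P ⟶ opensOv U W) (hh : hlift ≫ opensOvι U W = pr₂ ≫ s)
    [Sheaf.IsLocallySurjective ((yon S).map hlift)]
    (φ : QuotSh.quot Scheme.fppfPrecoverage s' t' ⟶ QuotSh.quot Scheme.fppfPrecoverage s t)
    (hφ : quotMap s' t' ≫ φ = (yon S).map g ≫ quotMap s t) :
    RepWith @IsOpenImmersion φ := by
  have hmono : Mono φ := mono_quot_of_lift s t g s' t' hpre HR' φ hφ
  obtain ⟨q, hq⟩ := exists_desc_quot s t g s' t' hpre HR' pr₁ pr₂ hP (opensOvι U W) hlift hh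
  have hepi : Epi ((yon S).map hlift) := (Sheaf.isLocallySurjective_iff_epi _).1 inferInstance
  have hw : q ≫ φ = (yon S).map (opensOvι U W) ≫ quotMap s t := by
    rw [← cancel_epi ((yon S).map hlift), reassoc_of% hq, hφ, ← Category.assoc,
      ← Functor.map_comp, hP, Functor.map_comp, Category.assoc, ← quotMap_condition,
      ← Category.assoc, ← Category.assoc, ← Functor.map_comp, ← Functor.map_comp, hh]
  refine repWith_isOpenImmersion_of_chart φ (quotMap s t) W q (isPullback_of_forall_yon hw ?_)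
  intro T z b hzb
  obtain ⟨b, rfl⟩ := (yon S).map_surjective b
  -- `b` factors through `W`
  have hbW : ∀ τ : ↥T.left, b.left τ ∈ W := by
    intro τ
    obtain ⟨T', f, a, τ', -, -, ha, hτ'⟩ := exists_fppf_local_lift (quotMap s' t') z τ
    have hab : (yon S).map (a ≫ g) ≫ quotMap s t = (yon S).map (f ≫ b) ≫ quotMap s t := by
      rw [Functor.map_comp, Category.assoc, ← hφ, reassoc_of% ha, hzb, Functor.map_comp,
        Category.assoc]
    obtain ⟨W3, hW3, hW3'⟩ := locally_rel_of_comp_quotMap_eq s t hpre _ _ hab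
    obtain ⟨T'', f', τ'', hf', hτ''⟩ := exists_mem_sieve_of_mem_J W3 hW3 τ'
    obtain ⟨ρ, hρ1, hρ2⟩ := hW3' f' hf'
    obtain ⟨p, hp1, hp2⟩ := HP T'' (f' ≫ a) ρ (by rw [hρ1, Category.assoc])
    have h1 : (p ≫ hlift) ≫ opensOvι U W = (f' ≫ f) ≫ b := by
      rw [Category.assoc, hh, ← Category.assoc, hp2, hρ2, Category.assoc]
    have h2 : (opensOvι U W).left ((p ≫ hlift).left τ'') = b.left τ := by
      have h3 := congr(($h1).left τ'')
      simp only [Over.comp_left, Scheme.Hom.comp_apply] at h3 ⊢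
      rw [h3, hτ'', hτ']
    rw [← h2]
    exact ((p ≫ hlift).left τ'').2
  obtain ⟨w, hw'⟩ := exists_factor_opensOv W b hbW
  have hwz : (yon S).map w ≫ q = z := by
    rw [← cancel_mono φ, Category.assoc, hw, ← Category.assoc, ← Functor.map_comp, hw', hzb]
  refine ⟨(yon S).map w, ⟨hwz, by rw [← Functor.map_comp, hw']⟩, ?_⟩
  rintro y ⟨-, hy2⟩
  obtain ⟨y, rfl⟩ := (yon S).map_surjective y
  congr 1
  haveI : Mono (opensOvι U W) := by
    have : Mono (opensOvι U W).left := (inferInstance : Mono W.ι)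
    exact Over.mono_of_mono_left _
  rw [← cancel_mono (opensOvι U W), hw']
  apply (yon S).map_injective
  rw [Functor.map_comp, hy2]

end QuotChart

end Groth.Agent.H51
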