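import Groth.Agent.H51.SpQuotChart
import Groth.Agent.H49.AlgSpCover

set_option autoImplicit false
universe u
open CategoryTheory CategoryTheory.Limits AlgebraicGeometry Opposite MorphismProperty

namespace Groth.Agent.H51
open AlgSp Groth.Agent.H50 Groth.Agent.H49
variable {S : Scheme.{u}}

/-- A scheme-level equivalence relation is a pre-equivalence relation of sheaves. -/
theorem isPreEqvRelSp_of_isEqvRel {R U : Over S} {s t : R ⟶ U} (h : IsEqvRel s t) :
    IsPreEqvRelSp ((yon S).map s) ((yon S).map t) := by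
  intro T
  have he := h.equivalence T
  have key : ∀ a b : T ⟶ U, (∃ r : (yon S).obj T ⟶ (yon S).obj R,
      r ≫ (yon S).map t = (yon S).map a ∧ r ≫ (yon S).map s = (yon S).map b) ↔
      ∃ r : T ⟶ R, r ≫ t = a ∧ r ≫ s = b := by
    intro a b
    constructor
    · rintro ⟨r, h1, h2⟩
      obtain ⟨r, rfl⟩ := (yon S).map_surjective r
      exact ⟨r, (yon S).map_injective (by rw [Functor.map_comp, h1]),
        (yon S).map_injective (by rw [Functor.map_comp, h2])⟩
    · rintro ⟨r, rfl, rfl⟩
      exact ⟨(yon S).map r, by rw [Functor.map_comp], by rw [Functor.map_comp]⟩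
  refine ⟨fun a => ?_, fun {a b} hab => ?_, fun {a b c} hab hbc => ?_⟩
  · obtain ⟨a, rfl⟩ := (yon S).map_surjective a
    exact (key a a).2 (he.refl a)
  · obtain ⟨a, rfl⟩ := (yon S).map_surjective a
    obtain ⟨b, rfl⟩ := (yon S).map_surjective b
    exact (key b a).2 (he.symm ((key a b).1 hab))
  · obtain ⟨a, rfl⟩ := (yon S).map_surjective a
    obtain ⟨b, rfl⟩ := (yon S).map_surjective b
    obtain ⟨c, rfl⟩ := (yon S).map_surjective c
    exact (key a c).2 (he.trans ((key a b).1 hab) ((key b c).1 hbc))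

/-- Lifting points into the restricted relation. -/
theorem exists_lift_restrict {R U R' U' : Over S} {s t : R ⟶ U} {g : U' ⟶ U} {s' t' : R' ⟶ U'}
    {r : R' ⟶ R} (hsq : IsPullback (prod.lift t' s') r (prod.map g g) (prod.lift t s))
    (T : Over S) (a b : T ⟶ U') (ρ : T ⟶ R) (h1 : ρ ≫ t = a ≫ g) (h2 : ρ ≫ s = b ≫ g) :
    ∃ ρ' : T ⟶ R', ρ' ≫ t' = a ∧ ρ' ≫ s' = b := by
  obtain ⟨r', hr'1, -⟩ := hsq.exists_lift (prod.lift a b) ρ (by ext <;> simp [h1, h2])
  refine ⟨r', ?_, ?_⟩
  · have h := congr($hr'1 ≫ prod.fst)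
    rw [Category.assoc, prod.lift_fst, prod.lift_fst] at h
    exact h
  · have h := congr($hr'1 ≫ prod.snd)
    rw [Category.assoc, prod.lift_snd, prod.lift_snd] at h
    exact h

/-- A surjective flat lfp morphism of schemes over `S` is locally surjective on fppf sheaves. -/
theorem isLocallySurjective_yon_map_of_fppf {A B : Over S} (f : A ⟶ B) [Flat f.left]
    [LocallyOfFinitePresentation f.left] [Surjective f.left] :
    Sheaf.IsLocallySurjective ((yon S).map f) :=
  isLocallySurjective_of_repWith_fppf _ ((repWith_yon_map_iff @Flat f).2 inferInstance)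
    ((repWith_yon_map_iff @LocallyOfFinitePresentation f).2 inferInstance)
    ((repWith_yon_map_iff @Surjective f).2 inferInstance)

end Groth.Agent.H51
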