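import Groth.Agent.H51.SpOpenDescent
import Groth.Agent.H49.AlgSpQuot

set_option autoImplicit false
universe u
open CategoryTheory CategoryTheory.Limits AlgebraicGeometry Opposite MorphismProperty

namespace Groth.Agent.H51
open AlgSp Groth.Agent.H50 Groth.Agent.H49
variable {S : Scheme.{u}}

/-- A morphism of schemes over `S` which is locally surjective on fppf sheaves is surjective. -/
theorem surjective_of_isLocallySurjective_yon {U M : Over S} (m : U ⟶ M)
    [Sheaf.IsLocallySurjective ((yon S).map m)] : Surjective m.left := by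
  refine ⟨fun τ => ?_⟩
  obtain ⟨T', g, v, τ', -, -, hv, hτ'⟩ :=
    exists_fppf_local_lift ((yon S).map m) (𝟙 ((yon S).obj M)) τ
  have h1 : v ≫ m = g := by
    apply (yon S).map_injective
    rw [Functor.map_comp, hv, Category.comp_id]
  refine ⟨v.left τ', ?_⟩
  rw [← Scheme.Hom.comp_apply, ← Over.comp_left, h1, hτ']

/-- A scheme quotient map is an epimorphism of fppf sheaves. -/
theorem epi_yon_of_isQuotient {R U M : Over S} {s t : R ⟶ U} {m : U ⟶ M}
    (hq : QuotSh.IsQuotient Scheme.fppfPrecoverage s t m) : Epi ((yon S).map m) := by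
  obtain ⟨w, hiso⟩ := hq
  have h1 : QuotSh.quotπ Scheme.fppfPrecoverage s t ≫ QuotSh.quotDesc Scheme.fppfPrecoverage m w =
      QuotSh.repMap Scheme.fppfPrecoverage m := coequalizer.π_desc _ _
  haveI : Epi (QuotSh.quotπ Scheme.fppfPrecoverage s t) :=
    coequalizer.π_epi (f := QuotSh.repMap Scheme.fppfPrecoverage s)
      (g := QuotSh.repMap Scheme.fppfPrecoverage t)
  haveI : Epi (QuotSh.repMap Scheme.fppfPrecoverage m) := by
    rw [← h1]; infer_instance
  have h2 : (yon S).map m = (QuotSh.repIsoUliftYoneda Scheme.fppfPrecoverage U).inv ≫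
      QuotSh.repMap Scheme.fppfPrecoverage m ≫
        (QuotSh.repIsoUliftYoneda Scheme.fppfPrecoverage M).hom := by
    rw [repMap_comp_repIso_hom, Iso.inv_hom_id_assoc]
  rw [h2]
  infer_instance

theorem surjective_of_isQuotient {R U M : Over S} {s t : R ⟶ U} {m : U ⟶ M}
    (hq : QuotSh.IsQuotient Scheme.fppfPrecoverage s t m) : Surjective m.left := by
  haveI := epi_yon_of_isQuotient hq
  haveI : Sheaf.IsLocallySurjective ((yon S).map m) :=
    (Sheaf.isLocallySurjective_iff_epi _).2 inferInstance
  exact surjective_of_isLocallySurjective_yon m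

end Groth.Agent.H51
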