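import Groth.Prelude.Def_AlgSpMor6
import Groth.Agent.H94.RegImmKinds
import Groth.Agent.H39.RegImmQuasi
import Groth.Agent.H51.SpFibreNoeth2

/-!
# Regular immersions of algebraic spaces: the kinds agree over a locally Noetherian target (helper51)
-/

set_option autoImplicit false
set_option linter.style.haveILetI false
universe u
open CategoryTheory CategoryTheory.Limits AlgebraicGeometry

namespace Groth.Agent.H51
open AlgSp
variable {S : Scheme.{u}}

/-- Change of kind for regular immersions of sheaves with a locally Noetherian target. -/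
theorem isRegImmMor_of_kind_of_isLocNoethSp {F G : Sp S} (f : F ⟶ G) (hG : IsLocNoethSp G)
    (k k' : RegImm.Kind)
    (hkk : ∀ {A B : Scheme.{u}} [IsLocallyNoetherian B] (j : A ⟶ B),
      RegImm.IsRegularImmersion k j → RegImm.IsRegularImmersion k' j)
    (h : IsRegImmMor k f) : IsRegImmMor k' f := by
  refine ⟨h.1, fun V W b fst snd hb sq => ?_⟩
  haveI : IsLocallyNoetherian V.left := isLocallyNoetherian_of_isLocNoethSp hG b hb
  exact hkk snd.left (h.2 b fst snd hb sq)

theorem regImm_koszul_of_quasi_of_isLocallyNoetherian {A B : Scheme.{u}} [IsLocallyNoetherian B]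
    (j : A ⟶ B) (h : RegImm.IsRegularImmersion .quasi j) : RegImm.IsRegularImmersion .koszul j :=
  Groth.Agent.H94.RegImmKinds.koszul_of_regular j
    ((Groth.Agent.H39.RegImmQuasi.isRegularImmersion_regular_iff_quasi j).2 h)

end Groth.Agent.H51
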