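import Groth.Prelude.Def_AlgSpMor6
import Groth.Agent.H51.RegDescentOpen
import Groth.Agent.H94.RegDescentKoszul
import Groth.Agent.H94.RegDescentQuasi
import Groth.Agent.H94.RegDescentH1
import Groth.Agent.H6.ImmDescentFppf
import Groth.Agent.H49.AlgSpLocal
import Groth.Agent.H53.Charts

/-!
# Regular immersions of algebraic spaces: etale descent and change of chart (helper51)
-/

set_option autoImplicit false
set_option linter.style.haveILetI false
universe u
open CategoryTheory CategoryTheory.Limits AlgebraicGeometry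

namespace Groth.Agent.H51
open AlgSp
variable {S : Scheme.{u}}

/-- Regular immersions of kind koszul, h1, quasi descend along etale surjective base change
(scheme level; no quasi-compactness, and the immersion property is descended as well). -/
theorem isRegularImmersion_of_isPullback_etale_surjective (k : RegImm.Kind)
    (hk : k ≠ RegImm.Kind.regular) {X Y X' Y' : Scheme.{u}} (i : Y ⟶ X) (g : X' ⟶ X)
    [Etale g] [Surjective g] (i' : Y' ⟶ X') (g' : Y' ⟶ Y) (hsq : IsPullback g' i' i g)
    (hi' : RegImm.IsRegularImmersion k i') : RegImm.IsRegularImmersion k i := by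
  haveI : IsImmersion i :=
    (Groth.Agent.H6.ImmDescentFppf.immersion_descendsAlong_fppf.{u}).of_isPullback hsq.flip
      ⟨⟨inferInstance, inferInstance⟩, inferInstance⟩ hi'.1
  have hopen : IsOpenMap g := g.isOpenMap
  cases k with
  | regular => exact absurd rfl hk
  | koszul =>
    exact Groth.Agent.H51.RegDescentOpen.isRegularImmersion_of_isPullback_flat_open
      RegImm.Kind.koszul Groth.Agent.H94.RegDescent.descOK_koszul i g hopen _ _ hsq hi'
  | h1 =>
    exact Groth.Agent.H51.RegDescentOpen.isRegularImmersion_of_isPullback_flat_open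
      RegImm.Kind.h1 Groth.Agent.H94.RegDescent.descOK_h1 i g hopen _ _ hsq hi'
  | quasi =>
    exact Groth.Agent.H51.RegDescentOpen.isRegularImmersion_of_isPullback_flat_open
      RegImm.Kind.quasi Groth.Agent.H94.RegDescent.descOK_quasi i g hopen _ _ hsq hi'

/-- Change of chart for regular immersions: if the base change of the representable `f` along a
chart `p : h_U ⟶ G` is a regular immersion of kind `k`, and `c : h_V ⟶ G` is dominated, through an
etale surjective `t₁ : T ⟶ V` and a flat `t₂ : T ⟶ U`, by `p`, then the base change of `f` along `c`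
is a regular immersion of kind `k`. -/
theorem regImm_of_chart (k : RegImm.Kind) (hk : k ≠ RegImm.Kind.regular) {F G : Sp S}
    (f : F ⟶ G) (hf : Representable f) {U W₀ : Over S} (p : (yon S).obj U ⟶ G)
    (fst₀ : (yon S).obj W₀ ⟶ F) (snd₀ : W₀ ⟶ U) (sq₀ : IsPullback fst₀ ((yon S).map snd₀) f p)
    (h₀ : RegImm.IsRegularImmersion k snd₀.left)
    {V W : Over S} (c : (yon S).obj V ⟶ G) (fstV : (yon S).obj W ⟶ F) (sndV : W ⟶ V)
    (sqV : IsPullback fstV ((yon S).map sndV) f c)
    {T : Over S} (t₁ : T ⟶ V) (t₂ : T ⟶ U) (ht₁ : Etale t₁.left) (ht₁s : Surjective t₁.left)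
    (ht₂ : Flat t₂.left) (hw : (yon S).map t₁ ≫ c = (yon S).map t₂ ≫ p) :
    RegImm.IsRegularImmersion k sndV.left := by
  have sqT := hf.isPullback ((yon S).map t₁ ≫ c)
  obtain ⟨k₁, hk₁⟩ := Groth.Agent.H49.exists_isPullback_left_of_isPullback sqV t₁ sqT
  have sqT' : IsPullback (hf.fst ((yon S).map t₁ ≫ c))
      ((yon S).map (hf.snd ((yon S).map t₁ ≫ c))) f ((yon S).map t₂ ≫ p) := by
    rw [← hw]; exact sqT
  obtain ⟨k₂, hk₂⟩ := Groth.Agent.H49.exists_isPullback_left_of_isPullback sq₀ t₂ sqT'
  have hT : RegImm.IsRegularImmersion k (hf.snd ((yon S).map t₁ ≫ c)).left :=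
    Groth.Agent.H94.KindFlat.isRegularImmersion_of_isPullback_flat k snd₀.left t₂.left _ _ hk₂ h₀
  exact isRegularImmersion_of_isPullback_etale_surjective k hk sndV.left t₁.left _ _ hk₁ hT

end Groth.Agent.H51
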