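import Groth.Agent.H51.MonoFieldStalk
import Groth.Agent.H51.SpField3
import Groth.Agent.H51.SpBasic
import Groth.Agent.H52.ChartFinite
import Groth.Agent.H52.Decent
import Groth.Agent.H65.QuotEtale
import Groth.Agent.H50.LocPClass

/-! The residual space of an algebraic space at a point: the image sheaf of `Spec κ(u) ⟶ X` for a
point `u` of an etale chart. -/

set_option autoImplicit false
universe u

open CategoryTheory CategoryTheory.Limits AlgebraicGeometry Opposite MorphismProperty
open AlgSp Groth.Agent.H50 Groth.Agent.H52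

namespace Groth.Agent.H51

variable {S : Scheme.{u}}

/-- For a point `u` of an etale chart, the projection from the self fibre product of `Spec κ(u)`
over the sheaf to `Spec κ(u)` is etale. -/
theorem etale_pr_of_chart {F : Sp S} {U : Over S} (φ : (yon S).obj U ⟶ F)
    (hφ : RepWith @Etale φ) (u : ↥U.left) {R : Over S} (pr₁ pr₂ : R ⟶ (FieldPt.ofPt φ u).pt)
    (hR : IsPullback ((yon S).map pr₁) ((yon S).map pr₂) (FieldPt.ofPt φ u).toHom
      (FieldPt.ofPt φ u).toHom) : Etale pr₁.left := by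
  have sq := hφ.rep.isPullback (FieldPt.ofPt φ u).toHom
  haveI hae : Etale (hφ.rep.snd (FieldPt.ofPt φ u).toHom).left := hφ.property _ _ _ sq
  have hq : (FieldPt.ofPt φ u).toHom = (yon S).map (ofPtHom φ u) ≫ φ := toHom_ofPt' φ u
  let l : (yon S).obj R ⟶ (yon S).obj (hφ.rep.pullback (FieldPt.ofPt φ u).toHom) :=
    sq.lift ((yon S).map (pr₂ ≫ ofPtHom φ u)) ((yon S).map pr₁) (by
      rw [Functor.map_comp, Category.assoc, ← hq, hR.w])
  have hl1 : l ≫ hφ.rep.fst (FieldPt.ofPt φ u).toHom = (yon S).map (pr₂ ≫ ofPtHom φ u) :=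
    sq.lift_fst _ _ _
  have hl2 : l ≫ (yon S).map (hφ.rep.snd (FieldPt.ofPt φ u).toHom) = (yon S).map pr₁ :=
    sq.lift_snd _ _ _
  obtain ⟨l', hl'⟩ := (yon S).map_surjective l
  have houter : IsPullback (l ≫ (yon S).map (hφ.rep.snd (FieldPt.ofPt φ u).toHom)) ((yon S).map pr₂)
      (FieldPt.ofPt φ u).toHom ((yon S).map (ofPtHom φ u) ≫ φ) := by
    rw [hl2, ← hq]
    exact hR
  have hup : IsPullback l ((yon S).map pr₂) (hφ.rep.fst (FieldPt.ofPt φ u).toHom)
      ((yon S).map (ofPtHom φ u)) :=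
    IsPullback.of_right houter (by rw [hl1, Functor.map_comp]) sq.flip
  rw [← hl'] at hup
  -- `l'` is a monomorphism into a scheme etale over a field
  haveI : Mono ((yon S).map l') :=
    (MorphismProperty.monomorphisms _).of_isPullback hup.flip
      (inferInstance : Mono ((yon S).map (ofPtHom φ u)))
  haveI : Mono l' := (yon S).mono_of_mono_map inferInstance
  haveI : Mono l'.left := inferInstance
  haveI : DiscreteTopology ↥(hφ.rep.pullback (FieldPt.ofPt φ u).toHom).left :=
    discreteTopology_of_etale_field (k := (FieldPt.ofPt φ u).K)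
      (hφ.rep.snd (FieldPt.ofPt φ u).toHom).left
  haveI : IsOpenImmersion l'.left :=
    isOpenImmersion_of_mono_of_isField_stalk l'.left
      (fun w => isField_stalk_of_etale_field (k := (FieldPt.ofPt φ u).K)
        (hφ.rep.snd (FieldPt.ofPt φ u).toHom).left w)
  have hpr : pr₁ = l' ≫ hφ.rep.snd (FieldPt.ofPt φ u).toHom := by
    apply (yon S).map_injective
    rw [Functor.map_comp, hl', hl2]
  rw [hpr, Over.comp_left]
  infer_instance

/-- **S10370**: the residual space. -/
theorem exists_residualSpace (X : AlgSp.Space S) (x : AlgSp.Points X.obj) :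
    ∃ (Z : AlgSp.Space S) (i : Z ⟶ X), Mono i.hom ∧ Set.range (AlgSp.Points.map i.hom) = {x} ∧
      ∃ (k : Type u) (_ : Field k) (str : Spec (CommRingCat.of k) ⟶ S)
        (p : (AlgSp.yon S).obj (Over.mk str) ⟶ Z.obj),
        AlgSp.LocP @LocallyOfFinitePresentation p ∧ AlgSp.LocP @Flat p ∧
          AlgSp.IsSurjectiveMor p := by
  obtain ⟨U, a, hae, has⟩ := X.property.atlas
  obtain ⟨u, rfl⟩ := surjective_ofPt_of_surjective a has x
  let q : FieldPt X.obj := FieldPt.ofPt a u
  let m : (yon S).obj q.pt ⟶ X.obj := q.toHom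
  have hrep : Representable m := X.property.representable_from_yon m
  let pr₁ : hrep.pullback m ⟶ q.pt := hrep.fst' m
  let pr₂ : hrep.pullback m ⟶ q.pt := hrep.snd m
  have sq : IsPullback ((yon S).map pr₁) ((yon S).map pr₂) m m := hrep.isPullback' m
  have hE₂ : Etale pr₂.left := etale_pr_of_chart a hae u pr₂ pr₁ sq.flip
  -- the diagonal section
  let δ : q.pt ⟶ hrep.pullback m := hrep.lift' (𝟙 _) (𝟙 _) rfl
  have hδ₂ : δ ≫ pr₂ = 𝟙 _ := hrep.lift'_snd _ _ _
  have hS₂ : Surjective pr₂.left := by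
    refine ⟨fun t => ⟨δ.left t, ?_⟩⟩
    rw [← Scheme.Hom.comp_apply, ← Over.comp_left, hδ₂]
    rfl
  -- the image sheaf
  let g : (yon S).obj q.pt ⟶ Sheaf.image m := Sheaf.toImage m
  let i : Sheaf.image m ⟶ X.obj := Sheaf.imageι m
  have hgi : g ≫ i = m := Sheaf.toImage_ι m
  haveI : Epi g := inferInstance
  haveI : Mono i := inferInstance
  have sqg : IsPullback ((yon S).map pr₁) ((yon S).map pr₂) g g := by
    have big : IsKernelPair (g ≫ i) ((yon S).map pr₁) ((yon S).map pr₂) := by
      rw [hgi]; exact sq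
    exact IsKernelPair.cancel_right_of_mono big
  have hZ : IsAlgSpace (Sheaf.image m) :=
    Groth.Agent.H65.QuotEtale.isAlgSpace_of_etale_kernelPair pr₂ pr₁ g sqg hE₂ hS₂
  have hgE : RepWith @Etale g := by
    refine MorphismProperty.relative.of_exists fun T ξ => ?_
    obtain ⟨G, fst, σ, sqσ, h1, -⟩ :=
      Groth.Agent.H65.QuotEtale.exists_rep pr₂ pr₁ g sqg hE₂ hS₂ ξ
    exact ⟨G, fst, σ, sqσ, h1⟩
  have hgS : RepWith @Surjective g := by
    refine MorphismProperty.relative.of_exists fun T ξ => ?_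
    obtain ⟨G, fst, σ, sqσ, -, h2⟩ :=
      Groth.Agent.H65.QuotEtale.exists_rep pr₂ pr₁ g sqg hE₂ hS₂ ξ
    exact ⟨G, fst, σ, sqσ, h2⟩
  have hgsurj : Function.Surjective (Points.ofPt g) := surjective_ofPt_of_surjective g hgS
  refine ⟨⟨Sheaf.image m, hZ⟩, ObjectProperty.homMk i, ‹Mono i›, ?_, q.K, q.field, q.str, g,
    goodClass_lfp.locP_of_repWith_etale g hgE, goodClass_flat.locP_of_repWith_etale g hgE, ?_⟩
  · -- the image is `{x}`
    change Set.range (Points.map i) = {Points.ofPt a u}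
    have hpt : ∀ t : ↥q.pt.left, Points.map i (Points.ofPt g t) = Points.ofPt a u := by
      intro t
      rw [Points.map_ofPt, hgi]
      exact Points.ofPt_toHom q t
    ext y
    simp only [Set.mem_range, Set.mem_singleton_iff]
    constructor
    · rintro ⟨z, rfl⟩
      obtain ⟨t, rfl⟩ := hgsurj z
      exact hpt t
    · rintro rfl
      let t₀ : ↥q.pt.left := (default : PrimeSpectrum q.K)
      exact ⟨Points.ofPt g t₀, hpt t₀⟩
  · -- surjectivity on points
    intro z
    obtain ⟨t, rfl⟩ := hgsurj z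
    exact ⟨Points.ofPt (𝟙 _) t, by rw [Points.map_ofPt, Category.id_comp]⟩

end Groth.Agent.H51
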