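import Groth.Agent.H51.SpResidual
import Groth.Agent.H50.FTPoint
import Groth.Agent.S9977

/-! The residual space attached to a point of an etale chart, with its chart from the spectrum of
the residue field; finite type points (S9980). -/

set_option autoImplicit false
universe u

open CategoryTheory CategoryTheory.Limits AlgebraicGeometry Opposite MorphismProperty
open AlgSp Groth.Agent.H50 Groth.Agent.H52

namespace Groth.Agent.H51

variable {S : Scheme.{u}}

/-- The residual space at the image of a point `u` of an etale chart: the image sheaf of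
`Spec κ(u) ⟶ X`, with its etale surjective chart from `Spec κ(u)`. -/
theorem exists_residual_of_chart {X : Sp S} (hX : IsAlgSpace X) {U : Over S}
    (a : (yon S).obj U ⟶ X) (hae : RepWith @Etale a) (u : ↥U.left) :
    ∃ (Z : Sp S) (_ : IsAlgSpace Z) (i : Z ⟶ X) (g : (yon S).obj (FieldPt.ofPt a u).pt ⟶ Z),
      Mono i ∧ RepWith @Etale g ∧ RepWith @Surjective g ∧ g ≫ i = (FieldPt.ofPt a u).toHom := by
  let q : FieldPt X := FieldPt.ofPt a u
  let m : (yon S).obj q.pt ⟶ X := q.toHom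
  have hrep : Representable m := hX.representable_from_yon m
  let pr₁ : hrep.pullback m ⟶ q.pt := hrep.fst' m
  let pr₂ : hrep.pullback m ⟶ q.pt := hrep.snd m
  have sq : IsPullback ((yon S).map pr₁) ((yon S).map pr₂) m m := hrep.isPullback' m
  have hE₂ : Etale pr₂.left := etale_pr_of_chart a hae u pr₂ pr₁ sq.flip
  let δ : q.pt ⟶ hrep.pullback m := hrep.lift' (𝟙 _) (𝟙 _) rfl
  have hδ₂ : δ ≫ pr₂ = 𝟙 _ := hrep.lift'_snd _ _ _
  have hS₂ : Surjective pr₂.left := by
    refine ⟨fun t => ⟨δ.left t, ?_⟩⟩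
    rw [← Scheme.Hom.comp_apply, ← Over.comp_left, hδ₂]
    rfl
  let g : (yon S).obj q.pt ⟶ Sheaf.image m := Sheaf.toImage m
  let i : Sheaf.image m ⟶ X := Sheaf.imageι m
  have hgi : g ≫ i = m := Sheaf.toImage_ι m
  haveI : Epi g := inferInstance
  haveI : Mono i := inferInstance
  have sqg : IsPullback ((yon S).map pr₁) ((yon S).map pr₂) g g := by
    have big : IsKernelPair (g ≫ i) ((yon S).map pr₁) ((yon S).map pr₂) := by
      rw [hgi]; exact sq
    exact IsKernelPair.cancel_right_of_mono big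
  have hZ : IsAlgSpace (Sheaf.image m) :=
    Groth.Agent.H65.QuotEtale.isAlgSpace_of_etale_kernelPair pr₂ pr₁ g sqg hE₂ hS₂
  have hgE : RepWith @Etale g := by
    refine MorphismProperty.relative.of_exists fun T ξ => ?_
    obtain ⟨G, fst, σ, sqσ, h1, -⟩ :=
      Groth.Agent.H65.QuotEtale.exists_rep pr₂ pr₁ g sqg hE₂ hS₂ ξ
    exact ⟨G, fst, σ, sqσ, h1⟩
  have hgS : RepWith @Surjective g := by
    refine MorphismProperty.relative.of_exists fun T ξ => ?_
    obtain ⟨G, fst, σ, sqσ, -, h2⟩ :=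
      Groth.Agent.H65.QuotEtale.exists_rep pr₂ pr₁ g sqg hE₂ hS₂ ξ
    exact ⟨G, fst, σ, sqσ, h2⟩
  exact ⟨Sheaf.image m, hZ, i, g, ‹Mono i›, hgE, hgS, hgi⟩

/-- **S9980**. -/
theorem finiteTypePoint_iff (X : AlgSp.Space S) (x : AlgSp.Points X.obj) :
    ((∃ (k : Type u) (_ : Field k) (str : Spec (CommRingCat.of k) ⟶ S)
        (ξ : (AlgSp.yon S).obj (Over.mk str) ⟶ X.obj),
        AlgSp.LocP @LocallyOfFiniteType ξ ∧ AlgSp.Points.ofPt ξ (IsLocalRing.closedPoint k) = x) ↔
      ∃ (Z : AlgSp.Space S) (f : Z ⟶ X), Nonempty (Unique (AlgSp.Points Z.obj)) ∧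
        AlgSp.LocP @LocallyOfFiniteType f.hom ∧ Set.range (AlgSp.Points.map f.hom) = {x}) ∧
    ((∃ (k : Type u) (_ : Field k) (str : Spec (CommRingCat.of k) ⟶ S)
        (ξ : (AlgSp.yon S).obj (Over.mk str) ⟶ X.obj),
        AlgSp.LocP @LocallyOfFiniteType ξ ∧ AlgSp.Points.ofPt ξ (IsLocalRing.closedPoint k) = x) ↔
      ∃ (Z : AlgSp.Space S) (f : Z ⟶ X) (k : Type u) (_ : Field k) (str : Spec (CommRingCat.of k) ⟶ S)
        (z : (AlgSp.yon S).obj (Over.mk str) ⟶ Z.obj), AlgSp.RepWith @Etale z ∧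
        AlgSp.RepWith @Surjective z ∧
        AlgSp.LocP @LocallyOfFiniteType f.hom ∧ Mono f.hom ∧
        AlgSp.Points.ofPt (z ≫ f.hom) (IsLocalRing.closedPoint k) = x) := by
  refine ⟨⟨?_, ?_⟩, ⟨?_, ?_⟩⟩
  · -- a field point is a one-point space
    rintro ⟨k, _, str, ξ, hξ, hx⟩
    refine ⟨⟨(yon S).obj (Over.mk str), IsAlgSpace.yon_obj _⟩, ObjectProperty.homMk ξ, ?_, hξ, ?_⟩
    · haveI : Unique ↥(Over.mk str).left := inferInstanceAs (Unique (PrimeSpectrum k))
      exact ⟨(Points.schemeHomeo (Over.mk str)).toEquiv.symm.unique⟩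
    · change Set.range (Points.map ξ) = {x}
      rw [range_map_eq_range_ofPt]
      ext y
      simp only [Set.mem_range, Set.mem_singleton_iff]
      constructor
      · rintro ⟨t, rfl⟩
        rw [← hx]
        congr 1
        exact Subsingleton.elim (α := PrimeSpectrum k) _ _
      · rintro rfl
        exact ⟨_, hx⟩
  · -- a one-point space locally of finite type over `X` has a finite type point
    rintro ⟨Z, f, ⟨hU⟩, hf, hr⟩
    obtain ⟨z, -, k, hk, str, ξ', hξ', hz⟩ :=
      (Groth.Agent.S9977.result Z).1 Set.univ isOpen_univ.isLocallyClosed ⟨hU.default, trivial⟩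
    refine ⟨k, hk, str, ξ' ≫ f.hom, goodClass_lft.locP_comp Z.property _ _ hξ' hf, ?_⟩
    have : Points.ofPt (ξ' ≫ f.hom) (IsLocalRing.closedPoint k) ∈ Set.range (Points.map f.hom) :=
      ⟨Points.ofPt ξ' _, Points.map_ofPt _ _ _⟩
    rw [hr] at this
    exact this
  · -- the residual space of a finite type point
    rintro ⟨k, hk, str, ξ, hξ, hx⟩
    obtain ⟨U, φ, u, hφ, hu, hxu⟩ :=
      exists_isClosed_chart_of_isFTPoint X.property x ⟨k, hk, str, ξ, hξ, hx⟩
    obtain ⟨Z, hZ, i, g, hi, hgE, hgS, hgi⟩ := exists_residual_of_chart X.property φ hφ u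
    have hci : IsClosedImmersion (U.left.fromSpecResidueField u) :=
      isClosed_singleton_iff_isClosedImmersion.mp hu
    have hlft : LocallyOfFiniteType (ofPtHom φ u).left := by
      change LocallyOfFiniteType (U.left.fromSpecResidueField u)
      infer_instance
    refine ⟨⟨Z, hZ⟩, ObjectProperty.homMk i, (FieldPt.ofPt φ u).K, (FieldPt.ofPt φ u).field,
      (FieldPt.ofPt φ u).str, g, hgE, hgS, ?_, hi, ?_⟩
    · exact goodClass_lft.locP_of_one_chart i g φ (ofPtHom φ u) hgE hgS hφ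
        (hgi.trans (toHom_ofPt' φ u)) hlft
    · change Points.ofPt (g ≫ i) _ = x
      rw [hgi, Points.ofPt_toHom]
      exact hxu
  · rintro ⟨Z, f, k, hk, str, z, hze, hzs, hf, hm, hpt⟩
    exact ⟨k, hk, str, z ≫ f.hom, goodClass_lft.locP_comp Z.property _ _
      (goodClass_lft.locP_of_repWith_etale z hze) hf, hpt⟩

end Groth.Agent.H51
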