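import Groth.Agent.H51.SpOpen
import Mathlib.AlgebraicGeometry.Morphisms.Separated

set_option autoImplicit false
universe u
open CategoryTheory CategoryTheory.Limits AlgebraicGeometry Opposite MorphismProperty

namespace Groth.Agent.H51

open AlgSp Groth.Agent.H50

variable {S : Scheme.{u}}

/-- For a fibre product `h_V = h_U ×_G h_T` of representables over a sheaf, the morphism of schemes
`V ⟶ U ×_S T` is a monomorphism. -/
theorem mono_lift_of_isPullback {G : Sp S} {U T V : Over S} {a : (yon S).obj U ⟶ G}
    {g : (yon S).obj T ⟶ G} {q : V ⟶ U} {r : V ⟶ T}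
    (sq : IsPullback ((yon S).map q) ((yon S).map r) a g) :
    Mono (pullback.lift q.left r.left (by rw [CategoryTheory.Over.w, CategoryTheory.Over.w]) : V.left ⟶ pullback U.hom T.hom) := by
  refine ⟨fun {Z} x y hxy => ?_⟩
  have h1 : x ≫ q.left = y ≫ q.left := by
    have := hxy =≫ pullback.fst U.hom T.hom
    rwa [Category.assoc, Category.assoc, pullback.lift_fst] at this
  have h2 : x ≫ r.left = y ≫ r.left := by
    have := hxy =≫ pullback.snd U.hom T.hom
    rwa [Category.assoc, Category.assoc, pullback.lift_snd] at this
  have hy : y ≫ V.hom = x ≫ V.hom := by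
    rw [← CategoryTheory.Over.w r, ← Category.assoc, ← Category.assoc, h2]
  let Z' : Over S := Over.mk (x ≫ V.hom)
  let x' : Z' ⟶ V := Over.homMk x rfl
  let y' : Z' ⟶ V := Over.homMk y hy
  have : (yon S).map x' = (yon S).map y' := by
    apply sq.hom_ext
    · rw [← Functor.map_comp, ← Functor.map_comp]
      congr 1
      ext1
      exact h1
    · rw [← Functor.map_comp, ← Functor.map_comp]
      congr 1
      ext1
      exact h2
  have := (yon S).map_injective this
  exact congrArg (fun k => k.left) this

theorem repWith_isSeparated_of_isSeparated {G : Sp S} {U : Over S} (a : (yon S).obj U ⟶ G)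
    (ha : Representable a) [U.left.IsSeparated] : RepWith @IsSeparated a := by
  refine ⟨ha, ?_⟩
  intro T V g fst snd sq
  obtain ⟨q, rfl⟩ := (yon S).map_surjective fst
  change IsSeparated snd.left
  have hm := mono_lift_of_isPullback sq
  have : snd.left = pullback.lift q.left snd.left (by rw [CategoryTheory.Over.w, CategoryTheory.Over.w]) ≫
      pullback.snd U.hom T.hom := (pullback.lift_snd _ _ _).symm
  rw [this]
  infer_instance

theorem isSeparated_of_isPullback_of_isSeparated {G : Sp S} {U R : Over S}
    (a : (yon S).obj U ⟶ G) (ha : Representable a) [U.left.IsSeparated] (s t : R ⟶ U)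
    (sq : IsPullback ((yon S).map t) ((yon S).map s) a a) : R.left.IsSeparated := by
  have h1 : IsSeparated s.left := (repWith_isSeparated_of_isSeparated a ha).property a _ s sq
  have : terminal.from R.left = s.left ≫ terminal.from U.left := Subsingleton.elim _ _
  refine ⟨?_⟩
  rw [this]
  infer_instance

end Groth.Agent.H51
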