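import Groth.Agent.S10350
import Groth.Agent.H52.ZarLocal
import Groth.Agent.H52.SoberSp2
import Groth.Agent.H52.Special
import Groth.Agent.H51.SpQc
import Groth.Agent.H51.SpBasic
import Mathlib.Topology.Spectral.Basic

set_option autoImplicit false
universe u
open CategoryTheory CategoryTheory.Limits AlgebraicGeometry Opposite MorphismProperty TopologicalSpace

namespace Groth.Agent.H51
open AlgSp
variable {S : Scheme.{u}}

theorem s10201 [QuasiSeparatedSpace ↥S]
    (X : AlgSp.Space S) (hqc : AlgSp.IsQuasiCompactSp X.obj) (hqs : AlgSp.IsQuasiSeparatedSp X.obj) :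
    SpectralSpace (AlgSp.Points X.obj) := by
  have hd : IsDecent X.obj := Groth.Agent.S10350.result X hqs
  obtain ⟨A, a, ha, has⟩ := X.property.atlas
  haveI hT0 : T0Space (Points X.obj) := Groth.Agent.H52.t0Space_points_of_isDecent hd a ha has
  haveI hQS : QuasiSober (Points X.obj) := Groth.Agent.H52.SoberSp.quasiSober_points_of_isDecent X hd
  haveI hC : CompactSpace (Points X.obj) := (isQuasiCompactSp_iff X.property).1 hqc
  have hopen : IsOpenMap (Points.ofPt a) := isOpenMap_ofPt_of_etale a ha
  have hsurj : Function.Surjective (Points.ofPt a) := surjective_ofPt_of_surjective a has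
  have hcont : Continuous (Points.ofPt a) := Points.continuous_ofPt a
  let b : A.left.affineOpens → Set (Points X.obj) := fun W => Points.ofPt a '' ((W : A.left.Opens) : Set A.left)
  have hbasis : IsTopologicalBasis (Set.range b) := by
    refine isTopologicalBasis_of_isOpen_of_nhds ?_ ?_
    · rintro _ ⟨W, rfl⟩
      exact hopen _ (W : A.left.Opens).2
    · intro x V hxV hV
      obtain ⟨u, rfl⟩ := hsurj x
      obtain ⟨_, ⟨W, hW, rfl⟩, huW, hWV⟩ :=
        A.left.isBasis_affineOpens.exists_subset_of_mem_open (a := u)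
          (show u ∈ Points.ofPt a ⁻¹' V from hxV) (hV.preimage hcont)
      exact ⟨_, ⟨⟨W, hW⟩, rfl⟩, ⟨u, huW, rfl⟩, Set.image_subset_iff.2 hWV⟩
  have hinter : ∀ W₁ W₂ : A.left.affineOpens, IsCompact (b W₁ ∩ b W₂) := by
    intro W₁ W₂
    let a₁ := (yon S).map (overOpenι A (W₁ : A.left.Opens)) ≫ a
    let a₂ := (yon S).map (overOpenι A (W₂ : A.left.Opens)) ≫ a
    have hrep : Representable a₁ := X.property.representable_from_yon a₁
    have sq := hrep.isPullback' a₂
    haveI : CompactSpace ↥(overOpen A (W₁ : A.left.Opens)).left :=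
      isCompact_iff_compactSpace.1 W₁.2.isCompact
    haveI : CompactSpace ↥(overOpen A (W₂ : A.left.Opens)).left :=
      isCompact_iff_compactSpace.1 W₂.2.isCompact
    have hP : CompactSpace ↥(hrep.pullback a₂).left := s10185 X hqs _ _ _ a₁ a₂ _ _ sq
    have e : b W₁ ∩ b W₂ = Set.range (Points.ofPt ((yon S).map (hrep.fst' a₂) ≫ a₁)) := by
      ext x
      constructor
      · rintro ⟨⟨u₁, hu₁, rfl⟩, ⟨u₂, hu₂, h⟩⟩
        have h' : Points.ofPt a₁ ⟨u₁, hu₁⟩ = Points.ofPt a₂ ⟨u₂, hu₂⟩ := by
          rw [ofPt_restrict, ofPt_restrict]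
          exact h.symm
        obtain ⟨v, hv1, -⟩ := exists_of_ofPt_eq sq _ _ h'
        refine ⟨v, ?_⟩
        rw [ofPt_map_comp, hv1, ofPt_restrict]
        rfl
      · rintro ⟨v, rfl⟩
        constructor
        · rw [ofPt_map_comp, ofPt_restrict]
          exact ⟨_, ((hrep.fst' a₂).left v).2, rfl⟩
        · rw [sq.w, ofPt_map_comp, ofPt_restrict]
          exact ⟨_, ((hrep.snd a₂).left v).2, rfl⟩
    rw [e]
    exact isCompact_range (Points.continuous_ofPt _)
  haveI : QuasiSeparatedSpace (Points X.obj) :=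
    QuasiSeparatedSpace.of_isTopologicalBasis hbasis hinter
  haveI : PrespectralSpace (Points X.obj) := by
    refine PrespectralSpace.of_isTopologicalBasis hbasis ?_
    rintro _ ⟨W, rfl⟩
    exact W.2.isCompact.image hcont
  exact { }

end Groth.Agent.H51
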