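import Groth.Agent.H49.AlgSpOpen
import Groth.Agent.H51.SpBasic
import Groth.Agent.H52.MonoPoint
import Groth.Prelude.Def_Flat

set_option autoImplicit false
universe u
open CategoryTheory CategoryTheory.Limits AlgebraicGeometry Opposite MorphismProperty

namespace Groth.Agent.H51

open AlgSp Groth.Agent.H50 Groth.Agent.H49

variable {S : Scheme.{u}}

/-- A one-point scheme is affine. -/
theorem isAffine_of_subsingleton (T : Scheme.{u}) [Subsingleton ↥T] [Nonempty ↥T] : IsAffine T := by
  obtain ⟨t⟩ := (inferInstance : Nonempty ↥T)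
  obtain ⟨_, ⟨V, hV, rfl⟩, htV, -⟩ :=
    (T.isBasis_affineOpens).exists_subset_of_mem_open (Set.mem_univ t) isOpen_univ
  have : V = ⊤ := by
    ext y
    simp only [TopologicalSpace.Opens.coe_top, Set.mem_univ, iff_true]
    rw [Subsingleton.elim y t]
    exact htV
  rw [this] at hV
  haveI : IsAffine (⊤ : T.Opens).toScheme := hV
  exact IsAffine.of_isIso (Scheme.topIso T).inv

/-- Sections of a morphism from a one-point scheme to the spectrum of a field are unique. -/
theorem section_unique_of_subsingleton {K : Type u} [Field K] {T : Scheme.{u}} [Subsingleton ↥T]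
    (p : T ⟶ Spec (CommRingCat.of K)) (σ₁ σ₂ : Spec (CommRingCat.of K) ⟶ T)
    (h₁ : σ₁ ≫ p = 𝟙 _) (h₂ : σ₂ ≫ p = 𝟙 _) : σ₁ = σ₂ := by
  haveI : Nonempty ↥T := ⟨σ₁ (default : PrimeSpectrum K)⟩
  haveI : IsAffine T := isAffine_of_subsingleton T
  let B : CommRingCat.{u} := Γ(T, ⊤)
  let iso : T ≅ Spec B := T.isoSpec
  obtain ⟨β₁, hβ₁⟩ := Spec.map_surjective (σ₁ ≫ iso.hom)
  obtain ⟨β₂, hβ₂⟩ := Spec.map_surjective (σ₂ ≫ iso.hom)
  obtain ⟨π, hπ⟩ := Spec.map_surjective (iso.inv ≫ p)
  have e₁ : π ≫ β₁ = 𝟙 _ := by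
    apply Spec.map_injective
    rw [Spec.map_comp, hβ₁, hπ, Category.assoc, Iso.hom_inv_id_assoc, h₁, Spec.map_id]
  have e₂ : π ≫ β₂ = 𝟙 _ := by
    apply Spec.map_injective
    rw [Spec.map_comp, hβ₂, hπ, Category.assoc, Iso.hom_inv_id_assoc, h₂, Spec.map_id]
  haveI : Subsingleton (PrimeSpectrum B) :=
    (Scheme.homeoOfIso iso).symm.injective.subsingleton
  have hker : RingHom.ker β₁.hom = RingHom.ker β₂.hom := by
    have h1 : (RingHom.ker β₁.hom).IsPrime := RingHom.ker_isPrime _
    have h2 : (RingHom.ker β₂.hom).IsPrime := RingHom.ker_isPrime _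
    exact congrArg PrimeSpectrum.asIdeal
      (Subsingleton.elim (⟨_, h1⟩ : PrimeSpectrum B) ⟨_, h2⟩)
  have hβ : β₁ = β₂ := by
    ext b
    have hb1 : β₁.hom (π.hom (β₁.hom b)) = β₁.hom b := by
      have := congrArg (fun f => f.hom (β₁.hom b)) e₁
      exact this
    have hb2 : β₂.hom (π.hom (β₁.hom b)) = β₁.hom b := by
      have := congrArg (fun f => f.hom (β₁.hom b)) e₂
      exact this
    have hmem : b - π.hom (β₁.hom b) ∈ RingHom.ker β₁.hom := by
      rw [RingHom.mem_ker, map_sub, hb1, sub_self]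
    rw [hker, RingHom.mem_ker, map_sub, hb2, sub_eq_zero] at hmem
    exact hmem.symm
  have : σ₁ ≫ iso.hom = σ₂ ≫ iso.hom := by rw [← hβ₁, ← hβ₂, hβ]
  exact (cancel_mono iso.hom).1 this

end Groth.Agent.H51

namespace Groth.Agent.H51
open AlgSp Groth.Agent.H50 Groth.Agent.H49
variable {S : Scheme.{u}}

theorem isHomeomorph_of_isUnivHomeo {X Y : Scheme.{u}} (g : X ⟶ Y) (h : FlatMor.IsUnivHomeo g) :
    IsHomeomorph g :=
  MorphismProperty.universally_le _ _ h

/-- A representable universal homeomorphism is injective on field-valued points. -/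
theorem comp_injective_of_repWith_isUnivHomeo {Z' Z : Sp S} (s : Z' ⟶ Z)
    (hs : RepWith FlatMor.IsUnivHomeo s) {K : Type u} [Field K]
    {str : Spec (CommRingCat.of K) ⟶ S} (a b : (yon S).obj (Over.mk str) ⟶ Z')
    (h : a ≫ s = b ≫ s) : a = b := by
  let c := a ≫ s
  have sq := hs.rep.isPullback c
  have hp : FlatMor.IsUnivHomeo (hs.rep.snd c).left := hs.property_snd c
  have hhom := isHomeomorph_of_isUnivHomeo _ hp
  haveI : Subsingleton ↥(hs.rep.pullback c).left :=
    hhom.injective.subsingleton (β := PrimeSpectrum K)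
  obtain ⟨σa, hσa⟩ := (yon S).map_surjective (sq.lift a (𝟙 _) (by simp [c]))
  obtain ⟨σb, hσb⟩ := (yon S).map_surjective (sq.lift b (𝟙 _) (by simp [c, h]))
  have ha1 : σa ≫ hs.rep.snd c = 𝟙 _ := by
    apply (yon S).map_injective
    rw [Functor.map_comp, hσa, sq.lift_snd]; exact ((yon S).map_id _).symm
  have hb1 : σb ≫ hs.rep.snd c = 𝟙 _ := by
    apply (yon S).map_injective
    rw [Functor.map_comp, hσb, sq.lift_snd]; exact ((yon S).map_id _).symm
  have hl : σa.left = σb.left :=
    section_unique_of_subsingleton (K := K) (hs.rep.snd c).left σa.left σb.left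
      (by rw [← Over.comp_left, ha1]; rfl) (by rw [← Over.comp_left, hb1]; rfl)
  have hσ : σa = σb := by ext1; exact hl
  have e1 : a = (yon S).map σa ≫ hs.rep.fst c := by rw [hσa, sq.lift_fst]
  have e2 : b = (yon S).map σb ≫ hs.rep.fst c := by rw [hσb, sq.lift_fst]
  rw [e1, e2, hσ]

/-- A representable universal homeomorphism is injective on points. -/
theorem injective_map_of_repWith_isUnivHomeo {Z' Z : Sp S} (s : Z' ⟶ Z)
    (hs : RepWith FlatMor.IsUnivHomeo s) : Function.Injective (Points.map s) := by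
  intro z₁ z₂ h
  induction z₁ using Points.ind with
  | h p₁ =>
  induction z₂ using Points.ind with
  | h p₂ =>
  rw [Points.map_mk, Points.map_mk, Points.mk_eq_mk_iff, Groth.Agent.H52.rel_iff_toHom] at h
  obtain ⟨Ω, _, w, α, β, hαβ⟩ := h
  rw [FieldPt.toHom_map, FieldPt.toHom_map] at hαβ
  have α' : Over.mk w ⟶ p₁.pt := α
  have hαβ' : ((yon S).map (show Over.mk w ⟶ p₁.pt from α) ≫ p₁.toHom) ≫ s =
      ((yon S).map (show Over.mk w ⟶ p₂.pt from β) ≫ p₂.toHom) ≫ s := by
    rw [Category.assoc, Category.assoc]; exact hαβ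
  have := comp_injective_of_repWith_isUnivHomeo s hs _ _ hαβ'
  rw [Points.mk_eq_mk_iff, Groth.Agent.H52.rel_iff_toHom]
  exact ⟨Ω, inferInstance, w, α, β, this⟩

end Groth.Agent.H51

namespace Groth.Agent.H51
open AlgSp Groth.Agent.H50 Groth.Agent.H49
variable {S : Scheme.{u}}

instance topologically_isHomeomorph_respectsIso :
    (AlgebraicGeometry.topologically (fun {α β} [TopologicalSpace α] [TopologicalSpace β]
      (f : α → β) => IsHomeomorph f)).RespectsIso := by
  apply AlgebraicGeometry.topologically_respectsIso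
  · intro α β _ _ f
    exact f.isHomeomorph
  · intro α β γ _ _ _ f g hf hg
    exact hg.comp hf

theorem isHomeomorph_points_yon_map_iff {T T' : Over S} (φ : T ⟶ T') :
    IsHomeomorph (Points.map ((yon S).map φ)) ↔ IsHomeomorph φ.left := by
  rw [Points.map_yon_map_eq]
  constructor
  · intro h
    have h2 := ((Points.schemeHomeo T').symm.isHomeomorph.comp h).comp
      (Points.schemeHomeo T).isHomeomorph
    convert h2 using 1
    ext t
    simp
  · intro h
    exact ((Points.schemeHomeo T').isHomeomorph.comp h).comp (Points.schemeHomeo T).symm.isHomeomorph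

theorem repWith_isUnivHomeo_of_isUnivHomeoMor {F G : Sp S} {f : F ⟶ G} (hf : Representable f)
    (h : IsUnivHomeoMor f) : RepWith FlatMor.IsUnivHomeo f := by
  have h1 : RepWith (AlgebraicGeometry.topologically (fun {α β} [TopologicalSpace α]
      [TopologicalSpace β] (f : α → β) => IsHomeomorph f)) f :=
    ⟨hf, fun T V g fst snd sq => (isHomeomorph_points_yon_map_iff snd).1
      (h (IsAlgSpace.yon_obj T) g fst ((yon S).map snd) sq)⟩
  exact repWith_universally _ h1

theorem isUnivHomeo_le_universallyOpen :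
    (FlatMor.IsUnivHomeo : MorphismProperty Scheme.{u}) ≤ @UniversallyOpen := by
  rw [UniversallyOpen.eq]
  apply MorphismProperty.universally_mono
  intro X Y f hf
  exact IsHomeomorph.isOpenMap hf

theorem isUnivHomeo_le_surjective :
    (FlatMor.IsUnivHomeo : MorphismProperty Scheme.{u}) ≤ @Surjective := by
  intro X Y f hf
  exact ⟨(isHomeomorph_of_isUnivHomeo f hf).surjective⟩

theorem isUnivHomeoMor_of_repWith {F G : Sp S} {f : F ⟶ G} (hf : RepWith FlatMor.IsUnivHomeo f) :
    IsUnivHomeoMor f := by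
  intro Z Z' hZ g fst snd sq
  have hsnd : RepWith FlatMor.IsUnivHomeo snd :=
    MorphismProperty.of_isPullback (P := RepWith FlatMor.IsUnivHomeo) sq hf
  have hopen : IsUnivOpenMor snd :=
    isUnivOpenMor_of_repWith (repWith_mono isUnivHomeo_le_universallyOpen hsnd)
  have hopen' : IsOpenMap (Points.map snd) :=
    hopen hZ (𝟙 Z) (𝟙 Z') snd (IsPullback.of_horiz_isIso ⟨by simp⟩)
  have hsurj : Function.Surjective (Points.map snd) :=
    surjective_map_of_repWith_surjective snd (repWith_mono isUnivHomeo_le_surjective hsnd)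
  have hinj := injective_map_of_repWith_isUnivHomeo snd hsnd
  exact ⟨Points.continuous_map snd, hopen', hinj, hsurj⟩

end Groth.Agent.H51
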