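import Groth.Prelude.Def_AlgSpMor5

set_option autoImplicit false
universe u
open CategoryTheory CategoryTheory.Limits AlgebraicGeometry Opposite MorphismProperty

namespace Groth.Agent.H51

open AlgSp

variable {S : Scheme.{u}}

/-- The square for `f` obtained from a square for a base change `f'` of `f`. -/
noncomputable def ValSq.ofBaseChange {X Y Z X' : Sp S} {f : X ⟶ Y} {g : Z ⟶ Y} {fst : X' ⟶ X}
    {f' : X' ⟶ Z} (w : fst ≫ f = f' ≫ g) (sq : ValSq f') : ValSq f where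
  A := sq.A
  K := sq.K
  str := sq.str
  top := sq.top ≫ fst
  bot := sq.bot ≫ g
  comm := by rw [Category.assoc, w, ← Category.assoc, sq.comm, Category.assoc]

theorem existVC_of_isPullback {X Y Z X' : Sp S} {f : X ⟶ Y} {g : Z ⟶ Y} {fst : X' ⟶ X}
    {f' : X' ⟶ Z} (pb : IsPullback fst f' f g) (h : ExistVC f) : ExistVC f' := by
  intro sq
  obtain ⟨e, l, hl1, hl2⟩ := h (ValSq.ofBaseChange pb.w sq)
  let e' : sq.DomExt :=
    { A' := e.A', K' := e.K', φ := e.φ, ψ := e.ψ, comm := e.comm, isLocalHom := e.isLocalHom }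
  refine ⟨e', ?_⟩
  have hl2' : l ≫ f = ((yon S).map (Over.homMk (Spec.map (CommRingCat.ofHom e'.φ)) rfl :
      e'.ptA' ⟶ sq.ptA) ≫ sq.bot) ≫ g := by
    rw [Category.assoc]; exact hl2
  refine ⟨pb.lift l _ hl2', ?_, pb.lift_snd _ _ _⟩
  apply pb.hom_ext
  · rw [Category.assoc, pb.lift_fst, Category.assoc]
    exact hl1
  · rw [Category.assoc, pb.lift_snd, Category.assoc, sq.comm, ← Category.assoc, ← Category.assoc,
      ← Functor.map_comp, ← Functor.map_comp]
    congr 2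
    ext1
    change Spec.map _ ≫ Spec.map _ = Spec.map _ ≫ Spec.map _
    rw [← Spec.map_comp, ← Spec.map_comp, ← CommRingCat.ofHom_comp, ← CommRingCat.ofHom_comp]
    congr 2
    exact e.comm

theorem uniqVC_of_isPullback {X Y Z X' : Sp S} {f : X ⟶ Y} {g : Z ⟶ Y} {fst : X' ⟶ X}
    {f' : X' ⟶ Z} (pb : IsPullback fst f' f g) (h : UniqVC f) : UniqVC f' := by
  intro sq l l' h1 h2 h1' h2'
  apply pb.hom_ext
  · refine h (ValSq.ofBaseChange pb.w sq) (l ≫ fst) (l' ≫ fst) ?_ ?_ ?_ ?_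
    · change (yon S).map sq.j ≫ l ≫ fst = sq.top ≫ fst
      rw [← Category.assoc, h1]
    · change (l ≫ fst) ≫ f = sq.bot ≫ g
      rw [Category.assoc, pb.w, ← Category.assoc, h2]
    · change (yon S).map sq.j ≫ l' ≫ fst = sq.top ≫ fst
      rw [← Category.assoc, h1']
    · change (l' ≫ fst) ≫ f = sq.bot ≫ g
      rw [Category.assoc, pb.w, ← Category.assoc, h2']
  · rw [h2, h2']

theorem uniqVC_comp {X Y Z : Sp S} {f : X ⟶ Y} {g : Y ⟶ Z} (hf : UniqVC f) (hg : UniqVC g) :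
    UniqVC (f ≫ g) := by
  intro sq l l' h1 h2 h1' h2'
  let sqg : ValSq g :=
    { A := sq.A, K := sq.K, str := sq.str, top := sq.top ≫ f, bot := sq.bot
      comm := by rw [Category.assoc]; exact sq.comm }
  have e : l ≫ f = l' ≫ f := by
    refine hg sqg (l ≫ f) (l' ≫ f) ?_ ?_ ?_ ?_
    · change (yon S).map sq.j ≫ l ≫ f = sq.top ≫ f
      rw [← Category.assoc, h1]
    · change (l ≫ f) ≫ g = sq.bot
      rw [Category.assoc, h2]
    · change (yon S).map sq.j ≫ l' ≫ f = sq.top ≫ f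
      rw [← Category.assoc, h1']
    · change (l' ≫ f) ≫ g = sq.bot
      rw [Category.assoc, h2']
  let sqf : ValSq f :=
    { A := sq.A, K := sq.K, str := sq.str, top := sq.top, bot := l ≫ f
      comm := by rw [← Category.assoc]; exact congrArg (· ≫ f) h1.symm }
  exact hf sqf l l' h1 rfl h1' e.symm

theorem existVC_comp {X Y Z : Sp S} {f : X ⟶ Y} {g : Y ⟶ Z} (hf : ExistVC f) (hg : ExistVC g) :
    ExistVC (f ≫ g) := by
  intro sq
  let sqg : ValSq g :=
    { A := sq.A, K := sq.K, str := sq.str, top := sq.top ≫ f, bot := sq.bot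
      comm := by rw [Category.assoc]; exact sq.comm }
  obtain ⟨e₁, l₁, hl1, hl2⟩ := hg sqg
  let sqf : ValSq f :=
    { A := e₁.A', K := e₁.K', str := Spec.map (CommRingCat.ofHom e₁.φ) ≫ sq.str
      top := (yon S).map (Over.homMk (Spec.map (CommRingCat.ofHom e₁.ψ)) (by
          change Spec.map _ ≫ Spec.map _ ≫ _ = Spec.map _ ≫ Spec.map _ ≫ _
          rw [← Spec.map_comp_assoc, ← Spec.map_comp_assoc, ← CommRingCat.ofHom_comp,
            ← CommRingCat.ofHom_comp, e₁.comm]) : e₁.ptK' ⟶ sq.ptK) ≫ sq.top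
      bot := l₁
      comm := by rw [Category.assoc]; exact hl1.symm }
  obtain ⟨e₂, l₂, hm1, hm2⟩ := hf sqf
  have : IsLocalHom e₁.φ := e₁.isLocalHom
  have : IsLocalHom e₂.φ := e₂.isLocalHom
  let e : sq.DomExt :=
    { A' := e₂.A', K' := e₂.K', φ := e₂.φ.comp e₁.φ, ψ := e₂.ψ.comp e₁.ψ
      comm := by
        rw [← RingHom.comp_assoc, e₂.comm, RingHom.comp_assoc, RingHom.comp_assoc]
        congr 1
        exact e₁.comm
      isLocalHom := RingHom.isLocalHom_comp e₂.φ e₁.φ }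
  refine ⟨e, ?_⟩
  let θ : e.ptA' ≅ e₂.ptA' := Over.isoMk (Iso.refl _) (by
    change 𝟙 _ ≫ Spec.map _ ≫ Spec.map _ ≫ _ = Spec.map _ ≫ _
    rw [Category.id_comp, ← Spec.map_comp_assoc, ← CommRingCat.ofHom_comp])
  refine ⟨(yon S).map θ.hom ≫ l₂, ?_, ?_⟩
  · let θK : e.ptK' ⟶ e₂.ptK' := Over.homMk (𝟙 _) (by
      change 𝟙 _ ≫ Spec.map _ ≫ Spec.map _ ≫ Spec.map _ ≫ _ = Spec.map _ ≫ Spec.map _ ≫ _
      rw [Category.id_comp, ← Spec.map_comp_assoc (CommRingCat.ofHom e₁.φ),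
        ← CommRingCat.ofHom_comp])
    have k1 : (Over.homMk (Spec.map (CommRingCat.ofHom (algebraMap e.A' e.K'))) rfl :
        e.ptK' ⟶ e.ptA') ≫ θ.hom =
        θK ≫ (Over.homMk (Spec.map (CommRingCat.ofHom (algebraMap e₂.A' e₂.K'))) rfl :
          e₂.ptK' ⟶ e₂.ptA') := by
      ext1
      simp [θ, θK]
    rw [← Category.assoc, ← Functor.map_comp, k1, Functor.map_comp, Category.assoc, hm1]
    change _ ≫ _ ≫ _ ≫ sq.top = _
    rw [← Category.assoc, ← Category.assoc, ← Functor.map_comp, ← Functor.map_comp]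
    congr 2
    ext1
    change (𝟙 _ ≫ Spec.map _) ≫ Spec.map _ = Spec.map _
    rw [Category.id_comp, ← Spec.map_comp, ← CommRingCat.ofHom_comp]
  · rw [Category.assoc, ← Category.assoc l₂, hm2]
    change _ ≫ (_ ≫ l₁) ≫ g = _
    rw [Category.assoc, hl2]
    change _ ≫ _ ≫ _ ≫ sq.bot = _
    rw [← Category.assoc, ← Category.assoc, ← Functor.map_comp, ← Functor.map_comp]
    congr 2
    ext1
    change (𝟙 _ ≫ Spec.map _) ≫ Spec.map _ = Spec.map _
    rw [Category.id_comp, ← Spec.map_comp, ← CommRingCat.ofHom_comp]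

end Groth.Agent.H51
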