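import Groth.Agent.H51.ValDominate
import Groth.Prelude.Def_AlgSpMor5

set_option autoImplicit false
universe u
open CategoryTheory CategoryTheory.Limits AlgebraicGeometry Opposite MorphismProperty

namespace Groth.Agent.H51

open AlgSp

variable {S : Scheme.{u}}

theorem existVC_of_existVCStrict {F G : Sp S} (f : F ⟶ G) (h : ExistVCStrict f) : ExistVC f := by
  intro sq
  obtain ⟨l, hl1, hl2⟩ := h sq
  let e : sq.DomExt :=
    { A' := sq.A
      K' := sq.K
      φ := RingHom.id _
      ψ := RingHom.id _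
      comm := rfl
      isLocalHom := ⟨fun _ h => h⟩ }
  refine ⟨e, ?_⟩
  let ι : e.ptA' ⟶ sq.ptA := Over.homMk (Spec.map (CommRingCat.ofHom (RingHom.id sq.A))) rfl
  refine ⟨(yon S).map ι ≫ l, ?_, ?_⟩
  · rw [← hl1, ← Category.assoc, ← Category.assoc, ← Functor.map_comp, ← Functor.map_comp]
    congr 2
    ext1
    change Spec.map (CommRingCat.ofHom (algebraMap sq.A sq.K)) ≫
        Spec.map (CommRingCat.ofHom (RingHom.id sq.A)) =
      Spec.map (CommRingCat.ofHom (RingHom.id sq.K)) ≫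
        Spec.map (CommRingCat.ofHom (algebraMap sq.A sq.K))
    rw [← Spec.map_comp, ← Spec.map_comp]
    rfl
  · rw [Category.assoc, hl2]

end Groth.Agent.H51

namespace Groth.Agent.H51
open AlgSp
variable {S : Scheme.{u}}

theorem existVCStrict_of_existVC_of_representable {F G : Sp S} (f : F ⟶ G)
    (hf : Representable f) (h : ExistVC f) : ExistVCStrict f := by
  intro sq
  obtain ⟨e, l', hl'1, hl'2⟩ := h sq
  obtain ⟨P, π, fst, pb⟩ := hf sq.bot
  -- the section over `Spec K`
  obtain ⟨sK, hsK⟩ := (yon S).map_surjective (pb.lift sq.top ((yon S).map sq.j) sq.comm)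
  have hsK1 : (yon S).map sK ≫ fst = sq.top := by rw [hsK, pb.lift_fst]
  have hsK2 : sK ≫ π = sq.j := by
    apply (yon S).map_injective
    rw [Functor.map_comp, hsK, pb.lift_snd]
  -- the lift over `Spec A'`
  let ιA : e.ptA' ⟶ sq.ptA := Over.homMk (Spec.map (CommRingCat.ofHom e.φ)) rfl
  let jK' : e.ptK' ⟶ e.ptA' := Over.homMk (Spec.map (CommRingCat.ofHom (algebraMap e.A' e.K'))) rfl
  let ιK : e.ptK' ⟶ sq.ptK := Over.homMk (Spec.map (CommRingCat.ofHom e.ψ)) (by
    change Spec.map _ ≫ Spec.map _ ≫ _ = Spec.map _ ≫ Spec.map _ ≫ _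
    rw [← Spec.map_comp_assoc, ← Spec.map_comp_assoc, ← CommRingCat.ofHom_comp,
      ← CommRingCat.ofHom_comp, e.comm])
  have hl'1' : (yon S).map jK' ≫ l' = (yon S).map ιK ≫ sq.top := hl'1
  have hl'2' : l' ≫ f = (yon S).map ιA ≫ sq.bot := hl'2
  obtain ⟨lP, hlP⟩ := (yon S).map_surjective (pb.lift l' ((yon S).map ιA) hl'2')
  have hlP1 : (yon S).map lP ≫ fst = l' := by rw [hlP, pb.lift_fst]
  have hlP2 : lP ≫ π = ιA := by
    apply (yon S).map_injective
    rw [Functor.map_comp, hlP, pb.lift_snd]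
  have hcomp : jK' ≫ lP = ιK ≫ sK := by
    apply (yon S).map_injective
    apply pb.hom_ext
    · rw [Functor.map_comp, Functor.map_comp, Category.assoc, Category.assoc, hlP1, hsK1, hl'1']
    · rw [← Functor.map_comp, ← Functor.map_comp, Category.assoc, Category.assoc, hlP2, hsK2]
      congr 1
      ext1
      change Spec.map (CommRingCat.ofHom (algebraMap e.A' e.K')) ≫ Spec.map (CommRingCat.ofHom e.φ) =
        Spec.map (CommRingCat.ofHom e.ψ) ≫ Spec.map (CommRingCat.ofHom (algebraMap sq.A sq.K))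
      rw [← Spec.map_comp, ← Spec.map_comp, ← CommRingCat.ofHom_comp, ← CommRingCat.ofHom_comp,
        e.comm]
  haveI := e.isLocalHom
  obtain ⟨l₀, hl₀1, hl₀2⟩ := exists_lift_of_dominating e.φ e.ψ e.comm π.left sK.left
    (congrArg (fun m => m.left) hsK2) lP.left (congrArg (fun m => m.left) hcomp)
    (congrArg (fun m => m.left) hlP2)
  have hw : l₀ ≫ P.hom = sq.str := by
    have : P.hom = π.left ≫ sq.str := (Over.w π).symm
    rw [this, ← Category.assoc, hl₀2, Category.id_comp]
  let lO : sq.ptA ⟶ P := Over.homMk l₀ hw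
  have hlO1 : sq.j ≫ lO = sK := by
    ext1
    exact hl₀1
  have hlO2 : lO ≫ π = 𝟙 _ := by
    ext1
    exact hl₀2
  refine ⟨(yon S).map lO ≫ fst, ?_, ?_⟩
  · rw [← Category.assoc, ← Functor.map_comp, hlO1, hsK1]
  · rw [Category.assoc, pb.w, ← Category.assoc, ← Functor.map_comp, hlO2]
    exact (congrArg (· ≫ sq.bot) ((yon S).map_id sq.ptA)).trans (Category.id_comp _)

end Groth.Agent.H51
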