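import Groth.Agent.H51.SpQc
import Groth.Agent.H51.SpBasic
import Groth.Agent.H51.SpOpen
import Groth.Agent.H52.Diag
import Groth.Agent.H49.AlgSpMonoField
import Groth.Agent.H49.DiagPullback

set_option autoImplicit false
universe u
open CategoryTheory CategoryTheory.Limits AlgebraicGeometry Opposite MorphismProperty TopologicalSpace

namespace Groth.Agent.H51
open AlgSp
variable {S : Scheme.{u}}

/-- In `Over S`, the projection `W' ⨯ T ⟶ T` is quasi-compact when both structure maps factor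
through an affine open `S₀` of `S` and `W'` is affine. -/
theorem quasiCompact_prod_snd_of_affine (W' T : Over S) [IsAffine W'.left] (S₀ : S.Opens)
    (hS₀ : IsAffineOpen S₀) (hW : Set.range W'.hom ⊆ (S₀ : Set S))
    (hT : Set.range T.hom ⊆ (S₀ : Set S)) :
    QuasiCompact (prod.snd : W' ⨯ T ⟶ T).left := by
  have hpb : IsPullback (prod.fst : W' ⨯ T ⟶ W').left (prod.snd : W' ⨯ T ⟶ T).left W'.hom T.hom :=
    Over.isPullback_of_binaryFan_isLimit (BinaryFan.mk prod.fst prod.snd) (prodIsProd W' T)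
  have hW' : Set.range W'.hom ⊆ Set.range S₀.ι := by rwa [Scheme.Opens.range_ι]
  have hT' : Set.range T.hom ⊆ Set.range S₀.ι := by rwa [Scheme.Opens.range_ι]
  let w0 : W'.left ⟶ S₀.toScheme := IsOpenImmersion.lift S₀.ι W'.hom hW'
  let t0 : T.left ⟶ S₀.toScheme := IsOpenImmersion.lift S₀.ι T.hom hT'
  have hw0 : w0 ≫ S₀.ι = W'.hom := IsOpenImmersion.lift_fac _ _ _
  have ht0 : t0 ≫ S₀.ι = T.hom := IsOpenImmersion.lift_fac _ _ _
  rw [← hw0, ← ht0] at hpb
  have hpb' := Groth.Agent.H49.isPullback_of_comp_mono S₀.ι hpb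
  haveI : IsAffine S₀.toScheme := hS₀
  have h : QuasiCompact w0 := inferInstance
  exact MorphismProperty.of_isPullback (P := @QuasiCompact) hpb' h

/-- The image of an affine open of an étale chart of a quasi-separated space, mapping into an
affine open of the base, is an open subspace admitting a quasi-compact étale surjective chart
from an affine scheme. -/
theorem exists_qc_chart_of_quasiSeparated {Xi : Sp S} (hXi : IsAlgSpace Xi)
    (hqs : IsQuasiSeparatedSp Xi) {U : Over S} (p : (yon S).obj U ⟶ Xi) (hp : RepWith @Etale p)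
    (W : U.left.Opens) (hW : IsAffineOpen W) (S₀ : S.Opens) (hS₀ : IsAffineOpen S₀)
    (hWS : W ≤ U.hom ⁻¹ᵁ S₀) :
    ∃ (X' : Sp S) (j : X' ⟶ Xi) (a' : (yon S).obj (overOpen U W) ⟶ X'), IsAlgSpace X' ∧
      RepWith @IsOpenImmersion j ∧ Set.range (Points.map j) = Points.ofPt p '' (W : Set U.left) ∧
      RepWith @QuasiCompact a' ∧ RepWith @Etale a' ∧ RepWith @Surjective a' := by
  let aW : (yon S).obj (overOpen U W) ⟶ Xi := (yon S).map (overOpenι U W) ≫ p
  have haW : RepWith @Etale aW := repWith_etale_restrict p hp W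
  have hopen : IsOpen (Set.range (Points.ofPt aW)) := (isOpenMap_ofPt_of_etale aW haW).isOpen_range
  let X' := openSubSp Xi (Set.range (Points.ofPt aW))
  let j : X' ⟶ Xi := openSubι Xi _
  have hj : RepWith @IsOpenImmersion j := repWith_isOpenImmersion_openSubι _ hopen
  have hrange : Set.range (Points.map j) = Set.range (Points.ofPt aW) := range_map_openSubι _
  obtain ⟨a', ha'j, he, hs, -⟩ := isPresentation_of_open_image aW haW j hj hrange
  haveI hm : Mono j := Groth.Agent.H49.mono_of_repWith_mono isOpenImmersion_le_mono j hj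
  refine ⟨X', j, a', isAlgSpace_openSubSp hXi _ hopen, hj,
    hrange.trans (range_ofPt_restrict p W), ?_, he, hs⟩
  refine ⟨he.rep, fun {T P} g fst snd sq => ?_⟩
  change QuasiCompact snd.left
  obtain ⟨fst', rfl⟩ := (yon S).map_surjective fst
  have sq' : IsPullback ((yon S).map fst') ((yon S).map snd) (a' ≫ j) (g ≫ j) :=
    Groth.Agent.H49.isPullback_comp_mono j sq
  have h1 : QuasiCompact (prod.lift fst' snd).left := prop_prod_lift_of_repWith_diag hqs sq'
  have hsurj : Surjective snd.left := hs.property _ _ _ sq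
  haveI : IsAffine (overOpen U W).left := hW
  have hWr : Set.range (overOpen U W).hom ⊆ (S₀ : Set S) := by
    rintro _ ⟨w, rfl⟩
    exact hWS w.2
  have hTr : Set.range T.hom ⊆ (S₀ : Set S) := by
    rintro _ ⟨t, rfl⟩
    obtain ⟨z, rfl⟩ := hsurj.surj t
    have e : snd.left ≫ T.hom = fst'.left ≫ (overOpen U W).hom := by
      rw [Over.w snd, Over.w fst']
    have : T.hom (snd.left z) = (overOpen U W).hom (fst'.left z) := by
      rw [← Scheme.Hom.comp_apply, e, Scheme.Hom.comp_apply]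
    rw [this]
    exact hWr ⟨_, rfl⟩
  have h2 : QuasiCompact (prod.snd : overOpen U W ⨯ T ⟶ T).left :=
    quasiCompact_prod_snd_of_affine _ _ S₀ hS₀ hWr hTr
  have e : snd.left = (prod.lift fst' snd).left ≫ (prod.snd : overOpen U W ⨯ T ⟶ T).left := by
    rw [← Over.comp_left, prod.lift_snd]
  rw [e]
  infer_instance


theorem s10198 (X : AlgSp.Space S) :
    (∃ (ι : Type u) (Xi : ι → AlgSp.Space S) (j : ∀ i, Xi i ⟶ X),
        AlgSp.IsZarCover (fun i => (Xi i).obj) (fun i => (j i).hom) ∧ ∀ i, AlgSp.IsQuasiSeparatedSp (Xi i).obj) ↔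
      (∃ (ι : Type u) (Xi : ι → AlgSp.Space S) (j : ∀ i, Xi i ⟶ X),
        AlgSp.IsZarCover (fun i => (Xi i).obj) (fun i => (j i).hom) ∧
          ∀ i, ∃ (U : Over S) (p : (AlgSp.yon S).obj U ⟶ (Xi i).obj), IsAffine U.left ∧
            AlgSp.RepWith @QuasiCompact p ∧ AlgSp.RepWith @Etale p ∧ AlgSp.RepWith @Surjective p) := by
  constructor
  · rintro ⟨ι, Xi, j, hj, hqs⟩
    choose U p hpe hps using fun i => (Xi i).property.atlas
    -- index type
    let K : Type u := Σ i : ι, {W : (U i).left.Opens // IsAffineOpen W ∧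
      ∃ S₀ : S.Opens, IsAffineOpen S₀ ∧ W ≤ (U i).hom ⁻¹ᵁ S₀}
    have hdata : ∀ k : K, ∃ (X' : Sp S) (j' : X' ⟶ (Xi k.1).obj)
        (a' : (yon S).obj (overOpen (U k.1) k.2.1) ⟶ X'), IsAlgSpace X' ∧
        RepWith @IsOpenImmersion j' ∧
        Set.range (Points.map j') = Points.ofPt (p k.1) '' ((k.2.1 : (U k.1).left.Opens) : Set _) ∧
        RepWith @QuasiCompact a' ∧ RepWith @Etale a' ∧ RepWith @Surjective a' := by
      rintro ⟨i, W, hW, S₀, hS₀, hWS⟩
      exact exists_qc_chart_of_quasiSeparated (Xi i).property (hqs i) (p i) (hpe i) W hW S₀ hS₀ hWS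
    choose X' j' a' hX' hj' hr' hqc' he' hs' using hdata
    refine ⟨K, fun k => ⟨X' k, hX' k⟩, fun k => ObjectProperty.homMk (j' k ≫ (j k.1).hom),
      ⟨fun k => ?_, fun x => ?_⟩, fun k => ?_⟩
    · exact (RepWith @IsOpenImmersion).comp_mem _ _ (hj' k) (hj.1 k.1)
    · obtain ⟨i, xi, rfl⟩ := hj.2 x
      obtain ⟨u, rfl⟩ := surjective_ofPt_of_surjective (p i) (hps i) xi
      obtain ⟨_, ⟨S₀, hS₀, rfl⟩, huS, -⟩ :=
        S.isBasis_affineOpens.exists_subset_of_mem_open (Set.mem_univ ((U i).hom u)) isOpen_univ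
      obtain ⟨_, ⟨W, hW, rfl⟩, huW, hWS⟩ :=
        (U i).left.isBasis_affineOpens.exists_subset_of_mem_open (a := u)
          (show u ∈ ((U i).hom ⁻¹ᵁ S₀ : Set _) from huS) ((U i).hom ⁻¹ᵁ S₀).2
      let k : K := ⟨i, ⟨W, hW, S₀, hS₀, hWS⟩⟩
      have hmem : Points.ofPt (p i) u ∈ Set.range (Points.map (j' k)) := by
        rw [hr' k]
        exact ⟨u, huW, rfl⟩
      obtain ⟨z, hz⟩ := hmem
      refine ⟨k, z, ?_⟩
      change Points.map (j' k ≫ (j i).hom) z = _
      rw [Points.map_comp]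
      change Points.map (j i).hom (Points.map (j' k) z) = _
      rw [hz]
    · exact ⟨overOpen (U k.1) k.2.1, a' k, k.2.2.1, hqc' k, he' k, hs' k⟩
  · rintro ⟨ι, Xi, j, hj, hch⟩
    refine ⟨ι, Xi, j, hj, fun i => ?_⟩
    obtain ⟨U, p, hU, hqc, he, hs⟩ := hch i
    obtain ⟨R, s, fst, sq⟩ := he.rep p
    obtain ⟨t, rfl⟩ := (yon S).map_surjective fst
    haveI : IsAffine U.left := hU
    haveI : QuasiCompact t.left := hqc.property p _ t sq.flip
    exact s10182 (Xi i) p he hs s t sq

end Groth.Agent.H51
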