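import Mathlib.Topology.LocallyClosed
import Mathlib.Topology.Maps.Basic

set_option autoImplicit false
open Topology

namespace Groth.Agent.H51

/-- Descent of "embedding" along open charts. -/
theorem isEmbedding_of_chart {U X ZU Z : Type*} [TopologicalSpace U] [TopologicalSpace X]
    [TopologicalSpace ZU] [TopologicalSpace Z] (q : U → X) (qZ : ZU → Z) (j : ZU → U) (i : Z → X)
    (hq : Continuous q) (hqo : IsOpenMap q) (hqZ : Continuous qZ) (hqZs : Function.Surjective qZ)
    (hj : IsEmbedding j) (hi : Continuous i) (hinj : Function.Injective i)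
    (comm : ∀ z', q (j z') = i (qZ z'))
    (cart : ∀ u z, q u = i z → ∃ z', j z' = u ∧ qZ z' = z) : IsEmbedding i := by
  refine ⟨⟨le_antisymm hi.le_induced ?_⟩, hinj⟩
  intro W hW
  rw [isOpen_induced_iff]
  set A : Set Z := Wᶜ with hA
  have hAc : IsClosed A := hW.isClosed_compl
  set A' : Set ZU := qZ ⁻¹' A with hA'
  have hA'c : IsClosed A' := hAc.preimage hqZ
  set C : Set X := closure (i '' A) with hC
  refine ⟨Cᶜ, isClosed_closure.isOpen_compl, ?_⟩
  have key : i ⁻¹' C = A := by
    apply Set.Subset.antisymm
    · intro z hz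
      obtain ⟨z', rfl⟩ := hqZs z
      have h1 : j z' ∈ q ⁻¹' C := by
        change q (j z') ∈ C
        rw [comm]; exact hz
      have h2 : q ⁻¹' C = closure (j '' A') := by
        rw [hC, hqo.preimage_closure_eq_closure_preimage hq]
        congr 1
        ext u
        constructor
        · rintro ⟨a, ha, hau⟩
          obtain ⟨w, hw1, hw2⟩ := cart u a hau.symm
          exact ⟨w, by rw [hA', Set.mem_preimage, hw2]; exact ha, hw1⟩
        · rintro ⟨w, hw, rfl⟩
          exact ⟨qZ w, hw, (comm w).symm⟩
      rw [h2] at h1
      have h3 : z' ∈ closure A' := by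
        rw [hj.closure_eq_preimage_closure_image]
        exact h1
      rw [hA'c.closure_eq] at h3
      exact h3
    · intro a ha
      exact subset_closure ⟨a, ha, rfl⟩
  rw [Set.preimage_compl, key, hA, compl_compl]

/-- Descent of "locally closed" along open surjective charts. -/
theorem isLocallyClosed_of_preimage {U X : Type*} [TopologicalSpace U] [TopologicalSpace X]
    (q : U → X) (hq : Continuous q) (hqo : IsOpenMap q) (hqs : Function.Surjective q) (T : Set X)
    (h : IsLocallyClosed (q ⁻¹' T)) : IsLocallyClosed T := by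
  rw [isLocallyClosed_iff_isOpen_coborder] at h ⊢
  rw [coborder_preimage hqo hq] at h
  exact (hqo.isQuotientMap hq hqs).isOpen_preimage.1 h

end Groth.Agent.H51
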