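import Mathlib.AlgebraicGeometry.ValuativeCriterion
import Mathlib.RingTheory.Valuation.ValuationRing

set_option autoImplicit false
universe u
open CategoryTheory CategoryTheory.Limits AlgebraicGeometry Opposite

namespace Groth.Agent.H51

/-- `A' ∩ K = A` for a valuation ring `A` with fraction field `K` dominated by `A'`. -/
theorem exists_of_dominates {A K A' K' : Type*} [CommRing A] [IsDomain A] [ValuationRing A]
    [Field K] [Algebra A K] [IsFractionRing A K] [CommRing A'] [IsDomain A'] [Field K']
    [Algebra A' K'] [IsFractionRing A' K'] (φ : A →+* A') (ψ : K →+* K')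
    (comm : (algebraMap A' K').comp φ = ψ.comp (algebraMap A K)) [IsLocalHom φ]
    (x : A') (y : K) (hxy : algebraMap A' K' x = ψ y) : ∃ a : A, φ a = x := by
  have hinj' : Function.Injective (algebraMap A' K') := IsFractionRing.injective A' K'
  have hc : ∀ a, algebraMap A' K' (φ a) = ψ (algebraMap A K a) := fun a => by
    have := congrArg (fun g => g a) comm
    exact this
  rcases ValuationRing.isInteger_or_isInteger A y with ⟨a, ha⟩ | ⟨a, ha⟩
  · refine ⟨a, hinj' ?_⟩
    rw [hc, ha, hxy]
  · by_cases hy : y = 0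
    · refine ⟨0, hinj' ?_⟩
      rw [hxy, hy, map_zero, map_zero, map_zero]
    · have h1 : φ a * x = 1 := by
        apply hinj'
        rw [map_mul, hc, ha, hxy, ← map_mul, inv_mul_cancel₀ hy, map_one, map_one]
      have hu : IsUnit (φ a) := IsUnit.of_mul_eq_one _ h1
      have hua : IsUnit a := IsUnit.of_map φ a hu
      obtain ⟨b, hb⟩ := hua.exists_right_inv
      refine ⟨b, hinj' ?_⟩
      rw [hc, hxy]
      congr 1
      have h2 : algebraMap A K a * algebraMap A K b = 1 := by rw [← map_mul, hb, map_one]
      rw [ha] at h2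
      field_simp at h2
      exact h2

end Groth.Agent.H51

namespace Groth.Agent.H51

open IsLocalRing in
/-- A section over the fraction field extends over the valuation ring as soon as it does so after a
dominating extension. -/
theorem exists_lift_of_dominating {A K A' K' : Type u} [CommRing A] [IsDomain A] [ValuationRing A]
    [Field K] [Algebra A K] [IsFractionRing A K] [CommRing A'] [IsDomain A'] [IsLocalRing A']
    [Field K'] [Algebra A' K'] [IsFractionRing A' K'] (φ : A →+* A') (ψ : K →+* K')
    (comm : (algebraMap A' K').comp φ = ψ.comp (algebraMap A K)) [IsLocalHom φ]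
    {P : Scheme.{u}} (π : P ⟶ Spec (CommRingCat.of A)) (sK : Spec (CommRingCat.of K) ⟶ P)
    (hsK : sK ≫ π = Spec.map (CommRingCat.ofHom (algebraMap A K)))
    (l' : Spec (CommRingCat.of A') ⟶ P)
    (h1 : Spec.map (CommRingCat.ofHom (algebraMap A' K')) ≫ l' =
      Spec.map (CommRingCat.ofHom ψ) ≫ sK)
    (h2 : l' ≫ π = Spec.map (CommRingCat.ofHom φ)) :
    ∃ l : Spec (CommRingCat.of A) ⟶ P,
      Spec.map (CommRingCat.ofHom (algebraMap A K)) ≫ l = sK ∧ l ≫ π = 𝟙 _ := by
  have hinj' : Function.Injective (algebraMap A' K') := IsFractionRing.injective A' K'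
  have hψ : Function.Injective ψ := ψ.injective
  have hc : ∀ a, algebraMap A' K' (φ a) = ψ (algebraMap A K a) := fun a => by
    have := congrArg (fun g => g a) comm
    exact this
  have hφ : Function.Injective φ := by
    intro a b hab
    apply IsFractionRing.injective A K
    apply hψ
    rw [← hc, ← hc, hab]
  -- an affine open neighbourhood of the image of the closed point
  set p := l' (closedPoint A') with hp
  obtain ⟨_, ⟨W, hW, rfl⟩, hpW, -⟩ :=
    (P.isBasis_affineOpens).exists_subset_of_mem_open (Set.mem_univ p) isOpen_univ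
  have hWaff : IsAffineOpen W := hW
  have hrange : Set.range l' ⊆ Set.range hWaff.fromSpec := by
    rw [hWaff.range_fromSpec]
    rintro _ ⟨y, rfl⟩
    have h : l' y ⤳ p := (specializes_closedPoint y).map l'.continuous
    exact h.mem_open W.isOpen hpW
  let B : CommRingCat.{u} := Γ(P, W)
  let l'' : Spec (CommRingCat.of A') ⟶ Spec B := IsOpenImmersion.lift hWaff.fromSpec l' hrange
  have hl'' : l'' ≫ hWaff.fromSpec = l' := IsOpenImmersion.lift_fac _ _ _
  have hrangeK : Set.range sK ⊆ Set.range hWaff.fromSpec := by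
    rintro _ ⟨y, rfl⟩
    apply hrange
    let y' : Spec (CommRingCat.of K') := default
    have : y = Spec.map (CommRingCat.ofHom ψ) y' := Subsingleton.elim _ _
    rw [this, ← Scheme.Hom.comp_apply, ← h1, Scheme.Hom.comp_apply]
    exact ⟨_, rfl⟩
  let sK'' : Spec (CommRingCat.of K) ⟶ Spec B := IsOpenImmersion.lift hWaff.fromSpec sK hrangeK
  have hsK'' : sK'' ≫ hWaff.fromSpec = sK := IsOpenImmersion.lift_fac _ _ _
  let β' : B ⟶ CommRingCat.of A' := Spec.preimage l''
  let βK : B ⟶ CommRingCat.of K := Spec.preimage sK''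
  let ρ : CommRingCat.of A ⟶ B := Spec.preimage (hWaff.fromSpec ≫ π)
  have hβ' : Spec.map β' = l'' := Spec.map_preimage _
  have hβK : Spec.map βK = sK'' := Spec.map_preimage _
  have hρ : Spec.map ρ = hWaff.fromSpec ≫ π := Spec.map_preimage _
  -- ring-level identities
  have r1 : β' ≫ CommRingCat.ofHom (algebraMap A' K') = βK ≫ CommRingCat.ofHom ψ := by
    apply Spec.map_injective
    rw [Spec.map_comp, Spec.map_comp, hβ', hβK, ← cancel_mono hWaff.fromSpec, Category.assoc,
      Category.assoc, hl'', hsK'', h1]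
  have r2 : ρ ≫ β' = CommRingCat.ofHom φ := by
    apply Spec.map_injective
    rw [Spec.map_comp, hβ', hρ, ← Category.assoc, hl'', h2]
  have r3 : ρ ≫ βK = CommRingCat.ofHom (algebraMap A K) := by
    apply Spec.map_injective
    rw [Spec.map_comp, hβK, hρ, ← Category.assoc, hsK'', hsK]
  have r1' : ∀ b : B, algebraMap A' K' (β'.hom b) = ψ (βK.hom b) := fun b => by
    have := congrArg (fun g => g.hom b) r1
    exact this
  have r2' : ∀ a : A, β'.hom (ρ.hom a) = φ a := fun a => by
    have := congrArg (fun g => g.hom a) r2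
    exact this
  have key : ∀ b : B, ∃ a : A, φ a = β'.hom b := fun b =>
    exists_of_dominates φ ψ comm (β'.hom b) (βK.hom b) (r1' b)
  choose β₀ hβ₀ using key
  let β : B →+* A :=
    { toFun := β₀
      map_one' := hφ (by rw [hβ₀, map_one, map_one])
      map_mul' := fun x y => hφ (by rw [hβ₀, map_mul, map_mul, hβ₀, hβ₀])
      map_zero' := hφ (by rw [hβ₀, map_zero, map_zero])
      map_add' := fun x y => hφ (by rw [hβ₀, map_add, map_add, hβ₀, hβ₀]) }
  have hβ : ∀ b, φ (β b) = β'.hom b := hβ₀
  refine ⟨Spec.map (CommRingCat.ofHom β) ≫ hWaff.fromSpec, ?_, ?_⟩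
  · rw [← hsK'', ← hβK, ← Category.assoc, ← Spec.map_comp]
    congr 2
    ext b
    apply hψ
    change ψ (algebraMap A K (β b)) = ψ (βK.hom b)
    rw [← hc, hβ, r1']
  · rw [Category.assoc, ← hρ, ← Spec.map_comp, ← Spec.map_id]
    congr 1
    ext a
    apply hφ
    change φ (β (ρ.hom a)) = φ a
    rw [hβ, r2']

end Groth.Agent.H51
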